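import Groth.Agent.Hens.ClopenComponents
import Mathlib.AlgebraicGeometry.Fiber
import Mathlib.AlgebraicGeometry.Morphisms.Flat

/-!
# Idempotents on a fibre of a proper morphism come from the stalk of the direct image
-/

set_option autoImplicit false
set_option linter.style.haveILetI false
set_option backward.isDefEq.respectTransparency.types false

universe u

open CategoryTheory CategoryTheory.Limits AlgebraicGeometry Opposite TopologicalSpace

namespace Groth.Agent.Hens.FibreIdempotent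

variable {X S : Scheme.{u}}

theorem flat_fromSpecStalk (s : S) : Flat (S.fromSpecStalk s) := by
  obtain ⟨U, hU, hsU, -⟩ := exists_isAffineOpen_mem_and_subset (X := S) (Opens.mem_top s)
  rw [← hU.fromSpecStalk_eq_fromSpecStalk hsU]
  haveI := hU.isLocalization_stalk ⟨s, hsU⟩
  letI := TopCat.Presheaf.algebra_section_stalk S.presheaf ⟨s, hsU⟩
  haveI : Flat (Spec.map (S.presheaf.germ U s hsU)) :=
    HasRingHomProperty.Spec_iff.2 (RingHom.flat_algebraMap_iff.2
      (IsLocalization.flat (S.presheaf.stalk s) (hU.primeIdealOf ⟨s, hsU⟩).asIdeal.primeCompl))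
  exact inferInstanceAs (Flat (Spec.map (S.presheaf.germ U s hsU) ≫ hU.fromSpec))

/-- A function near the fibre with the same image in the stalk, up to a unit. -/
theorem exists_mul_eq {R A B P : CommRingCat.{u}} {ψ : R ⟶ A} {α : R ⟶ B} {a : A ⟶ P} {b : B ⟶ P}
    (H : IsPushout ψ α a b) (M : Submonoid R)
    (hsurj : ∀ y : A, ∃ g ∈ M, ∃ r : R, ψ.hom g * y = ψ.hom r) (z : P) :
    ∃ g ∈ M, ∃ c : B, a.hom (ψ.hom g) * z = b.hom c := by
  have key : ∀ r : R, a.hom (ψ.hom r) = b.hom (α.hom r) := fun r => congrArg (fun k => k.hom r) H.w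
  have hz : z ∈ Subring.closure (Set.range a.hom ∪ Set.range b.hom) := by
    rw [CommRingCat.closure_range_union_range_eq_top_of_isPushout H]; trivial
  induction hz using Subring.closure_induction with
  | mem z hz =>
    rcases hz with ⟨y, rfl⟩ | ⟨c, rfl⟩
    · obtain ⟨g, hg, r, hr⟩ := hsurj y
      exact ⟨g, hg, α.hom r, by rw [← map_mul, hr, key]⟩
    · exact ⟨1, M.one_mem, c, by rw [map_one, map_one, one_mul]⟩
  | zero => exact ⟨1, M.one_mem, 0, by rw [mul_zero, map_zero]⟩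
  | one => exact ⟨1, M.one_mem, 1, by rw [map_one, map_one, map_one, one_mul]⟩
  | add y z _ _ hy hz =>
    obtain ⟨g, hg, c, hc⟩ := hy
    obtain ⟨g', hg', c', hc'⟩ := hz
    refine ⟨g * g', M.mul_mem hg hg', α.hom g' * c + α.hom g * c', ?_⟩
    rw [map_add, map_mul b.hom, map_mul b.hom, ← key, ← key, ← hc, ← hc', map_mul ψ.hom, map_mul a.hom]; ring
  | neg y _ hy =>
    obtain ⟨g, hg, c, hc⟩ := hy
    exact ⟨g, hg, -c, by rw [mul_neg, hc, map_neg]⟩
  | mul y z _ _ hy hz =>
    obtain ⟨g, hg, c, hc⟩ := hy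
    obtain ⟨g', hg', c', hc'⟩ := hz
    refine ⟨g * g', M.mul_mem hg hg', c * c', ?_⟩
    rw [map_mul b.hom, ← hc, ← hc', map_mul ψ.hom, map_mul a.hom]; ring

theorem exists_lift (f : X ⟶ S) [IsProper f] (s : S)
    (e : (f.fiber s).presheaf.obj (op ⊤)) (he : IsIdempotentElem e) :
    ∃ (V : S.Opens) (_ : s ∈ V) (t : X.presheaf.obj (op (f ⁻¹ᵁ V))),
      ((f.fiberι s).app (f ⁻¹ᵁ V)).hom t =
        ((f.fiber s).presheaf.map (homOfLE (le_top : (f.fiberι s) ⁻¹ᵁ (f ⁻¹ᵁ V) ≤ ⊤)).op).hom e := by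
  classical
  let A := S.presheaf.stalk s
  let j := S.fromSpecStalk s
  let Xs := pullback f j
  let p : Xs ⟶ X := pullback.fst f j
  let q : Xs ⟶ Spec A := pullback.snd f j
  haveI : IsProper q := inferInstanceAs (IsProper (pullback.snd f j))
  -- the fibre inside the base change to the local ring
  let ι : f.fiber s ⟶ Xs := pullback.lift (f.fiberι s)
    (f.fiberToSpecResidueField s ≫ Spec.map (S.residue s))
    (by rw [Category.assoc, f.fiber_fac]; rfl)
  have hιp : ι ≫ p = f.fiberι s := pullback.lift_fst _ _ _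
  have hιq : ι ≫ q = f.fiberToSpecResidueField s ≫ Spec.map (S.residue s) := pullback.lift_snd _ _ _
  let m : Ideal A := IsLocalRing.maximalIdeal A
  haveI : IsClosedImmersion (Spec.map (S.residue s)) :=
    IsClosedImmersion.spec_of_surjective _ (S.residue_surjective s)
  have hpb : IsPullback ι (f.fiberToSpecResidueField s) q (Spec.map (S.residue s)) := by
    refine IsPullback.of_right (h₁₂ := p) (v₁₃ := f) (h₂₂ := j) ?_ hιq (IsPullback.of_hasPullback f j)
    rw [hιp]
    exact IsPullback.of_hasPullback f (S.fromSpecResidueField s)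
  haveI : IsClosedImmersion ι := MorphismProperty.of_isPullback hpb.flip inferInstance
  have hrange : Set.range ι = q ⁻¹' PrimeSpectrum.zeroLocus (m : Set A) := by
    ext x
    constructor
    · rintro ⟨y, rfl⟩
      show q (ι y) ∈ PrimeSpectrum.zeroLocus (m : Set A)
      rw [← Scheme.Hom.comp_apply, hιq]
      show (m : Set A) ⊆ _
      intro a ha
      show S.residue s a ∈ PrimeSpectrum.asIdeal _
      rw [show S.residue s a = 0 from (IsLocalRing.residue_eq_zero_iff a).2 ha]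
      exact Ideal.zero_mem _
    · intro hx
      have hx' : (q x : PrimeSpectrum A) = IsLocalRing.closedPoint A :=
        PrimeSpectrum.ext ((IsLocalRing.maximalIdeal.isMaximal A).eq_of_le
          (q x : PrimeSpectrum A).isPrime.ne_top hx).symm
      have hpx : f (p x) = s := by
        rw [← Scheme.Hom.comp_apply, pullback.condition, Scheme.Hom.comp_apply]
        show j (q x) = s
        rw [hx']; exact Scheme.fromSpecStalk_closedPoint
      obtain ⟨y, hy⟩ : p x ∈ Set.range (f.fiberι s) := by rw [f.range_fiberι]; exact hpx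
      refine ⟨y, p.injective ?_⟩
      rw [← hy, ← Scheme.Hom.comp_apply, hιp]
  -- the clopen of the idempotent
  let e' : Γ(f.fiber s, ⊤) := e
  have hcl : IsClopen ((f.fiber s).basicOpen e' : Set (f.fiber s)) := by
    refine ⟨?_, ((f.fiber s).basicOpen e').2⟩
    have hcompl : ((f.fiber s).basicOpen e' : Set (f.fiber s))ᶜ = (f.fiber s).basicOpen (1 - e') := by
      ext x
      constructor
      · intro hx
        rw [SetLike.mem_coe, Scheme.mem_basicOpen _ _ _ (show x ∈ (⊤ : (f.fiber s).Opens) from trivial), map_sub, map_one,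
          ClopenComponents.germ_eq_zero_of_notMem he hx, sub_zero]
        exact isUnit_one
      · intro h1 h2
        have h3 : x ∈ (f.fiber s).basicOpen (e' * (1 - e')) := by
          rw [Scheme.basicOpen_mul]; exact ⟨h2, h1⟩
        rw [mul_sub, mul_one, (show IsIdempotentElem e' from he).eq, sub_self, Scheme.basicOpen_zero] at h3
        exact h3.elim
    rw [← isOpen_compl_iff, hcompl]
    exact ((f.fiber s).basicOpen (1 - e')).2
  let V₀ : Set Xs := ι '' ((f.fiber s).basicOpen e' : Set (f.fiber s))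
  have hVZ : V₀ ⊆ q ⁻¹' PrimeSpectrum.zeroLocus (m : Set A) := hrange ▸ Set.image_subset_range _ _
  have hVcl : IsClopen (Subtype.val ⁻¹' V₀ : Set ↥(q ⁻¹' PrimeSpectrum.zeroLocus (m : Set A) : Set Xs)) := by
    have hemb := ι.isClosedEmbedding
    refine ⟨(hemb.isClosedMap _ hcl.1).preimage continuous_subtype_val, isClosed_compl_iff.1 ?_⟩
    have hc : (Subtype.val ⁻¹' V₀ : Set ↥(q ⁻¹' PrimeSpectrum.zeroLocus (m : Set A) : Set Xs))ᶜ =
        Subtype.val ⁻¹' (ι '' ((f.fiber s).basicOpen e' : Set (f.fiber s))ᶜ) := by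
      ext ⟨x, hx⟩
      obtain ⟨y, rfl⟩ : x ∈ Set.range ι := hrange ▸ hx
      simp only [V₀, Set.mem_compl_iff, Set.mem_preimage, hemb.injective.mem_set_image]
    rw [hc]
    exact (hemb.isClosedMap _ hcl.compl.1).preimage continuous_subtype_val
  obtain ⟨b, hb, hbV⟩ := ProperClopenGen.exists_almost_idempotent m q hVZ hVcl
  -- its restriction to the fibre is `e`
  have hkill : m.map (ProperClopenLift.φ q) ≤ RingHom.ker ι.appTop.hom := by
    rw [Ideal.map_le_iff_le_comap]
    intro a ha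
    show ι.appTop (q.appTop ((Scheme.ΓSpecIso A).inv a)) = 0
    rw [← ProperClopenGen.comp_appTop_apply, hιq, ProperClopenGen.comp_appTop_apply]
    have : (Spec.map (S.residue s)).appTop ((Scheme.ΓSpecIso A).inv a) = 0 := by
      refine (congrArg (fun k => k.hom a) (Scheme.ΓSpecIso_inv_naturality (S.residue s)).symm).trans ?_
      show (Scheme.ΓSpecIso _).inv (S.residue s a) = 0
      rw [show S.residue s a = 0 from (IsLocalRing.residue_eq_zero_iff a).2 ha, map_zero]
    rw [this, map_zero]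
  have hbe : ι.appTop b = e' := by
    refine ClopenComponents.idempotent_eq_of_mem_iff ?_ he fun y => ?_
    · have := hkill hb
      rw [RingHom.mem_ker, map_sub, map_mul, sub_eq_zero] at this
      exact this
    · rw [← Scheme.preimage_basicOpen_top]
      show ι y ∈ Xs.basicOpen b ↔ _
      rw [hbV _ (hrange ▸ Set.mem_range_self y)]
      exact ι.isClosedEmbedding.injective.mem_set_image
  -- descend to a neighbourhood
  obtain ⟨U, hU, hsU, -⟩ := exists_isAffineOpen_mem_and_subset (X := S) (Opens.mem_top s)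
  haveI := hU.isLocalization_stalk ⟨s, hsU⟩
  haveI : Flat j := flat_fromSpecStalk s
  have hjU : (⊤ : (Spec A).Opens) ≤ j ⁻¹ᵁ U := fun z _ => by
    have hspec : z ⤳ (IsLocalRing.closedPoint A : PrimeSpectrum A) :=
      IsLocalRing.specializes_closedPoint _
    exact (hspec.map j.continuous).mem_open U.2 (by
      show j (IsLocalRing.closedPoint A) ∈ U
      rw [Scheme.fromSpecStalk_closedPoint]; exact hsU)
  have hqs : QuasiSeparatedSpace (f ⁻¹ᵁ U : X.Opens) := by
    haveI : IsAffine _ := hU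
    exact quasiSeparatedSpace_of_quasiSeparated (f ∣_ U)
  have hpU : (⊤ : Xs.Opens) ≤ p ⁻¹ᵁ (f ⁻¹ᵁ U) := fun z _ => by
    show f (p z) ∈ U
    rw [← Scheme.Hom.comp_apply, pullback.condition]
    exact hjU (show q z ∈ (⊤ : (Spec A).Opens) from trivial)
  have hpo : IsPushout (j.appLE U ⊤ hjU) (f.appLE U (f ⁻¹ᵁ U) le_rfl)
      (q.appLE ⊤ ⊤ le_top) (p.appLE (f ⁻¹ᵁ U) ⊤ hpU) := by
    have H : IsPullback p q f j := IsPullback.of_hasPullback f j
    exact ((isIso_pushoutSection_iff H hjU (le_refl (f ⁻¹ᵁ U))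
      (UY := (⊤ : Xs.Opens)) (le_antisymm (le_inf hpU le_top) le_top)).1
      (isIso_pushoutSection_of_isQuasiSeparated_of_flat_right H hjU _ _ hU (isAffineOpen_top _)
        (f.isCompact_preimage hU.isCompact)
        ((isQuasiSeparated_iff_quasiSeparatedSpace _ (f ⁻¹ᵁ U).2).2 hqs))).flip
  letI := TopCat.Presheaf.algebra_section_stalk S.presheaf ⟨s, hsU⟩
  let M := (hU.primeIdealOf ⟨s, hsU⟩).asIdeal.primeCompl
  have hj : ∀ r : Γ(S, U), j.appLE U ⊤ hjU r = (Scheme.ΓSpecIso A).inv (S.presheaf.germ U s hsU r) := by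
    intro r
    rw [Scheme.Hom.appLE, Scheme.fromSpecStalk_app hsU]
    show (Spec A).presheaf.map _ ((Spec A).presheaf.map _ ((Scheme.ΓSpecIso A).inv (S.presheaf.germ U s hsU r))) = _
    rw [← Functor.map_comp_apply, Subsingleton.elim (_ ≫ _) (𝟙 (op ⊤)), CategoryTheory.Functor.map_id]
    rfl
  obtain ⟨g, hg, c, hgc⟩ := exists_mul_eq hpo M (fun y => by
    obtain ⟨⟨r, g⟩, h⟩ := IsLocalization.surj M ((Scheme.ΓSpecIso A).hom y)
    refine ⟨g.1, g.2, r, ?_⟩
    rw [hj, hj]
    have h' := congrArg (Scheme.ΓSpecIso A).inv h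
    rw [map_mul, Iso.hom_inv_id_apply] at h'
    rw [mul_comm]
    exact h') b
  let V := S.basicOpen g
  have hgu : IsUnit (S.presheaf.germ U s hsU g) := by
    exact IsLocalization.map_units (S.presheaf.stalk s) (⟨g, hg⟩ : M)
  have hsV : s ∈ V := (Scheme.mem_basicOpen S g s hsU).2 hgu
  have hVU : V ≤ U := S.basicOpen_le g
  obtain ⟨v, hv⟩ : IsUnit (f.appLE U (f ⁻¹ᵁ V) (f.preimage_mono hVU) g) := by
    have h1 : IsUnit (S.presheaf.map (homOfLE hVU).op g) :=
      RingedSpace.isUnit_res_basicOpen S.toRingedSpace g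
    have h2 := h1.map (f.app V).hom
    rw [← Scheme.Hom.map_appLE f (le_refl (f ⁻¹ᵁ V)) (homOfLE hVU).op, Scheme.Hom.app_eq_appLE] at *
    exact h2
  let t : Γ(X, f ⁻¹ᵁ V) := (↑v⁻¹ : Γ(X, f ⁻¹ᵁ V)) * X.presheaf.map (homOfLE (f.preimage_mono hVU)).op c
  refine ⟨V, hsV, t, ?_⟩
  have hιV : (⊤ : (f.fiber s).Opens) ≤ (f.fiberι s) ⁻¹ᵁ (f ⁻¹ᵁ V) := fun y _ => by
    show f (f.fiberι s y) ∈ V
    have : f.fiberι s y ∈ f ⁻¹' {s} := f.range_fiberι s ▸ Set.mem_range_self y
    rw [Set.mem_preimage, Set.mem_singleton_iff] at this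
    rw [this]; exact hsV
  have hmain : (f.fiberι s).appLE (f ⁻¹ᵁ V) ⊤ hιV t = e' := by
    have hv' : (f.fiberι s).appLE (f ⁻¹ᵁ V) ⊤ hιV (v : Γ(X, f ⁻¹ᵁ V)) * e' =
        (f.fiberι s).appLE (f ⁻¹ᵁ V) ⊤ hιV (X.presheaf.map (homOfLE (f.preimage_mono hVU)).op c) := by
      have h := congrArg ι.appTop hgc
      rw [map_mul, hbe] at h
      have hp : ∀ (r : Γ(X, f ⁻¹ᵁ U)), ι.appTop (p.appLE (f ⁻¹ᵁ U) ⊤ hpU r) =
          (f.fiberι s).appLE (f ⁻¹ᵁ V) ⊤ hιV (X.presheaf.map (homOfLE (f.preimage_mono hVU)).op r) := by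
        intro r
        have e2 : X.presheaf.map (homOfLE (f.preimage_mono hVU)).op ≫ (f.fiberι s).appLE (f ⁻¹ᵁ V) ⊤ hιV =
            (f.fiberι s).appLE (f ⁻¹ᵁ U) ⊤ (hιV.trans ((f.fiberι s).preimage_mono (f.preimage_mono hVU))) :=
          Scheme.Hom.map_appLE _ _ _
        have e3 : p.appLE (f ⁻¹ᵁ U) ⊤ hpU ≫ ι.appTop =
            X.presheaf.map (homOfLE (f.preimage_mono hVU)).op ≫ (f.fiberι s).appLE (f ⁻¹ᵁ V) ⊤ hιV := by
          have hι : ι.appTop = ι.appLE ⊤ ⊤ le_top := Scheme.Hom.app_eq_appLE ι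
          rw [hι, Scheme.Hom.appLE_comp_appLE, e2]
          congr 1
        exact congrArg (fun k => k.hom r) e3
      have hqw : q.appLE ⊤ ⊤ le_top (j.appLE U ⊤ hjU g) =
          p.appLE (f ⁻¹ᵁ U) ⊤ hpU (f.appLE U (f ⁻¹ᵁ U) le_rfl g) :=
        congrArg (fun k => k.hom g) hpo.w
      rw [hqw, hp, hp] at h
      rw [hv]
      have e4 : X.presheaf.map (homOfLE (f.preimage_mono hVU)).op (f.appLE U (f ⁻¹ᵁ U) le_rfl g) =
          f.appLE U (f ⁻¹ᵁ V) (f.preimage_mono hVU) g :=
        congrArg (fun k => k.hom g) (Scheme.Hom.appLE_map f (le_refl (f ⁻¹ᵁ U)) (homOfLE (f.preimage_mono hVU)).op)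
      rw [← e4]
      exact h
    rw [map_mul, ← hv', ← mul_assoc, ← map_mul, Units.inv_mul, map_one, one_mul]
  change _ = ((f.fiber s).presheaf.map _).hom e'
  rw [← hmain]
  show ((f.fiberι s).app (f ⁻¹ᵁ V)).hom t = _
  rw [Scheme.Hom.app_eq_appLE]
  exact congrArg (fun k => k.hom t) (Scheme.Hom.appLE_map (f.fiberι s) hιV
    (homOfLE (le_top : (f.fiberι s) ⁻¹ᵁ (f ⁻¹ᵁ V) ≤ ⊤)).op).symm

end Groth.Agent.Hens.FibreIdempotent
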