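import Groth.Agent.Hens.Lifting
import Mathlib.RingTheory.Unramified.Finite
import Mathlib.RingTheory.Flat.EquationalCriterion
import Mathlib.RingTheory.Localization.AtPrime.Basic
import Mathlib.FieldTheory.IsSepClosed

/-!
# The étale localisation of a ring at a point with values in a field

For `R → K` (`K` a field), `EtLoc R K` is the universal local `R`-algebra through which all
étale algebras with a `K`-point over `R → K` factor.  For `R` local and `K` its residue field it
is the henselization, for `K` a separable closure of the residue field the strict henselization.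
-/

set_option linter.style.haveILetI false

universe u

open Polynomial IsLocalRing TensorProduct

namespace Groth.Agent.Hens

variable (R : Type u) [CommRing R] (K : Type u) [Field K] [Algebra R K]

/-- Standard étale pairs with a `K`-point. -/
def Idx : Type u := Σ P : StandardEtalePair R, {a : K // P.HasMap a}

variable {R K}

noncomputable def rel (i : Idx R K) : MvPolynomial (Idx R K) R :=
  Polynomial.aeval (MvPolynomial.X i) i.1.f

variable (R K)

noncomputable def relIdeal : Ideal (MvPolynomial (Idx R K) R) :=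
  Ideal.span (Set.range (rel (R := R) (K := K)))

/-- The algebra generated by one root of each pointed standard étale pair. -/
abbrev Pre : Type u := MvPolynomial (Idx R K) R ⧸ relIdeal R K

noncomputable def prePoint : Pre R K →ₐ[R] K :=
  Ideal.Quotient.liftₐ _ (MvPolynomial.aeval fun i => i.2.1) (by
    intro x hx
    refine (Ideal.span_le (I := RingHom.ker (MvPolynomial.aeval fun i : Idx R K => i.2.1))).2 ?_ hx
    rintro _ ⟨i, rfl⟩
    simpa [rel, ← Polynomial.aeval_algHom_apply] using i.2.2.1)

instance : (RingHom.ker (prePoint R K).toRingHom).IsPrime := RingHom.ker_isPrime _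

/-- The étale localisation of `R` at the `K`-point `R → K`. -/
def EtLoc : Type u := Localization.AtPrime (RingHom.ker (prePoint R K).toRingHom)

noncomputable instance : CommRing (EtLoc R K) :=
  inferInstanceAs <| CommRing (Localization.AtPrime (RingHom.ker (prePoint R K).toRingHom))

noncomputable instance : Algebra (Pre R K) (EtLoc R K) :=
  inferInstanceAs <| Algebra _ (Localization.AtPrime (RingHom.ker (prePoint R K).toRingHom))

noncomputable instance : Algebra R (EtLoc R K) :=
  inferInstanceAs <| Algebra _ (Localization.AtPrime (RingHom.ker (prePoint R K).toRingHom))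

instance : IsScalarTower R (Pre R K) (EtLoc R K) :=
  inferInstanceAs <|
    IsScalarTower R (Pre R K) (Localization.AtPrime (RingHom.ker (prePoint R K).toRingHom))

instance : IsLocalRing (EtLoc R K) :=
  inferInstanceAs <| IsLocalRing (Localization.AtPrime (RingHom.ker (prePoint R K).toRingHom))

instance : IsLocalization.AtPrime (EtLoc R K) (RingHom.ker (prePoint R K).toRingHom) :=
  inferInstanceAs <| IsLocalization.AtPrime
    (Localization.AtPrime (RingHom.ker (prePoint R K).toRingHom)) _

noncomputable def ofPoly : MvPolynomial (Idx R K) R →ₐ[R] EtLoc R K :=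
  (IsScalarTower.toAlgHom R (Pre R K) _).comp (Ideal.Quotient.mkₐ R _)

theorem ofPoly_apply (p : MvPolynomial (Idx R K) R) :
    ofPoly R K p = algebraMap (Pre R K) _ (Ideal.Quotient.mk _ p) := rfl

noncomputable def point : EtLoc R K →ₐ[R] K :=
  IsLocalization.liftAlgHom (M := (RingHom.ker (prePoint R K).toRingHom).primeCompl)
    (f := prePoint R K) fun y => IsUnit.mk0 _ y.2

theorem point_algebraMap (x : Pre R K) :
    point R K (algebraMap (Pre R K) _ x) = prePoint R K x := by
  exact IsLocalization.lift_eq _ x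

theorem prePoint_mk (p : MvPolynomial (Idx R K) R) :
    prePoint R K (Ideal.Quotient.mk _ p) = MvPolynomial.aeval (fun i => i.2.1) p := rfl

instance : IsLocalHom (point R K).toRingHom := by
  constructor
  intro z hz
  obtain ⟨x, s, rfl⟩ :=
    IsLocalization.exists_mk'_eq (RingHom.ker (prePoint R K).toRingHom).primeCompl z
  rw [IsLocalization.AtPrime.isUnit_mk'_iff]
  intro hx
  apply hz.ne_zero
  have : point R K (IsLocalization.mk' _ x s * algebraMap (Pre R K) _ (s : Pre R K)) = 0 := by
    rw [IsLocalization.mk'_spec, point_algebraMap]; exact hx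
  rw [map_mul, point_algebraMap] at this
  exact (mul_eq_zero.1 this).resolve_right s.2

variable {R K}

/-- The tautological root. -/
noncomputable def gen (i : Idx R K) : EtLoc R K := ofPoly R K (MvPolynomial.X i)

@[simp]
theorem point_gen (i : Idx R K) : point R K (gen i) = i.2.1 := by
  rw [gen, ofPoly_apply, point_algebraMap, prePoint_mk, MvPolynomial.aeval_X]

theorem hasMap_gen (i : Idx R K) : i.1.HasMap (gen i) := by
  refine ⟨?_, isUnit_of_map_unit (point R K).toRingHom _ ?_⟩
  · rw [gen, Polynomial.aeval_algHom_apply, ← rel, ofPoly_apply,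
      (Ideal.Quotient.eq_zero_iff_mem (a := rel i) (I := relIdeal R K)).2 (Ideal.subset_span (s := Set.range (rel (R := R) (K := K))) ⟨i, rfl⟩), map_zero]
  · simpa [← Polynomial.aeval_algHom_apply] using i.2.2.2

theorem etLoc_algHom_ext {S : Type*} [CommRing S] [Algebra R S] {f g : EtLoc R K →ₐ[R] S}
    (h : ∀ i, f (gen i) = g (gen i)) : f = g :=
  IsLocalization.algHom_ext (RingHom.ker (prePoint R K).toRingHom).primeCompl
    (Ideal.Quotient.algHom_ext _ (MvPolynomial.algHom_ext h))

/-- Maps from étale algebras into `EtLoc R K` are determined by their points. -/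
theorem eq_of_point {A : Type u} [CommRing A] [Algebra R A] [Algebra.Etale R A]
    {θ₁ θ₂ : A →ₐ[R] EtLoc R K} (h : (point R K).comp θ₁ = (point R K).comp θ₂) : θ₁ = θ₂ :=
  eq_of_point_eq (A := A) (point R K).toRingHom (fun a => AlgHom.congr_fun h a)

/-- Every étale algebra with a point maps to `EtLoc R K`, uniquely. -/
theorem existsUnique_algHom_etLoc {A : Type u} [CommRing A] [Algebra R A] [Algebra.Etale R A]
    (τ : A →ₐ[R] K) : ∃! θ : A →ₐ[R] EtLoc R K, (point R K).comp θ = τ := by
  obtain ⟨g, hg, ⟨E⟩⟩ := exists_standard_through_point τ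
  let τg := awayExt τ g (IsUnit.mk0 _ hg)
  let i : Idx R K := ⟨E.P, τg E.x, E.hasMap.map τg⟩
  let ψ := (E.P.lift (gen i) (hasMap_gen i)).comp E.equivRing.toAlgHom
  have key : (point R K).comp ψ = τg := by
    refine E.hom_ext ?_
    show point R K (E.P.lift (gen i) (hasMap_gen i) (E.equivRing E.x)) = _
    rw [StandardEtalePresentation.equivRing_x, StandardEtalePair.lift_X, point_gen]
  refine ⟨ψ.comp (IsScalarTower.toAlgHom R A _), ?_, fun θ' hθ' => eq_of_point ?_⟩
  · show (point R K).comp (ψ.comp _) = τ
    rw [← AlgHom.comp_assoc, key, awayExt_comp]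
  · rw [hθ', ← AlgHom.comp_assoc, key, awayExt_comp]

/-! ### Flatness -/

theorem exists_flat_roots (F : Finset (Idx R K)) :
    ∃ (A : Type u) (_ : CommRing A) (_ : Algebra R A), Module.Flat R A ∧
      ∃ (θ : A →ₐ[R] Pre R K) (x : Idx R K → A),
        ∀ i ∈ F, Polynomial.aeval (x i) i.1.f = 0 ∧
          θ (x i) = Ideal.Quotient.mk _ (MvPolynomial.X i) := by
  classical
  induction F using Finset.induction with
  | empty => exact ⟨R, _, _, inferInstance, Algebra.ofId R _, fun _ => 0, by simp⟩
  | @insert a F ha ih =>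
    obtain ⟨A, _, _, hA, θ, x, hx⟩ := ih
    haveI : Module.Free R (AdjoinRoot a.1.f) := a.1.monic_f.free_adjoinRoot
    have hroot : Polynomial.aeval
        (Ideal.Quotient.mk (relIdeal R K) (MvPolynomial.X a)) a.1.f = 0 := by
      rw [← Ideal.Quotient.mkₐ_eq_mk R, Polynomial.aeval_algHom_apply]
      exact Ideal.Quotient.eq_zero_iff_mem.2 (Ideal.subset_span ⟨a, rfl⟩)
    let θa : AdjoinRoot a.1.f →ₐ[R] Pre R K :=
      AdjoinRoot.liftAlgHom _ (Algebra.ofId R _) (Ideal.Quotient.mk _ (MvPolynomial.X a))
        (by exact hroot)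
    refine ⟨A ⊗[R] AdjoinRoot a.1.f, _, _, inferInstance,
      Algebra.TensorProduct.lift θ θa (fun _ _ => Commute.all _ _),
      fun i => if i = a then 1 ⊗ₜ AdjoinRoot.root a.1.f else x i ⊗ₜ 1, ?_⟩
    intro i hi
    rcases eq_or_ne i a with rfl | hne
    · simp only [if_true]
      refine ⟨?_, ?_⟩
      swap
      · rw [Algebra.TensorProduct.lift_tmul, map_one, one_mul]
        exact AdjoinRoot.liftAlgHom_root (R := R) ..
      rw [← Algebra.TensorProduct.includeRight_apply, Polynomial.aeval_algHom_apply]
      simp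
    · simp only [hne, if_false]
      obtain ⟨h1, h2⟩ := hx i ((Finset.mem_insert.1 hi).resolve_left hne)
      refine ⟨?_, by simp [h2]⟩
      rw [← Algebra.TensorProduct.includeLeft_apply (S := R), Polynomial.aeval_algHom_apply, h1,
        map_zero]

instance flat_pre : Module.Flat R (Pre R K) := by
  classical
  refine Module.Flat.of_forall_isTrivialRelation fun {l f x} hfx => ?_
  choose p hp using fun j => Ideal.Quotient.mk_surjective (x j)
  have hmem : ∑ j, f j • p j ∈ relIdeal R K := by
    rw [← Ideal.Quotient.eq_zero_iff_mem, ← Ideal.Quotient.mkₐ_eq_mk R, map_sum]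
    rw [← hfx]
    exact Finset.sum_congr rfl fun j _ => by rw [map_smul]; simp [hp]
  obtain ⟨E, hE, hmemE⟩ := Submodule.mem_span_finite_of_mem_span hmem
  choose idx hidx using fun e : E => hE e.2
  let F : Finset (Idx R K) := E.attach.image idx
  obtain ⟨A, _, _, hA, θ, y, hy⟩ := exists_flat_roots F
  let C := A ⊗[R] MvPolynomial (Idx R K) R
  let φ : MvPolynomial (Idx R K) R →ₐ[R] C :=
    MvPolynomial.aeval fun i => if i ∈ F then y i ⊗ₜ 1 else 1 ⊗ₜ MvPolynomial.X i
  let θ' : C →ₐ[R] Pre R K :=
    Algebra.TensorProduct.lift θ (Ideal.Quotient.mkₐ R _) (fun _ _ => Commute.all _ _)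
  have hθφ : θ'.comp φ = Ideal.Quotient.mkₐ R _ := by
    refine MvPolynomial.algHom_ext fun i => ?_
    simp only [AlgHom.comp_apply, φ, MvPolynomial.aeval_X, Ideal.Quotient.mkₐ_eq_mk]
    split_ifs with hi
    · show Algebra.TensorProduct.lift θ _ _ _ = _
      rw [Algebra.TensorProduct.lift_tmul, map_one, mul_one]
      exact (hy i hi).2
    · show Algebra.TensorProduct.lift θ _ _ _ = _
      rw [Algebra.TensorProduct.lift_tmul, map_one, one_mul]
      rfl
  have hker : φ (∑ j, f j • p j) = 0 := by
    refine (Ideal.span_le (I := RingHom.ker φ)).2 ?_ hmemE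
    intro e he
    have hm : idx ⟨e, he⟩ ∈ F := Finset.mem_image.2 ⟨⟨e, he⟩, Finset.mem_attach _ _, rfl⟩
    have he' : e = rel (idx ⟨e, he⟩) := (hidx ⟨e, he⟩).symm
    simp only [SetLike.mem_coe, RingHom.mem_ker]
    rw [he', rel, ← Polynomial.aeval_algHom_apply]
    simp only [φ, MvPolynomial.aeval_X, hm, if_true]
    rw [← Algebra.TensorProduct.includeLeft_apply (S := R), Polynomial.aeval_algHom_apply,
      (hy _ hm).1, map_zero]
  obtain ⟨k, a, z, hz, ha⟩ := Module.Flat.isTrivialRelation_of_sum_smul_eq_zero
    (M := C) (f := f) (x := fun j => φ (p j)) (by simpa using hker)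
  refine ⟨k, a, fun m => θ' (z m), fun j => ?_, ha⟩
  calc x j = θ' (φ (p j)) := by rw [← AlgHom.comp_apply, hθφ]; exact (hp j).symm
    _ = _ := by
      rw [show φ (p j) = _ from hz j, map_sum]
      exact Finset.sum_congr rfl fun m _ => map_smul θ' _ _

instance flat_etLoc : Module.Flat R (EtLoc R K) :=
  haveI : Module.Flat (Pre R K) (EtLoc R K) :=
    IsLocalization.flat _ (RingHom.ker (prePoint R K).toRingHom).primeCompl
  Module.Flat.trans R (Pre R K) _

theorem flat_of_etale {A : Type u} [CommRing A] [Algebra R A] [Algebra.Etale R A]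
    (θ : A →ₐ[R] EtLoc R K) : θ.toRingHom.Flat := by
  letI := θ.toRingHom.toAlgebra
  haveI : IsScalarTower R A (EtLoc R K) := .of_algebraMap_eq' θ.comp_algebraMap.symm
  exact Algebra.FormallyUnramified.flat_of_restrictScalars R A (EtLoc R K)

/-! ### Stages -/

variable (R K) in
/-- Elements lying in the image of some étale algebra. -/
noncomputable def stageSubalgebra : Subalgebra R (EtLoc R K) where
  carrier := {z | ∃ (A : Type u) (_ : CommRing A) (_ : Algebra R A), Algebra.Etale R A ∧
    ∃ θ : A →ₐ[R] EtLoc R K, z ∈ θ.range}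
  algebraMap_mem' r := ⟨R, _, _, inferInstance, Algebra.ofId R _, r, rfl⟩
  mul_mem' := by
    rintro _ _ ⟨A, _, _, hA, θ, a, rfl⟩ ⟨B, _, _, hB, η, b, rfl⟩
    exact ⟨A ⊗[R] B, _, _, Algebra.Etale.comp R A _,
      Algebra.TensorProduct.lift θ η (fun _ _ => Commute.all _ _), a ⊗ₜ b,
      Algebra.TensorProduct.lift_tmul ..⟩
  add_mem' := by
    rintro _ _ ⟨A, _, _, hA, θ, a, rfl⟩ ⟨B, _, _, hB, η, b, rfl⟩
    exact ⟨A ⊗[R] B, _, _, Algebra.Etale.comp R A _,
      Algebra.TensorProduct.lift θ η (fun _ _ => Commute.all _ _), a ⊗ₜ 1 + 1 ⊗ₜ b, by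
        show Algebra.TensorProduct.lift θ η _ _ = θ a + η b
        simp⟩

/-- Every element comes from an étale algebra. -/
theorem exists_stage (z : EtLoc R K) : ∃ (A : Type u) (_ : CommRing A) (_ : Algebra R A),
    Algebra.Etale R A ∧ ∃ (θ : A →ₐ[R] EtLoc R K) (a : A), θ a = z := by
  have hgen : ∀ x : Pre R K, algebraMap _ (EtLoc R K) x ∈ stageSubalgebra R K := by
    intro x
    obtain ⟨p, rfl⟩ := Ideal.Quotient.mk_surjective x
    induction p using MvPolynomial.induction_on with
    | C r => exact (stageSubalgebra R K).algebraMap_mem r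
    | add p q hp hq => simpa using add_mem hp hq
    | mul_X p i hp =>
      have hX : gen i ∈ stageSubalgebra R K :=
        ⟨i.1.Ring, _, _, inferInstance, i.1.lift _ (hasMap_gen i), i.1.X,
          StandardEtalePair.lift_X ..⟩
      rw [gen, ofPoly_apply] at hX
      rw [map_mul, map_mul]
      exact mul_mem hp hX
  obtain ⟨x, s, rfl⟩ :=
    IsLocalization.exists_mk'_eq (RingHom.ker (prePoint R K).toRingHom).primeCompl z
  obtain ⟨A, _, _, hA, θ, a, ha⟩ := hgen s
  obtain ⟨B, _, _, hB, η, b, hb⟩ := hgen x
  change θ a = _ at ha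
  change η b = _ at hb
  let ζ := Algebra.TensorProduct.lift θ η (fun _ _ => Commute.all _ _)
  have hu : IsUnit (ζ (a ⊗ₜ 1)) := by
    simp only [ζ, Algebra.TensorProduct.lift_tmul, map_one, mul_one]
    rw [show θ a = _ from ha]
    exact IsLocalization.map_units (EtLoc R K) s
  haveI : Algebra.Etale R (A ⊗[R] B) := Algebra.Etale.comp R A _
  obtain ⟨v, hv⟩ := isUnit_iff_exists_inv.1
    (IsLocalization.Away.algebraMap_isUnit (S := Localization.Away (a ⊗ₜ[R] (1 : B)))
      (a ⊗ₜ[R] (1 : B)))
  refine ⟨_, _, _, inferInstance, awayExt ζ (a ⊗ₜ[R] 1) hu,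
    algebraMap (A ⊗[R] B) _ ((1 : A) ⊗ₜ[R] b) * v, ?_⟩
  rw [IsLocalization.eq_mk'_iff_mul_eq, map_mul, awayExt_algebraMap]
  have : awayExt ζ (a ⊗ₜ 1) hu v * algebraMap (Pre R K) _ (s : Pre R K) = 1 := by
    have hv' := congrArg (awayExt ζ (a ⊗ₜ 1) hu) hv
    rw [map_mul, awayExt_algebraMap, map_one] at hv'
    simpa [ζ, ha, mul_comm] using hv'
  simp [ζ, hb, mul_assoc, this]

/-- Finitely many elements come from a single étale algebra. -/
theorem exists_stage_finset (s : Finset (EtLoc R K)) :
    ∃ (A : Type u) (_ : CommRing A) (_ : Algebra R A),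
      Algebra.Etale R A ∧ ∃ θ : A →ₐ[R] EtLoc R K, ∀ z ∈ s, z ∈ θ.range := by
  classical
  induction s using Finset.induction with
  | empty => exact ⟨R, _, _, inferInstance, Algebra.ofId R _, by simp⟩
  | @insert z s hz ih =>
    obtain ⟨A, _, _, hA, θ, hθ⟩ := ih
    obtain ⟨B, _, _, hB, η, b, rfl⟩ := exists_stage z
    refine ⟨A ⊗[R] B, _, _, Algebra.Etale.comp R A _,
      Algebra.TensorProduct.lift θ η (fun _ _ => Commute.all _ _), fun y hy => ?_⟩
    rcases Finset.mem_insert.1 hy with rfl | hy
    · refine ⟨1 ⊗ₜ b, ?_⟩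
      show Algebra.TensorProduct.lift θ η _ _ = η b
      simp
    · obtain ⟨a, ha⟩ := hθ y hy
      refine ⟨a ⊗ₜ 1, ?_⟩
      show Algebra.TensorProduct.lift θ η _ _ = y
      simpa using ha

instance henselian_etLoc : HenselianLocalRing (EtLoc R K) := by
  classical
  constructor
  intro f hf a₀ h1 h2
  obtain ⟨A, _, _, hA, θ, hθ⟩ := exists_stage_finset (f.coeffs ∪ {a₀})
  have hlift : f ∈ Polynomial.lifts θ.toRingHom := by
    rw [Polynomial.lifts_iff_coeff_lifts]
    intro n
    by_cases hn : f.coeff n = 0
    · exact ⟨0, by simp [hn]⟩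
    · exact hθ _ (Finset.mem_union_left _ (Polynomial.coeff_mem_coeffs hn))
  obtain ⟨F, hFmap, -, hFm⟩ := Polynomial.lifts_and_degree_eq_and_monic hlift hf
  let P : StandardEtalePair A := ⟨F, hFm, derivative F, 1, 0, 1, by simp⟩
  letI : Algebra R P.Ring := ((algebraMap A P.Ring).comp (algebraMap R A)).toAlgebra
  haveI : IsScalarTower R A P.Ring := .of_algebraMap_eq' rfl
  haveI : Algebra.Etale R P.Ring := Algebra.Etale.comp R A P.Ring
  letI := θ.toRingHom.toAlgebra
  haveI : IsScalarTower R A (EtLoc R K) := .of_algebraMap_eq' θ.comp_algebraMap.symm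
  letI : Algebra A K := ((point R K).toRingHom.comp θ.toRingHom).toAlgebra
  haveI : IsScalarTower R A K := .of_algebraMap_eq' ((point R K).comp θ).comp_algebraMap.symm
  have hev : ∀ p : A[X], aeval (point R K a₀) p =
      point R K ((p.map θ.toRingHom).eval a₀) := fun p => by
    rw [eval_map, aeval_def, RingHom.algebraMap_toAlgebra]
    exact (hom_eval₂ p θ.toRingHom (point R K).toRingHom a₀).symm
  have hP : P.HasMap (point R K a₀) := by
    refine ⟨?_, ?_⟩
    · rw [hev, hFmap]
      by_contra hne
      exact (IsLocalRing.mem_maximalIdeal _).1 h1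
        (isUnit_of_map_unit (point R K).toRingHom _ (IsUnit.mk0 _ hne))
    · rw [hev, ← derivative_map, hFmap]
      exact h2.map (point R K)
  obtain ⟨ψ, hψ, -⟩ := existsUnique_algHom_etLoc (R := R) (K := K)
    ((P.lift _ hP).restrictScalars R)
  have hψθ : ψ.comp (IsScalarTower.toAlgHom R A P.Ring) = θ := by
    refine eq_of_point ?_
    rw [← AlgHom.comp_assoc, hψ]
    exact AlgHom.ext fun a => (P.lift _ hP).commutes a
  refine ⟨ψ P.X, ?_, ?_⟩
  · have hz : aeval P.X F = 0 := P.hasMap_X.1
    rw [IsRoot, ← hFmap, eval_map]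
    have := congrArg ψ hz
    rw [map_zero, aeval_def] at this
    change ψ.toRingHom (eval₂ (algebraMap A P.Ring) P.X F) = 0 at this
    rw [hom_eval₂] at this
    rw [← this]
    congr 1
    exact congrArg AlgHom.toRingHom hψθ.symm
  · rw [IsLocalRing.mem_maximalIdeal]
    intro hu
    apply (hu.map (point R K)).ne_zero
    rw [map_sub, ← AlgHom.comp_apply, hψ]
    simp

/-! ### The universal property -/

/-- `EtLoc R K` is initial among henselian local algebras with residue field under `K`. -/
theorem existsUnique_etLoc_algHom {T : Type u} [CommRing T] [HenselianLocalRing T] [Algebra R T]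
    (τ : K →ₐ[R] ResidueField T) :
    ∃! g : EtLoc R K →ₐ[R] T, ∀ z, residue T (g z) = τ (point R K z) := by
  choose x hx hres using fun i : Idx R K => exists_root_lift i.1 (τ i.2.1) (i.2.2.map τ)
  let g₀ : Pre R K →ₐ[R] T := Ideal.Quotient.liftₐ _ (MvPolynomial.aeval x) (by
    intro y hy
    refine (Ideal.span_le (I := RingHom.ker (MvPolynomial.aeval x))).2 ?_ hy
    rintro _ ⟨i, rfl⟩
    simpa [rel, ← Polynomial.aeval_algHom_apply] using (hx i).1)
  have hg₀ : (IsScalarTower.toAlgHom R T (ResidueField T)).comp g₀ = τ.comp (prePoint R K) := by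
    refine Ideal.Quotient.algHom_ext _ (MvPolynomial.algHom_ext fun i => ?_)
    show residue T (g₀ (Ideal.Quotient.mk _ (MvPolynomial.X i))) = τ (prePoint R K (Ideal.Quotient.mk _ _))
    rw [prePoint_mk, MvPolynomial.aeval_X, ← hres i]
    congr 1
    exact MvPolynomial.aeval_X _ _
  let g : EtLoc R K →ₐ[R] T :=
    IsLocalization.liftAlgHom (M := (RingHom.ker (prePoint R K).toRingHom).primeCompl) (f := g₀)
      fun y => isUnit_of_map_unit (residue T) _ (IsUnit.mk0 _ (by
        have := AlgHom.congr_fun hg₀ y
        simp only [AlgHom.comp_apply, IsScalarTower.toAlgHom_apply,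
          IsLocalRing.ResidueField.algebraMap_eq] at this
        rw [this]
        simpa using (show prePoint R K y ≠ 0 from y.2)))
  have hg : ∀ z, residue T (g z) = τ (point R K z) := by
    intro z
    refine AlgHom.congr_fun
      (φ₁ := (IsScalarTower.toAlgHom R T (ResidueField T)).comp g)
      (φ₂ := τ.comp (point R K)) (etLoc_algHom_ext fun i => ?_) z
    show residue T (g (gen i)) = τ (point R K (gen i))
    rw [point_gen, ← hres i, gen, ofPoly_apply]
    congr 1
    exact (IsLocalization.lift_eq _ _).trans (MvPolynomial.aeval_X _ _)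
  refine ⟨g, hg, fun g' hg' => etLoc_algHom_ext fun i => ?_⟩
  exact eq_of_root_of_point_eq (residue T) i.1 ((hasMap_gen i).map g') ((hasMap_gen i).map g)
    (by rw [hg, hg'])

/-- If `K` is separable over the residue field of the local ring `R` the point is surjective. -/
theorem point_surjective [IsLocalRing R] [Algebra (ResidueField R) K]
    [IsScalarTower R (ResidueField R) K] [Algebra.IsSeparable (ResidueField R) K] :
    Function.Surjective (point R K) := by
  intro a
  have hsep : IsSeparable (ResidueField R) a := Algebra.IsSeparable.isSeparable _ a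
  obtain ⟨F, hF, -, hFm⟩ := Polynomial.lifts_and_degree_eq_and_monic
    ((Polynomial.lifts_iff_coeff_lifts _).2 fun n => residue_surjective _)
    (minpoly.monic hsep.isIntegral)
  have hev : ∀ p : R[X], aeval a p = aeval a (p.map (residue R)) := fun p => by
    rw [← IsLocalRing.ResidueField.algebraMap_eq, aeval_map_algebraMap]
  let P : StandardEtalePair R := ⟨F, hFm, derivative F, 1, 0, 1, by simp⟩
  have hP : P.HasMap a := by
    refine ⟨by rw [hev, hF, minpoly.aeval], IsUnit.mk0 _ ?_⟩
    rw [hev, ← derivative_map, hF]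
    exact hsep.aeval_derivative_ne_zero (minpoly.aeval _ _)
  exact ⟨gen ⟨P, a, hP⟩, point_gen _⟩

/-- The residue field of `EtLoc R K` when the point is surjective. -/
noncomputable def residueEquiv (h : Function.Surjective (point R K)) :
    ResidueField (EtLoc R K) ≃+* K :=
  RingEquiv.ofBijective (ResidueField.lift (point R K).toRingHom) ⟨RingHom.injective _, fun a => by
    obtain ⟨z, rfl⟩ := h a
    exact ⟨residue _ z, ResidueField.lift_residue_apply _ _⟩⟩

@[simp]
theorem residueEquiv_residue (h : Function.Surjective (point R K)) (z : EtLoc R K) :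
    residueEquiv h (residue _ z) = point R K z :=
  ResidueField.lift_residue_apply _ _

end Groth.Agent.Hens
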