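import Groth.Prelude.Def_Hensel
import Groth.Agent.Hens.Construction
import Mathlib.RingTheory.Unramified.LocalRing
import Mathlib.RingTheory.Flat.FaithfullyFlat.Algebra

/-!
# Henselization and strict henselization of a local ring: existence and first properties
-/

set_option linter.style.haveILetI false

universe u

open IsLocalRing

namespace Groth.Agent.Hens

variable {R : Type u} [CommRing R] {K : Type u} [Field K] [Algebra R K]

theorem mem_maximalIdeal_iff_point (z : EtLoc R K) :
    z ∈ maximalIdeal (EtLoc R K) ↔ point R K z = 0 := by
  rw [IsLocalRing.mem_maximalIdeal, mem_nonunits_iff]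
  refine ⟨fun h => ?_, fun h hu => (hu.map (point R K)).ne_zero h⟩
  by_contra hne
  exact h (isUnit_of_map_unit (point R K).toRingHom _ (IsUnit.mk0 _ hne))

/-- An element of an étale stage vanishing in `EtLoc R K` is killed by an element that is nonzero
at the point. -/
theorem exists_mul_eq_zero_of_map_eq_zero {A : Type u} [CommRing A] [Algebra R A]
    [Algebra.Etale R A] (θ : A →ₐ[R] EtLoc R K) {a : A} (ha : θ a = 0) :
    ∃ s : A, point R K (θ s) ≠ 0 ∧ s * a = 0 := by
  let q : Ideal A := RingHom.ker ((point R K).comp θ).toRingHom
  haveI : q.IsPrime := RingHom.ker_isPrime _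
  letI := θ.toRingHom.toAlgebra
  haveI : IsScalarTower R A (EtLoc R K) := .of_algebraMap_eq' θ.comp_algebraMap.symm
  haveI : Module.Flat A (EtLoc R K) :=
    Algebra.FormallyUnramified.flat_of_restrictScalars R A (EtLoc R K)
  have hu : ∀ y : q.primeCompl, IsUnit (algebraMap A (EtLoc R K) y) := fun y =>
    isUnit_of_map_unit (point R K).toRingHom _ (IsUnit.mk0 _ y.2)
  letI : Algebra (Localization.AtPrime q) (EtLoc R K) :=
    (IsLocalization.lift (S := Localization.AtPrime q) hu).toAlgebra
  haveI : IsScalarTower A (Localization.AtPrime q) (EtLoc R K) :=
    .of_algebraMap_eq fun x => (IsLocalization.lift_eq hu x).symm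
  haveI : Module.Flat (Localization.AtPrime q) (EtLoc R K) :=
    (Module.flat_iff_of_isLocalization (Localization.AtPrime q) q.primeCompl _).2 inferInstance
  haveI : IsLocalHom (algebraMap (Localization.AtPrime q) (EtLoc R K)) := by
    constructor
    intro z hz
    obtain ⟨x, s, rfl⟩ := IsLocalization.exists_mk'_eq q.primeCompl z
    rw [IsLocalization.AtPrime.isUnit_mk'_iff]
    intro hx
    have h : algebraMap (Localization.AtPrime q) (EtLoc R K)
        (IsLocalization.mk' _ x s * algebraMap A _ (s : A)) = θ x := by
      rw [IsLocalization.mk'_spec, ← IsScalarTower.algebraMap_apply]; rfl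
    rw [map_mul, ← IsScalarTower.algebraMap_apply] at h
    apply ((hz.mul (hu s)).map (point R K)).ne_zero
    rw [h]
    exact hx
  haveI : Module.FaithfullyFlat (Localization.AtPrime q) (EtLoc R K) :=
    Module.FaithfullyFlat.of_flat_of_isLocalHom
  have h0 : algebraMap A (Localization.AtPrime q) a = 0 := by
    apply FaithfulSMul.algebraMap_injective (Localization.AtPrime q) (EtLoc R K)
    rw [← IsScalarTower.algebraMap_apply, map_zero]
    exact ha
  obtain ⟨⟨s, hs⟩, h⟩ := (IsLocalization.map_eq_zero_iff q.primeCompl _ a).1 h0
  exact ⟨s, hs, h⟩

/-- Two elements of an étale stage with equal image become equal after localizing at an element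
nonzero at the point. -/
theorem exists_mul_eq_of_map_eq {A : Type u} [CommRing A] [Algebra R A] [Algebra.Etale R A]
    (θ : A →ₐ[R] EtLoc R K) {a b : A} (h : θ a = θ b) :
    ∃ s : A, point R K (θ s) ≠ 0 ∧ s * a = s * b := by
  obtain ⟨s, hs, h'⟩ := exists_mul_eq_zero_of_map_eq_zero θ (a := a - b) (by simp [h])
  exact ⟨s, hs, sub_eq_zero.1 (by rw [← mul_sub, h'])⟩

section Local

variable [IsLocalRing R] [Algebra (ResidueField R) K] [IsScalarTower R (ResidueField R) K]

theorem point_algebraMap_residue (r : R) :
    point R K (algebraMap R (EtLoc R K) r) = algebraMap (ResidueField R) K (residue R r) := by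
  rw [AlgHom.commutes, IsScalarTower.algebraMap_apply R (ResidueField R) K,
    IsLocalRing.ResidueField.algebraMap_eq]

instance isLocalHom_etLoc : IsLocalHom (algebraMap R (EtLoc R K)) := by
  constructor
  intro r hr
  have h := (hr.map (point R K)).ne_zero
  rw [point_algebraMap_residue] at h
  exact isUnit_of_map_unit (residue R) _ (IsUnit.mk0 _ fun h0 => h (by rw [h0, map_zero]))

theorem map_maximalIdeal_etLoc :
    (maximalIdeal R).map (algebraMap R (EtLoc R K)) = maximalIdeal (EtLoc R K) := by
  refine le_antisymm ?_ fun z hz => ?_
  · rw [Ideal.map_le_iff_le_comap]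
    intro r hr hu
    exact hr (isUnit_of_map_unit _ _ hu)
  obtain ⟨A, _, _, hA, θ, a, rfl⟩ := exists_stage z
  let q : Ideal A := RingHom.ker ((point R K).comp θ).toRingHom
  haveI : q.IsPrime := RingHom.ker_isPrime _
  haveI : IsLocalHom (algebraMap R (Localization.AtPrime q)) := by
    constructor
    intro r hr
    rw [IsScalarTower.algebraMap_apply R A (Localization.AtPrime q)] at hr
    have := (IsLocalization.AtPrime.isUnit_to_map_iff (Localization.AtPrime q) q _).1 hr
    apply isUnit_of_map_unit (algebraMap R (EtLoc R K))
    apply isUnit_of_map_unit (point R K).toRingHom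
    refine IsUnit.mk0 _ fun h0 => this ?_
    show point R K (θ (algebraMap R A r)) = 0
    rw [θ.commutes]
    exact h0
  have hmax : (maximalIdeal R).map (algebraMap R (Localization.AtPrime q)) =
      maximalIdeal (Localization.AtPrime q) := Algebra.FormallyUnramified.map_maximalIdeal
  have ha : algebraMap A (Localization.AtPrime q) a ∈
      ((maximalIdeal R).map (algebraMap R A)).map (algebraMap A (Localization.AtPrime q)) := by
    rw [Ideal.map_map, ← IsScalarTower.algebraMap_eq, hmax]
    exact (IsLocalization.AtPrime.to_map_mem_maximal_iff _ q a).2
      ((mem_maximalIdeal_iff_point _).1 hz)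
  obtain ⟨s, hs, h⟩ := (IsLocalization.algebraMap_mem_map_algebraMap_iff q.primeCompl _ _ _).1 ha
  have hu : IsUnit (θ s) := isUnit_of_map_unit (point R K).toRingHom _ (IsUnit.mk0 _ hs)
  have := Ideal.mem_map_of_mem θ.toRingHom h
  rw [Ideal.map_map, show θ.toRingHom.comp (algebraMap R A) = algebraMap R (EtLoc R K) from
    θ.comp_algebraMap] at this
  change θ (s * a) ∈ _ at this
  rw [map_mul] at this
  exact (Ideal.unit_mul_mem_iff_mem _ hu).1 this

instance faithfullyFlat_etLoc : Module.FaithfullyFlat R (EtLoc R K) :=
  Module.FaithfullyFlat.of_flat_of_isLocalHom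

end Local

/-! ### The (strict) henselization -/

variable (R) in
/-- The henselization of a local ring. -/
abbrev Henselization [IsLocalRing R] : Type u := EtLoc R (ResidueField R)

variable (R) in
/-- The strict henselization of a local ring. -/
abbrev StrictHenselization [IsLocalRing R] : Type u :=
  EtLoc R (SeparableClosure (ResidueField R))

variable [IsLocalRing R]

theorem point_henselization_surjective :
    Function.Surjective (point R (ResidueField R)) := point_surjective

theorem residueMap_henselization_bijective :
    Function.Bijective (ResidueField.map (algebraMap R (Henselization R))) := by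
  refine ⟨RingHom.injective _, fun x => ?_⟩
  obtain ⟨z, rfl⟩ := residue_surjective x
  obtain ⟨r, hr⟩ := residue_surjective (point R (ResidueField R) z)
  refine ⟨residue R r, ?_⟩
  apply (residueEquiv point_henselization_surjective).injective
  rw [ResidueField.map_residue, residueEquiv_residue, residueEquiv_residue,
    point_algebraMap_residue, hr]
  simp

instance isHenselization_henselization : Hensel.IsHenselization R (Henselization R) where
  henselian := inferInstance
  universal T _ _ f hf := by
    letI := f.toAlgebra
    haveI : IsLocalHom (algebraMap R T) := hf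
    obtain ⟨g, hg, huniq⟩ := existsUnique_etLoc_algHom (R := R) (T := T)
      (τ := IsScalarTower.toAlgHom R (ResidueField R) (ResidueField T))
    refine ⟨g.toRingHom, g.comp_algebraMap, fun g' hg' => ?_⟩
    let G : Henselization R →ₐ[R] T := ⟨g', RingHom.congr_fun hg'⟩
    have hG : ∀ z, residue T (G z) =
        algebraMap (ResidueField R) (ResidueField T) (point R (ResidueField R) z) := by
      intro z
      obtain ⟨r, hr⟩ := residue_surjective (point R (ResidueField R) z)
      have hz : z - algebraMap R _ r ∈ maximalIdeal (Henselization R) := by
        rw [mem_maximalIdeal_iff_point, map_sub, point_algebraMap_residue, hr]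
        simp
      rw [← map_maximalIdeal_etLoc] at hz
      have := Ideal.mem_map_of_mem G.toRingHom hz
      rw [Ideal.map_map, show G.toRingHom.comp (algebraMap R (Henselization R)) = algebraMap R T from
        G.comp_algebraMap] at this
      have hle : (maximalIdeal R).map (algebraMap R T) ≤ maximalIdeal T := by
        rw [Ideal.map_le_iff_le_comap]
        intro x hx hu
        exact hx (isUnit_of_map_unit _ _ hu)
      have h0 := (residue_eq_zero_iff _).2 (hle this)
      simp only [AlgHom.toRingHom_eq_coe, RingHom.coe_coe, map_sub, AlgHom.commutes,
        sub_eq_zero] at h0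
      rw [h0, ← hr, ← IsLocalRing.ResidueField.algebraMap_eq,
        ← IsLocalRing.ResidueField.algebraMap_eq, ← IsScalarTower.algebraMap_apply,
        ← IsScalarTower.algebraMap_apply]
    exact congrArg AlgHom.toRingHom (huniq G hG)

theorem point_strictHenselization_surjective :
    Function.Surjective (point R (SeparableClosure (ResidueField R))) := point_surjective

/-- The residue field of the strict henselization over that of `R`. -/
noncomputable def strictResidueAlgEquiv :
    ResidueField (StrictHenselization R) ≃ₐ[ResidueField R] SeparableClosure (ResidueField R) :=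
  AlgEquiv.ofRingEquiv (f := residueEquiv point_strictHenselization_surjective) (by
    intro x
    obtain ⟨r, rfl⟩ := residue_surjective x
    rw [show algebraMap (ResidueField R) (ResidueField (StrictHenselization R)) (residue R r) =
      residue _ (algebraMap R _ r) from rfl, residueEquiv_residue, point_algebraMap_residue])

instance isStrictHenselization_strictHenselization :
    Hensel.IsStrictHenselization R (StrictHenselization R) where
  henselian := inferInstance
  isSepClosure := by
    haveI h : IsSepClosed (SeparableClosure (ResidueField R)) :=
      IsSepClosure.sep_closed (ResidueField R)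
    haveI : Algebra.IsSeparable (ResidueField R) (ResidueField (StrictHenselization R)) :=
      AlgEquiv.Algebra.isSeparable (strictResidueAlgEquiv (R := R)).symm
    refine ⟨IsSepClosed.of_exists_root _ fun p hm hi hs => ?_, this⟩
    let e := residueEquiv (point_strictHenselization_surjective (R := R))
    obtain ⟨x, hx⟩ := IsSepClosed.exists_root (p.map e.toRingHom)
      (by
        rw [Polynomial.degree_map]
        exact fun h0 => hi.degree_pos.ne' h0)
      hs.map
    refine ⟨e.symm x, ?_⟩
    rw [Polynomial.IsRoot, Polynomial.eval_map] at hx
    have := congrArg e.symm hx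
    rw [map_zero, ← RingEquiv.coe_toRingHom, Polynomial.hom_eval₂] at this
    simpa [Polynomial.eval₂_id] using this
  universal T _ _ f _ τ hτ := by
    letI := f.toAlgebra
    let e := residueEquiv (point_strictHenselization_surjective (R := R))
    have he : ∀ z, e.symm (point R _ z) = residue (StrictHenselization R) z := fun z => by
      rw [← residueEquiv_residue (point_strictHenselization_surjective (R := R))]
      exact e.symm_apply_apply _
    obtain ⟨g, hg, huniq⟩ := existsUnique_etLoc_algHom (R := R) (T := T)
      (K := SeparableClosure (ResidueField R))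
      ⟨τ.comp e.symm.toRingHom, fun r => by
        show τ (e.symm (algebraMap R (SeparableClosure (ResidueField R)) r)) =
          residue T (f r)
        rw [← (point R (SeparableClosure (ResidueField R))).commutes, he]
        exact RingHom.congr_fun hτ (residue R r)⟩
    refine ⟨g.toRingHom, ⟨g.comp_algebraMap, fun z => ?_⟩, fun g' hg' => ?_⟩
    · rw [← he]; exact hg z
    · refine congrArg AlgHom.toRingHom
        (huniq ⟨g', RingHom.congr_fun hg'.1⟩ fun z => ?_)
      show residue T (g' z) = τ (e.symm (point R _ z))
      rw [he]
      exact hg'.2 z

end Groth.Agent.Hens
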