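import Groth.Agent.Hens.ProperClopenGen
import Groth.Agent.Hens.FibreIdempotent
import Groth.Agent.Hens.Local
import Groth.Agent.LFDesc.Trivial
import Groth.Agent.FBaseSep.Connected

/-!
# Proper morphisms with `O = f_* O` have geometrically connected fibres
-/

set_option autoImplicit false
set_option linter.style.haveILetI false
set_option backward.isDefEq.respectTransparency.types false

universe u

open CategoryTheory CategoryTheory.Limits AlgebraicGeometry IsLocalRing
open Groth.Agent.FBase.BC

namespace Groth.Agent.Hens.SteinConnected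

variable {X S : Scheme.{u}}

/-- A proper scheme over a henselian local ring with the same global functions has connected closed
fibre and is connected. -/
theorem connectedSpace_closedFibre {H : Type u} [CommRing H] [HenselianLocalRing H]
    (q : X ⟶ Spec (CommRingCat.of H)) [IsProper q] (hq : Function.Bijective q.appTop) :
    ConnectedSpace ↥(pullback q (Spec.map (CommRingCat.ofHom (Ideal.Quotient.mk (maximalIdeal H))))) := by
  haveI : IsClosedImmersion (Spec.map (CommRingCat.ofHom (Ideal.Quotient.mk (maximalIdeal H)))) :=
    IsClosedImmersion.spec_of_surjective _ Ideal.Quotient.mk_surjective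
  refine (ProperClopenGen.connectedSpace_iff
    (pullback.fst q (Spec.map (CommRingCat.ofHom (Ideal.Quotient.mk (maximalIdeal H))))).continuous fun V hV =>
      ProperClopenLift.existsUnique_preimage
        (pullback.fst q (Spec.map (CommRingCat.ofHom (Ideal.Quotient.mk (maximalIdeal H))))).isClosedEmbedding
        (ProperClopenLift.range_fst_mk (maximalIdeal H) q)
        (fun W hW hW' => ProperClopenGen.existsUnique_clopen (maximalIdeal H) q hW hW') hV).1 ?_
  let θ : H →+* Γ(X, ⊤) := ProperClopenLift.φ q
  have hθ : Function.Bijective θ :=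
    hq.comp (ConcreteCategory.bijective_of_isIso (Scheme.ΓSpecIso (CommRingCat.of H)).inv)
  have hne : Nonempty X := by
    by_contra hne
    rw [not_nonempty_iff] at hne
    haveI : Subsingleton Γ(X, ⊤) := CommRingCat.subsingleton_of_isTerminal
      (X.sheaf.isTerminalOfEqEmpty (Subsingleton.elim _ _))
    exact zero_ne_one (hθ.1 (Subsingleton.elim (θ 0) (θ 1)))
  refine { toPreconnectedSpace := preconnectedSpace_iff_clopen.2 fun U hU => ?_, toNonempty := hne }
  have hZ : ∀ x : X, x ∈ q ⁻¹' PrimeSpectrum.zeroLocus ((⊥ : Ideal H) : Set H) := fun x a ha => by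
    rw [SetLike.mem_coe, Ideal.mem_bot] at ha
    subst ha
    exact Ideal.zero_mem _
  obtain ⟨b, hb, hbU⟩ := ProperClopenGen.exists_almost_idempotent (⊥ : Ideal H) q
    (V := U) (fun x _ => hZ x)
    ⟨hU.1.preimage continuous_subtype_val, hU.2.preimage continuous_subtype_val⟩
  rw [Ideal.map_bot, Ideal.mem_bot] at hb
  obtain ⟨h, rfl⟩ := hθ.2 b
  have hidem : IsIdempotentElem h := hθ.1 (by rw [map_mul]; exact sub_eq_zero.1 hb)
  rcases IsLocalRing.isUnit_or_isUnit_one_sub_self h with h1 | h1
  · refine Or.inr (Set.eq_univ_of_forall fun x => (hbU x (hZ x)).1 ?_)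
    rw [Scheme.basicOpen_of_isUnit X (h1.map θ)]
    trivial
  · refine Or.inl (Set.eq_empty_of_forall_notMem fun x hx => ?_)
    have h0 : h = 0 := by
      have : h * (1 - h) = 0 := by rw [mul_sub, mul_one, hidem.eq, sub_self]
      exact h1.mul_left_eq_zero.1 this
    have := (hbU x (hZ x)).2 hx
    rw [h0, map_zero, Scheme.basicOpen_zero] at this
    exact this.elim

theorem geometricallyConnected_snd_of_factor {k κ : Type u} [Field k] [Field κ] [Algebra k κ]
    [IsSepClosed κ] (g : X ⟶ S) (j : Spec (CommRingCat.of k) ⟶ S) {T : Scheme.{u}} (b : T ⟶ S)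
    (c : Spec (CommRingCat.of κ) ⟶ T) (hcomp : specMap k κ ≫ j = c ≫ b)
    [h0 : ConnectedSpace ↥(pullback (pullback.snd g b) c)] :
    GeometricallyConnected (pullback.snd g j) := by
  have h1 : ConnectedSpace ↥(pullback (pullback.snd g j) (specMap k κ)) :=
    ((pullbackLeftPullbackSndIso g j (specMap k κ) ≪≫ pullback.congrHom rfl hcomp ≪≫
      (pullbackLeftPullbackSndIso g b c).symm).hom.homeomorph.connectedSpace_iff).2 h0
  refine (geometricallyConnected_iff (K := κ) _).mpr ?_
  exact geometricallyConnected_of_isSepClosed _

/-- A proper morphism with `O ≅ f_* O` has geometrically connected fibres. -/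
theorem geometricallyConnected (g : X ⟶ S) [IsProper g]
    (hg : ∀ U : S.Opens, Function.Bijective (g.app U)) : GeometricallyConnected g := by
  rw [GeometricallyConnected.iff_geometricallyConnected_fiber]
  intro t
  let A := S.presheaf.stalk t
  let H := StrictHenselization A
  haveI : IsSepClosed (ResidueField H) :=
    (Hensel.IsStrictHenselization.isSepClosure (R := A) (S := H)).sep_closed
  haveI : HenselianLocalRing H := Hensel.IsStrictHenselization.henselian (R := A)
  let b : Spec (CommRingCat.of H) ⟶ S :=
    Spec.map (CommRingCat.ofHom (algebraMap A H)) ≫ S.fromSpecStalk t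
  haveI : Flat (Spec.map (CommRingCat.ofHom (algebraMap A H))) :=
    HasRingHomProperty.Spec_iff.2 (RingHom.flat_algebraMap_iff.2 inferInstance)
  haveI : Flat (S.fromSpecStalk t) := FibreIdempotent.flat_fromSpecStalk t
  haveI : Flat b :=
    inferInstanceAs (Flat (Spec.map (CommRingCat.ofHom (algebraMap A H)) ≫ S.fromSpecStalk t))
  haveI : IsProper (pullback.snd g b) := inferInstance
  have hq : Function.Bijective (pullback.snd g b).appTop :=
    LFDesc.bijective_app_of_isPullback (IsPullback.of_hasPullback g b) hg ⊤
  have h0 := connectedSpace_closedFibre (pullback.snd g b) hq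
  have hcomp : specMap (ResidueField A) (ResidueField H) ≫ S.fromSpecResidueField t =
      Spec.map (CommRingCat.ofHom (Ideal.Quotient.mk (maximalIdeal H))) ≫ b := by
    show Spec.map _ ≫ Spec.map (S.residue t) ≫ S.fromSpecStalk t =
      Spec.map _ ≫ Spec.map _ ≫ S.fromSpecStalk t
    rw [← Category.assoc, ← Category.assoc, ← Spec.map_comp, ← Spec.map_comp]
    congr 2
  exact geometricallyConnected_snd_of_factor (k := ResidueField A) (κ := ResidueField H) g
    (S.fromSpecResidueField t) b
    (Spec.map (CommRingCat.ofHom (Ideal.Quotient.mk (maximalIdeal H)))) hcomp (h0 := h0)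

end Groth.Agent.Hens.SteinConnected
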