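import Groth.Agent.Hens.Local
import Mathlib.RingTheory.LocalRing.ResidueField.Ideal

/-!
# Uniqueness of (strict) henselizations, and the henselization at a prime
-/

set_option linter.style.haveILetI false

universe u

open IsLocalRing

namespace Groth.Agent.Hens

variable {R : Type u} [CommRing R] {K : Type u} [Field K] [Algebra R K]

theorem etLoc_endo_eq_id {g : EtLoc R K →ₐ[R] EtLoc R K}
    (hg : ∀ z, point R K (g z) = point R K z) : g = AlgHom.id R _ :=
  etLoc_algHom_ext fun i =>
    eq_of_root_of_point_eq (point R K).toRingHom i.1 ((hasMap_gen i).map g) (hasMap_gen i) (hg _)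

/-- A henselian local algebra with residue field `K` through which it maps back to `EtLoc R K`
and without nontrivial endomorphisms over the residue field is `EtLoc R K`. -/
theorem exists_algEquiv_etLoc {S : Type u} [CommRing S] [HenselianLocalRing S] [Algebra R S]
    (e : K →ₐ[R] ResidueField S) (h : S →ₐ[R] EtLoc R K)
    (hh : ∀ x, e (point R K (h x)) = residue S x)
    (hu : ∀ g : S →ₐ[R] S, (∀ x, residue S (g x) = residue S x) → g = AlgHom.id R S) :
    ∃ E : EtLoc R K ≃ₐ[R] S, ∀ z, residue S (E z) = e (point R K z) := by
  obtain ⟨g, hg, -⟩ := existsUnique_etLoc_algHom (T := S) e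
  have h₁ : h.comp g = AlgHom.id R _ :=
    etLoc_endo_eq_id fun z => e.toRingHom.injective (by
      show e (point R K (h (g z))) = e (point R K z)
      rw [hh, hg])
  have h₂ : g.comp h = AlgHom.id R _ :=
    hu _ fun x => by rw [AlgHom.comp_apply, hg, hh]
  exact ⟨AlgEquiv.ofAlgHom g h h₂ h₁, hg⟩

section Local

variable [IsLocalRing R]

/-- Any henselization is isomorphic to the constructed one. -/
theorem nonempty_henselization_algEquiv (S : Type u) [CommRing S] [IsLocalRing S] [Algebra R S]
    [IsLocalHom (algebraMap R S)] [hS : Hensel.IsHenselization R S] :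
    Nonempty (Henselization R ≃ₐ[R] S) := by
  haveI := hS.henselian
  obtain ⟨h, hh, -⟩ := hS.universal (Henselization R) (algebraMap R _) inferInstance
  obtain ⟨g, hg, -⟩ := (isHenselization_henselization (R := R)).universal S (algebraMap R S)
    inferInstance
  let h' : S →ₐ[R] Henselization R := ⟨h, RingHom.congr_fun hh⟩
  let g' : Henselization R →ₐ[R] S := ⟨g, RingHom.congr_fun hg⟩
  have h₁ : h'.comp g' = AlgHom.id R _ := by
    obtain ⟨w, -, hw⟩ := (isHenselization_henselization (R := R)).universal
      (Henselization R) (algebraMap R _) inferInstance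
    ext z
    exact RingHom.congr_fun ((hw _ (h'.comp g').comp_algebraMap).trans
      (hw (AlgHom.id R (Henselization R)).toRingHom (AlgHom.id R _).comp_algebraMap).symm) z
  have h₂ : g'.comp h' = AlgHom.id R _ := by
    obtain ⟨w, -, hw⟩ := hS.universal S (algebraMap R S) inferInstance
    ext z
    exact RingHom.congr_fun ((hw _ (g'.comp h').comp_algebraMap).trans
      (hw (AlgHom.id R S).toRingHom (AlgHom.id R _).comp_algebraMap).symm) z
  exact ⟨AlgEquiv.ofAlgHom g' h' h₂ h₁⟩

/-- The constructed henselization is isomorphic to any given one. -/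
noncomputable def henselizationEquiv (S : Type u) [CommRing S] [IsLocalRing S] [Algebra R S]
    [IsLocalHom (algebraMap R S)] [Hensel.IsHenselization R S] :
    Henselization R ≃ₐ[R] S :=
  (nonempty_henselization_algEquiv S).some

section Transfer

variable (S : Type u) [CommRing S] [IsLocalRing S] [Algebra R S] [IsLocalHom (algebraMap R S)]

theorem faithfullyFlat_of_isHenselization [Hensel.IsHenselization R S] :
    Module.FaithfullyFlat R S :=
  Module.FaithfullyFlat.of_linearEquiv _ _ (henselizationEquiv S).symm.toLinearEquiv

omit [IsLocalHom (algebraMap R S)] in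
theorem map_maximalIdeal_of_algEquiv_etLoc [Algebra (ResidueField R) K]
    [IsScalarTower R (ResidueField R) K] (E : EtLoc R K ≃ₐ[R] S) :
    (maximalIdeal R).map (algebraMap R S) = maximalIdeal S := by
  have : E.toAlgHom.toRingHom.comp (algebraMap R (EtLoc R K)) = algebraMap R S :=
    E.toAlgHom.comp_algebraMap
  rw [← this, ← Ideal.map_map, map_maximalIdeal_etLoc]
  exact IsLocalRing.map_maximalIdeal_of_surjective _ E.surjective

theorem map_maximalIdeal_of_isHenselization [Hensel.IsHenselization R S] :
    (maximalIdeal R).map (algebraMap R S) = maximalIdeal S :=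
  map_maximalIdeal_of_algEquiv_etLoc S (henselizationEquiv S)

theorem residueMap_bijective_of_isHenselization [Hensel.IsHenselization R S] :
    Function.Bijective (ResidueField.map (algebraMap R S)) := by
  refine ⟨RingHom.injective _, fun x => ?_⟩
  obtain ⟨y, rfl⟩ := residue_surjective x
  obtain ⟨z, rfl⟩ := (henselizationEquiv (R := R) S).surjective y
  obtain ⟨a, ha⟩ := (residueMap_henselization_bijective (R := R)).2 (residue _ z)
  obtain ⟨r, rfl⟩ := residue_surjective a
  refine ⟨residue R r, ?_⟩
  rw [ResidueField.map_residue] at ha ⊢
  have h := sub_eq_zero.2 ha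
  rw [← map_sub, residue_eq_zero_iff] at h
  rw [← sub_eq_zero, ← map_sub, residue_eq_zero_iff, ← (henselizationEquiv (R := R) S).commutes,
    ← map_sub]
  exact fun hu => h (isUnit_of_map_unit (henselizationEquiv (R := R) S) _ hu)

/-- Any strict henselization is isomorphic to the constructed one. -/
theorem nonempty_strictHenselization_algEquiv [hS : Hensel.IsStrictHenselization R S] :
    Nonempty (StrictHenselization R ≃ₐ[R] S) := by
  haveI := hS.henselian
  haveI := hS.isSepClosure
  let k := ResidueField R
  let σ : SeparableClosure k ≃ₐ[k] ResidueField S := IsSepClosure.equiv k _ _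
  let ρ : ResidueField S →+* ResidueField (StrictHenselization R) :=
    ((strictResidueAlgEquiv (R := R)).symm.toRingEquiv.toRingHom).comp σ.symm.toRingEquiv.toRingHom
  have hρ : ρ.comp (ResidueField.map (algebraMap R S)) =
      ResidueField.map (algebraMap R (StrictHenselization R)) := by
    refine RingHom.ext fun x => ?_
    show (strictResidueAlgEquiv (R := R)).symm (σ.symm (algebraMap k (ResidueField S) x)) = _
    rw [σ.symm.commutes, AlgEquiv.commutes]
    rfl
  obtain ⟨h, ⟨hh₁, hh₂⟩, -⟩ :=
    hS.universal (StrictHenselization R) (algebraMap R _) ρ hρ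
  obtain ⟨E, -⟩ := exists_algEquiv_etLoc (R := R) (K := SeparableClosure k) (S := S)
    (σ.toAlgHom.restrictScalars R) ⟨h, RingHom.congr_fun hh₁⟩ (fun x => by
      show σ (point R _ (h x)) = residue S x
      have := congrArg (strictResidueAlgEquiv (R := R)) (hh₂ x)
      rw [show ρ (residue S x) = (strictResidueAlgEquiv (R := R)).symm (σ.symm (residue S x))
        from rfl, AlgEquiv.apply_symm_apply] at this
      rw [show point R _ (h x) = strictResidueAlgEquiv (R := R) (residue _ (h x)) from
        (residueEquiv_residue point_strictHenselization_surjective _).symm, this,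
        AlgEquiv.apply_symm_apply])
    (fun g hg => by
      obtain ⟨w, -, hw⟩ := hS.universal S (algebraMap R S) (RingHom.id _) (RingHom.id_comp _)
      refine AlgHom.ext fun x => ?_
      exact RingHom.congr_fun ((hw g.toRingHom ⟨g.comp_algebraMap, hg⟩).trans
        (hw (RingHom.id S) ⟨RingHom.id_comp _, fun _ => rfl⟩).symm) x)
  exact ⟨E⟩

/-- The constructed strict henselization is isomorphic to any given one. -/
noncomputable def strictHenselizationEquiv [Hensel.IsStrictHenselization R S] :
    StrictHenselization R ≃ₐ[R] S :=
  (nonempty_strictHenselization_algEquiv S).some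

theorem faithfullyFlat_of_isStrictHenselization [Hensel.IsStrictHenselization R S] :
    Module.FaithfullyFlat R S :=
  Module.FaithfullyFlat.of_linearEquiv _ _ (strictHenselizationEquiv S).symm.toLinearEquiv

theorem map_maximalIdeal_of_isStrictHenselization [Hensel.IsStrictHenselization R S] :
    (maximalIdeal R).map (algebraMap R S) = maximalIdeal S :=
  map_maximalIdeal_of_algEquiv_etLoc S (strictHenselizationEquiv S)

end Transfer

end Local

section Prime

variable (p : Ideal R) [p.IsPrime]

/-- A henselization of `R_p` is the étale localisation of `R` at the point `R → κ(p)`. -/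
theorem exists_algEquiv_etLoc_atPrime (S : Type u) [CommRing S] [IsLocalRing S]
    [Algebra (Localization.AtPrime p) S] [IsLocalHom (algebraMap (Localization.AtPrime p) S)]
    [hS : Hensel.IsHenselization (Localization.AtPrime p) S] [Algebra R S]
    [IsScalarTower R (Localization.AtPrime p) S] :
    ∃ E : EtLoc R p.ResidueField ≃ₐ[R] S, ∀ z,
      residue S (E z) =
        ResidueField.map (algebraMap (Localization.AtPrime p) S) (point R p.ResidueField z) := by
  haveI := hS.henselian
  let e : p.ResidueField →ₐ[R] ResidueField S :=
    { toRingHom := ResidueField.map (algebraMap (Localization.AtPrime p) S)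
      commutes' := fun r => by
        show ResidueField.map (algebraMap (Localization.AtPrime p) S)
          (residue _ (algebraMap R (Localization.AtPrime p) r)) = _
        rw [ResidueField.map_residue, ← IsScalarTower.algebraMap_apply]
        rfl }
  have hunit : ∀ y : p.primeCompl, IsUnit (algebraMap R (EtLoc R p.ResidueField) y) := fun y => by
    refine isUnit_of_map_unit (point R p.ResidueField).toRingHom _ (IsUnit.mk0 _ ?_)
    show point R p.ResidueField (algebraMap R _ (y : R)) ≠ 0
    rw [AlgHom.commutes]
    exact fun h0 => y.2 (Ideal.algebraMap_residueField_eq_zero.1 h0)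
  let f : Localization.AtPrime p →+* EtLoc R p.ResidueField := IsLocalization.lift hunit
  have hfp : (point R p.ResidueField).toRingHom.comp f = residue (Localization.AtPrime p) :=
    IsLocalization.ringHom_ext p.primeCompl (RingHom.ext fun r => by
      show point R _ (f (algebraMap R _ r)) = _
      rw [IsLocalization.lift_eq, AlgHom.commutes]
      rfl)
  haveI : IsLocalHom f := ⟨fun x hx => isUnit_of_map_unit (residue _) _ (by
    rw [← hfp]; exact hx.map (point R p.ResidueField))⟩
  obtain ⟨h, hh, -⟩ := hS.universal (EtLoc R p.ResidueField) f inferInstance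
  let h' : S →ₐ[R] EtLoc R p.ResidueField :=
    { toRingHom := h
      commutes' := fun r => by
        show h (algebraMap R S r) = _
        rw [IsScalarTower.algebraMap_apply R (Localization.AtPrime p) S,
          ← RingHom.comp_apply, hh]
        exact IsLocalization.lift_eq hunit r }
  have hS2 := residueMap_bijective_of_isHenselization (R := Localization.AtPrime p) S
  have hh' : ∀ x, e (point R p.ResidueField (h' x)) = residue S x := by
    intro x
    obtain ⟨a, ha⟩ := hS2.2 (residue S x)
    obtain ⟨a, rfl⟩ := residue_surjective a
    rw [ResidueField.map_residue] at ha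
    have hm : x - algebraMap (Localization.AtPrime p) S a ∈
        (maximalIdeal (Localization.AtPrime p)).map (algebraMap (Localization.AtPrime p) S) := by
      rw [map_maximalIdeal_of_isHenselization, ← residue_eq_zero_iff, map_sub, ha, sub_self]
    have hm' := Ideal.mem_map_of_mem ((point R p.ResidueField).toRingHom.comp h) hm
    rw [Ideal.map_map, RingHom.comp_assoc, hh, hfp] at hm'
    rw [show (maximalIdeal (Localization.AtPrime p)).map (residue (Localization.AtPrime p)) = ⊥
      from Ideal.map_quotient_self _, Ideal.mem_bot, map_sub, sub_eq_zero] at hm'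
    change point R _ (h x) = point R _ (h (algebraMap _ S a)) at hm'
    show e (point R _ (h x)) = _
    rw [hm', ← ha, ← RingHom.comp_apply h, hh]
    show e (((point R p.ResidueField).toRingHom.comp f) a) = _
    rw [hfp]
    exact ResidueField.map_residue _ _
  refine exists_algEquiv_etLoc e h' hh' fun g _ => ?_
  obtain ⟨w, -, hw⟩ := hS.universal S (algebraMap (Localization.AtPrime p) S) inferInstance
  have hg : g.toRingHom.comp (algebraMap (Localization.AtPrime p) S) = algebraMap _ S :=
    IsLocalization.ringHom_ext p.primeCompl (by
      rw [RingHom.comp_assoc, ← IsScalarTower.algebraMap_eq]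
      exact g.comp_algebraMap)
  refine AlgHom.ext fun x => ?_
  exact RingHom.congr_fun ((hw g.toRingHom hg).trans (hw _ (RingHom.id_comp _)).symm) x

end Prime

end Groth.Agent.Hens
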