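import Groth.Agent.Hens.Stage
import Groth.Agent.Hens.Unique
import Groth.Agent.IndAlg.Etale

/-!
# (Strict) henselizations are ind-étale
-/

set_option linter.style.haveILetI false

universe u

open Groth.Agent.IndAlg

namespace Groth.Agent.Hens

theorem fac_etLoc {R : Type u} [CommRing R] {K : Type u} [Field K] [Algebra R K] :
    Fac (IndAlg.Etale.Et R) (EtLoc R K) := by
  intro Z _ _ hZ g
  obtain ⟨A, _, _, hA, f, θ, h⟩ := exists_factor_etale g
  exact ⟨A, _, _, hA, f, θ, h⟩

theorem isInd_of_algEquiv_etLoc {R : Type u} [CommRing R] {K : Type u} [Field K] [Algebra R K]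
    {S : Type u} [CommRing S] [Algebra R S] (e : EtLoc R K ≃ₐ[R] S) :
    IsInd (IndAlg.Etale.Et R) S :=
  IndAlg.Etale.isInd_of_fac (fac_algEquiv e fac_etLoc)

end Groth.Agent.Hens
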