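import Groth.Agent.Hens.Local
import Mathlib.RingTheory.Unramified.Field
import Mathlib.RingTheory.Unramified.Finite

/-!
# Recognising a strict henselization at a prime

A strictly henselian local algebra `S` over `L = R_p` all of whose elements come from étale
`R`-algebras, with vanishing detected on étale `R`-algebras, is a strict henselization of `L`.
-/

set_option linter.style.haveILetI false

universe u

open IsLocalRing TensorProduct

namespace Groth.Agent.Hens

variable (R : Type u) [CommRing R] (L : Type u) [CommRing L] [IsLocalRing L] [Algebra R L]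
  (S : Type u) [CommRing S] [IsLocalRing S] [Algebra L S] [IsLocalHom (algebraMap L S)]
  [Algebra R S] [IsScalarTower R L S]

omit [IsLocalRing L] in
theorem isSeparable_of_isField_unramified {k F : Type u} [Field k] [CommRing F] [Algebra k F]
    [Module.Finite k F] [Algebra.FormallyUnramified k F] (hF : IsField F) :
    Algebra.IsSeparable k F :=
  letI := hF.toField
  Algebra.FormallyUnramified.isSeparable k F

omit [IsLocalRing L] in
/-- The image of an étale algebra over a field in a field consists of separable elements. -/
theorem isSeparable_of_etale_field {k K : Type u} [Field k] [Field K] [Algebra k K]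
    {B : Type u} [CommRing B] [Algebra k B] [Algebra.Etale k B] (φ : B →ₐ[k] K) (b : B) :
    IsSeparable k (φ b) := by
  have : Module.Finite k B := Algebra.FormallyUnramified.finite_of_free _ _
  let F := φ.range
  have : Module.Finite k F := Module.Finite.of_surjective φ.rangeRestrict.toLinearMap φ.rangeRestrict_surjective
  have : Algebra.FormallyUnramified k F :=
    Algebra.FormallyUnramified.of_surjective φ.rangeRestrict φ.rangeRestrict_surjective
  have hF : IsField F := isField_of_isIntegral_of_isField' (Field.toIsField k)
  have : Algebra.IsSeparable k F := isSeparable_of_isField_unramified hF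
  have h : IsSeparable k (φ.rangeRestrict b) := Algebra.IsSeparable.isSeparable k (φ.rangeRestrict b)
  have e : minpoly k (F.val (φ.rangeRestrict b)) = minpoly k (φ.rangeRestrict b) :=
    minpoly.algHom_eq F.val (fun _ _ h' => Subtype.ext h') _
  unfold IsSeparable at h ⊢
  rw [← e] at h
  exact h

/-- A residue class coming from an étale `R`-algebra is separable over the residue field of `L`. -/
theorem isSeparable_residue_of_etale {B : Type u} [CommRing B] [Algebra R B] [Algebra.Etale R B]
    (θ : B →ₐ[R] S) (b : B) :
    IsSeparable (ResidueField L) (residue S (θ b)) := by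
  let φ : ResidueField L ⊗[R] B →ₐ[ResidueField L] ResidueField S :=
    Algebra.TensorProduct.lift (Algebra.ofId (ResidueField L) (ResidueField S))
      ((IsScalarTower.toAlgHom R S (ResidueField S)).comp θ) fun _ _ => .all _ _
  have h := isSeparable_of_etale_field φ ((1 : ResidueField L) ⊗ₜ[R] b)
  have e : φ ((1 : ResidueField L) ⊗ₜ[R] b) = residue S (θ b) := by
    simp only [φ, Algebra.TensorProduct.lift_tmul, map_one, one_mul]
    rfl
  rwa [e] at h

theorem isStrictHenselization_of_stages (p : Ideal R) [p.IsPrime] [IsLocalization.AtPrime L p]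
    [HenselianLocalRing S] [IsSepClosed (ResidueField S)]
    (hsurj : ∀ z : S, ∃ (B : Type u) (_ : CommRing B) (_ : Algebra R B),
      Algebra.Etale R B ∧ ∃ (θ : B →ₐ[R] S) (b : B), θ b = z)
    (hinj : ∀ (B : Type u) [CommRing B] [Algebra R B] [Algebra.Etale R B] (θ : B →ₐ[R] S) (b : B),
      θ b = 0 → ∃ (C : Type u) (_ : CommRing C) (_ : Algebra R C),
        Algebra.Etale R C ∧ ∃ (β : B →ₐ[R] C) (η : C →ₐ[R] S), η.comp β = θ ∧ β b = 0) :
    Hensel.IsStrictHenselization L S := by
  obtain ⟨ψ, hψ, -⟩ := existsUnique_etLoc_algHom (R := R) (K := ResidueField S) (T := S)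
    (AlgHom.id R _)
  change ∀ z, residue S (ψ z) = point R (ResidueField S) z at hψ
  have hbij : Function.Bijective ψ := by
    constructor
    · rw [injective_iff_map_eq_zero]
      intro z hz
      obtain ⟨B, _, _, _, η, b, rfl⟩ := exists_stage z
      obtain ⟨C, _, _, _, β, θC, hθC, hb⟩ := hinj B (ψ.comp η) b hz
      obtain ⟨ηC, hηC, -⟩ := existsUnique_algHom_etLoc
        ((IsScalarTower.toAlgHom R S (ResidueField S)).comp θC)
      have : ηC.comp β = η := eq_of_point (AlgHom.ext fun x => by
        show point R _ (ηC (β x)) = point R _ (η x)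
        rw [← AlgHom.comp_apply (point R _) ηC, hηC, ← hψ]
        show residue S (θC.comp β x) = _
        rw [hθC]; rfl)
      rw [← this, AlgHom.comp_apply, hb, map_zero]
    · intro z
      obtain ⟨B, _, _, _, θ, b, rfl⟩ := hsurj z
      obtain ⟨η, hη, -⟩ := existsUnique_algHom_etLoc
        ((IsScalarTower.toAlgHom R S (ResidueField S)).comp θ)
      refine ⟨η b, ?_⟩
      have : ψ.comp η = θ := eq_of_point_eq (residue S) fun x => by
        show residue S (ψ (η x)) = residue S (θ x)
        rw [hψ, ← AlgHom.comp_apply (point R _) η, hη]; rfl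
      rw [← this]; rfl
  let E := AlgEquiv.ofBijective ψ hbij
  refine { henselian := inferInstance, isSepClosure := ⟨inferInstance, ⟨fun x => ?_⟩⟩,
           universal := fun T _ _ f _ τ hτ => ?_ }
  · obtain ⟨z, rfl⟩ := residue_surjective x
    obtain ⟨B, _, _, _, θ, b, rfl⟩ := hsurj z
    exact isSeparable_residue_of_etale R L S θ b
  · letI := (f.comp (algebraMap R L)).toAlgebra
    let τ' : ResidueField S →ₐ[R] ResidueField T :=
      { toRingHom := τ
        commutes' := fun r => by
          show τ (residue S (algebraMap R S r)) = residue T (f (algebraMap R L r))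
          rw [IsScalarTower.algebraMap_apply R L S, ← ResidueField.map_residue,
            ← RingHom.comp_apply τ, hτ, ResidueField.map_residue] }
    obtain ⟨g, hg, hguniq⟩ := existsUnique_etLoc_algHom (R := R) (T := T) τ'
    refine ⟨(g.comp E.symm.toAlgHom).toRingHom, ⟨?_, fun x => ?_⟩, ?_⟩
    · refine IsLocalization.ringHom_ext p.primeCompl (RingHom.ext fun r => ?_)
      show g (E.symm (algebraMap L S (algebraMap R L r))) = f (algebraMap R L r)
      rw [← IsScalarTower.algebraMap_apply, AlgEquiv.commutes, AlgHom.commutes]
      rfl
    · obtain ⟨z, rfl⟩ := E.surjective x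
      show residue T (g (E.symm (E z))) = τ (residue S (ψ z))
      rw [E.symm_apply_apply, hg, hψ]; rfl
    · rintro g' ⟨hg₁, hg₂⟩
      let G : EtLoc R (ResidueField S) →ₐ[R] T :=
        { toRingHom := g'.comp ψ.toRingHom
          commutes' := fun r => by
            show g' (ψ (algebraMap R _ r)) = f (algebraMap R L r)
            rw [AlgHom.commutes, IsScalarTower.algebraMap_apply R L S, ← RingHom.comp_apply g', hg₁] }
      have hG : G = g := hguniq G fun z => by
        show residue T (g' (ψ z)) = τ (point R _ z)
        rw [hg₂, hψ]
      refine RingHom.ext fun x => ?_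
      obtain ⟨z, rfl⟩ := E.surjective x
      show g' (ψ z) = g (E.symm (E z))
      rw [E.symm_apply_apply, ← hG]; rfl

end Groth.Agent.Hens
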