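import Groth.Agent.Hens.Pair
import Mathlib.LinearAlgebra.TensorProduct.Finiteness

/-!
# Neighbourhoods of a pair and reduction modulo powers of the ideal
-/

set_option linter.style.haveILetI false

universe u v

open TensorProduct

namespace Groth.Agent.Hens

variable {A : Type u} [CommRing A] {I : Ideal A}

/-- An algebra with `A/I = A'/IA'` has a point in `A/I`. -/
theorem exists_section_of_bijective {S : Type v} [CommRing S] [Algebra A S]
    (h : Function.Bijective
      (Ideal.quotientMap (I.map (algebraMap A S)) (algebraMap A S) Ideal.le_comap_map)) :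
    ∃ σ : S →ₐ[A] A ⧸ I, RingHom.ker σ.toRingHom = I.map (algebraMap A S) := by
  let e := RingEquiv.ofBijective _ h
  refine ⟨⟨e.symm.toRingHom.comp (Ideal.Quotient.mk _), fun a => ?_⟩, ?_⟩
  · show e.symm (Ideal.Quotient.mk _ (algebraMap A S a)) = Ideal.Quotient.mk I a
    apply e.injective
    rw [e.apply_symm_apply]
    rfl
  · ext x
    show e.symm (Ideal.Quotient.mk _ x) = 0 ↔ _
    rw [map_eq_zero_iff _ e.symm.injective, Ideal.Quotient.eq_zero_iff_mem]

/-- Points with values in `A/I` are unique when `A/I → A'/IA'` is surjective. -/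
theorem section_unique {S : Type v} [CommRing S] [Algebra A S]
    (h : Function.Surjective
      (Ideal.quotientMap (I.map (algebraMap A S)) (algebraMap A S) Ideal.le_comap_map))
    {C : Type*} [CommRing C] [Algebra A C] (f g : S →ₐ[A] C)
    (hC : ∀ a ∈ I, algebraMap A C a = 0) : f = g := by
  refine AlgHom.ext fun x => ?_
  obtain ⟨y, hy⟩ := h (Ideal.Quotient.mk _ x)
  obtain ⟨a, rfl⟩ := Ideal.Quotient.mk_surjective y
  rw [Ideal.quotientMap_mk, Ideal.Quotient.eq] at hy
  have key : ∀ φ : S →ₐ[A] C, φ x = algebraMap A C a := fun φ => by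
    have hle : I.map (algebraMap A S) ≤ RingHom.ker φ.toRingHom := by
      rw [Ideal.map_le_iff_le_comap]
      intro b hb
      show φ (algebraMap A S b) = 0
      rw [φ.commutes]
      exact hC b hb
    have h0 : φ (algebraMap A S a - x) = 0 := hle hy
    rw [map_sub, φ.commutes, sub_eq_zero] at h0
    exact h0.symm
  rw [key f, key g]

theorem section_unique_self {S : Type v} [CommRing S] [Algebra A S]
    (h : Function.Surjective
      (Ideal.quotientMap (I.map (algebraMap A S)) (algebraMap A S) Ideal.le_comap_map))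
    (f g : S →ₐ[A] A ⧸ I) : f = g :=
  section_unique h f g fun _ ha => Ideal.Quotient.eq_zero_iff_mem.2 ha

/-- Around a point in `A/I` an étale algebra has a localization with `A/I = A'/IA'`. -/
theorem exists_away_bijective {S : Type u} [CommRing S] [Algebra A S] [Algebra.Etale A S]
    (σ : S →ₐ[A] A ⧸ I) :
    ∃ t : S, σ t = 1 ∧ Function.Bijective (Ideal.quotientMap
      (I.map (algebraMap A (Localization.Away t))) (algebraMap A (Localization.Away t))
      Ideal.le_comap_map) := by
  let σ' : (A ⧸ I) ⊗[A] S →ₐ[A ⧸ I] A ⧸ I :=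
    Algebra.TensorProduct.lift (Algebra.ofId (A ⧸ I) (A ⧸ I)) σ (fun _ _ => Commute.all _ _)
  obtain ⟨e, -, he1, he⟩ := Groth.Agent.Hensel.exists_isIdempotentElem_section σ'
  obtain ⟨e', rfl⟩ : ∃ e' : S, (1 : A ⧸ I) ⊗ₜ[A] e' = e :=
    Algebra.TensorProduct.includeRight_surjective _ Ideal.Quotient.mk_surjective e
  have hσe : σ e' = 1 := by simpa [σ'] using he1
  have hker : ∀ s, σ s = 0 → s * e' ∈ I.map (algebraMap A S) := by
    intro s hs
    have h0 : (1 : A ⧸ I) ⊗ₜ[A] (s * e') = 0 := by
      rw [← mul_one (1 : A ⧸ I), ← Algebra.TensorProduct.tmul_mul_tmul, he]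
      simp [σ', hs]
    rw [← (TensorProduct.quotTensorEquivQuotSMul S I).map_eq_zero_iff,
      TensorProduct.quotTensorEquivQuotSMul_mk_one_tmul, Submodule.Quotient.mk_eq_zero,
      Ideal.smul_top_eq_map] at h0
    exact h0
  refine ⟨e', hσe, ?_⟩
  have hu : IsUnit (σ e') := by rw [hσe]; exact isUnit_one
  let ρ := awayExt σ e' hu
  have hue : IsUnit (algebraMap S (Localization.Away e') e') :=
    IsLocalization.Away.algebraMap_isUnit e'
  -- the kernel of the point is `I S[1/e]`
  have hkerρ : ∀ z, ρ z = 0 → z ∈ I.map (algebraMap A (Localization.Away e')) := by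
    intro z hz
    obtain ⟨s, d, rfl⟩ := IsLocalization.exists_mk'_eq (Submonoid.powers e') z
    have hs : σ s = 0 := by
      rw [← awayExt_algebraMap σ e' hu, ← IsLocalization.mk'_spec (Localization.Away e') s d,
        map_mul]
      show ρ _ * _ = 0
      rw [hz, zero_mul]
    have hm := Ideal.mem_map_of_mem (algebraMap S (Localization.Away e')) (hker s hs)
    rw [Ideal.map_map, ← IsScalarTower.algebraMap_eq, map_mul, Ideal.mul_unit_mem_iff_mem _ hue,
      ← IsLocalization.mk'_spec (Localization.Away e') s d,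
      Ideal.mul_unit_mem_iff_mem _ (IsLocalization.map_units _ d)] at hm
    exact hm
  refine ⟨(injective_iff_map_eq_zero _).2 fun x hx => ?_, fun y => ?_⟩
  · obtain ⟨a, rfl⟩ := Ideal.Quotient.mk_surjective x
    rw [Ideal.quotientMap_mk, Ideal.Quotient.eq_zero_iff_mem] at hx
    have hle : I.map (algebraMap A (Localization.Away e')) ≤ RingHom.ker ρ.toRingHom := by
      rw [Ideal.map_le_iff_le_comap]
      intro b hb
      show ρ (algebraMap A _ b) = 0
      rw [ρ.commutes]
      exact Ideal.Quotient.eq_zero_iff_mem.2 hb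
    have h0 : ρ (algebraMap A _ a) = 0 := hle hx
    rwa [ρ.commutes] at h0
  · obtain ⟨z, rfl⟩ := Ideal.Quotient.mk_surjective y
    obtain ⟨a, ha⟩ := Ideal.Quotient.mk_surjective (ρ z)
    refine ⟨Ideal.Quotient.mk I a, ?_⟩
    rw [Ideal.quotientMap_mk, Ideal.Quotient.eq]
    refine hkerρ _ ?_
    rw [map_sub, ρ.commutes, ← ha]
    exact sub_self _

section Torsion

variable {R S B : Type*} [CommRing R] [CommRing S] [CommRing B] [Algebra R S] [Algebra R B]

/-- An element of `J B` annihilates the tensors with elements killed by `J`. -/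
theorem tmul_eq_zero_of_mem_map {E : Type*} [AddCommGroup E] [Module R E] {J : Ideal R} {e : E}
    (he : ∀ r ∈ J, r • e = 0) {b : B} (hb : b ∈ J.map (algebraMap R B)) :
    b ⊗ₜ[R] e = (0 : B ⊗[R] E) := by
  have key : J.map (algebraMap R B) ≤
      { carrier := {b : B | b ⊗ₜ[R] e = (0 : B ⊗[R] E)}
        zero_mem' := zero_tmul _ _
        add_mem' := fun {x y} hx hy => by simp_all [add_tmul]
        smul_mem' := fun c x hx => by
          show (c * x) ⊗ₜ[R] e = 0
          rw [← smul_eq_mul, ← smul_tmul', show x ⊗ₜ[R] e = 0 from hx, smul_zero] } := by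
    rw [Ideal.map_le_iff_le_comap]
    intro r hr
    show algebraMap R B r ⊗ₜ[R] e = 0
    rw [Algebra.algebraMap_eq_smul_one, smul_tmul, he r hr, tmul_zero]
  exact key hb

/-- If `S/J_n S → B/J_n B` are bijective, tensoring with a module all whose elements are killed
by some `J_n` does not distinguish `S` and `B`. -/
theorem bijective_rTensor_of_quotient (ι : S →ₐ[R] B) {J : ℕ → Ideal R} (hJ : Antitone J)
    (hsurj : ∀ n, ∀ b : B, ∃ s : S, b - ι s ∈ (J n).map (algebraMap R B))
    (hinj : ∀ n, ∀ s : S, ι s ∈ (J n).map (algebraMap R B) → s ∈ (J n).map (algebraMap R S))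
    (E : Type*) [AddCommGroup E] [Module R E] (hE : ∀ e : E, ∃ n, ∀ r ∈ J n, r • e = 0) :
    Function.Bijective (LinearMap.rTensor E ι.toLinearMap) := by
  choose N hN using hE
  choose σ hσ using hsurj
  -- independence of the choices
  have indep : ∀ (e : E) (b : B) (n : ℕ), (∀ r ∈ J n, r • e = 0) → ∀ s : S,
      b - ι s ∈ (J n).map (algebraMap R B) → σ (N e) b ⊗ₜ[R] e = s ⊗ₜ[R] e := by
    intro e b n hn s hs
    have hboth : ∀ m, (∀ r ∈ J m, r • e = 0) → ∀ t : S, b - ι t ∈ (J m).map (algebraMap R B) →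
        ∀ M, m ≤ M → σ M b ⊗ₜ[R] e = t ⊗ₜ[R] e := by
      intro m hm t ht M hM
      rw [← sub_eq_zero, ← sub_tmul]
      refine tmul_eq_zero_of_mem_map hm (hinj m _ ?_)
      rw [map_sub, show ι (σ M b) - ι t = (b - ι t) - (b - ι (σ M b)) by ring]
      exact Ideal.sub_mem _ ht (Ideal.map_mono (hJ hM) (hσ M b))
    rw [← hboth (N e) (hN e) _ (hσ _ b) (max (N e) n) (le_max_left _ _),
      hboth n hn s hs (max (N e) n) (le_max_right _ _)]
  let φ : B →ₗ[R] E →ₗ[R] S ⊗[R] E := LinearMap.mk₂ R (fun b e => σ (N e) b ⊗ₜ[R] e)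
    (fun b b' e => by
      show σ (N e) (b + b') ⊗ₜ[R] e = σ (N e) b ⊗ₜ[R] e + σ (N e) b' ⊗ₜ[R] e
      rw [← add_tmul]
      refine indep e (b + b') (N e) (hN e) _ ?_
      rw [map_add, show b + b' - (ι (σ (N e) b) + ι (σ (N e) b')) =
        (b - ι (σ (N e) b)) + (b' - ι (σ (N e) b')) by ring]
      exact Ideal.add_mem _ (hσ _ b) (hσ _ b'))
    (fun c b e => by
      show σ (N e) (c • b) ⊗ₜ[R] e = c • (σ (N e) b ⊗ₜ[R] e)
      rw [smul_tmul']
      refine indep e (c • b) (N e) (hN e) _ ?_
      rw [map_smul, ← smul_sub]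
      exact Submodule.smul_of_tower_mem _ c (hσ _ b))
    (fun b e e' => by
      show σ (N (e + e')) b ⊗ₜ[R] (e + e') = σ (N e) b ⊗ₜ[R] e + σ (N e') b ⊗ₜ[R] e'
      let M := max (N e) (N e')
      have h1 : ∀ r ∈ J M, r • e = 0 := fun r hr => hN e r (hJ (le_max_left _ _) hr)
      have h2 : ∀ r ∈ J M, r • e' = 0 := fun r hr => hN e' r (hJ (le_max_right _ _) hr)
      rw [indep e b M h1 _ (hσ M b), indep e' b M h2 _ (hσ M b),
        indep (e + e') b M (fun r hr => by rw [smul_add, h1 r hr, h2 r hr, add_zero]) _ (hσ M b),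
        tmul_add])
    (fun c b e => by
      show σ (N (c • e)) b ⊗ₜ[R] (c • e) = c • (σ (N e) b ⊗ₜ[R] e)
      rw [indep (c • e) b (N e) (fun r hr => by rw [smul_comm, hN e r hr, smul_zero]) _ (hσ _ b),
        tmul_smul])
  have h1 : (TensorProduct.lift φ).comp (LinearMap.rTensor E ι.toLinearMap) = LinearMap.id :=
    TensorProduct.ext' fun s e => by
      show σ (N e) (ι s) ⊗ₜ[R] e = s ⊗ₜ[R] e
      exact indep e (ι s) (N e) (hN e) s (by rw [sub_self]; exact Submodule.zero_mem _)
  have h2 : (LinearMap.rTensor E ι.toLinearMap).comp (TensorProduct.lift φ) = LinearMap.id :=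
    TensorProduct.ext' fun b e => by
      show ι (σ (N e) b) ⊗ₜ[R] e = b ⊗ₜ[R] e
      rw [eq_comm, ← sub_eq_zero, ← sub_tmul]
      exact tmul_eq_zero_of_mem_map (hN e) (hσ _ b)
  exact ⟨fun x y hxy => by
      simpa [← LinearMap.comp_apply, h1] using congrArg (TensorProduct.lift φ) hxy,
    fun y => ⟨TensorProduct.lift φ y, LinearMap.congr_fun h2 y⟩⟩

end Torsion

section Powers

variable {B : Type v} [CommRing B] [Algebra A B]

theorem exists_sub_mem_map_pow
    (hb : Function.Surjective
      (Ideal.quotientMap (I.map (algebraMap A B)) (algebraMap A B) Ideal.le_comap_map))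
    (n : ℕ) (b : B) : ∃ a : A, b - algebraMap A B a ∈ (I ^ n).map (algebraMap A B) := by
  have h1 : ∀ c : B, ∃ a : A, c - algebraMap A B a ∈ I.map (algebraMap A B) := fun c => by
    obtain ⟨y, hy⟩ := hb (Ideal.Quotient.mk _ c)
    obtain ⟨a, rfl⟩ := Ideal.Quotient.mk_surjective y
    rw [Ideal.quotientMap_mk, eq_comm, Ideal.Quotient.eq] at hy
    exact ⟨a, hy⟩
  induction n with
  | zero => exact ⟨0, by simp [Ideal.map_top]⟩
  | succ n ih =>
    have key : ∀ x ∈ (I ^ n).map (algebraMap A B),
        ∃ a : A, x - algebraMap A B a ∈ (I ^ (n + 1)).map (algebraMap A B) := by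
      intro x hx
      induction hx using Submodule.span_induction with
      | mem y hy =>
        obtain ⟨r, hr, rfl⟩ := hy
        exact ⟨r, by simp⟩
      | zero => exact ⟨0, by simp⟩
      | add y z hy hz hy' hz' =>
        obtain ⟨a, ha⟩ := hy'
        obtain ⟨c, hc⟩ := hz'
        exact ⟨a + c, by rw [map_add, add_sub_add_comm]; exact Ideal.add_mem _ ha hc⟩
      | smul d y hy hy' =>
        obtain ⟨a, ha⟩ := hy'
        obtain ⟨c, hc⟩ := h1 d
        refine ⟨c * a, ?_⟩
        have h2 : (d - algebraMap A B c) * y ∈ (I ^ (n + 1)).map (algebraMap A B) := by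
          rw [pow_succ, Ideal.map_mul, mul_comm (Ideal.map _ _)]
          exact Ideal.mul_mem_mul hc hy
        rw [smul_eq_mul, map_mul, show d * y - algebraMap A B c * algebraMap A B a =
          (d - algebraMap A B c) * y + algebraMap A B c * (y - algebraMap A B a) by ring]
        exact Ideal.add_mem _ h2 (Ideal.mul_mem_left _ _ ha)
    obtain ⟨a, ha⟩ := ih
    obtain ⟨c, hc⟩ := key _ ha
    exact ⟨a + c, by rwa [map_add, ← sub_sub]⟩

theorem mem_pow_of_mem_map_pow [Module.Flat A B]
    (hb : Function.Bijective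
      (Ideal.quotientMap (I.map (algebraMap A B)) (algebraMap A B) Ideal.le_comap_map))
    (n : ℕ) (a : A) (ha : algebraMap A B a ∈ (I ^ n).map (algebraMap A B)) : a ∈ I ^ n := by
  induction n with
  | zero => simp
  | succ n ih =>
    have han : a ∈ I ^ n := ih (Ideal.map_mono (Ideal.pow_le_pow_right n.le_succ) ha)
    -- the image of `I^n` in `A/I^(n+1)` is killed by `I`
    let N : Submodule A (A ⧸ I ^ (n + 1)) := Submodule.map (Submodule.mkQ (I ^ (n + 1))) (I ^ n)
    have hN : ∀ e : N, ∃ _k : ℕ, ∀ r ∈ (fun _ : ℕ => I) _k, r • e = 0 := fun e => ⟨0, fun r hr => by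
      obtain ⟨x, hx, hxe⟩ := e.2
      refine Subtype.ext ?_
      show r • (e : A ⧸ I ^ (n + 1)) = 0
      rw [← hxe, ← map_smul]
      exact (Submodule.Quotient.mk_eq_zero _).2 (by
        rw [pow_succ', smul_eq_mul]; exact Ideal.mul_mem_mul hr hx)⟩
    have hbij := bijective_rTensor_of_quotient (R := A) (Algebra.ofId A B) (J := fun _ => I)
      antitone_const
      (fun _ b => by simpa using exists_sub_mem_map_pow hb.2 1 b)
      (fun _ s hs => by
        rw [Algebra.algebraMap_self, Ideal.map_id]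
        have h0 := hb.1 (a₁ := Ideal.Quotient.mk I s) (a₂ := 0) (by
          rw [Ideal.quotientMap_mk, map_zero, Ideal.Quotient.eq_zero_iff_mem]; exact hs)
        exact Ideal.Quotient.eq_zero_iff_mem.1 h0)
      N hN
    let y : N := ⟨Submodule.mkQ _ a, a, han, rfl⟩
    have hy : (1 : B) ⊗ₜ[A] y = 0 := by
      refine Module.Flat.lTensor_preserves_injective_linearMap (M := B) N.subtype
        N.injective_subtype ?_
      rw [map_zero, LinearMap.lTensor_tmul, ← (TensorProduct.tensorQuotEquivQuotSMul B (I ^ (n + 1))).map_eq_zero_iff]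
      show TensorProduct.tensorQuotEquivQuotSMul B (I ^ (n + 1))
        (1 ⊗ₜ[A] Ideal.Quotient.mk (I ^ (n + 1)) a) = 0
      rw [TensorProduct.tensorQuotEquivQuotSMul_tmul_mk, Submodule.Quotient.mk_eq_zero,
        Ideal.smul_top_eq_map, Algebra.smul_def, mul_one]
      exact ha
    have h0 : ((1 : A) ⊗ₜ[A] y) = 0 := hbij.1 (by
      rw [map_zero, LinearMap.rTensor_tmul]
      show algebraMap A B 1 ⊗ₜ[A] y = 0
      rwa [map_one])
    have h1 := congrArg (TensorProduct.lid A N) h0
    rw [TensorProduct.lid_tmul, one_smul, map_zero] at h1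
    exact (Submodule.Quotient.mk_eq_zero _).1 (congrArg Subtype.val h1)

end Powers

end Groth.Agent.Hens
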