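import Groth.Agent.Hensel.EtLike
import Groth.Agent.Hensel.EtaleAlgLift
import Groth.Agent.Hensel.Pair
import Groth.Agent.Hensel.Local
import Groth.Agent.Hens.PairStage
import Mathlib.RingTheory.Etale.Field
import Mathlib.FieldTheory.Galois.Basic
import Mathlib.FieldTheory.Normal.Closure
import Mathlib.FieldTheory.IsSepClosed
import Mathlib.RingTheory.Invariant.Defs
import Mathlib.RingTheory.Unramified.LocalRing

/-!
# Galois stages of a strict henselization

Over a henselian local ring `A`, finitely many elements of a strict henselization lie in a finite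
étale local `A`-algebra `B` with Galois residue field; its automorphism group is the Galois group
of the residue field.
-/

set_option linter.style.haveILetI false

universe u

open IsLocalRing TensorProduct

namespace Groth.Agent.Hens

variable {A : Type u} [CommRing A] [HenselianLocalRing A]

/-- A finite étale algebra over a henselian local ring with field fibre is local. -/
theorem isLocalRing_of_fibre_field (B : Type u) [CommRing B] [Algebra A B] [Module.Finite A B]
    (h : IsField (B ⧸ (maximalIdeal A).map (algebraMap A B))) : IsLocalRing B := by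
  have hJ : ((maximalIdeal A).map (algebraMap A B)).IsMaximal :=
    Ideal.Quotient.maximal_of_isField _ h
  refine IsLocalRing.of_unique_max_ideal ⟨_, hJ, fun M hM => ?_⟩
  have hle : (maximalIdeal A).map (algebraMap A B) ≤ M :=
    (Groth.Agent.Hensel.map_le_jacobson_bot_of_isIntegral (maximalIdeal_le_jacobson ⊥)).trans
      (sInf_le ⟨bot_le, hM⟩)
  exact (hJ.eq_of_le hM.ne_top hle).symm

/-- A finite local algebra over a henselian local ring is henselian. -/
theorem henselianLocalRing_of_finite (B : Type u) [CommRing B] [IsLocalRing B] [Algebra A B]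
    [Module.Finite A B] : HenselianLocalRing B := by
  haveI : HenselianRing A (maximalIdeal A) := Groth.Agent.Hensel.henselianRing_maximalIdeal A
  refine Groth.Agent.Hensel.henselianLocalRing_of_henselianRing ?_
  haveI := Groth.Agent.Hensel.henselianRing_of_isIntegral (A := A) (I := maximalIdeal A) B
  refine Groth.Agent.Hensel.henselianRing_of_radical_eq
    (I := (maximalIdeal A).map (algebraMap A B)) ?_
  rw [Ideal.radical_eq_sInf]
  refine le_sInf fun P ⟨hP, hPp⟩ => ?_
  haveI := hPp
  haveI : (P.comap (algebraMap A B)).IsMaximal := by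
    have : P.comap (algebraMap A B) = maximalIdeal A :=
      le_antisymm (le_maximalIdeal Ideal.IsPrime.ne_top') (Ideal.map_le_iff_le_comap.1 hP)
    rw [this]; infer_instance
  exact (eq_maximalIdeal (Ideal.isMaximal_of_isIntegral_of_isMaximal_comap P this)).ge

/-- The residue field of a local algebra as an extension of that of the base. -/
theorem map_maximalIdeal_eq_of_etale (B : Type u) [CommRing B] [IsLocalRing B] [Algebra A B]
    [Module.Finite A B] [Algebra.Etale A B] [IsLocalHom (algebraMap A B)] :
    (maximalIdeal A).map (algebraMap A B) = maximalIdeal B :=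
  Algebra.FormallyUnramified.map_maximalIdeal

variable (A) in
/-- Finitely many elements of a strict henselization lie in a finite étale local algebra with
Galois residue field. -/
theorem exists_galois_stage (S : Type u) [CommRing S] [IsLocalRing S] [Algebra A S]
    [IsLocalHom (algebraMap A S)] [Hensel.IsStrictHenselization A S] (s : Finset S) :
    ∃ (B : Type u) (_ : CommRing B) (_ : Algebra A B) (_ : IsLocalRing B) (_ : HenselianLocalRing B)
      (_ : IsLocalHom (algebraMap A B)),
      Module.Finite A B ∧ Algebra.Etale A B ∧ IsGalois (ResidueField A) (ResidueField B) ∧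
      ∃ θ : B →ₐ[A] S, IsLocalHom θ.toRingHom ∧ θ.toRingHom.Flat ∧
        Function.Injective θ ∧ ∀ z ∈ s, z ∈ θ.range := by
  classical
  haveI : HenselianLocalRing S := Hensel.IsStrictHenselization.henselian (R := A)
  haveI hsep : IsSepClosure (ResidueField A) (ResidueField S) :=
    Hensel.IsStrictHenselization.isSepClosure
  haveI : Algebra.IsSeparable (ResidueField A) (ResidueField S) := hsep.separable
  haveI : IsGalois (ResidueField A) (ResidueField S) := inferInstance
  obtain ⟨E, _, _, _, θE, hθE⟩ :=
    (Groth.Agent.Hensel.isEtLike_of_isStrictHenselization A S).stage s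
  obtain ⟨g, hg⟩ := (Algebra.FiniteType.out : (⊤ : Subalgebra A E).FG)
  let M₀ : IntermediateField (ResidueField A) (ResidueField S) :=
    IntermediateField.adjoin (ResidueField A) (↑(g.image fun x => residue S (θE x)) : Set _)
  haveI : FiniteDimensional (ResidueField A) M₀ :=
    IntermediateField.finiteDimensional_adjoin fun x _ => Algebra.IsIntegral.isIntegral x
  let N : IntermediateField (ResidueField A) (ResidueField S) :=
    IntermediateField.normalClosure (ResidueField A) M₀ (ResidueField S)
  haveI : FiniteDimensional (ResidueField A) N := normalClosure.is_finiteDimensional _ _ _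
  haveI : Normal (ResidueField A) N := normalClosure.normal _ _ _
  haveI : Algebra.IsSeparable (ResidueField A) N :=
    Algebra.isSeparable_tower_bot_of_isSeparable _ _ (ResidueField S)
  haveI : IsGalois (ResidueField A) N := ⟨⟩
  letI : Algebra (A ⧸ maximalIdeal A) N := (inferInstance : Algebra (ResidueField A) N)
  haveI : IsScalarTower A (A ⧸ maximalIdeal A) N :=
    (inferInstance : IsScalarTower A (ResidueField A) N)
  haveI : Module.Finite (A ⧸ maximalIdeal A) N :=
    (inferInstance : Module.Finite (ResidueField A) N)
  haveI : Algebra.Etale (A ⧸ maximalIdeal A) N := by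
    haveI : Algebra.FormallyEtale (ResidueField A) N := Algebra.FormallyEtale.of_isSeparable _ _
    haveI : Algebra.FinitePresentation (ResidueField A) N :=
      Algebra.FinitePresentation.of_finiteType.mp inferInstance
    haveI : Algebra.Etale (ResidueField A) N := ⟨inferInstance, inferInstance⟩
    exact this
  haveI : HenselianRing A (maximalIdeal A) := Groth.Agent.Hensel.henselianRing_maximalIdeal A
  obtain ⟨B, _, _, hBfin, hBet, ⟨e⟩⟩ :=
    Groth.Agent.Hensel.exists_finite_etale_lift A (maximalIdeal A) N
  haveI := hBfin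
  haveI := hBet
  let e' : (B ⧸ (maximalIdeal A).map (algebraMap A B)) ≃ₐ[A ⧸ maximalIdeal A] N :=
    (Algebra.TensorProduct.quotIdealMapEquivQuotTensor B (maximalIdeal A)).trans e
  haveI : IsLocalRing B :=
    isLocalRing_of_fibre_field B (e'.toRingEquiv.toMulEquiv.isField (Field.toIsField N))
  haveI : IsLocalHom (algebraMap A B) :=
    ⟨fun a ha => by
      by_contra hna
      have hmem : algebraMap A B a ∈ (maximalIdeal A).map (algebraMap A B) :=
        Ideal.mem_map_of_mem _ hna
      have hfield := e'.toRingEquiv.toMulEquiv.isField (Field.toIsField N)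
      exact (Ideal.Quotient.maximal_of_isField _ hfield).ne_top (Ideal.eq_top_of_isUnit_mem _ hmem ha)⟩
  haveI := henselianLocalRing_of_finite (A := A) B
  haveI : IsLocalHom (algebraMap A S) := ‹_›
  let j : B →ₐ[A] ResidueField S :=
    (((IntermediateField.val N).restrictScalars A).comp (e'.toAlgHom.restrictScalars A)).comp
      (Ideal.Quotient.mkₐ A _)
  obtain ⟨θ, hθ, -⟩ := existsUnique_algHom (R := A) (T := S) (A := B) j
  haveI hloc : IsLocalHom θ.toRingHom := ⟨fun b hb => by
    by_contra hnb
    have h1 : residue S (θ b) ≠ 0 := by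
      rw [residue_ne_zero_iff_isUnit]; exact hb
    rw [hθ] at h1
    refine h1 ?_
    have hb' : b ∈ (maximalIdeal A).map (algebraMap A B) := by
      rw [map_maximalIdeal_eq_of_etale B]; exact hnb
    show (N.val (e' (Ideal.Quotient.mk _ b)) : ResidueField S) = 0
    rw [Ideal.Quotient.eq_zero_iff_mem.2 hb', map_zero, map_zero]⟩
  letI : Algebra B S := θ.toRingHom.toAlgebra
  haveI : IsScalarTower A B S := IsScalarTower.of_algebraMap_eq' θ.comp_algebraMap.symm
  haveI : Module.Flat A S := (Groth.Agent.Hensel.isEtLike_of_isStrictHenselization A S).flat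
  haveI : Module.Flat B S := Algebra.FormallyUnramified.flat_of_restrictScalars A B S
  haveI : IsLocalHom (algebraMap B S) := hloc
  haveI : Module.FaithfullyFlat B S := Module.FaithfullyFlat.of_flat_of_isLocalHom
  -- Galois residue field
  have hk : ∀ b : B, b ∈ maximalIdeal B ↔ b ∈ (maximalIdeal A).map (algebraMap A B) := fun b => by
    rw [map_maximalIdeal_eq_of_etale B]
  let eq₁ : (B ⧸ (maximalIdeal A).map (algebraMap A B)) ≃+* ResidueField B :=
    Ideal.quotEquivOfEq (map_maximalIdeal_eq_of_etale B)
  let φ : N ≃ₐ[ResidueField A] ResidueField B :=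
    AlgEquiv.ofRingEquiv (f := e'.toRingEquiv.symm.trans eq₁) (by
      intro x
      obtain ⟨a, rfl⟩ := residue_surjective x
      show eq₁ (e'.symm (algebraMap (A ⧸ maximalIdeal A) N (Ideal.Quotient.mk _ a))) = _
      rw [AlgEquiv.commutes]
      rfl)
  haveI : IsGalois (ResidueField A) (ResidueField B) := IsGalois.of_algEquiv φ
  refine ⟨B, inferInstance, inferInstance, inferInstance, inferInstance, inferInstance,
    inferInstance, inferInstance, inferInstance, θ, hloc, ?_,
    FaithfulSMul.algebraMap_injective B S, ?_⟩
  · exact RingHom.flat_algebraMap_iff.2 inferInstance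
  -- the given elements come from `B`
  have hrange : ∀ x : E, residue S (θE x) ∈ N := by
    let π : E →ₐ[A] ResidueField S := (IsScalarTower.toAlgHom A S (ResidueField S)).comp θE
    have hle : (⊤ : Subalgebra A E) ≤ (N.toSubalgebra.restrictScalars A).comap π := by
      rw [← hg, Algebra.adjoin_le_iff]
      intro x hx
      refine (IntermediateField.le_normalClosure M₀) ?_
      exact IntermediateField.subset_adjoin _ _ (Finset.mem_image.2 ⟨x, hx, rfl⟩)
    exact fun x => hle (Algebra.mem_top (x := x))
  let πN : E →ₐ[A] N :=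
    { toFun := fun x => ⟨residue S (θE x), hrange x⟩
      map_one' := Subtype.ext (by simp)
      map_mul' := fun x y => Subtype.ext (by simp)
      map_zero' := Subtype.ext (by simp)
      map_add' := fun x y => Subtype.ext (by simp)
      commutes' := fun a => Subtype.ext (by
        show residue S (θE (algebraMap A E a)) = _
        rw [θE.commutes]
        rfl) }
  obtain ⟨η, hη, -⟩ := existsUnique_algHom (R := A) (T := B) (A := E)
    ((φ.toAlgHom.restrictScalars A).comp πN)
  have hcomp : θ.comp η = θE := by
    refine eq_of_point_eq (residue S) fun x => ?_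
    rw [AlgHom.comp_apply, hθ]
    show N.val (e' (Ideal.Quotient.mk _ (η x))) = residue S (θE x)
    have h1 : eq₁ (Ideal.Quotient.mk _ (η x)) = φ (πN x) := hη x
    have h2 : e' (Ideal.Quotient.mk _ (η x)) = πN x := by
      apply e'.toRingEquiv.symm.injective
      apply eq₁.injective
      refine (congrArg eq₁ (e'.toRingEquiv.symm_apply_apply _)).trans ?_
      exact h1
    rw [h2]
    rfl
  intro z hz
  obtain ⟨x, hx⟩ := hθE z hz
  exact ⟨η x, by rw [← hx]; exact AlgHom.congr_fun hcomp x⟩

/-! ### Galois theory of a stage -/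

section Galois

variable {B : Type u} [CommRing B] [HenselianLocalRing B] [Algebra A B]
  [IsLocalHom (algebraMap A B)] [Module.Finite A B] [Algebra.Etale A B]

/-- The action of an automorphism on the residue field. -/
noncomputable def residueAut (g : B ≃ₐ[A] B) : ResidueField B ≃ₐ[ResidueField A] ResidueField B :=
  AlgEquiv.ofRingEquiv (f := ResidueField.mapEquiv g.toRingEquiv) (by
    intro x
    obtain ⟨a, rfl⟩ := residue_surjective x
    show residue B (g (algebraMap A B a)) = _
    rw [g.commutes]
    rfl)

theorem residueAut_residue (g : B ≃ₐ[A] B) (b : B) :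
    residueAut g (residue B b) = residue B (g b) := rfl

theorem residueAut_injective : Function.Injective (residueAut (A := A) (B := B)) := by
  intro g g' h
  have : g.toAlgHom = g'.toAlgHom := eq_of_point_eq (residue B) fun b =>
    congrFun (congrArg DFunLike.coe h) (residue B b)
  exact AlgEquiv.ext fun b => AlgHom.congr_fun this b

theorem residueAut_surjective : Function.Surjective (residueAut (A := A) (B := B)) := by
  intro σ
  have lift : ∀ τ : ResidueField B ≃ₐ[ResidueField A] ResidueField B,
      ∃ θ : B →ₐ[A] B, ∀ b, residue B (θ b) = τ (residue B b) := fun τ => by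
    obtain ⟨θ, hθ, -⟩ := existsUnique_algHom (R := A) (T := B) (A := B)
      ((τ.toAlgHom.restrictScalars A).comp (IsScalarTower.toAlgHom A B (ResidueField B)))
    exact ⟨θ, hθ⟩
  obtain ⟨f, hf⟩ := lift σ
  obtain ⟨g, hg⟩ := lift σ.symm
  have h₁ : f.comp g = AlgHom.id A B := eq_of_point_eq (residue B) fun b => by
    show residue B (f (g b)) = residue B b
    rw [hf, hg, AlgEquiv.apply_symm_apply]
  have h₂ : g.comp f = AlgHom.id A B := eq_of_point_eq (residue B) fun b => by
    show residue B (g (f b)) = residue B b
    rw [hg, hf, AlgEquiv.symm_apply_apply]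
  refine ⟨AlgEquiv.ofAlgHom f g h₁ h₂, AlgEquiv.ext fun x => ?_⟩
  obtain ⟨b, rfl⟩ := residue_surjective x
  exact hf b

theorem finite_aut : Finite (B ≃ₐ[A] B) := Finite.of_injective _ residueAut_injective

/-- A finite set of automorphisms has an element of trace one. -/
theorem exists_trace_eq_one (H : Subgroup (B ≃ₐ[A] B)) [Fintype H] :
    ∃ c : B, ∑ h : H, h.1 c = 1 := by
  classical
  let χ : H → (ResidueField B →* ResidueField B) := fun h =>
    (residueAut h.1).toAlgHom.toRingHom.toMonoidHom
  have hχ : Function.Injective χ := fun h h' e => Subtype.ext (residueAut_injective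
    (AlgEquiv.ext fun x => DFunLike.congr_fun e x))
  have hli := (linearIndependent_monoidHom (ResidueField B) (ResidueField B)).comp χ hχ
  obtain ⟨x, hx⟩ : ∃ x, ∑ h : H, residueAut h.1 x ≠ 0 := by
    by_contra hne
    push Not at hne
    have h0 := Fintype.linearIndependent_iff.1 hli (fun _ => 1) (funext fun x => by
      simpa [χ, Finset.sum_apply] using hne x) 1
    exact one_ne_zero h0
  obtain ⟨b, rfl⟩ := residue_surjective x
  have hu : IsUnit (∑ h : H, h.1 b) := by
    rw [← residue_ne_zero_iff_isUnit, map_sum]
    exact hx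
  refine ⟨↑hu.unit⁻¹ * b, ?_⟩
  have hfix : ∀ h : H, h.1 (↑hu.unit⁻¹ : B) = ↑hu.unit⁻¹ := fun h => by
    have hs : h.1 (∑ h' : H, h'.1 b) = ∑ h' : H, h'.1 b := by
      rw [map_sum]
      exact Fintype.sum_equiv (Equiv.mulLeft h) _ _ fun h' => rfl
    have h1 : h.1 (∑ h' : H, h'.1 b) * h.1 (↑hu.unit⁻¹ : B) = 1 := by
      rw [← map_mul, hu.mul_val_inv, map_one]
    rw [hs] at h1
    exact (hu.mul_left_cancel (h1.trans hu.mul_val_inv.symm))
  simp only [map_mul, hfix, ← Finset.mul_sum]
  exact hu.val_inv_mul

/-- The trace over a subgroup is fixed by it. -/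
theorem apply_trace (H : Subgroup (B ≃ₐ[A] B)) [Fintype H] (h : H) (b : B) :
    h.1 (∑ h' : H, h'.1 b) = ∑ h' : H, h'.1 b := by
  rw [map_sum]
  exact Fintype.sum_equiv (Equiv.mulLeft h) _ _ fun h' => rfl

/-- The invariants of all automorphisms are the base. -/
theorem isInvariant_aut [IsNoetherianRing A] [IsGalois (ResidueField A) (ResidueField B)] :
    Algebra.IsInvariant A B (B ≃ₐ[A] B) := by
  classical
  haveI := finite_aut (A := A) (B := B)
  haveI := Fintype.ofFinite (⊤ : Subgroup (B ≃ₐ[A] B))
  obtain ⟨c, hc⟩ := exists_trace_eq_one (A := A) (B := B) ⊤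
  let M : Submodule A B :=
    { carrier := {y | ∀ g : B ≃ₐ[A] B, g y = y}
      add_mem' := fun hx hy g => by rw [map_add, hx g, hy g]
      zero_mem' := fun g => map_zero g
      smul_mem' := fun a x hx g => by rw [map_smul, hx g] }
  let tr : B →ₗ[A] B := ∑ h : (⊤ : Subgroup (B ≃ₐ[A] B)), h.1.toLinearMap.comp (LinearMap.mulLeft A c)
  have htr_apply : ∀ y, tr y = ∑ h : (⊤ : Subgroup (B ≃ₐ[A] B)), h.1 (c * y) := fun y => by
    simp [tr]
  have htr_mem : ∀ y, tr y ∈ M := fun y g => by
    rw [htr_apply]
    exact apply_trace ⊤ ⟨g, Subgroup.mem_top g⟩ (c * y)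
  have htr_fix : ∀ y ∈ M, tr y = y := fun y hy => by
    rw [htr_apply]
    simp only [map_mul]
    rw [Finset.sum_congr rfl (fun h _ => by rw [hy h.1] :
      ∀ h ∈ (Finset.univ : Finset (⊤ : Subgroup (B ≃ₐ[A] B))), h.1 c * h.1 y = h.1 c * y),
      ← Finset.sum_mul, hc, one_mul]
  have hM : M ≤ Submodule.span A {(1 : B)} := by
    refine Submodule.le_of_le_smul_of_le_jacobson_bot (IsNoetherian.noetherian M)
      (maximalIdeal_le_jacobson ⊥) fun y hy => ?_
    have hres : residue B y ∈ (⊥ : IntermediateField (ResidueField A) (ResidueField B)) := by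
      rw [IsGalois.mem_bot_iff_fixed]
      intro σ
      obtain ⟨g, rfl⟩ := residueAut_surjective σ
      rw [residueAut_residue, hy g]
    obtain ⟨a₀, ha₀⟩ := IntermediateField.mem_bot.1 hres
    obtain ⟨a, rfl⟩ := residue_surjective a₀
    have hya : y - algebraMap A B a ∈ (maximalIdeal A).map (algebraMap A B) := by
      rw [map_maximalIdeal_eq_of_etale B, ← residue_eq_zero_iff, map_sub, sub_eq_zero, ← ha₀]
      rfl
    have h1 : (algebraMap A B a) ∈ Submodule.span A {(1 : B)} :=
      Submodule.mem_span_singleton.2 ⟨a, (Algebra.algebraMap_eq_smul_one a).symm⟩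
    have h2 : tr (y - algebraMap A B a) ∈ maximalIdeal A • M := by
      have h3 : y - algebraMap A B a ∈ maximalIdeal A • (⊤ : Submodule A B) := by
        rw [Ideal.smul_top_eq_map]; exact hya
      refine Submodule.smul_mono le_rfl (Submodule.map_le_iff_le_comap.2 fun z _ => htr_mem z :
        Submodule.map tr ⊤ ≤ M) ?_
      rw [← Submodule.map_smul'']
      exact Submodule.mem_map_of_mem h3
    rw [htr_fix _ (Submodule.sub_mem M hy fun g => g.commutes a)] at h2
    rw [show y = algebraMap A B a + (y - algebraMap A B a) by abel]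
    exact Submodule.add_mem_sup h1 h2
  refine ⟨fun y hy => ?_⟩
  obtain ⟨a, rfl⟩ := Submodule.mem_span_singleton.1 (hM (show y ∈ M from fun g => hy g))
  exact ⟨a, Algebra.algebraMap_eq_smul_one a⟩

end Galois

end Groth.Agent.Hens
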