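import Groth.Agent.Hens.EtLikeBaseChange
import Groth.Agent.RedNorm.Basic
import Groth.Prelude.Def_CAlg2
import Groth.Prelude.Def_Hensel
import Groth.Agent.Milnor.Ramification
import Mathlib.RingTheory.Ideal.GoingDown
import Mathlib.RingTheory.Ideal.MinimalPrime.Localization
import Mathlib.RingTheory.IntegralClosure.Algebra.Basic
import Mathlib.FieldTheory.IsAlgClosed.AlgebraicClosure
import Mathlib.RingTheory.Spectrum.Maximal.Defs
import Mathlib.FieldTheory.PurelyInseparable.Tower

/-!
# Minimal primes of henselizations and maximal ideals of the base change of the normalization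
-/

set_option autoImplicit false
set_option linter.style.haveILetI false
universe u

open IsLocalRing TensorProduct

namespace Groth.Agent.Hens

/-- Minimal primes of a localization, when all minimal primes avoid the multiplicative set. -/
theorem exists_minimalPrimes_localization_equiv {R R' : Type u} [CommRing R] [CommRing R'] [Algebra R R']
    (M : Submonoid R) [IsLocalization M R']
    (h : ∀ P ∈ minimalPrimes R, Disjoint (M : Set R) (P : Set R)) :
    ∃ e : minimalPrimes R' ≃ minimalPrimes R,
      ∀ Q : minimalPrimes R', (e Q).1 = Q.1.comap (algebraMap R R') := by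
  have hcomap : ∀ Q : Ideal R', Q ∈ minimalPrimes R' → Q.comap (algebraMap R R') ∈ minimalPrimes R := by
    intro Q hQ
    haveI := hQ.1.1
    refine ⟨⟨inferInstance, bot_le⟩, fun q hq hle => ?_⟩
    haveI := hq.1
    have hd := ((IsLocalization.isPrime_iff_isPrime_disjoint M R' Q).1 inferInstance).2
    have hdq : Disjoint (M : Set R) (q : Set R) := hd.mono_right hle
    haveI := IsLocalization.isPrime_of_isPrime_disjoint M R' q inferInstance hdq
    have hle' : q.map (algebraMap R R') ≤ Q := Ideal.map_le_iff_le_comap.2 hle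
    have := hQ.2 ⟨inferInstance, bot_le⟩ hle'
    calc Q.comap (algebraMap R R') ≤ (q.map (algebraMap R R')).comap (algebraMap R R') :=
          Ideal.comap_mono this
      _ = q := IsLocalization.comap_map_of_isPrime_disjoint M R' hq.1 hdq
  refine ⟨Equiv.ofBijective (fun Q => ⟨_, hcomap Q.1 Q.2⟩) ⟨fun Q Q' hQQ => ?_, fun P => ?_⟩, fun _ => rfl⟩
  · refine Subtype.ext ?_
    exact (IsLocalization.map_comap M R' Q.1).symm.trans
      ((congrArg (fun P : minimalPrimes R => P.1.map (algebraMap R R')) hQQ).trans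
        (IsLocalization.map_comap M R' Q'.1))
  · haveI := P.2.1.1
    have hd := h P.1 P.2
    haveI := IsLocalization.isPrime_of_isPrime_disjoint M R' P.1 inferInstance hd
    have hc := IsLocalization.comap_map_of_isPrime_disjoint M R' P.2.1.1 hd
    refine ⟨⟨P.1.map (algebraMap R R'), ⟨inferInstance, bot_le⟩, fun Q hQ hle => ?_⟩, Subtype.ext hc⟩
    haveI := hQ.1
    refine Ideal.map_le_iff_le_comap.2 (P.2.2 ⟨inferInstance, bot_le⟩ ?_)
    exact (Ideal.comap_mono hle).trans hc.le

/-- Minimal primes along a surjection with nilpotent kernel. -/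
theorem exists_minimalPrimes_surjective_equiv {R R' : Type u} [CommRing R] [CommRing R'] (f : R →+* R')
    (hf : Function.Surjective f) (hker : RingHom.ker f ≤ nilradical R) :
    ∃ e : minimalPrimes R' ≃ minimalPrimes R, ∀ Q : minimalPrimes R', (e Q).1 = Q.1.comap f := by
  have hker' : ∀ P : Ideal R, P.IsPrime → RingHom.ker f ≤ P := fun P hP =>
    hker.trans ((nilradical_le_prime P))
  have hcomap : ∀ Q : Ideal R', Q ∈ minimalPrimes R' → Q.comap f ∈ minimalPrimes R := by
    intro Q hQ
    haveI := hQ.1.1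
    refine ⟨⟨inferInstance, bot_le⟩, fun q hq hle => ?_⟩
    haveI := hq.1
    haveI := Ideal.map_isPrime_of_surjective hf (hker' q inferInstance)
    have hle' : q.map f ≤ Q := Ideal.map_le_iff_le_comap.2 hle
    calc Q.comap f ≤ (q.map f).comap f := Ideal.comap_mono (hQ.2 ⟨inferInstance, bot_le⟩ hle')
      _ = q := by
        rw [Ideal.comap_map_of_surjective f hf]
        exact sup_eq_left.2 (hker' q inferInstance)
  refine ⟨Equiv.ofBijective (fun Q => ⟨_, hcomap Q.1 Q.2⟩) ⟨fun Q Q' hQQ => ?_, fun P => ?_⟩, fun _ => rfl⟩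
  · exact Subtype.ext (Ideal.comap_injective_of_surjective f hf (congrArg Subtype.val hQQ))
  · haveI := P.2.1.1
    haveI := Ideal.map_isPrime_of_surjective hf (hker' P.1 inferInstance)
    have hc : (P.1.map f).comap f = P.1 := by
      rw [Ideal.comap_map_of_surjective f hf]
      exact sup_eq_left.2 (hker' P.1 inferInstance)
    refine ⟨⟨P.1.map f, ⟨inferInstance, bot_le⟩, fun Q hQ hle => ?_⟩, Subtype.ext hc⟩
    haveI := hQ.1
    refine Ideal.map_le_iff_le_comap.2 (P.2.2 ⟨inferInstance, bot_le⟩ ?_)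
    exact (Ideal.comap_mono hle).trans hc.le

/-- Minimal primes of a flat algebra lie over minimal primes. -/
theorem comap_mem_minimalPrimes_of_flat {R T : Type u} [CommRing R] [CommRing T] [Algebra R T]
    [Module.Flat R T] {P : Ideal T} (hP : P ∈ minimalPrimes T) :
    P.comap (algebraMap R T) ∈ minimalPrimes R := by
  haveI := hP.1.1
  refine ⟨⟨inferInstance, bot_le⟩, fun q hq hle => ?_⟩
  haveI := hq.1
  haveI : P.LiesOver (P.comap (algebraMap R T)) := ⟨rfl⟩
  obtain ⟨Q, hQle, hQp, hQq⟩ := Ideal.exists_ideal_le_liesOver_of_le P hle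
  exact (Ideal.comap_mono (hP.2 ⟨hQp, bot_le⟩ hQle)).trans hQq.over.ge

/-- A domain integral over a henselian local ring is local. -/
theorem isLocalRing_of_integral_domain (R T : Type u) [CommRing R] [HenselianLocalRing R]
    [CommRing T] [IsDomain T] [Algebra R T] [Algebra.IsIntegral R T] : IsLocalRing T := by
  refine IsLocalRing.of_isUnit_or_isUnit_one_sub_self fun x => ?_
  let X := Algebra.adjoin R ({x} : Set T)
  haveI : Module.Finite R X := ⟨(Submodule.fg_top _).2
    ((Algebra.IsIntegral.isIntegral x).fg_adjoin_singleton)⟩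
  haveI : IsLocalRing X := Groth.Agent.Milnor.isLocalRing_of_finite_domain R X
  rcases IsLocalRing.isUnit_or_isUnit_one_sub_self (⟨x, Algebra.self_mem_adjoin_singleton R x⟩ : X)
    with h | h
  · exact Or.inl (h.map X.val)
  · exact Or.inr (h.map X.val)

/-- In a ring integral over a henselian local ring whose local rings are domains, minimal primes and
maximal ideals correspond. -/
theorem exists_minimalPrimes_maximalSpectrum_equiv (R T : Type u) [CommRing R] [HenselianLocalRing R]
    [CommRing T] [Algebra R T] [Algebra.IsIntegral R T]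
    (hdom : ∀ M : MaximalSpectrum T, IsDomain (Localization.AtPrime M.asIdeal)) :
    ∃ e : minimalPrimes T ≃ MaximalSpectrum T, ∀ P : minimalPrimes T, P.1 ≤ (e P).asIdeal := by
  have hloc : ∀ P : minimalPrimes T, ∃! M : MaximalSpectrum T, P.1 ≤ M.asIdeal := by
    intro P
    haveI := P.2.1.1
    haveI := isLocalRing_of_integral_domain R (T ⧸ P.1)
    obtain ⟨M, hM, hPM⟩ := P.1.exists_le_maximal P.2.1.1.ne_top
    have key : ∀ N : MaximalSpectrum T, P.1 ≤ N.asIdeal →
        N.asIdeal = (maximalIdeal (T ⧸ P.1)).comap (Ideal.Quotient.mk P.1) := by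
      intro N hN
      haveI := N.isMaximal
      haveI : (N.asIdeal.map (Ideal.Quotient.mk P.1)).IsMaximal :=
        Ideal.IsMaximal.map_of_surjective_of_ker_le Ideal.Quotient.mk_surjective
          (by rw [Ideal.mk_ker]; exact hN)
      rw [← eq_maximalIdeal this, Ideal.comap_map_of_surjective _ Ideal.Quotient.mk_surjective,
        ← RingHom.ker_eq_comap_bot, Ideal.mk_ker]
      exact (sup_eq_left.2 hN).symm
    exact ⟨⟨M, hM⟩, hPM, fun N hN => MaximalSpectrum.ext ((key N hN).trans (key ⟨M, hM⟩ hPM).symm)⟩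
  choose f hf huniq using hloc
  refine ⟨Equiv.ofBijective f ⟨fun P P' hPP => ?_, fun M => ?_⟩, hf⟩
  · have hP := hf P
    have hP' : P'.1 ≤ (f P).asIdeal := hPP ▸ hf P'
    haveI := hdom (f P)
    have key : ∀ Q : minimalPrimes T, Q.1 ≤ (f P).asIdeal →
        Q.1 = (⊥ : Ideal (Localization.AtPrime (f P).asIdeal)).comap (algebraMap T _) := by
      intro Q hQ
      haveI := Q.2.1.1
      have hd : Disjoint ((f P).asIdeal.primeCompl : Set T) (Q.1 : Set T) :=
        Set.disjoint_left.2 fun x hx hxQ => hx (hQ hxQ)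
      have hle : (⊥ : Ideal (Localization.AtPrime (f P).asIdeal)).comap (algebraMap T _) ≤ Q.1 :=
        (Ideal.comap_mono (bot_le : ⊥ ≤ Q.1.map (algebraMap T (Localization.AtPrime (f P).asIdeal)))).trans
          (IsLocalization.comap_map_of_isPrime_disjoint (f P).asIdeal.primeCompl
            (Localization.AtPrime (f P).asIdeal) Q.2.1.1 hd).le
      exact le_antisymm (Q.2.2 ⟨Ideal.comap_isPrime _ _, bot_le⟩ hle) hle
    exact Subtype.ext ((key P hP).trans (key P' hP').symm)
  · haveI := M.isMaximal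
    obtain ⟨P, hP, hPM⟩ := Ideal.exists_minimalPrimes_le (bot_le : (⊥ : Ideal T) ≤ M.asIdeal)
    exact ⟨⟨P, hP⟩, (huniq ⟨P, hP⟩ M hPM).symm⟩

/-- Tensoring a localization inside a bigger algebra with a flat algebra. -/
theorem exists_minimalPrimes_tensor_equiv {A S B K : Type u} [CommRing A] [CommRing S] [Algebra A S]
    [Module.Flat A S] [CommRing B] [Algebra A B] [CommRing K] [Algebra A K] [Algebra B K]
    [IsScalarTower A B K] (M : Submonoid B) [IsLocalization M K]
    (hinj : Function.Injective (algebraMap B K)) :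
    ∃ e : minimalPrimes (K ⊗[A] S) ≃ minimalPrimes (B ⊗[A] S), ∀ Q : minimalPrimes (K ⊗[A] S),
      (e Q).1 = Q.1.comap (Algebra.TensorProduct.map (IsScalarTower.toAlgHom A B K) (AlgHom.id A S)) := by
  let f := Algebra.TensorProduct.map (IsScalarTower.toAlgHom A B K) (AlgHom.id A S)
  letI := f.toRingHom.toAlgebra
  let M' := M.map (algebraMap B (B ⊗[A] S))
  have hfinj : Function.Injective f :=
    Module.Flat.rTensor_preserves_injective_linearMap (M := S) (IsScalarTower.toAlgHom A B K).toLinearMap hinj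
  haveI : IsLocalization M' (K ⊗[A] S) := by
    refine (isLocalization_iff _ _).mpr ⟨?_, ?_, ?_⟩
    · rintro ⟨_, m, hm, rfl⟩
      show IsUnit (f (m ⊗ₜ (1 : S)))
      rw [Algebra.TensorProduct.map_tmul, map_one]
      exact (IsLocalization.map_units (M := M) K ⟨m, hm⟩).map
        (Algebra.TensorProduct.includeLeft : K →ₐ[A] K ⊗[A] S)
    · intro z
      induction z using TensorProduct.induction_on with
      | zero => exact ⟨(0, 1), by simp⟩
      | tmul k t =>
        obtain ⟨⟨b, m⟩, hbm⟩ := IsLocalization.surj M k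
        refine ⟨(b ⊗ₜ t, ⟨_, Submonoid.mem_map_of_mem _ m.2⟩), ?_⟩
        show k ⊗ₜ t * f ((m : B) ⊗ₜ (1 : S)) = f (b ⊗ₜ t)
        rw [Algebra.TensorProduct.map_tmul, Algebra.TensorProduct.map_tmul,
          Algebra.TensorProduct.tmul_mul_tmul, map_one, mul_one]
        exact congrArg (· ⊗ₜ[A] t) hbm
      | add x y hx hy =>
        obtain ⟨⟨a, m⟩, hx⟩ := hx
        obtain ⟨⟨b, n⟩, hy⟩ := hy
        refine ⟨(a * (n : B ⊗[A] S) + b * (m : B ⊗[A] S), m * n), ?_⟩
        simp only [map_add, map_mul, Submonoid.coe_mul] at *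
        linear_combination algebraMap (B ⊗[A] S) (K ⊗[A] S) n * hx + algebraMap (B ⊗[A] S) (K ⊗[A] S) m * hy
    · intro x y hxy
      exact ⟨1, by rw [hfinj hxy]⟩
  refine exists_minimalPrimes_localization_equiv M' fun P hP => Set.disjoint_left.2 ?_
  rintro _ ⟨m, hm, rfl⟩ hmP
  have h0 := comap_mem_minimalPrimes_of_flat (R := B) hP
  refine notMem_nonZeroDivisors_of_mem_mem_minimalPrimes (show m ∈ P.comap _ from hmP) h0 ?_
  rw [mem_nonZeroDivisors_iff_right]
  intro b hb
  apply hinj
  rw [map_zero]
  refine (IsLocalization.map_units (M := M) K ⟨m, hm⟩).mul_left_injective ?_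
  simp only [zero_mul]
  rw [← map_mul, hb, map_zero]

section Count

variable {A S N : Type u} [CommRing A] [IsLocalRing A] [CommRing S] [IsLocalRing S] [Algebra A S]
  [IsLocalHom (algebraMap A S)] [CommRing N] [Algebra A N] [Algebra.IsIntegral A N]

theorem isIntegral_rightAlgebra :
    @Algebra.IsIntegral S (N ⊗[A] S) _ _ Algebra.TensorProduct.rightAlgebra := by
  letI : Algebra S (N ⊗[A] S) := Algebra.TensorProduct.rightAlgebra
  refine ⟨fun x => ?_⟩
  induction x with
  | zero => exact isIntegral_zero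
  | add x y hx hy => exact hx.add hy
  | tmul n t =>
    rw [show (n ⊗ₜ[A] t : N ⊗[A] S) = (n ⊗ₜ[A] (1 : S)) * algebraMap S (N ⊗[A] S) t from by
      show _ = (n ⊗ₜ[A] (1 : S)) * ((1 : N) ⊗ₜ[A] t)
      simp]
    exact IsIntegral.mul ((Algebra.IsIntegral.isIntegral (R := A) n).map
      (Algebra.TensorProduct.includeLeft : N →ₐ[A] N ⊗[A] S)).tower_top isIntegral_algebraMap

theorem comap_eq_maximalIdeal_of_isMaximal (M : Ideal (N ⊗[A] S)) [M.IsMaximal] :
    M.comap (Algebra.TensorProduct.includeRight : S →ₐ[A] N ⊗[A] S).toRingHom = maximalIdeal S := by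
  letI : Algebra S (N ⊗[A] S) := Algebra.TensorProduct.rightAlgebra
  haveI := isIntegral_rightAlgebra (A := A) (S := S) (N := N)
  exact IsLocalRing.eq_maximalIdeal (Ideal.isMaximal_comap_of_isIntegral_of_isMaximal (R := S) M)

theorem isMaximal_comap_tensor (M : Ideal (N ⊗[A] S)) [M.IsMaximal] :
    (M.comap (algebraMap N (N ⊗[A] S))).IsMaximal := by
  refine Ideal.isMaximal_of_isIntegral_of_isMaximal_comap (R := A) _ ?_
  convert maximalIdeal.isMaximal A
  rw [Ideal.comap_comap, ← IsScalarTower.algebraMap_eq,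
    ← (Algebra.TensorProduct.includeRight : S →ₐ[A] N ⊗[A] S).comp_algebraMap]
  rw [← Ideal.comap_comap]
  erw [comap_eq_maximalIdeal_of_isMaximal M]
  ext a
  simp only [Ideal.mem_comap, mem_maximalIdeal, mem_nonunits_iff]
  exact not_congr (isUnit_map_iff _ a)

/-- Residue-trivial case: maximal ideals of `N ⊗ S` are those of `N`. -/
theorem exists_maximalSpectrum_tensor_equiv
    (hres : Function.Bijective (ResidueField.map (algebraMap A S))) :
    ∃ e : MaximalSpectrum (N ⊗[A] S) ≃ MaximalSpectrum N,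
      ∀ M, (e M).asIdeal = M.asIdeal.comap (algebraMap N (N ⊗[A] S)) := by
  have happ : ∀ x : N ⊗[A] S, ∃ n : N, ∀ M : Ideal (N ⊗[A] S), M.IsMaximal → x - n ⊗ₜ 1 ∈ M := by
    intro x
    induction x with
    | zero => exact ⟨0, fun M _ => by simp⟩
    | add x y hx hy =>
      obtain ⟨n, hn⟩ := hx
      obtain ⟨n', hn'⟩ := hy
      refine ⟨n + n', fun M hM => ?_⟩
      rw [TensorProduct.add_tmul, add_sub_add_comm]
      exact Ideal.add_mem _ (hn M hM) (hn' M hM)
    | tmul n t =>
      obtain ⟨z, hz⟩ := hres.2 (residue S t)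
      obtain ⟨a, rfl⟩ := residue_surjective z
      refine ⟨a • n, fun M hM => ?_⟩
      rw [TensorProduct.smul_tmul, ← TensorProduct.tmul_sub,
        show n ⊗ₜ[A] (t - a • (1 : S)) = (n ⊗ₜ[A] (1 : S)) * ((1 : N) ⊗ₜ[A] (t - a • (1 : S))) by simp]
      refine Ideal.mul_mem_left _ _ ?_
      have ht : t - a • (1 : S) ∈ maximalIdeal S := by
        rw [← residue_eq_zero_iff, map_sub, ← Algebra.algebraMap_eq_smul_one, sub_eq_zero]
        exact hz.symm
      haveI := hM
      rw [← comap_eq_maximalIdeal_of_isMaximal M] at ht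
      exact ht
  refine ⟨Equiv.ofBijective (fun M => ⟨_, haveI := M.isMaximal; isMaximal_comap_tensor M.asIdeal⟩)
    ⟨fun M M' hMM => ?_, fun m => ?_⟩, fun _ => rfl⟩
  · have hc : M.asIdeal.comap (algebraMap N (N ⊗[A] S)) = M'.asIdeal.comap (algebraMap N (N ⊗[A] S)) :=
      congrArg MaximalSpectrum.asIdeal hMM
    refine MaximalSpectrum.ext (Ideal.ext fun x => ?_)
    obtain ⟨n, hn⟩ := happ x
    have h1 := hn _ M.isMaximal
    have h2 := hn _ M'.isMaximal
    have h3 : n ⊗ₜ[A] (1 : S) ∈ M.asIdeal ↔ n ⊗ₜ[A] (1 : S) ∈ M'.asIdeal := SetLike.ext_iff.1 hc n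
    rw [show x = (x - n ⊗ₜ 1) + n ⊗ₜ 1 from (sub_add_cancel _ _).symm,
      M.asIdeal.add_mem_iff_right h1, M'.asIdeal.add_mem_iff_right h2, h3]
  · haveI := m.isMaximal
    have hm : (m.asIdeal.comap (algebraMap A N)) = maximalIdeal A :=
      eq_maximalIdeal (Ideal.isMaximal_comap_of_isIntegral_of_isMaximal m.asIdeal)
    let α : ResidueField A →+* N ⧸ m.asIdeal :=
      Ideal.Quotient.lift (maximalIdeal A) ((Ideal.Quotient.mk m.asIdeal).comp (algebraMap A N))
        fun a ha => Ideal.Quotient.eq_zero_iff_mem.2 (by rw [← Ideal.mem_comap, hm]; exact ha)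
    let e := (RingEquiv.ofBijective _ hres).symm
    let β : S →ₐ[A] N ⧸ m.asIdeal :=
      { (α.comp e.toRingHom).comp (residue S) with
        commutes' := fun a => by
          show α (e (ResidueField.map (algebraMap A S) (residue A a))) = _
          erw [(RingEquiv.ofBijective _ hres).symm_apply_apply (residue A a)]
          rfl }
    let φ := Algebra.TensorProduct.lift (Ideal.Quotient.mkₐ A m.asIdeal) β fun _ _ => Commute.all _ _
    have hφ : Function.Surjective φ := fun z => by
      obtain ⟨n, rfl⟩ := Ideal.Quotient.mk_surjective z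
      exact ⟨n ⊗ₜ 1, by simp [φ]⟩
    letI := Ideal.Quotient.field m.asIdeal
    refine ⟨⟨RingHom.ker φ.toRingHom, RingHom.ker_isMaximal_of_surjective _ hφ⟩,
      MaximalSpectrum.ext ?_⟩
    ext n
    show φ (n ⊗ₜ 1) = 0 ↔ n ∈ m.asIdeal
    rw [Algebra.TensorProduct.lift_tmul, map_one, mul_one]
    exact Ideal.Quotient.eq_zero_iff_mem

/-- Geometric case: maximal ideals of `N ⊗ S` are maximal ideals of `N` with an embedding of their
residue fields into an algebraic closure. -/
theorem exists_sigma_emb_equiv [IsSepClosure (ResidueField A) (ResidueField S)] :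
    Nonempty ((Σ m : MaximalSpectrum N, {σ : N ⧸ m.asIdeal →+* AlgebraicClosure (ResidueField A) //
      σ.comp ((Ideal.Quotient.mk m.asIdeal).comp (algebraMap A N)) =
        (algebraMap (ResidueField A) (AlgebraicClosure (ResidueField A))).comp (residue A)}) ≃
      MaximalSpectrum (N ⊗[A] S)) := by
  let Ω := AlgebraicClosure (ResidueField A)
  haveI : IsSepClosed (ResidueField S) := IsSepClosure.sep_closed (ResidueField A)
  haveI : Algebra.IsSeparable (ResidueField A) (ResidueField S) := IsSepClosure.separable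
  let j : ResidueField S →ₐ[ResidueField A] Ω := IsAlgClosed.lift
  let jS : S →+* Ω := j.toRingHom.comp (residue S)
  have hjS : ∀ a, jS (algebraMap A S a) = algebraMap (ResidueField A) Ω (residue A a) := fun a =>
    j.commutes (residue A a)
  letI : Algebra A Ω := ((algebraMap (ResidueField A) Ω).comp (residue A)).toAlgebra
  let jA : S →ₐ[A] Ω := { jS with commutes' := hjS }
  let g : ∀ x : (Σ m : MaximalSpectrum N, {σ : N ⧸ m.asIdeal →+* Ω //
      σ.comp ((Ideal.Quotient.mk m.asIdeal).comp (algebraMap A N)) =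
        (algebraMap (ResidueField A) Ω).comp (residue A)}), N ⊗[A] S →ₐ[A] Ω := fun x =>
    Algebra.TensorProduct.lift
      { (x.2.1.comp (Ideal.Quotient.mk x.1.asIdeal)) with
        commutes' := fun a => RingHom.congr_fun x.2.2 a }
      jA fun _ _ => Commute.all _ _
  have hgN : ∀ x n, g x (n ⊗ₜ (1 : S)) = x.2.1 (Ideal.Quotient.mk x.1.asIdeal n) := fun x n => by
    rw [Algebra.TensorProduct.lift_tmul, map_one, mul_one]
    rfl
  have hgS : ∀ x t, g x ((1 : N) ⊗ₜ t) = jS t := fun x t => by
    rw [Algebra.TensorProduct.lift_tmul, map_one, one_mul]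
    rfl
  letI : Algebra S (N ⊗[A] S) := Algebra.TensorProduct.rightAlgebra
  haveI := isIntegral_rightAlgebra (A := A) (S := S) (N := N)
  have hker : ∀ x, (RingHom.ker (g x).toRingHom).IsMaximal := fun x => by
    haveI := RingHom.ker_isPrime (g x).toRingHom
    refine Ideal.isMaximal_of_isIntegral_of_isMaximal_comap (R := S) _ ?_
    convert maximalIdeal.isMaximal S
    refine Ideal.ext fun t => ?_
    show g x ((1 : N) ⊗ₜ t) = 0 ↔ _
    rw [hgS, ← residue_eq_zero_iff]
    exact map_eq_zero j.toRingHom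
  refine ⟨Equiv.ofBijective (fun x => ⟨_, hker x⟩) ⟨fun x y hxy => ?_, fun M => ?_⟩⟩
  · have hk : RingHom.ker (g x).toRingHom = RingHom.ker (g y).toRingHom :=
      congrArg MaximalSpectrum.asIdeal hxy
    have hm : x.1 = y.1 := MaximalSpectrum.ext (Ideal.ext fun n => by
      have h1 := SetLike.ext_iff.1 hk (n ⊗ₜ (1 : S))
      change g x _ = 0 ↔ g y _ = 0 at h1
      letI := Ideal.Quotient.field x.1.asIdeal
      letI := Ideal.Quotient.field y.1.asIdeal
      rw [hgN, hgN, map_eq_zero_iff _ x.2.1.injective, map_eq_zero_iff _ y.2.1.injective,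
        Ideal.Quotient.eq_zero_iff_mem, Ideal.Quotient.eq_zero_iff_mem] at h1
      exact h1)
    have hgg : g x = g y := by
      haveI := hker x
      let P := RingHom.ker (g x).toRingHom
      letI := Ideal.Quotient.field P
      let F := (N ⊗[A] S) ⧸ P
      let αS : ResidueField S →+* F :=
        Ideal.Quotient.lift (maximalIdeal S) ((Ideal.Quotient.mk P).comp (algebraMap S (N ⊗[A] S)))
          fun t ht => Ideal.Quotient.eq_zero_iff_mem.2 (by
            show g x ((1 : N) ⊗ₜ t) = 0
            rw [hgS]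
            show j (residue S t) = 0
            rw [(residue_eq_zero_iff t).2 ht, map_zero])
      letI : Algebra (ResidueField S) F := αS.toAlgebra
      haveI : Algebra.IsAlgebraic (ResidueField S) F := ⟨fun z => by
        obtain ⟨w, rfl⟩ := Ideal.Quotient.mk_surjective z
        obtain ⟨p, hp, hp0⟩ := Algebra.IsIntegral.isIntegral (R := S) w
        refine ⟨p.map (residue S), (hp.map _).ne_zero, ?_⟩
        rw [Polynomial.aeval_def, Polynomial.eval₂_map]
        have := congrArg (Ideal.Quotient.mk P) hp0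
        rw [map_zero, Polynomial.hom_eval₂] at this
        exact this⟩
      haveI : IsPurelyInseparable (ResidueField S) F :=
        separableClosure.eq_bot_iff.1 (IntermediateField.eq_bot_of_isSepClosed_of_isSeparable _)
      let fx : F →+* Ω := Ideal.Quotient.lift P (g x).toRingHom fun w hw => hw
      let fy : F →+* Ω := Ideal.Quotient.lift P (g y).toRingHom fun w hw => (hk ▸ hw : w ∈ RingHom.ker (g y).toRingHom)
      have hf : fx = fy := by
        refine IsPurelyInseparable.injective_comp_algebraMap (ResidueField S) F Ω ?_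
        refine RingHom.ext fun z => ?_
        obtain ⟨t, rfl⟩ := residue_surjective z
        show g x ((1 : N) ⊗ₜ t) = g y ((1 : N) ⊗ₜ t)
        rw [hgS, hgS]
      exact AlgHom.ext fun w => RingHom.congr_fun hf (Ideal.Quotient.mk P w)
    obtain ⟨m, σ⟩ := x
    obtain ⟨m', σ'⟩ := y
    obtain rfl : m = m' := hm
    congr 1
    refine Subtype.ext (RingHom.ext fun z => ?_)
    obtain ⟨n, rfl⟩ := Ideal.Quotient.mk_surjective z
    rw [← hgN ⟨m, σ⟩, ← hgN ⟨m, σ'⟩, hgg]
  · haveI := M.isMaximal
    letI := Ideal.Quotient.field M.asIdeal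
    let F := (N ⊗[A] S) ⧸ M.asIdeal
    let αS : ResidueField S →+* F :=
      Ideal.Quotient.lift (maximalIdeal S) ((Ideal.Quotient.mk M.asIdeal).comp (algebraMap S (N ⊗[A] S)))
        fun t ht => Ideal.Quotient.eq_zero_iff_mem.2 (by
          rw [← comap_eq_maximalIdeal_of_isMaximal M.asIdeal] at ht
          exact ht)
    letI : Algebra (ResidueField S) F := αS.toAlgebra
    haveI : Algebra.IsAlgebraic (ResidueField S) F := ⟨fun z => by
      obtain ⟨w, rfl⟩ := Ideal.Quotient.mk_surjective z
      obtain ⟨p, hp, hp0⟩ := Algebra.IsIntegral.isIntegral (R := S) w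
      refine ⟨p.map (residue S), (hp.map _).ne_zero, ?_⟩
      rw [Polynomial.aeval_def, Polynomial.eval₂_map]
      have := congrArg (Ideal.Quotient.mk M.asIdeal) hp0
      rw [map_zero, Polynomial.hom_eval₂] at this
      exact this⟩
    letI : Algebra (ResidueField S) Ω := j.toRingHom.toAlgebra
    let e : F →ₐ[ResidueField S] Ω := IsAlgClosed.lift
    let h : N ⊗[A] S →+* Ω := e.toRingHom.comp (Ideal.Quotient.mk M.asIdeal)
    have hhS : ∀ t, h ((1 : N) ⊗ₜ t) = jS t := fun t => e.commutes (residue S t)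
    let m : MaximalSpectrum N := ⟨_, isMaximal_comap_tensor M.asIdeal⟩
    let σ : N ⧸ m.asIdeal →+* Ω :=
      Ideal.Quotient.lift m.asIdeal (h.comp (algebraMap N (N ⊗[A] S))) fun n hn => by
        show e (Ideal.Quotient.mk M.asIdeal (algebraMap N (N ⊗[A] S) n)) = 0
        rw [show Ideal.Quotient.mk M.asIdeal (algebraMap N (N ⊗[A] S) n) = 0 from
          Ideal.Quotient.eq_zero_iff_mem.2 hn, map_zero]
    have hσ : σ.comp ((Ideal.Quotient.mk m.asIdeal).comp (algebraMap A N)) =
        (algebraMap (ResidueField A) Ω).comp (residue A) := RingHom.ext fun a => by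
      show h (algebraMap A N a ⊗ₜ (1 : S)) = algebraMap (ResidueField A) Ω (residue A a)
      rw [Algebra.TensorProduct.tmul_one_eq_one_tmul, hhS, hjS]
    refine ⟨⟨m, σ, hσ⟩, MaximalSpectrum.ext ?_⟩
    have hgh : ∀ w, g ⟨m, σ, hσ⟩ w = h w := fun w => by
      induction w using TensorProduct.induction_on with
      | zero => simp
      | add v w hv hw => rw [map_add, map_add, hv, hw]
      | tmul n t =>
        rw [show (n ⊗ₜ[A] t) = (n ⊗ₜ[A] (1 : S)) * ((1 : N) ⊗ₜ[A] t) by simp, map_mul, map_mul, hgN, hgS,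
          hhS]
        rfl
    ext w
    show g ⟨m, σ, hσ⟩ w = 0 ↔ w ∈ M.asIdeal
    rw [hgh]
    show e (Ideal.Quotient.mk M.asIdeal w) = 0 ↔ _
    rw [map_eq_zero, Ideal.Quotient.eq_zero_iff_mem]

end Count

/-- Minimal primes of an ind-étale henselian extension are the maximal ideals of the base change of
the normalization. -/
theorem nonempty_minimalPrimes_equiv_maximalSpectrum {A S : Type u} [CommRing A] [IsLocalRing A]
    [CommRing S] [HenselianLocalRing S] [Algebra A S] (h : Hensel.IsEtLike A S)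
    (hfin : (minimalPrimes A).Finite) :
    Nonempty (minimalPrimes S ≃ MaximalSpectrum (CAlg2.normRed A ⊗[A] S)) := by
  haveI := h.flat
  haveI := h.isLocalHom
  haveI : IsReduced (CAlg2.red A) :=
    (Ideal.isRadical_iff_quotient_reduced _).1 (Ideal.radical_isRadical _)
  haveI : Finite ↥(minimalPrimes (CAlg2.red A)) := by
    obtain ⟨e, -⟩ := exists_minimalPrimes_surjective_equiv (Ideal.Quotient.mk (nilradical A))
      Ideal.Quotient.mk_surjective Ideal.mk_ker.le
    haveI := hfin.to_subtype
    exact Finite.of_equiv _ e.symm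
  haveI : Algebra.IsIntegral A (CAlg2.normRed A) := by
    haveI : Algebra.IsIntegral A (CAlg2.red A) := Algebra.IsIntegral.of_finite A _
    exact Algebra.IsIntegral.trans (CAlg2.red A)
  letI : Algebra S (CAlg2.normRed A ⊗[A] S) := Algebra.TensorProduct.rightAlgebra
  haveI := isIntegral_rightAlgebra (A := A) (S := S) (N := CAlg2.normRed A)
  obtain ⟨e₁, -⟩ := exists_minimalPrimes_surjective_equiv
    (Algebra.TensorProduct.includeRight : S →ₐ[A] CAlg2.red A ⊗[A] S).toRingHom (fun z => by
      induction z with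
      | zero => exact ⟨0, map_zero _⟩
      | add x y hx hy =>
        obtain ⟨a, ha⟩ := hx
        obtain ⟨b, hb⟩ := hy
        exact ⟨a + b, by rw [map_add, ha, hb]⟩
      | tmul r t =>
        obtain ⟨a, rfl⟩ := Ideal.Quotient.mk_surjective r
        refine ⟨a • t, ?_⟩
        show (1 : CAlg2.red A) ⊗ₜ[A] (a • t) = _
        rw [← TensorProduct.smul_tmul]
        congr 1
        exact (Algebra.algebraMap_eq_smul_one a).symm) (fun t ht => by
      let ρ : CAlg2.red A ⊗[A] S →ₐ[A] S ⧸ nilradical S :=
        Algebra.TensorProduct.lift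
          (Ideal.Quotient.liftₐ (nilradical A) (Algebra.ofId A (S ⧸ nilradical S)) fun a ha => by
            show Ideal.Quotient.mk (nilradical S) (algebraMap A S a) = 0
            exact Ideal.Quotient.eq_zero_iff_mem.2
              (mem_nilradical.2 ((mem_nilradical.1 ha).map (algebraMap A S))))
          (Ideal.Quotient.mkₐ A (nilradical S)) fun _ _ => Commute.all _ _
      rw [← Ideal.Quotient.eq_zero_iff_mem]
      have h0 := congrArg ρ (show (1 : CAlg2.red A) ⊗ₜ[A] t = 0 from ht)
      rw [Algebra.TensorProduct.lift_tmul, map_one, one_mul, map_zero] at h0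
      exact h0)
  let K := FractionRing (CAlg2.red A)
  obtain ⟨e₂, -⟩ := exists_minimalPrimes_tensor_equiv (A := A) (S := S) (B := CAlg2.red A) (K := K)
    (nonZeroDivisors (CAlg2.red A)) (IsFractionRing.injective _ _)
  haveI : IsLocalization ((nonZeroDivisors (CAlg2.red A)).map (algebraMap (CAlg2.red A) (CAlg2.normRed A))) K := by
    refine (isLocalization_iff _ _).mpr ⟨?_, ?_, ?_⟩
    · rintro ⟨_, r, hr, rfl⟩
      rw [← IsScalarTower.algebraMap_apply]
      exact IsLocalization.map_units K (⟨r, hr⟩ : nonZeroDivisors (CAlg2.red A))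
    · intro z
      obtain ⟨⟨a, r⟩, har⟩ := IsLocalization.surj (nonZeroDivisors (CAlg2.red A)) z
      refine ⟨(algebraMap _ _ a, ⟨_, Submonoid.mem_map_of_mem _ r.2⟩), ?_⟩
      rw [← IsScalarTower.algebraMap_apply, ← IsScalarTower.algebraMap_apply]
      exact har
    · intro x y hxy
      exact ⟨1, by rw [Subtype.ext hxy]⟩
  obtain ⟨e₃, -⟩ := exists_minimalPrimes_tensor_equiv (A := A) (S := S) (B := CAlg2.normRed A) (K := K)
    ((nonZeroDivisors (CAlg2.red A)).map (algebraMap (CAlg2.red A) (CAlg2.normRed A)))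
    Subtype.val_injective
  obtain ⟨e₄, -⟩ := exists_minimalPrimes_maximalSpectrum_equiv S (CAlg2.normRed A ⊗[A] S) fun M => by
    haveI := M.isMaximal
    haveI := isMaximal_comap_tensor (S := S) M.asIdeal
    exact (isDomain_localization_tensor h M.asIdeal
      (RedNorm.isDomain_isIntegrallyClosed_localization (CAlg2.red A) _)).1
  exact ⟨e₁.symm.trans (e₂.symm.trans (e₃.trans e₄))⟩

end Groth.Agent.Hens
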