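import Groth.Agent.Hensel.EtLike
import Groth.Agent.S1235
import Groth.Agent.Hens.BranchCore
import Mathlib.RingTheory.Flat.Stability

/-!
# Ind-étale local extensions: towers, quotients, extended minimal primes
-/

set_option autoImplicit false
set_option linter.style.haveILetI false
universe u

open IsLocalRing TensorProduct

namespace Groth.Agent.Hens

/-- A tower of ind-étale local extensions. -/
theorem isEtLike_tower_top {A H S : Type u} [CommRing A] [IsLocalRing A] [CommRing H] [IsLocalRing H]
    [CommRing S] [IsLocalRing S] [Algebra A H] [Algebra A S] [Algebra H S] [IsScalarTower A H S]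
    (h₁ : Hensel.IsEtLike A H) (h₂ : Hensel.IsEtLike A S) : Hensel.IsEtLike H S := by
  classical
  haveI := h₂.flat
  refine ⟨S1235.flat_of_isEtLike h₁ S, ?_, fun s => ?_⟩
  · rw [← h₁.map_max, Ideal.map_map, ← IsScalarTower.algebraMap_eq, h₂.map_max]
  · obtain ⟨E, _, _, hE, θ, hθ⟩ := h₂.stage s
    let ψ : H ⊗[A] E →ₐ[H] S := Algebra.TensorProduct.lift (Algebra.ofId H S) θ fun _ _ => Commute.all _ _
    refine ⟨H ⊗[A] E, inferInstance, inferInstance, inferInstance, ψ, fun z hz => ?_⟩
    obtain ⟨e, he⟩ := hθ z hz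
    exact ⟨1 ⊗ₜ e, by
      show ψ ((1 : H) ⊗ₜ e) = z
      rw [Algebra.TensorProduct.lift_tmul, map_one, one_mul]
      exact he⟩

/-- Quotients of ind-étale local extensions. -/
theorem isEtLike_quotient {A S : Type u} [CommRing A] [IsLocalRing A] [CommRing S] [IsLocalRing S]
    [Algebra A S] (h : Hensel.IsEtLike A S) (I : Ideal A) [IsLocalRing (A ⧸ I)]
    [IsLocalRing (S ⧸ I.map (algebraMap A S))] :
    Hensel.IsEtLike (A ⧸ I) (S ⧸ I.map (algebraMap A S)) := by
  classical
  haveI := h.flat
  let e := Algebra.TensorProduct.quotIdealMapEquivTensorQuot S I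
  refine ⟨?_, ?_, fun s => ?_⟩
  · let f : (A ⧸ I) ⊗[A] S ≃ₗ[A] S ⧸ I.map (algebraMap A S) :=
      (TensorProduct.comm A _ _).trans (e.symm.toLinearEquiv.restrictScalars A)
    let f' : (A ⧸ I) ⊗[A] S ≃ₗ[A ⧸ I] S ⧸ I.map (algebraMap A S) :=
      { f with
        map_smul' := fun c x => by
          obtain ⟨a, rfl⟩ := Ideal.Quotient.mk_surjective c
          show f (algebraMap A (A ⧸ I) a • x) = algebraMap A (A ⧸ I) a • f x
          rw [algebraMap_smul, algebraMap_smul, map_smul] }
    exact Module.Flat.of_linearEquiv f'.symm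
  · have hA : (maximalIdeal A).map (Ideal.Quotient.mk I) = maximalIdeal (A ⧸ I) := by
      haveI : (maximalIdeal A).map (Ideal.Quotient.mk I) |>.IsMaximal :=
        Ideal.IsMaximal.map_of_surjective_of_ker_le Ideal.Quotient.mk_surjective (by
          rw [Ideal.mk_ker]; exact le_maximalIdeal (Ideal.Quotient.nontrivial_iff.1 inferInstance))
      exact eq_maximalIdeal this
    have hS : (maximalIdeal S).map (Ideal.Quotient.mk (I.map (algebraMap A S))) =
        maximalIdeal (S ⧸ I.map (algebraMap A S)) := by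
      haveI : (maximalIdeal S).map (Ideal.Quotient.mk (I.map (algebraMap A S))) |>.IsMaximal :=
        Ideal.IsMaximal.map_of_surjective_of_ker_le Ideal.Quotient.mk_surjective (by
          rw [Ideal.mk_ker]; exact le_maximalIdeal (Ideal.Quotient.nontrivial_iff.1 inferInstance))
      exact eq_maximalIdeal this
    rw [← hA, ← hS, ← h.map_max, Ideal.map_map, Ideal.map_map]
    rfl
  · choose g hg using fun z : S ⧸ I.map (algebraMap A S) => Ideal.Quotient.mk_surjective z
    obtain ⟨E, _, _, hE, θ, hθ⟩ := h.stage (s.image g)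
    let π : S →ₐ[A] S ⧸ I.map (algebraMap A S) := Ideal.Quotient.mkₐ A _
    let ψ : (A ⧸ I) ⊗[A] E →ₐ[A ⧸ I] S ⧸ I.map (algebraMap A S) :=
      Algebra.TensorProduct.lift (Algebra.ofId _ _) (π.comp θ) fun _ _ => Commute.all _ _
    refine ⟨(A ⧸ I) ⊗[A] E, inferInstance, inferInstance, inferInstance, ψ, fun z hz => ?_⟩
    obtain ⟨e, he⟩ := hθ _ (Finset.mem_image_of_mem g hz)
    exact ⟨1 ⊗ₜ e, by
      show ψ ((1 : A ⧸ I) ⊗ₜ e) = z
      rw [Algebra.TensorProduct.lift_tmul, map_one, one_mul]
      show π (θ e) = z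
      rw [show (θ : E → S) e = g z from he]
      exact hg z⟩

/-- The minimal prime above `P` unique ⇒ it is extended from `P`. -/
theorem forall_eq_map_comap_iff {H S : Type u} [CommRing H] [IsLocalRing H] [CommRing S] [IsLocalRing S]
    [Algebra H S] (h : Hensel.IsEtLike H S) :
    (∀ Q ∈ minimalPrimes S, Q = (Q.comap (algebraMap H S)).map (algebraMap H S)) ↔
      Function.Injective (fun Q : minimalPrimes S => Q.1.comap (algebraMap H S)) := by
  haveI := h.flat
  constructor
  · intro hQ Q Q' hQQ
    exact Subtype.ext ((hQ Q.1 Q.2).trans ((congrArg (Ideal.map (algebraMap H S)) hQQ).trans (hQ Q'.1 Q'.2).symm))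
  · intro hinj Q hQ
    haveI := hQ.1.1
    set P := Q.comap (algebraMap H S)
    refine le_antisymm ?_ Ideal.map_comap_le
    -- the extension of `P` is radical and all primes minimal above it are `Q`
    have hPtop : P.map (algebraMap H S) ≠ ⊤ :=
      ne_top_of_le_ne_top hQ.1.1.ne_top Ideal.map_comap_le
    haveI : Nontrivial (S ⧸ P.map (algebraMap H S)) := Ideal.Quotient.nontrivial_iff.2 hPtop
    haveI : IsLocalRing (S ⧸ P.map (algebraMap H S)) :=
      IsLocalRing.of_surjective' (Ideal.Quotient.mk _) Ideal.Quotient.mk_surjective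
    haveI : Nontrivial (H ⧸ P) := Ideal.Quotient.nontrivial_iff.2 Ideal.IsPrime.ne_top'
    haveI : IsLocalRing (H ⧸ P) :=
      IsLocalRing.of_surjective' (Ideal.Quotient.mk _) Ideal.Quotient.mk_surjective
    haveI : IsReduced (S ⧸ P.map (algebraMap H S)) := (isEtLike_quotient h P).isReduced_iff.1 inferInstance
    have hrad : (P.map (algebraMap H S)).radical = P.map (algebraMap H S) :=
      ((Ideal.isRadical_iff_quotient_reduced _).2 inferInstance).radical
    rw [← hrad, ← Ideal.sInf_minimalPrimes]
    refine le_sInf fun R hR => ?_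
    haveI := hR.1.1
    obtain ⟨R₀, hR₀, hle⟩ := Ideal.exists_minimalPrimes_le (bot_le : (⊥ : Ideal S) ≤ R)
    haveI := hR₀.1.1
    have hPmin : P ∈ minimalPrimes H := comap_mem_minimalPrimes_of_flat hQ
    have hRc : R.comap (algebraMap H S) = P := by
      haveI : R.LiesOver (R.comap (algebraMap H S)) := ⟨rfl⟩
      have hp : P ≤ R.comap (algebraMap H S) := Ideal.map_le_iff_le_comap.1 hR.1.2
      obtain ⟨R', hR'le, hR'p, hR'⟩ := Ideal.exists_ideal_le_liesOver_of_le R hp
      refine le_antisymm ((Ideal.comap_mono (hR.2 ⟨hR'p, ?_⟩ hR'le)).trans hR'.over.ge) hp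
      exact Ideal.map_le_iff_le_comap.2 hR'.over.le
    have h1 : R₀.comap (algebraMap H S) = P := by
      have := (Ideal.comap_mono (f := algebraMap H S) hle).trans hRc.le
      exact le_antisymm this (hPmin.2 ⟨inferInstance, bot_le⟩ this)
    have h2 : R₀ = Q := congrArg Subtype.val (@hinj ⟨R₀, hR₀⟩ ⟨Q, hQ⟩ h1)
    exact h2 ▸ hle

/-- For reduced rings the normalization may be taken without reducing. -/
theorem nonempty_minimalPrimes_equiv_maximalSpectrum_reduced {A S : Type u} [CommRing A] [IsLocalRing A]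
    [IsReduced A] [CommRing S] [HenselianLocalRing S] [Algebra A S] (h : Hensel.IsEtLike A S)
    (hfin : (minimalPrimes A).Finite) :
    Nonempty (minimalPrimes S ≃ MaximalSpectrum (integralClosure A (FractionRing A) ⊗[A] S)) := by
  haveI := h.flat
  haveI := h.isLocalHom
  haveI : Finite ↥(minimalPrimes A) := hfin.to_subtype
  letI : Algebra S (integralClosure A (FractionRing A) ⊗[A] S) := Algebra.TensorProduct.rightAlgebra
  haveI := isIntegral_rightAlgebra (A := A) (S := S) (N := integralClosure A (FractionRing A))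
  obtain ⟨e₁, -⟩ := exists_minimalPrimes_surjective_equiv
    (Algebra.TensorProduct.lid A S).symm.toRingEquiv.toRingHom
    (Algebra.TensorProduct.lid A S).symm.surjective
    (le_of_eq_of_le ((RingHom.injective_iff_ker_eq_bot _).1 (Algebra.TensorProduct.lid A S).symm.injective)
      bot_le)
  obtain ⟨e₂, -⟩ := exists_minimalPrimes_tensor_equiv (A := A) (S := S) (B := A) (K := FractionRing A)
    (nonZeroDivisors A) (IsFractionRing.injective _ _)
  haveI : IsLocalization ((nonZeroDivisors A).map (algebraMap A (integralClosure A (FractionRing A))))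
      (FractionRing A) := by
    refine (isLocalization_iff _ _).mpr ⟨?_, ?_, ?_⟩
    · rintro ⟨_, r, hr, rfl⟩
      rw [← IsScalarTower.algebraMap_apply]
      exact IsLocalization.map_units (FractionRing A) (⟨r, hr⟩ : nonZeroDivisors A)
    · intro z
      obtain ⟨⟨a, r⟩, har⟩ := IsLocalization.surj (nonZeroDivisors A) z
      refine ⟨(algebraMap _ _ a, ⟨_, Submonoid.mem_map_of_mem _ r.2⟩), ?_⟩
      rw [← IsScalarTower.algebraMap_apply, ← IsScalarTower.algebraMap_apply]
      exact har
    · intro x y hxy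
      exact ⟨1, by rw [Subtype.ext hxy]⟩
  obtain ⟨e₃, -⟩ := exists_minimalPrimes_tensor_equiv (A := A) (S := S)
    (B := integralClosure A (FractionRing A)) (K := FractionRing A)
    ((nonZeroDivisors A).map (algebraMap A (integralClosure A (FractionRing A))))
    Subtype.val_injective
  obtain ⟨e₄, -⟩ := exists_minimalPrimes_maximalSpectrum_equiv S
    (integralClosure A (FractionRing A) ⊗[A] S) fun M => by
    haveI := M.isMaximal
    haveI := isMaximal_comap_tensor (S := S) M.asIdeal
    exact (isDomain_localization_tensor h M.asIdeal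
      (RedNorm.isDomain_isIntegrallyClosed_localization A _)).1
  exact ⟨e₁.symm.trans (e₂.symm.trans (e₃.trans e₄))⟩

end Groth.Agent.Hens
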