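import Groth.Agent.Hens.BranchUnibranch
import Groth.Agent.Hens.EtLikeTower
import Groth.Agent.Hens.Construction
import Groth.Agent.Hens.Local
import Groth.Agent.Hensel.Local
import Mathlib.RingTheory.AdicCompletion.LocalRing
import Mathlib.RingTheory.AdicCompletion.AsTensorProduct

/-!
# Minimal primes of completions and branches
-/

set_option autoImplicit false
set_option linter.style.haveILetI false
universe u

open IsLocalRing TensorProduct

namespace Groth.Agent.Hens

/-- Contraction along a flat local map is surjective on minimal primes. -/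
theorem exists_minimalPrime_comap_eq {S T : Type u} [CommRing S] [IsLocalRing S] [CommRing T] [IsLocalRing T]
    [Algebra S T] [Module.Flat S T] [IsLocalHom (algebraMap S T)] {P : Ideal S} (hP : P ∈ minimalPrimes S) :
    ∃ Q ∈ minimalPrimes T, Q.comap (algebraMap S T) = P := by
  haveI : Module.FaithfullyFlat S T := Module.FaithfullyFlat.of_flat_of_isLocalHom
  haveI := hP.1.1
  obtain ⟨⟨Q', hQ'⟩, hQ'P⟩ := PrimeSpectrum.comap_surjective_of_faithfullyFlat (A := S) (B := T) ⟨P, inferInstance⟩
  obtain ⟨Q, hQ, hle⟩ := Ideal.exists_minimalPrimes_le (bot_le : (⊥ : Ideal T) ≤ Q')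
  haveI := hQ.1.1
  have h := (Ideal.comap_mono hle).trans (congrArg PrimeSpectrum.asIdeal hQ'P).le
  exact ⟨Q, hQ, le_antisymm h (hP.2 ⟨inferInstance, bot_le⟩ h)⟩

/-- A flat local map does not decrease the number of minimal primes. -/
theorem card_minimalPrimes_le {S T : Type u} [CommRing S] [IsLocalRing S] [CommRing T] [IsLocalRing T]
    [Algebra S T] [Module.Flat S T] [IsLocalHom (algebraMap S T)] :
    ENat.card (minimalPrimes S) ≤ ENat.card (minimalPrimes T) :=
  have hsurj : Function.Surjective (fun Q : minimalPrimes T =>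
      (⟨_, comap_mem_minimalPrimes_of_flat Q.2⟩ : minimalPrimes S)) := fun P => by
    obtain ⟨Q, hQ, hQP⟩ := exists_minimalPrime_comap_eq (T := T) P.2
    exact ⟨⟨Q, hQ⟩, Subtype.ext hQP⟩
  ENat.card_le_card_of_injective (Function.injective_surjInv hsurj)

/-- Minimal primes of a flat henselian extension over which the normalization stays locally domains. -/
theorem nonempty_minimalPrimes_equiv_of_domain {A T : Type u} [CommRing A] [IsLocalRing A]
    [CommRing T] [HenselianLocalRing T] [Algebra A T] [Module.Flat A T] [IsLocalHom (algebraMap A T)]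
    (hdom : ∀ M : Ideal (CAlg2.normRed A ⊗[A] T), ∀ _ : M.IsMaximal, IsDomain (Localization.AtPrime M)) :
    Nonempty (minimalPrimes T ≃ MaximalSpectrum (CAlg2.normRed A ⊗[A] T)) := by
  haveI := isIntegral_normRed A
  letI : Algebra T (CAlg2.normRed A ⊗[A] T) := Algebra.TensorProduct.rightAlgebra
  haveI := isIntegral_rightAlgebra (A := A) (S := T) (N := CAlg2.normRed A)
  obtain ⟨e₁, -⟩ := exists_minimalPrimes_surjective_equiv
    (Algebra.TensorProduct.includeRight : T →ₐ[A] CAlg2.red A ⊗[A] T).toRingHom (fun z => by
      induction z with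
      | zero => exact ⟨0, map_zero _⟩
      | add x y hx hy =>
        obtain ⟨a, ha⟩ := hx
        obtain ⟨b, hb⟩ := hy
        exact ⟨a + b, by rw [map_add, ha, hb]⟩
      | tmul r t =>
        obtain ⟨a, rfl⟩ := Ideal.Quotient.mk_surjective r
        refine ⟨a • t, ?_⟩
        show (1 : CAlg2.red A) ⊗ₜ[A] (a • t) = _
        rw [← TensorProduct.smul_tmul]
        congr 1
        exact (Algebra.algebraMap_eq_smul_one a).symm) (fun t ht => by
      let ρ : CAlg2.red A ⊗[A] T →ₐ[A] T ⧸ nilradical T :=
        Algebra.TensorProduct.lift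
          (Ideal.Quotient.liftₐ (nilradical A) (Algebra.ofId A (T ⧸ nilradical T)) fun a ha => by
            show Ideal.Quotient.mk (nilradical T) (algebraMap A T a) = 0
            exact Ideal.Quotient.eq_zero_iff_mem.2
              (mem_nilradical.2 ((mem_nilradical.1 ha).map (algebraMap A T))))
          (Ideal.Quotient.mkₐ A (nilradical T)) fun _ _ => Commute.all _ _
      rw [← Ideal.Quotient.eq_zero_iff_mem]
      have h0 := congrArg ρ (show (1 : CAlg2.red A) ⊗ₜ[A] t = 0 from ht)
      rw [Algebra.TensorProduct.lift_tmul, map_one, one_mul, map_zero] at h0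
      exact h0)
  let K := FractionRing (CAlg2.red A)
  obtain ⟨e₂, -⟩ := exists_minimalPrimes_tensor_equiv (A := A) (S := T) (B := CAlg2.red A) (K := K)
    (nonZeroDivisors (CAlg2.red A)) (IsFractionRing.injective _ _)
  haveI : IsLocalization ((nonZeroDivisors (CAlg2.red A)).map (algebraMap (CAlg2.red A) (CAlg2.normRed A))) K := by
    refine (isLocalization_iff _ _).mpr ⟨?_, ?_, ?_⟩
    · rintro ⟨_, r, hr, rfl⟩
      rw [← IsScalarTower.algebraMap_apply]
      exact IsLocalization.map_units K (⟨r, hr⟩ : nonZeroDivisors (CAlg2.red A))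
    · intro z
      obtain ⟨⟨a, r⟩, har⟩ := IsLocalization.surj (nonZeroDivisors (CAlg2.red A)) z
      refine ⟨(algebraMap _ _ a, ⟨_, Submonoid.mem_map_of_mem _ r.2⟩), ?_⟩
      rw [← IsScalarTower.algebraMap_apply, ← IsScalarTower.algebraMap_apply]
      exact har
    · intro x y hxy
      exact ⟨1, by rw [Subtype.ext hxy]⟩
  obtain ⟨e₃, -⟩ := exists_minimalPrimes_tensor_equiv (A := A) (S := T) (B := CAlg2.normRed A) (K := K)
    ((nonZeroDivisors (CAlg2.red A)).map (algebraMap (CAlg2.red A) (CAlg2.normRed A)))
    Subtype.val_injective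
  obtain ⟨e₄, -⟩ := exists_minimalPrimes_maximalSpectrum_equiv T (CAlg2.normRed A ⊗[A] T) fun M =>
    hdom M.asIdeal M.isMaximal
  exact ⟨e₁.symm.trans (e₂.symm.trans (e₃.trans e₄))⟩

/-- A separable closure of the residue field transfers along a residue-trivial extension. -/
theorem isSepClosure_residue_of_bijective {A C T : Type u} [CommRing A] [IsLocalRing A] [CommRing C]
    [IsLocalRing C] [CommRing T] [IsLocalRing T] [Algebra A C] [Algebra C T] [Algebra A T]
    [IsScalarTower A C T] [IsLocalHom (algebraMap A C)] [IsLocalHom (algebraMap C T)]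
    [IsLocalHom (algebraMap A T)] (hres : Function.Bijective (ResidueField.map (algebraMap A C)))
    [hT : IsSepClosure (ResidueField C) (ResidueField T)] :
    IsSepClosure (ResidueField A) (ResidueField T) := by
  haveI : IsScalarTower (ResidueField A) (ResidueField C) (ResidueField T) := .of_algebraMap_eq fun z => by
    obtain ⟨a, rfl⟩ := residue_surjective z
    exact congrArg (residue T) (IsScalarTower.algebraMap_apply A C T a)
  haveI : Algebra.IsSeparable (ResidueField A) (ResidueField C) :=
    ⟨fun y => by obtain ⟨x, rfl⟩ := hres.2 y; exact isSeparable_algebraMap x⟩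
  haveI := hT.separable
  exact ⟨hT.sep_closed, Algebra.IsSeparable.trans (ResidueField A) (ResidueField C) (ResidueField T)⟩

/-- Maps from an ind-étale local extension over the base to a local algebra are local. -/
theorem isLocalHom_of_isEtLike {A S T : Type u} [CommRing A] [IsLocalRing A] [CommRing S] [IsLocalRing S]
    [CommRing T] [IsLocalRing T] [Algebra A S] [Algebra A T] [Algebra S T] [IsScalarTower A S T]
    [IsLocalHom (algebraMap A T)] (h : Hensel.IsEtLike A S) : IsLocalHom (algebraMap S T) := ⟨fun x hx => by
  by_contra hnx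
  have h1 : x ∈ maximalIdeal S := hnx
  rw [← h.map_max] at h1
  have h2 := Ideal.mem_map_of_mem (algebraMap S T) h1
  rw [Ideal.map_map, ← IsScalarTower.algebraMap_eq] at h2
  exact IsLocalRing.map_maximalIdeal_le (algebraMap A T) h2 hx⟩

instance henselianLocalRing_completion (A : Type u) [CommRing A] [IsLocalRing A] [IsNoetherianRing A] :
    HenselianLocalRing (AdicCompletion (maximalIdeal A) A) :=
  Hensel.henselianLocalRing_of_henselianRing inferInstance

/-- A henselian local ring is its own henselization. -/
theorem isHenselization_self (C : Type u) [CommRing C] [HenselianLocalRing C] :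
    _root_.Hensel.IsHenselization C C :=
  { henselian := inferInstance
    universal := fun T _ _ f _ => ⟨f, RingHom.comp_id f, fun g hg => hg⟩ }

end Groth.Agent.Hens
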