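import Groth.Agent.Hens.StageLocalization
import Groth.Agent.Hens.CompletionBranch
import Groth.Agent.Hens.EtLikeTower
import Groth.Agent.EtNormal.Basic
import Groth.Agent.Hensel.EssEt
import Groth.Agent.SchPoints.Basic
import Groth.Agent.StrictHens.SchemeBC

/-!
# Branches at a point and irreducible components of étale neighbourhoods

* `encard_components_eq` : the components through a point are the minimal primes of the stalk
* `card_minimalPrimes_stalk_le` : the count at an étale neighbourhood is bounded by that of a henselian extension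
* `exists_etale_nbhd_of_minimalPrimes` : finitely many minimal primes of a (strict) henselization are
  separated in one étale neighbourhood
-/

set_option linter.style.haveILetI false
set_option backward.isDefEq.respectTransparency.types false

universe u

open AlgebraicGeometry CategoryTheory IsLocalRing

namespace Groth.Agent.Hens

theorem closure_mem_irreducibleComponents_iff_minimal {R : CommRingCat.{u}} (z : Spec R) :
    closure ({z} : Set (Spec R)) ∈ irreducibleComponents (Spec R : Type u) ↔
      z.asIdeal ∈ minimalPrimes R := by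
  rw [SchPoints.closure_mem_irreducibleComponents_iff, minimalPrimes_eq_minimals]
  constructor
  · refine fun h => ⟨z.isPrime, fun I hI hle => ?_⟩
    exact (PrimeSpectrum.le_iff_specializes z ⟨I, hI⟩).2 (h ⟨I, hI⟩ ((PrimeSpectrum.le_iff_specializes ⟨I, hI⟩ z).1 hle))
  · intro h y hy
    exact (PrimeSpectrum.le_iff_specializes z y).1 (h.2 y.isPrime ((PrimeSpectrum.le_iff_specializes y z).2 hy))

theorem encard_components_eq {U : Scheme.{u}} (u : U) :
    {Z : Set ↑U | Z ∈ irreducibleComponents ↑U ∧ u ∈ Z}.encard =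
      (minimalPrimes (U.presheaf.stalk u)).encard := by
  have h := SchPoints.bijOn_irreducibleComponents u
  rw [← h.image_eq, h.injOn.encard_image]
  have e : minimalPrimes (U.presheaf.stalk u) = (fun z : Spec (U.presheaf.stalk u) => z.asIdeal) ''
      {z | closure ({z} : Set (Spec (U.presheaf.stalk u))) ∈
        irreducibleComponents (Spec (U.presheaf.stalk u) : Type u)} := by
    ext I
    constructor
    · exact fun hI => ⟨⟨I, hI.1.1⟩, (closure_mem_irreducibleComponents_iff_minimal _).2 hI, rfl⟩
    · rintro ⟨z, hz, rfl⟩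
      exact (closure_mem_irreducibleComponents_iff_minimal _).1 hz
  rw [e]
  exact (Set.InjOn.encard_image (fun a _ b _ hab => PrimeSpectrum.ext hab)).symm

theorem one_le_encard_components {U : Scheme.{u}} (u : U) :
    1 ≤ {Z : Set ↑U | Z ∈ irreducibleComponents ↑U ∧ u ∈ Z}.encard :=
  Set.one_le_encard_iff_nonempty.2
    ⟨_, irreducibleComponent_mem_irreducibleComponents u, mem_irreducibleComponent⟩

section

variable {U X : Scheme.{u}} (g : U ⟶ X) (u : U) {H : Type u} [CommRing H]

theorem flat_stalkHom [Etale g] [IsLocalRing H] [Algebra (X.presheaf.stalk (g u)) H]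
    (hH : Hensel.IsEtLike (X.presheaf.stalk (g u)) H) (φ : U.presheaf.stalk u →+* H)
    (hφ : φ.comp (g.stalkMap u).hom = algebraMap (X.presheaf.stalk (g u)) H) : φ.Flat := by
  letI := (g.stalkMap u).hom.toAlgebra
  letI := φ.toAlgebra
  haveI : IsScalarTower (X.presheaf.stalk (g u)) (U.presheaf.stalk u) H := .of_algebraMap_eq' hφ.symm
  exact (isEtLike_tower_top (EtNormal.isEtLike_stalk g u) hH).flat

variable [HenselianLocalRing H] [Algebra (X.presheaf.stalk (g u)) H]
  [IsLocalHom (algebraMap (X.presheaf.stalk (g u)) H)]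

theorem card_minimalPrimes_stalk_le [Etale g] (hH : Hensel.IsEtLike (X.presheaf.stalk (g u)) H)
    (α : U.residueField u →+* ResidueField H)
    (hα : α.comp (g.residueFieldMap u).hom =
      ResidueField.map (algebraMap (X.presheaf.stalk (g u)) H)) :
    (minimalPrimes (U.presheaf.stalk u)).encard ≤ (minimalPrimes H).encard := by
  letI := (g.stalkMap u).hom.toAlgebra
  haveI : IsLocalHom (algebraMap (X.presheaf.stalk (g u)) (U.presheaf.stalk u)) :=
    inferInstanceAs (IsLocalHom (g.stalkMap u).hom)
  obtain ⟨φ, ⟨hloc, hφ, -⟩, -⟩ := Hensel.existsUnique_of_isEssentiallyEtale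
    (EtNormal.isEssentiallyEtale_stalk g u) H (algebraMap (X.presheaf.stalk (g u)) H) α hα
  have hflat := flat_stalkHom g u hH φ hφ
  letI := φ.toAlgebra
  haveI : Module.Flat (U.presheaf.stalk u) H := hflat
  haveI : IsLocalHom (algebraMap (U.presheaf.stalk u) H) := hloc
  rw [← ENat.card_coe_set_eq, ← ENat.card_coe_set_eq]
  exact card_minimalPrimes_le

end

/-- The case of a trivial residue field extension. -/
theorem card_minimalPrimes_stalk_le_of_bijective {U X : Scheme.{u}} (g : U ⟶ X) [Etale g] (u : U)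
    {x : X} (hux : g u = x) {H : Type u} [CommRing H] [HenselianLocalRing H]
    [Algebra (X.presheaf.stalk x) H] [IsLocalHom (algebraMap (X.presheaf.stalk x) H)]
    (hH : Hensel.IsEtLike (X.presheaf.stalk x) H) (hres : Function.Bijective (g.residueFieldMap u)) :
    (minimalPrimes (U.presheaf.stalk u)).encard ≤ (minimalPrimes H).encard := by
  subst hux
  refine card_minimalPrimes_stalk_le g u hH
    ((ResidueField.map (algebraMap (X.presheaf.stalk (g u)) H)).comp
      (RingEquiv.ofBijective (g.residueFieldMap u).hom hres).symm.toRingHom) (RingHom.ext fun a => ?_)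
  exact congrArg (ResidueField.map (algebraMap (X.presheaf.stalk (g u)) H))
    ((RingEquiv.ofBijective (g.residueFieldMap u).hom hres).symm_apply_apply a)

/-- The case of a separably closed residue field. -/
theorem card_minimalPrimes_stalk_le_of_isSepClosed {U X : Scheme.{u}} (g : U ⟶ X) [Etale g] (u : U)
    {x : X} (hux : g u = x) {H : Type u} [CommRing H] [HenselianLocalRing H]
    [IsSepClosed (ResidueField H)] [Algebra (X.presheaf.stalk x) H]
    [IsLocalHom (algebraMap (X.presheaf.stalk x) H)]
    (hH : Hensel.IsEtLike (X.presheaf.stalk x) H) :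
    (minimalPrimes (U.presheaf.stalk u)).encard ≤ (minimalPrimes H).encard := by
  subst hux
  letI := (g.stalkMap u).hom.toAlgebra
  haveI : IsLocalHom (algebraMap (X.presheaf.stalk (g u)) (U.presheaf.stalk u)) :=
    inferInstanceAs (IsLocalHom (g.stalkMap u).hom)
  have hess := EtNormal.isEssentiallyEtale_stalk g u
  haveI := Hensel.formallyEtale_of_isEssentiallyEtale hess
  haveI := Hensel.essFiniteType_of_isEssentiallyEtale hess
  let τ : ResidueField (U.presheaf.stalk u) →ₐ[ResidueField (X.presheaf.stalk (g u))] ResidueField H :=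
    IsSepClosed.lift
  refine card_minimalPrimes_stalk_le g u hH τ.toRingHom (RingHom.ext fun a => ?_)
  exact τ.commutes a

/-- Properties of the map of stalks induced by a lift of a henselian extension to an étale scheme. -/
theorem stalkHom_properties {U X : Scheme.{u}} (g : U ⟶ X) [Etale g] (u : U) {x : X} (hux : g u = x)
    {H : Type u} [CommRing H] [IsLocalRing H] [Algebra (X.presheaf.stalk x) H]
    [IsLocalHom (algebraMap (X.presheaf.stalk x) H)] (hH : Hensel.IsEtLike (X.presheaf.stalk x) H)
    (φ : U.presheaf.stalk u ⟶ CommRingCat.of H) [IsLocalHom φ.hom]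
    (h : Spec.map φ ≫ U.fromSpecStalk u ≫ g =
      Spec.map (CommRingCat.ofHom (algebraMap (X.presheaf.stalk x) H)) ≫ X.fromSpecStalk x) :
    (∀ P ∈ minimalPrimes H, P.comap φ.hom ∈ minimalPrimes (U.presheaf.stalk u)) ∧
      (Function.Surjective (ResidueField.map (algebraMap (X.presheaf.stalk x) H)) →
        Function.Bijective (g.residueFieldMap u)) := by
  subst hux
  haveI : IsLocalRing (CommRingCat.of H) := ‹IsLocalRing H›
  haveI : IsLocalHom (g.stalkMap u ≫ φ).hom := by
    rw [CommRingCat.hom_comp]; exact RingHom.isLocalHom_comp _ _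
  haveI : IsLocalHom (CommRingCat.ofHom (algebraMap (X.presheaf.stalk (g u)) H)).hom :=
    ‹IsLocalHom (algebraMap (X.presheaf.stalk (g u)) H)›
  have e : g.stalkMap u ≫ φ = CommRingCat.ofHom (algebraMap (X.presheaf.stalk (g u)) H) := by
    refine StrictHens.SchemeBC.stalk_hom_ext _ _ ?_
    rw [Spec.map_comp, Category.assoc, Scheme.SpecMap_stalkMap_fromSpecStalk, ← h]
  have e' : φ.hom.comp (g.stalkMap u).hom = algebraMap (X.presheaf.stalk (g u)) H :=
    congrArg CommRingCat.Hom.hom e
  refine ⟨fun P hP => ?_, fun hs => ⟨RingHom.injective _, fun a => ?_⟩⟩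
  · have hflat := flat_stalkHom g u hH φ.hom e'
    letI := φ.hom.toAlgebra
    haveI : Module.Flat (U.presheaf.stalk u) H := hflat
    exact comap_mem_minimalPrimes_of_flat (R := U.presheaf.stalk u) hP
  · haveI : IsLocalHom φ.hom := inferInstance
    obtain ⟨b, hb⟩ := hs (ResidueField.map φ.hom a)
    refine ⟨b, (ResidueField.map φ.hom).injective ?_⟩
    rw [← hb]
    obtain ⟨b, rfl⟩ := residue_surjective b
    show residue H (φ.hom ((g.stalkMap u).hom b)) = _
    rw [ResidueField.map_residue, ← e']
    rfl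

/-- Finitely many minimal primes of the étale localisation of a stalk are separated in one étale
neighbourhood. -/
theorem exists_etale_nbhd_of_minimalPrimes (X : Scheme.{u}) (x : X) {K : Type u} [Field K]
    [Algebra (X.presheaf.stalk x) K] [IsLocalHom (algebraMap (X.presheaf.stalk x) (EtLoc (X.presheaf.stalk x) K))]
    (hH : Hensel.IsEtLike (X.presheaf.stalk x) (EtLoc (X.presheaf.stalk x) K))
    (t : Finset (Ideal (EtLoc (X.presheaf.stalk x) K)))
    (ht : (t : Set (Ideal (EtLoc (X.presheaf.stalk x) K))) ⊆ minimalPrimes _) :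
    ∃ (U : Scheme.{u}) (g : U ⟶ X) (u : U), Etale g ∧ g u = x ∧
      (Function.Surjective
          (ResidueField.map (algebraMap (X.presheaf.stalk x) (EtLoc (X.presheaf.stalk x) K))) →
        Function.Bijective (g.residueFieldMap u)) ∧
      (t.card : ℕ∞) ≤ (minimalPrimes (U.presheaf.stalk u)).encard := by
  classical
  obtain ⟨_, ⟨W, hW, rfl⟩, hxW, -⟩ :=
    X.isBasis_affineOpens.exists_subset_of_mem_open (Set.mem_univ x) isOpen_univ
  letI : Algebra Γ(X, W) (X.presheaf.stalk x) :=
    TopCat.Presheaf.algebra_section_stalk X.presheaf ⟨x, hxW⟩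
  haveI : IsLocalization.AtPrime (X.presheaf.stalk x) (hW.primeIdealOf ⟨x, hxW⟩).asIdeal :=
    hW.isLocalization_stalk ⟨x, hxW⟩
  let H : Type u := EtLoc (X.presheaf.stalk x) K
  letI : Algebra Γ(X, W) (EtLoc (X.presheaf.stalk x) K) :=
    ((algebraMap (X.presheaf.stalk x) _).comp (algebraMap Γ(X, W) (X.presheaf.stalk x))).toAlgebra
  haveI : IsScalarTower Γ(X, W) (X.presheaf.stalk x) (EtLoc (X.presheaf.stalk x) K) :=
    .of_algebraMap_eq' rfl
  let sep : Ideal H → Ideal H → H := fun P Q => if h : ∃ z, z ∈ P ∧ z ∉ Q then h.choose else 0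
  obtain ⟨E, _, _, hE, θ, hθ⟩ := exists_stage_of_localization
    (hW.primeIdealOf ⟨x, hxW⟩).asIdeal.primeCompl ((t ×ˢ t).image fun p => sep p.1 p.2)
  let φR : Γ(X, W) ⟶ CommRingCat.of E := CommRingCat.ofHom (algebraMap Γ(X, W) E)
  have : Etale (Spec.map φR) := HasRingHomProperty.Spec_iff.mpr (RingHom.etale_algebraMap.mpr hE)
  let g : Spec (CommRingCat.of E) ⟶ X := Spec.map φR ≫ hW.fromSpec
  haveI : Etale g := inferInstanceAs (Etale (Spec.map φR ≫ hW.fromSpec))
  let c : Spec (CommRingCat.of H) ⟶ Spec (CommRingCat.of E) := Spec.map (CommRingCat.ofHom θ.toRingHom)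
  haveI : IsLocalRing (CommRingCat.of H) := inferInstanceAs (IsLocalRing (EtLoc (X.presheaf.stalk x) K))
  let α : X.presheaf.stalk x ⟶ CommRingCat.of H :=
    CommRingCat.ofHom (algebraMap (X.presheaf.stalk x) (EtLoc (X.presheaf.stalk x) K))
  haveI : IsLocalHom α.hom :=
    ‹IsLocalHom (algebraMap (X.presheaf.stalk x) (EtLoc (X.presheaf.stalk x) K))›
  have hcg : c ≫ g = Spec.map α ≫ X.fromSpecStalk x := by
    rw [← hW.fromSpecStalk_eq_fromSpecStalk hxW, IsAffineOpen.fromSpecStalk, ← Spec.map_comp_assoc,
      ← Category.assoc, ← Spec.map_comp]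
    congr 2
    ext r
    exact θ.commutes r
  let u : Spec (CommRingCat.of E) := c (closedPoint (CommRingCat.of H))
  have hux : g u = x := by
    rw [← Scheme.Hom.comp_apply, hcg, Scheme.Hom.comp_apply, Spec_closedPoint,
      Scheme.fromSpecStalk_closedPoint]
  obtain ⟨φ, hφloc, hφ⟩ := StrictHens.SchemeBC.exists_stalk_hom c (x := u) rfl
  obtain ⟨hmin, hres⟩ := stalkHom_properties g u hux hH φ (by rw [← Category.assoc, hφ, hcg]; rfl)
  refine ⟨_, g, u, inferInstance, hux, hres, ?_⟩
  rw [← Set.encard_coe_eq_coe_finsetCard]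
  refine Set.encard_le_encard_of_injOn (f := fun P => P.comap φ.hom) (fun P hP => hmin P (ht hP)) ?_
  intro P hP Q hQ hPQ
  haveI := (ht hP).1.1
  haveI := (ht hQ).1.1
  by_contra hne
  have hex : ∃ z, z ∈ P ∧ z ∉ Q := by
    by_contra hno
    push Not at hno
    exact hne (le_antisymm hno ((ht hQ).2 ⟨inferInstance, bot_le⟩ hno))
  obtain ⟨e, he⟩ := hθ (sep P Q) (Finset.mem_image.2 ⟨(P, Q), Finset.mem_product.2 ⟨hP, hQ⟩, rfl⟩)
  have hs : sep P Q ∈ P ∧ sep P Q ∉ Q := by
    have hsep : sep P Q = hex.choose := dif_pos hex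
    rw [hsep]
    exact hex.choose_spec
  let p : Spec (CommRingCat.of H) := ⟨P, inferInstance⟩
  let q : Spec (CommRingCat.of H) := ⟨Q, inferInstance⟩
  have h1 : Spec.map φ p = Spec.map φ q := PrimeSpectrum.ext hPQ
  have h2 : c p = c q := by rw [← hφ, Scheme.Hom.comp_apply, Scheme.Hom.comp_apply, h1]
  have h3 : P.comap θ.toRingHom = Q.comap θ.toRingHom := congrArg PrimeSpectrum.asIdeal h2
  have h4 : e ∈ P.comap θ.toRingHom := by
    show θ e ∈ P
    exact (show θ e = sep P Q from he) ▸ hs.1
  rw [h3] at h4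
  exact hs.2 ((show θ e = sep P Q from he) ▸ h4)

end Groth.Agent.Hens
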