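import Groth.Agent.Hens.BranchCore
import Groth.Prelude.Def_Brnch
import Mathlib.SetTheory.Cardinal.Finite

/-!
# Counting minimal primes of (strict) henselizations by branches
-/

set_option autoImplicit false
set_option linter.style.haveILetI false
universe u

open IsLocalRing TensorProduct

namespace Groth.Agent.Hens

variable {A S : Type u} [CommRing A] [IsLocalRing A] [CommRing S] [IsLocalRing S] [Algebra A S]

theorem finite_minimalPrimes_of_isEtLike (h : Hensel.IsEtLike A S) (hS : (minimalPrimes S).Finite) :
    (minimalPrimes A).Finite := by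
  haveI := h.flat
  refine (hS.image fun P => P.comap (algebraMap A S)).subset fun p hp => ?_
  haveI := hp.1.1
  obtain ⟨Q, hQ⟩ := h.comap_surjective ⟨p, inferInstance⟩
  haveI := Q.2
  obtain ⟨P, hP, hPQ⟩ := Ideal.exists_minimalPrimes_le (bot_le : (⊥ : Ideal S) ≤ Q.asIdeal)
  have hle : P.comap (algebraMap A S) ≤ p :=
    (Ideal.comap_mono hPQ).trans (congrArg PrimeSpectrum.asIdeal hQ).le
  exact ⟨P, hP, le_antisymm hle (hp.2 (comap_mem_minimalPrimes_of_flat hP).1 hle)⟩

theorem card_minimalPrimes_eq_top_of_infinite (h : Hensel.IsEtLike A S)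
    (hA : ¬ (minimalPrimes A).Finite) : ENat.card (minimalPrimes S) = ⊤ := by
  haveI := (Set.Infinite.to_subtype fun hS => hA (finite_minimalPrimes_of_isEtLike h hS))
  exact ENat.card_eq_top_of_infinite

end Groth.Agent.Hens
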