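import Groth.Prelude.Def_Brnch
import Groth.Prelude.Def_Hens2
import Groth.Agent.Hens.BranchNbhd
import Groth.Agent.S9237
import Groth.Agent.S9238

/-!
# The number of branches as a supremum over étale neighbourhoods

* `numBranchesAt_eq_iSup`, `numGeomBranchesAt_eq_iSup`
-/

set_option linter.style.haveILetI false
set_option backward.isDefEq.respectTransparency.types false

universe u

open AlgebraicGeometry CategoryTheory IsLocalRing

namespace Groth.Agent.Hens

theorem exists_nbhd_of_natCast_le (X : Scheme.{u}) (x : X) {K : Type u} [Field K]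
    [Algebra (X.presheaf.stalk x) K]
    [IsLocalHom (algebraMap (X.presheaf.stalk x) (EtLoc (X.presheaf.stalk x) K))]
    (hH : Hensel.IsEtLike (X.presheaf.stalk x) (EtLoc (X.presheaf.stalk x) K)) {n : ℕ}
    (hn : (n : ℕ∞) ≤ ENat.card (minimalPrimes (EtLoc (X.presheaf.stalk x) K))) :
    ∃ (U : Scheme.{u}) (g : U ⟶ X) (u : U), Etale g ∧ g u = x ∧
      (Function.Surjective
          (ResidueField.map (algebraMap (X.presheaf.stalk x) (EtLoc (X.presheaf.stalk x) K))) →
        Function.Bijective (g.residueFieldMap u)) ∧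
      (n : ℕ∞) ≤ {Z : Set ↑U | Z ∈ irreducibleComponents ↑U ∧ u ∈ Z}.encard := by
  rw [ENat.card_coe_set_eq] at hn
  obtain ⟨t, ht, htn⟩ := Set.exists_subset_encard_eq hn
  have hfin : t.Finite := Set.finite_of_encard_eq_coe htn
  obtain ⟨U, g, u, hg, hu, hres, hle⟩ :=
    exists_etale_nbhd_of_minimalPrimes X x hH hfin.toFinset (by rw [hfin.coe_toFinset]; exact ht)
  refine ⟨U, g, u, hg, hu, hres, ?_⟩
  rw [encard_components_eq, ← htn, hfin.encard_eq_coe_toFinset_card]
  exact hle

theorem numBranchesAt_eq_iSup (X : Scheme.{u}) (x : X) :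
    Brnch.numBranchesAt X x = ⨆ (U : Scheme.{u}) (g : U ⟶ X) (u : U) (_ : Hens2.IsEtaleNbhd g u x),
      {Z : Set ↑U | Z ∈ irreducibleComponents ↑U ∧ u ∈ Z}.encard := by
  let A : Type u := X.presheaf.stalk x
  have hH := Hensel.isEtLike_of_isHenselization (X.presheaf.stalk x) (Henselization (X.presheaf.stalk x))
  have hc : Brnch.numBranchesAt X x =
      ENat.card (minimalPrimes (Henselization (X.presheaf.stalk x))) :=
    (S9237.result (X.presheaf.stalk x) (Henselization (X.presheaf.stalk x))).symm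
  rw [hc]
  refine le_antisymm ?_ (iSup_le fun U => iSup_le fun g => iSup_le fun u => iSup_le fun h => ?_)
  · refine ENat.forall_natCast_le_iff_le.1 fun n hn => ?_
    obtain ⟨U, g, u, hg, hu, hres, hle⟩ := exists_nbhd_of_natCast_le X x hH hn
    exact hle.trans (le_iSup_of_le U (le_iSup_of_le g (le_iSup_of_le u
      (le_iSup_of_le ⟨hg, hu, hres residueMap_henselization_bijective.2⟩ le_rfl))))
  · haveI := h.etale
    rw [encard_components_eq, ENat.card_coe_set_eq]
    exact card_minimalPrimes_stalk_le_of_bijective g u h.base_eq hH h.residue_bijective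

theorem numGeomBranchesAt_eq_iSup (X : Scheme.{u}) (x : X) :
    Brnch.numGeomBranchesAt X x = ⨆ (U : Scheme.{u}) (g : U ⟶ X) (u : U) (_ : Etale g ∧ g u = x),
      {Z : Set ↑U | Z ∈ irreducibleComponents ↑U ∧ u ∈ Z}.encard := by
  have hH := Hensel.isEtLike_of_isStrictHenselization (X.presheaf.stalk x)
    (StrictHenselization (X.presheaf.stalk x))
  have hc : Brnch.numGeomBranchesAt X x =
      ENat.card (minimalPrimes (StrictHenselization (X.presheaf.stalk x))) :=
    (S9238.result (X.presheaf.stalk x) (StrictHenselization (X.presheaf.stalk x))).symm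
  rw [hc]
  haveI : IsSepClosure (ResidueField (X.presheaf.stalk x))
      (ResidueField (StrictHenselization (X.presheaf.stalk x))) :=
    _root_.Hensel.IsStrictHenselization.isSepClosure
  haveI : IsSepClosed (ResidueField (StrictHenselization (X.presheaf.stalk x))) :=
    IsSepClosure.sep_closed (ResidueField (X.presheaf.stalk x))
  refine le_antisymm ?_ (iSup_le fun U => iSup_le fun g => iSup_le fun u => iSup_le fun h => ?_)
  · refine ENat.forall_natCast_le_iff_le.1 fun n hn => ?_
    obtain ⟨U, g, u, hg, hu, -, hle⟩ := exists_nbhd_of_natCast_le X x hH hn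
    exact hle.trans (le_iSup_of_le U (le_iSup_of_le g (le_iSup_of_le u (le_iSup_of_le ⟨hg, hu⟩ le_rfl))))
  · haveI := h.1
    rw [encard_components_eq, ENat.card_coe_set_eq]
    exact card_minimalPrimes_stalk_le_of_isSepClosed g u h.2 hH

theorem isEtaleNbhd_id (X : Scheme.{u}) (x : X) : Hens2.IsEtaleNbhd (𝟙 X) x x :=
  ⟨inferInstance, rfl, ConcreteCategory.bijective_of_isIso ((𝟙 X : X ⟶ X).residueFieldMap x)⟩

theorem isUnibranch_stalk_iff (X : Scheme.{u}) (x : X) :
    CAlg2.IsUnibranch ↑(X.presheaf.stalk x) ↔ ∀ (U : Scheme.{u}) (g : U ⟶ X) (u : U),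
      Hens2.IsEtaleNbhd g u x → {Z : Set ↑U | Z ∈ irreducibleComponents ↑U ∧ u ∈ Z}.encard = 1 := by
  rw [← numBranches_eq_one_iff]
  change Brnch.numBranchesAt X x = 1 ↔ _
  rw [numBranchesAt_eq_iSup]
  constructor
  · intro h U g u hn
    refine le_antisymm ?_ (one_le_encard_components u)
    rw [← h]
    exact le_iSup_of_le U (le_iSup_of_le g (le_iSup_of_le u (le_iSup_of_le hn le_rfl)))
  intro h
  · exact le_antisymm (iSup_le fun U => iSup_le fun g => iSup_le fun u => iSup_le fun hn => (h U g u hn).le)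
      (le_iSup_of_le X (le_iSup_of_le (𝟙 X) (le_iSup_of_le x
        (le_iSup_of_le (isEtaleNbhd_id X x) (one_le_encard_components x)))))

theorem isGeomUnibranch_stalk_iff (X : Scheme.{u}) (x : X) :
    CAlg2.IsGeomUnibranch ↑(X.presheaf.stalk x) ↔ ∀ (U : Scheme.{u}) (g : U ⟶ X) (u : U),
      Etale g → g u = x → {Z : Set ↑U | Z ∈ irreducibleComponents ↑U ∧ u ∈ Z}.encard = 1 := by
  rw [← numGeomBranches_eq_one_iff]
  change Brnch.numGeomBranchesAt X x = 1 ↔ _
  rw [numGeomBranchesAt_eq_iSup]
  constructor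
  · intro h U g u hg hu
    refine le_antisymm ?_ (one_le_encard_components u)
    rw [← h]
    exact le_iSup_of_le U (le_iSup_of_le g (le_iSup_of_le u (le_iSup_of_le ⟨hg, hu⟩ le_rfl)))
  intro h
  · exact le_antisymm (iSup_le fun U => iSup_le fun g => iSup_le fun u => iSup_le fun hn => (h U g u hn.1 hn.2).le)
      (le_iSup_of_le X (le_iSup_of_le (𝟙 X) (le_iSup_of_le x
        (le_iSup_of_le ⟨(isEtaleNbhd_id X x).etale, rfl⟩ (one_le_encard_components x)))))

end Groth.Agent.Hens
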