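import Groth.Agent.Hens.HfpComp
import Groth.Agent.Hensel.EtaleAlgLift
import Mathlib.RingTheory.Flat.EquationalCriterion
import Mathlib.RingTheory.Smooth.Flat

/-!
# h-étale maps of henselian pairs
-/

set_option linter.style.haveILetI false

universe u

namespace Groth.Agent.Hens

section

variable {R M P : Type*} [CommRing R] [AddCommGroup M] [Module R M] [AddCommGroup P] [Module R P]

/-- A surjection onto a flat module that is injective modulo `J` has kernel `J • ker`. -/
theorem ker_le_smul_ker_of_flat [Module.Flat R P] {f : M →ₗ[R] P} (hf : Function.Surjective f)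
    {J : Ideal R} (hker : LinearMap.ker f ≤ J • ⊤) : LinearMap.ker f ≤ J • LinearMap.ker f := by
  intro x hx
  obtain ⟨n, a, h, rfl⟩ : ∃ (n : ℕ) (a : Fin n → J) (h : Fin n → M),
      ∑ i, (a i : R) • h i = x := by
    have hxJ := hker hx
    clear hx
    refine Submodule.smul_induction_on hxJ
      (fun r hr m _ => ⟨1, fun _ => ⟨r, hr⟩, fun _ => m, by simp⟩) ?_
    rintro _ _ ⟨n, a, h, rfl⟩ ⟨m, b, g, rfl⟩
    exact ⟨n + m, Fin.append a b, Fin.append h g, by simp [Fin.sum_univ_add]⟩
  have h0 : ∑ i, (a i : R) • f (h i) = 0 := by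
    have := LinearMap.mem_ker.1 hx
    simpa only [map_sum, map_smul] using this
  obtain ⟨k, b, y, hy, hb⟩ :=
    Module.Flat.isTrivialRelation_of_sum_smul_eq_zero h0
  choose z hz using fun j => hf (y j)
  have : ∑ i, (a i : R) • h i = ∑ i, (a i : R) • (h i - ∑ j, b i j • z j) := by
    have e : ∑ i, (a i : R) • ∑ j, b i j • z j = 0 := by
      simp only [Finset.smul_sum, smul_smul]
      rw [Finset.sum_comm]
      simp only [← Finset.sum_smul, hb, zero_smul, Finset.sum_const_zero]
    simp only [smul_sub, Finset.sum_sub_distrib, e, sub_zero]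
  rw [this]
  refine Submodule.sum_mem _ fun i _ => Submodule.smul_mem_smul (a i).2 ?_
  rw [LinearMap.mem_ker, map_sub, sub_eq_zero, map_sum]
  simp only [map_smul, hz]
  exact hy i

/-- A surjection onto a flat module that is injective modulo a nilpotent ideal is injective. -/
theorem ker_eq_bot_of_flat_of_nilpotent [Module.Flat R P] {f : M →ₗ[R] P}
    (hf : Function.Surjective f) {J : Ideal R} (hJ : IsNilpotent J)
    (hker : LinearMap.ker f ≤ J • ⊤) : LinearMap.ker f = ⊥ := by
  obtain ⟨n, hn⟩ := hJ
  have hk : ∀ m : ℕ, LinearMap.ker f ≤ J ^ m • LinearMap.ker f := by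
    intro m
    induction m with
    | zero => simp [Submodule.top_smul]
    | succ m ih =>
      refine ih.trans ((Submodule.smul_mono le_rfl (ker_le_smul_ker_of_flat hf hker)).trans ?_)
      rw [← Submodule.mul_smul, pow_succ]
  refine le_bot_iff.1 ((hk n).trans ?_)
  rw [hn, Ideal.zero_eq_bot, Submodule.bot_smul]

end

variable {A : Type u} [CommRing A] {I : Ideal A}

theorem ker_le_pow_of_flat_truncation {H B : Type u} [CommRing H] [Algebra A H] [CommRing B]
    [Algebra A B] {n : ℕ} [Module.Flat (A ⧸ I ^ n) (B ⧸ (I ^ n).map (algebraMap A B))]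
    (φ : H →ₐ[A] B) (hφ : Function.Surjective φ)
    (hker : ∀ x, φ x ∈ I.map (algebraMap A B) → x ∈ I.map (algebraMap A H)) :
    RingHom.ker φ ≤ (I ^ n).map (algebraMap A H) := by
  let H' := H ⧸ (I ^ n).map (algebraMap A H)
  let B' := B ⧸ (I ^ n).map (algebraMap A B)
  let f₀ : H' →+* B' := Ideal.quotientMap _ φ.toRingHom (by
    rw [Ideal.map_le_iff_le_comap, Ideal.comap_comap,
      show φ.toRingHom.comp (algebraMap A H) = algebraMap A B from φ.comp_algebraMap]
    exact Ideal.le_comap_map)
  let f : H' →ₗ[A ⧸ I ^ n] B' :=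
    { toFun := f₀
      map_add' := map_add f₀
      map_smul' := fun r x => by
        obtain ⟨a, rfl⟩ := Ideal.Quotient.mk_surjective r
        obtain ⟨x, rfl⟩ := Ideal.Quotient.mk_surjective x
        show Ideal.Quotient.mk _ (φ (a • x)) = Ideal.Quotient.mk _ (a • φ x)
        rw [map_smul] }
  have hf : Function.Surjective f := fun y => by
    obtain ⟨y, rfl⟩ := Ideal.Quotient.mk_surjective y
    obtain ⟨x, rfl⟩ := hφ y
    exact ⟨Ideal.Quotient.mk _ x, rfl⟩
  rcases Nat.eq_zero_or_pos n with rfl | hn
  · simp [Ideal.map_top]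
  let J : Ideal (A ⧸ I ^ n) := I.map (Ideal.Quotient.mk (I ^ n))
  have hJ : IsNilpotent J :=
    ⟨n, by rw [← Ideal.map_pow, Ideal.map_quotient_self, Ideal.zero_eq_bot]⟩
  have hle : LinearMap.ker f ≤ J • ⊤ := by
    intro x hx
    obtain ⟨x, rfl⟩ := Ideal.Quotient.mk_surjective x
    have hxB : φ x ∈ I.map (algebraMap A B) :=
      Ideal.map_mono (Ideal.pow_le_self hn.ne') (Ideal.Quotient.eq_zero_iff_mem.1 hx)
    rw [Ideal.smul_top_eq_map]
    show Ideal.Quotient.mk _ x ∈ Ideal.map (algebraMap (A ⧸ I ^ n) H') J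
    rw [Ideal.map_map]
    have e : (algebraMap (A ⧸ I ^ n) H').comp (Ideal.Quotient.mk (I ^ n)) =
        (Ideal.Quotient.mk _).comp (algebraMap A H) := RingHom.ext fun a => rfl
    rw [e, ← Ideal.map_map]
    exact Ideal.mem_map_of_mem _ (hker x hxB)
  intro x hx
  rw [← Ideal.Quotient.eq_zero_iff_mem]
  have : Ideal.Quotient.mk _ x ∈ LinearMap.ker f := by
    show Ideal.Quotient.mk _ (φ x) = 0
    rw [show φ x = 0 from hx, map_zero]
  rw [ker_eq_bot_of_flat_of_nilpotent hf hJ hle] at this
  exact this

/-- A Henselian finitely presented algebra with étale reduction is a quotient of an h-étale one. -/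
theorem exists_etale_surjection [HenselianRing A I] {R₀ : Type u} [CommRing R₀] [Algebra A R₀]
    [Algebra.FinitePresentation A R₀] {B : Type u} [CommRing B] [Algebra R₀ B] [Algebra A B]
    [IsScalarTower A R₀ B] (hB : Hens2.IsPairHenselization R₀ (I.map (algebraMap A R₀)) B)
    (het : Algebra.Etale (A ⧸ I ^ 1) (B ⧸ (I ^ 1).map (algebraMap A B))) :
    ∃ (R : Type u) (_ : CommRing R) (_ : Algebra A R) (H : Type u) (_ : CommRing H) (_ : Algebra R H)
      (_ : Algebra A H) (_ : IsScalarTower A R H),
      Algebra.Etale A R ∧ Hens2.IsPairHenselization R (I.map (algebraMap A R)) H ∧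
      ∃ φ : H →ₐ[A] B, Function.Surjective φ ∧ (RingHom.ker φ).FG ∧
        ∀ x, φ x ∈ I.map (algebraMap A B) → x ∈ I.map (algebraMap A H) := by
  haveI hBI : HenselianRing B (I.map (algebraMap A B)) := by
    have := hB.1
    rwa [Ideal.map_map, ← IsScalarTower.algebraMap_eq] at this
  haveI := het
  obtain ⟨S, _, _, hS, σ, hσs, hσk⟩ := Groth.Agent.Hensel.exists_etale_alg_lift A (I ^ 1)
    (B ⧸ (I ^ 1).map (algebraMap A B))
  haveI := hS
  haveI : HenselianRing B ((I ^ 1).map (algebraMap A B)) := by rwa [pow_one]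
  obtain ⟨θ, hθ⟩ := exists_algHom_lift_etale (J := (I ^ 1).map (algebraMap A B)) σ
  set H := PairHenselization S (I.map (algebraMap A S))
  letI : Algebra A H := ((algebraMap S H).comp (algebraMap A S)).toAlgebra
  haveI : IsScalarTower A S H := IsScalarTower.of_algebraMap_eq' rfl
  have hH : Hens2.IsPairHenselization S (I.map (algebraMap A S)) H :=
    isPairHenselization_pairHenselization
  haveI hHI : HenselianRing H (I.map (algebraMap A H)) := by
    have := hH.1
    rwa [Ideal.map_map, ← IsScalarTower.algebraMap_eq] at this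
  obtain ⟨Φ, hΦ⟩ := hfp_exists_algHom hH θ
  -- injective modulo `I`
  have hinj : ∀ x, Φ x ∈ I.map (algebraMap A B) → x ∈ I.map (algebraMap A H) := by
    intro x hx
    obtain ⟨y, hy⟩ := (bijective_quotientMap_of_isPairHenselization hH).2 (Ideal.Quotient.mk _ x)
    obtain ⟨s, rfl⟩ := Ideal.Quotient.mk_surjective y
    rw [Ideal.quotientMap_mk, Ideal.Quotient.eq, Ideal.map_map,
      ← IsScalarTower.algebraMap_eq] at hy
    have h1 : Φ (algebraMap S H s - x) ∈ I.map (algebraMap A B) := by
      have := Ideal.mem_map_of_mem Φ.toRingHom hy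
      rwa [Ideal.map_map,
        show Φ.toRingHom.comp (algebraMap A H) = algebraMap A B from Φ.comp_algebraMap] at this
    have h2 : θ s ∈ I.map (algebraMap A B) := by
      rw [← hΦ, show Φ (algebraMap S H s) = Φ (algebraMap S H s - x) + Φ x by
        rw [map_sub, sub_add_cancel]]
      exact Ideal.add_mem _ h1 hx
    have h3 : σ s = 0 := by
      rw [← hθ, Ideal.Quotient.eq_zero_iff_mem, pow_one]
      exact h2
    have h4 : algebraMap S H s ∈ I.map (algebraMap A H) := by
      have := Ideal.mem_map_of_mem (algebraMap S H) (hσk s h3)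
      rwa [pow_one, Ideal.map_map, ← IsScalarTower.algebraMap_eq] at this
    rw [show x = algebraMap S H s - (algebraMap S H s - x) by rw [sub_sub_cancel]]
    exact Ideal.sub_mem _ h4 hy
  letI : Algebra H B := Φ.toRingHom.toAlgebra
  haveI : IsScalarTower A H B := IsScalarTower.of_algebraMap_eq' Φ.comp_algebraMap.symm
  obtain ⟨T, _, _, _, _, hTfp, hT⟩ := exists_finitePresentation_algHom (A := A) hH hB
  haveI := hTfp
  haveI : IsScalarTower H T B := inferInstance
  have hB1 : ∀ b : B, ∃ h : H, Φ h - b ∈ I.map (algebraMap A B) := fun b => by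
    obtain ⟨s, hs⟩ := hσs (Ideal.Quotient.mk _ b)
    refine ⟨algebraMap S H s, ?_⟩
    rw [hΦ]
    rw [← hθ, Ideal.Quotient.eq, pow_one] at hs
    exact hs
  have hIB : ((I.map (algebraMap A H)).map (algebraMap H T)).map (algebraMap T B) =
      I.map (algebraMap A B) := by
    rw [Ideal.map_map, ← IsScalarTower.algebraMap_eq, Ideal.map_map,
      ← IsScalarTower.algebraMap_eq]
  haveI : Module.Finite H (T ⧸ (I.map (algebraMap A H)).map (algebraMap H T)) := by
    refine Module.Finite.of_surjective (Algebra.linearMap H _) fun z => ?_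
    obtain ⟨t, rfl⟩ := Ideal.Quotient.mk_surjective z
    obtain ⟨h, hh⟩ := hB1 (algebraMap T B t)
    refine ⟨h, (bijective_quotientMap_of_isPairHenselization hT).1 ?_⟩
    rw [Algebra.linearMap_apply,
      show algebraMap H (T ⧸ (I.map (algebraMap A H)).map (algebraMap H T)) h =
        Ideal.Quotient.mk _ (algebraMap H T h) from rfl, Ideal.quotientMap_mk,
      Ideal.quotientMap_mk, Ideal.Quotient.eq, ← IsScalarTower.algebraMap_apply, hIB]
    exact hh
  obtain ⟨E, -, -, hfin, hTE⟩ := exists_finite_isPairHenselization (I := I.map (algebraMap A H)) T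
  obtain ⟨e⟩ := nonempty_algEquiv_of_isPairHenselization hTE hT
  haveI := hfin
  haveI : Module.Finite H B := Module.Finite.equiv (e.restrictScalars H).toLinearEquiv
  haveI : Algebra.FinitePresentation H B :=
    (Algebra.FinitePresentation.quotient (R := H) ⟨{1 - E}, by simp⟩).equiv (e.restrictScalars H)
  have hsurj : Function.Surjective Φ := by
    have hjac : I.map (algebraMap A H) ≤ Ideal.jacobson ⊥ := HenselianRing.jac
    have htop : (⊤ : Submodule H B) ≤ LinearMap.range (Algebra.linearMap H B) := by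
      refine Submodule.le_of_le_smul_of_le_jacobson_bot Module.Finite.fg_top hjac ?_
      intro b _
      obtain ⟨h, hh⟩ := hB1 b
      have : b = Φ h + (b - Φ h) := by rw [add_sub_cancel]
      rw [this]
      refine Submodule.add_mem_sup ⟨h, rfl⟩ ?_
      rw [Ideal.smul_top_eq_map, Ideal.map_map, ← IsScalarTower.algebraMap_eq,
        Submodule.restrictScalars_mem, ← neg_sub]
      exact neg_mem hh
    intro b
    exact htop (Submodule.mem_top (x := b))
  refine ⟨S, inferInstance, inferInstance, H, inferInstance, inferInstance, inferInstance,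
    inferInstance, hS, hH, Φ, hsurj, ?_, hinj⟩
  exact Algebra.FinitePresentation.ker_fG_of_surjective (Algebra.ofId H B) hsurj

/-- A flat surjection with finitely generated kernel that is injective modulo `I` is injective. -/
theorem ker_eq_bot_of_flat {H B : Type u} [CommRing H] [Algebra A H] [CommRing B] [Algebra A B]
    [Module.Flat A B] [HenselianRing H (I.map (algebraMap A H))] (φ : H →ₐ[A] B)
    (hφ : Function.Surjective φ) (hfg : (RingHom.ker φ).FG)
    (hker : ∀ x, φ x ∈ I.map (algebraMap A B) → x ∈ I.map (algebraMap A H)) :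
    RingHom.ker φ = ⊥ := by
  have hle : LinearMap.ker φ.toLinearMap ≤ I • ⊤ := fun x hx => by
    rw [Ideal.smul_top_eq_map]
    exact hker x (by rw [show φ x = 0 from hx]; exact Ideal.zero_mem _)
  have h1 := ker_le_smul_ker_of_flat (f := φ.toLinearMap) hφ hle
  refine Submodule.eq_bot_of_le_smul_of_le_jacobson_bot (I.map (algebraMap A H)) _ hfg
    (fun x hx => ?_) HenselianRing.jac
  refine Submodule.smul_induction_on (h1 (show x ∈ LinearMap.ker φ.toLinearMap from hx))
    (fun a ha y hy => ?_) (fun y z => Submodule.add_mem _)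
  rw [show a • y = algebraMap A H a * y from Algebra.smul_def a y]
  exact Submodule.smul_mem_smul (Ideal.mem_map_of_mem _ ha) hy

end Groth.Agent.Hens
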