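import Mathlib.RingTheory.Henselian
import Mathlib.RingTheory.Etale.Locus
import Mathlib.RingTheory.Unramified.LocalStructure
import Mathlib.RingTheory.Etale.StandardEtale

/-!
# Lifting points of étale algebras into local rings

* `eq_of_point_eq`: two algebra maps from an étale algebra to a local ring agreeing on the
  residue field are equal.
* `existsUnique_algHom`: an étale algebra with a point in the residue field of a henselian local
  algebra lifts uniquely to it.
-/

set_option linter.style.haveILetI false

universe u v w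

open Polynomial IsLocalRing

namespace Groth.Agent.Hens

variable {R : Type u} [CommRing R] {A : Type v} [CommRing A] [Algebra R A]

/-- A point of an étale algebra factors through a standard étale localisation. -/
theorem exists_standard_through_point [Algebra.Etale R A] {L : Type w} [Field L] [Algebra R L]
    (τ : A →ₐ[R] L) :
    ∃ g : A, τ g ≠ 0 ∧ Nonempty (StandardEtalePresentation R (Localization.Away g)) := by
  haveI : (RingHom.ker τ.toRingHom).IsPrime := RingHom.ker_isPrime _
  haveI : Algebra.IsEtaleAt R (RingHom.ker τ.toRingHom) := by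
    show Algebra.FormallyEtale R _
    infer_instance
  obtain ⟨g, hg, h⟩ := Algebra.IsEtaleAt.exists_isStandardEtale (R := R) (RingHom.ker τ.toRingHom)
  exact ⟨g, fun h0 => hg h0, h.nonempty_standardEtalePresentation⟩

/-- Extension to `A[1/g]` of an algebra map under which `g` is a unit. -/
noncomputable def awayExt {S : Type w} [CommRing S] [Algebra R S] (θ : A →ₐ[R] S) (g : A)
    (hg : IsUnit (θ g)) : Localization.Away g →ₐ[R] S :=
  IsLocalization.liftAlgHom (M := Submonoid.powers g) (f := θ)
    (fun y => by
      obtain ⟨n, hn⟩ := y.2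
      rw [← hn]
      simpa using hg.pow n)

theorem awayExt_algebraMap {S : Type w} [CommRing S] [Algebra R S] (θ : A →ₐ[R] S) (g : A)
    (hg : IsUnit (θ g)) (a : A) : awayExt θ g hg (algebraMap A _ a) = θ a := by
  simp [awayExt]

theorem awayExt_comp {S : Type w} [CommRing S] [Algebra R S] (θ : A →ₐ[R] S) (g : A)
    (hg : IsUnit (θ g)) :
    (awayExt θ g hg).comp (IsScalarTower.toAlgHom R A (Localization.Away g)) = θ :=
  AlgHom.ext fun a => by simp [awayExt_algebraMap]

theorem algHom_ext_away {S : Type w} [CommRing S] [Algebra R S] {g : A}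
    {f₁ f₂ : Localization.Away g →ₐ[R] S}
    (h : ∀ a : A, f₁ (algebraMap A _ a) = f₂ (algebraMap A _ a)) : f₁ = f₂ :=
  IsLocalization.algHom_ext (Submonoid.powers g) (AlgHom.ext h)

/-- Roots of a separable-at-the-point polynomial that agree at the closed point are equal. -/
theorem eq_of_root_of_point_eq {S : Type w} [CommRing S] [IsLocalRing S] [Algebra R S]
    {L : Type*} [Field L] (π : S →+* L) [IsLocalHom π] (P : StandardEtalePair R) {x y : S}
    (hx : P.HasMap x) (hy : P.HasMap y) (h : π x = π y) : x = y := by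
  refine IsLocalRing.eq_of_eval_eq_zero_of_not_isUnit_sub
    (f := P.f.map (algebraMap R S)) ?_ ?_ ?_ ?_
  · simpa [eval_map, ← aeval_def] using hx.1
  · simpa [eval_map, ← aeval_def] using hy.1
  · intro hu
    exact (hu.map π).ne_zero (by simp [h])
  · simpa [derivative_map, eval_map, ← aeval_def] using hx.isUnit_derivative_f

/-- Two maps from an étale algebra into a local ring with the same closed point are equal. -/
theorem eq_of_point_eq [Algebra.Etale R A] {S : Type w} [CommRing S] [IsLocalRing S] [Algebra R S]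
    {L : Type*} [Field L] (π : S →+* L) [IsLocalHom π] {θ₁ θ₂ : A →ₐ[R] S}
    (h : ∀ a, π (θ₁ a) = π (θ₂ a)) : θ₁ = θ₂ := by
  letI : Algebra R L := (π.comp (algebraMap R S)).toAlgebra
  obtain ⟨g, hg, ⟨E⟩⟩ :=
    exists_standard_through_point (⟨π.comp θ₁.toRingHom, fun r => by simp; rfl⟩ : A →ₐ[R] L)
  have h₁ : IsUnit (θ₁ g) := isUnit_of_map_unit π _ (IsUnit.mk0 _ hg)
  have h₂ : IsUnit (θ₂ g) := isUnit_of_map_unit π _ (IsUnit.mk0 _ (by rw [← h]; exact hg))
  have hπ : π.comp (awayExt θ₁ g h₁).toRingHom = π.comp (awayExt θ₂ g h₂).toRingHom :=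
    IsLocalization.ringHom_ext (Submonoid.powers g)
      (RingHom.ext fun a => by simp [awayExt_algebraMap, h])
  have : awayExt θ₁ g h₁ = awayExt θ₂ g h₂ :=
    E.hom_ext (eq_of_root_of_point_eq π E.P (E.hasMap.map _) (E.hasMap.map _)
      (RingHom.congr_fun hπ _))
  rw [← awayExt_comp θ₁ g h₁, ← awayExt_comp θ₂ g h₂, this]

variable {T : Type w} [CommRing T] [HenselianLocalRing T] [Algebra R T]

/-- A point of a standard étale pair lifts to a henselian local algebra. -/
theorem exists_root_lift (P : StandardEtalePair R) (a : ResidueField T) (ha : P.HasMap a) :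
    ∃ x : T, P.HasMap x ∧ residue T x = a := by
  obtain ⟨a₀, rfl⟩ := residue_surjective a
  have hev : ∀ p : R[X], aeval (residue T a₀) p = residue T (aeval a₀ p) := fun p => by
    rw [← IsLocalRing.ResidueField.algebraMap_eq, Polynomial.aeval_algebraMap_apply]
  obtain ⟨x, hx, hxa⟩ := HenselianLocalRing.is_henselian (P.f.map (algebraMap R T))
    (P.monic_f.map _) a₀
    (by rw [← residue_eq_zero_iff, eval_map, ← aeval_def, ← hev, ha.1])
    (isUnit_of_map_unit (residue T) _ (by
      rw [derivative_map, eval_map, ← aeval_def, ← hev]; exact ha.isUnit_derivative_f))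
  rw [IsRoot, eval_map, ← aeval_def] at hx
  have hres : residue T x = residue T a₀ := by
    rwa [← sub_eq_zero, ← map_sub, residue_eq_zero_iff]
  refine ⟨x, ⟨hx, isUnit_of_map_unit (residue T) _ ?_⟩, hres⟩
  rw [← IsLocalRing.ResidueField.algebraMap_eq, ← Polynomial.aeval_algebraMap_apply,
    IsLocalRing.ResidueField.algebraMap_eq, hres]
  exact ha.2

/-- An étale algebra with a point in the residue field of a henselian local algebra lifts
uniquely. -/
theorem existsUnique_algHom [Algebra.Etale R A] (τ : A →ₐ[R] ResidueField T) :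
    ∃! θ : A →ₐ[R] T, ∀ a, residue T (θ a) = τ a := by
  obtain ⟨g, hg, ⟨E⟩⟩ := exists_standard_through_point τ
  let τg := awayExt τ g (IsUnit.mk0 _ hg)
  obtain ⟨x, hx, hxa⟩ := exists_root_lift E.P (τg E.x) (E.hasMap.map τg)
  let θ : A →ₐ[R] T := ((E.P.lift x hx).comp E.equivRing.toAlgHom).comp
    (IsScalarTower.toAlgHom R A _)
  have key : (IsScalarTower.toAlgHom R T (ResidueField T)).comp
      ((E.P.lift x hx).comp E.equivRing.toAlgHom) = τg := by
    refine E.hom_ext ?_
    simpa [IsLocalRing.ResidueField.algebraMap_eq] using hxa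
  have hθ : ∀ a, residue T (θ a) = τ a := fun a => by
    have := AlgHom.congr_fun key (algebraMap A _ a)
    simp only [τg, awayExt_algebraMap] at this
    simpa [θ, IsLocalRing.ResidueField.algebraMap_eq] using this
  exact ⟨θ, hθ, fun θ' hθ' => eq_of_point_eq (residue T) (fun a => by rw [hθ', hθ])⟩

theorem existsUnique_algHom_of_point [Algebra.Etale R A] {L : Type*} [Field L]
    (π : T →+* L) (hπ : Function.Surjective π) [Algebra R L]
    (hR : π.comp (algebraMap R T) = algebraMap R L) (τ : A →ₐ[R] L) :
    ∃! θ : A →ₐ[R] T, ∀ a, π (θ a) = τ a := by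
  haveI : IsLocalHom π := .of_surjective π hπ
  let e : ResidueField T ≃+* L :=
    RingEquiv.ofBijective (ResidueField.lift π) ⟨RingHom.injective _, fun l => by
      obtain ⟨t, rfl⟩ := hπ l
      exact ⟨residue T t, ResidueField.lift_residue_apply _ _⟩⟩
  have he : ∀ t, e (residue T t) = π t := fun t => ResidueField.lift_residue_apply _ _
  let τ' : A →ₐ[R] ResidueField T := ⟨e.symm.toRingHom.comp τ.toRingHom, fun r => by
    apply e.injective
    simp only [AlgHom.toRingHom_eq_coe]
    rw [IsScalarTower.algebraMap_apply R T (ResidueField T),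
      IsLocalRing.ResidueField.algebraMap_eq, he]
    simp [← hR]⟩
  obtain ⟨θ, hθ, hu⟩ := existsUnique_algHom τ'
  refine ⟨θ, fun a => ?_, fun θ' hθ' => hu θ' fun a => ?_⟩
  · rw [← he, hθ]; simp [τ']
  · apply e.injective
    rw [he, hθ']; simp [τ']

end Groth.Agent.Hens
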