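import Groth.Agent.Hensel.Pair
import Mathlib.RingTheory.Artinian.Module
import Mathlib.RingTheory.Idempotents

/-!
# Finite algebras over local rings: maximal ideals and products of local rings
-/

set_option linter.style.haveILetI false

universe u v

open IsLocalRing

namespace Groth.Agent.Hens

variable {A : Type u} [CommRing A] [IsLocalRing A] {B : Type v} [CommRing B] [Algebra A B]
  [Module.Finite A B]

theorem map_maximalIdeal_le_jacobson :
    (maximalIdeal A).map (algebraMap A B) ≤ Ideal.jacobson ⊥ :=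
  Groth.Agent.Hensel.map_le_jacobson_bot_of_isIntegral (maximalIdeal_le_jacobson ⊥)

theorem isArtinianRing_quotient_map :
    IsArtinianRing (B ⧸ (maximalIdeal A).map (algebraMap A B)) := by
  let J := (maximalIdeal A).map (algebraMap A B)
  letI : Algebra (A ⧸ maximalIdeal A) (B ⧸ J) :=
    (Ideal.quotientMap J (algebraMap A B) Ideal.le_comap_map).toAlgebra
  haveI : IsScalarTower A (A ⧸ maximalIdeal A) (B ⧸ J) := .of_algebraMap_eq' rfl
  haveI : Module.Finite (A ⧸ maximalIdeal A) (B ⧸ J) :=
    Module.Finite.of_restrictScalars_finite A _ _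
  letI : Field (A ⧸ maximalIdeal A) := Ideal.Quotient.field _
  exact isArtinian_of_tower (A ⧸ maximalIdeal A) inferInstance

omit [IsLocalRing A] [Algebra A B] [Module.Finite A B] in
theorem finite_maximalSpectrum_of_finite (A : Type u) [CommRing A] [IsLocalRing A] (B : Type v)
    [CommRing B] [Algebra A B] [Module.Finite A B] : Finite (MaximalSpectrum B) := by
  haveI := isArtinianRing_quotient_map (A := A) (B := B)
  let π := Ideal.Quotient.mk ((maximalIdeal A).map (algebraMap A B))
  have hker : ∀ n : MaximalSpectrum B, RingHom.ker π ≤ n.asIdeal := fun n => by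
    rw [Ideal.mk_ker]
    exact map_maximalIdeal_le_jacobson.trans (sInf_le ⟨bot_le, n.isMaximal⟩)
  refine Finite.of_injective (fun n => (⟨n.asIdeal.map π,
    Ideal.IsMaximal.map_of_surjective_of_ker_le Ideal.Quotient.mk_surjective (hker n)⟩ :
      MaximalSpectrum _)) fun n n' h => MaximalSpectrum.ext ?_
  have := congrArg (fun x => x.asIdeal.comap π) h
  simp only [Ideal.comap_map_of_surjective π Ideal.Quotient.mk_surjective] at this
  rwa [← RingHom.ker_eq_comap_bot, sup_eq_left.2 (hker n), sup_eq_left.2 (hker n')] at this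

/-- Separating idempotents from idempotent lifting. -/
theorem exists_idempotents_of_surjOn
    (h : Set.SurjOn (Ideal.Quotient.mk ((maximalIdeal A).map (algebraMap A B)))
      {e : B | IsIdempotentElem e} {e | IsIdempotentElem e}) (n : MaximalSpectrum B) :
    ∃ e : B, IsIdempotentElem e ∧ e ∉ n.asIdeal ∧
      ∀ n' : MaximalSpectrum B, n' ≠ n → e ∈ n'.asIdeal := by
  classical
  haveI := isArtinianRing_quotient_map (A := A) (B := B)
  haveI := finite_maximalSpectrum_of_finite A B
  let J := (maximalIdeal A).map (algebraMap A B)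
  -- an element `≡ 1` at `n` and `≡ 0` elsewhere, made idempotent modulo `J`
  obtain ⟨b, hb⟩ := Ideal.exists_forall_sub_mem_ideal
    (I := fun m : MaximalSpectrum B => m.asIdeal)
    (fun i j hij => Ideal.isCoprime_iff_sup_eq.2 (i.isMaximal.coprime_of_ne j.isMaximal
      fun h => hij (MaximalSpectrum.ext h))) fun m => if m = n then (1 : B) else 0
  have hnil : IsNilpotent (Ideal.Quotient.mk J (b * b - b)) := by
    rw [← mem_nilradical, nilradical_eq_sInf, Ideal.mem_sInf]
    intro P hP
    haveI : P.IsPrime := hP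
    haveI : P.IsMaximal := inferInstance
    let m : MaximalSpectrum B :=
      ⟨P.comap (Ideal.Quotient.mk J), Ideal.comap_isMaximal_of_surjective _
        Ideal.Quotient.mk_surjective⟩
    show b * b - b ∈ m.asIdeal
    have hm := hb m
    split_ifs at hm
    · rw [show b * b - b = b * (b - 1) by ring]
      exact m.asIdeal.mul_mem_left _ hm
    · rw [sub_zero] at hm
      rw [show b * b - b = (b - 1) * b by ring]
      exact m.asIdeal.mul_mem_left _ hm
  obtain ⟨e₀, he₀, he₀'⟩ := exists_isIdempotentElem_eq_of_ker_isNilpotent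
    (Ideal.Quotient.mk (nilradical (B ⧸ J)))
    (fun x hx => mem_nilradical.1 (by rwa [Ideal.mk_ker] at hx))
    (Ideal.Quotient.mk _ (Ideal.Quotient.mk J b)) ⟨_, rfl⟩
    (by
      show _ * _ = _
      rw [← map_mul, Ideal.Quotient.eq, mem_nilradical, ← map_mul, ← map_sub]
      exact hnil)
  obtain ⟨e, he, hee⟩ := h he₀
  have key : ∀ m : MaximalSpectrum B, e - b ∈ m.asIdeal := fun m => by
    have hJ : J ≤ m.asIdeal :=
      map_maximalIdeal_le_jacobson.trans (sInf_le ⟨bot_le, m.isMaximal⟩)
    have h1 : Ideal.Quotient.mk J e - Ideal.Quotient.mk J b ∈ nilradical (B ⧸ J) := by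
      rw [← Ideal.Quotient.eq, hee]; exact he₀'
    obtain ⟨k, hk⟩ := mem_nilradical.1 h1
    rw [← map_sub, ← map_pow, Ideal.Quotient.eq_zero_iff_mem] at hk
    exact m.isMaximal.isPrime.mem_of_pow_mem k (hJ hk)
  refine ⟨e, he, fun hn => ?_, fun m hm => ?_⟩
  · have := hb n
    simp only [if_true] at this
    exact n.isMaximal.isPrime.ne_top ((Ideal.eq_top_iff_one _).2 (by
      rw [show (1 : B) = e - (e - b) - (b - 1) by ring]
      exact Ideal.sub_mem _ (Ideal.sub_mem _ hn (key n)) this))
  · have := hb m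
    simp only [hm, if_false, sub_zero] at this
    rw [show e = (e - b) + b by ring]
    exact Ideal.add_mem _ (key m) this

/-- With separating idempotents, a ring is the product of its localizations at maximal ideals. -/
theorem bijective_pi_localization {B : Type v} [CommRing B] [Finite (MaximalSpectrum B)]
    (h : ∀ n : MaximalSpectrum B, ∃ e : B, IsIdempotentElem e ∧ e ∉ n.asIdeal ∧
      ∀ n' : MaximalSpectrum B, n' ≠ n → e ∈ n'.asIdeal) :
    Function.Bijective
      (RingHom.pi fun n : MaximalSpectrum B =>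
        algebraMap B (Localization.AtPrime n.asIdeal)) := by
  classical
  haveI := Fintype.ofFinite (MaximalSpectrum B)
  choose e he hne hmem using h
  refine ⟨MaximalSpectrum.toPiLocalization_injective B, fun x => ?_⟩
  have hz : ∀ n m : MaximalSpectrum B, m ≠ n →
      algebraMap B (Localization.AtPrime n.asIdeal) (e m) = 0 := fun n m hmn => by
    rw [IsLocalization.map_eq_zero_iff n.asIdeal.primeCompl]
    refine ⟨⟨1 - e m, fun h1 => n.isMaximal.isPrime.ne_top ((Ideal.eq_top_iff_one _).2 ?_)⟩, ?_⟩
    · simpa using Ideal.add_mem _ h1 (hmem m n hmn.symm)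
    · rw [sub_mul, one_mul, (he m).eq, sub_self]
  have hone : ∀ n : MaximalSpectrum B,
      algebraMap B (Localization.AtPrime n.asIdeal) (e n) = 1 := fun n => by
    have hu : IsUnit (algebraMap B (Localization.AtPrime n.asIdeal) (e n)) :=
      IsLocalization.map_units _ (⟨e n, hne n⟩ : n.asIdeal.primeCompl)
    refine hu.mul_left_cancel ?_
    rw [mul_one, ← map_mul, (he n).eq]
  -- an element `s` becomes a unit multiple of `e n` in the corner
  have hsur : ∀ (n : MaximalSpectrum B) (y : Localization.AtPrime n.asIdeal),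
      ∃ b : B, algebraMap B _ b = y := by
    intro n y
    obtain ⟨c, s, rfl⟩ := IsLocalization.exists_mk'_eq n.asIdeal.primeCompl y
    have hu : IsUnit ((s : B) * e n + (1 - e n)) := by
      by_contra hnu
      obtain ⟨M, hM, hmem'⟩ := exists_max_ideal_of_mem_nonunits hnu
      by_cases hMn : (⟨M, hM⟩ : MaximalSpectrum B) = n
      · subst hMn
        have h1 : 1 - e ⟨M, hM⟩ ∈ M := by
          refine (hM.isPrime.mem_or_mem (x := e ⟨M, hM⟩) (y := 1 - e ⟨M, hM⟩) ?_).resolve_left
            (hne ⟨M, hM⟩)
          rw [mul_sub, mul_one, (he _).eq, sub_self]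
          exact M.zero_mem
        have h2 : (s : B) * e ⟨M, hM⟩ ∈ M := by simpa using M.sub_mem hmem' h1
        exact (hM.isPrime.mem_or_mem h2).elim (fun h => s.2 h) (hne ⟨M, hM⟩)
      · have h1 := hmem n ⟨M, hM⟩ hMn
        have h2 : (1 : B) ∈ M := by
          rw [show (1 : B) = ((s : B) * e n + (1 - e n)) + (1 - (s : B)) * e n by ring]
          exact M.add_mem hmem' (M.mul_mem_left _ h1)
        exact hM.isPrime.ne_top ((Ideal.eq_top_iff_one _).2 h2)
    obtain ⟨u, hu⟩ := hu
    refine ⟨c * (↑u⁻¹ : B), ?_⟩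
    rw [IsLocalization.eq_mk'_iff_mul_eq, ← map_mul]
    have : algebraMap B (Localization.AtPrime n.asIdeal) (u : B) = algebraMap B _ (s : B) := by
      rw [hu]
      simp [hone]
    rw [map_mul, ← this, ← map_mul, mul_assoc, Units.inv_mul, mul_one]
  choose b hb using fun n => hsur n (x n)
  refine ⟨∑ n, e n * b n, funext fun n => ?_⟩
  show algebraMap B (Localization.AtPrime n.asIdeal) (∑ m, e m * b m) = x n
  rw [map_sum, Finset.sum_eq_single n]
  · rw [map_mul, hone, one_mul, hb]
  · intro m _ hm
    rw [map_mul, hz n m hm, zero_mul]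
  · simp

/-- A product of local rings has separating idempotents. -/
theorem exists_idempotents_of_ringEquiv_pi {B : Type v} [CommRing B] {ι : Type*} [Fintype ι]
    {C : ι → Type*} [∀ j, CommRing (C j)] (hC : ∀ j, IsLocalRing (C j)) (φ : B ≃+* ∀ j, C j)
    (n : MaximalSpectrum B) :
    ∃ e : B, IsIdempotentElem e ∧ e ∉ n.asIdeal ∧
      ∀ n' : MaximalSpectrum B, n' ≠ n → e ∈ n'.asIdeal := by
  classical
  let ε : ι → B := fun j => φ.symm (Pi.single j 1)
  have hsum : ∑ j, ε j = 1 := by
    simp only [ε, ← map_sum]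
    rw [show ∑ j, Pi.single (M := C) j 1 = 1 from Finset.univ_sum_single 1, map_one]
  have hidem : ∀ j, IsIdempotentElem (ε j) := fun j => by
    show ε j * ε j = ε j
    simp only [ε, ← map_mul, ← Pi.single_mul, mul_one]
  obtain ⟨j, hj⟩ : ∃ j, ε j ∉ n.asIdeal := by
    by_contra! h
    exact n.isMaximal.isPrime.ne_top
      ((Ideal.eq_top_iff_one _).2 (hsum ▸ n.asIdeal.sum_mem fun j _ => h j))
  refine ⟨ε j, hidem j, hj, fun n' hn' => ?_⟩
  by_contra hj'
  -- a maximal ideal missing `ε j` consists of the elements nonunit at `j`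
  have key : ∀ m : MaximalSpectrum B, ε j ∉ m.asIdeal → ∀ b ∈ m.asIdeal, ¬ IsUnit (φ b j) := by
    intro m hm b hb hu
    obtain ⟨v, hv⟩ := isUnit_iff_exists_inv.1 hu
    apply hm
    have : ε j = φ.symm (Pi.single j v) * b := φ.injective (by
      funext i
      rcases eq_or_ne i j with rfl | hi
      · simpa [ε, mul_comm v] using hv.symm
      · simp [ε, hi])
    rw [this]
    exact m.asIdeal.mul_mem_left _ hb
  haveI := hC j
  let P := (IsLocalRing.maximalIdeal (C j)).comap ((Pi.evalRingHom C j).comp φ.toRingHom)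
  haveI : P.IsPrime := Ideal.comap_isPrime _ _
  have h1 : ∀ m : MaximalSpectrum B, ε j ∉ m.asIdeal → m.asIdeal = P := fun m hm =>
    m.isMaximal.eq_of_le (Ideal.IsPrime.ne_top inferInstance) fun b hb => key m hm b hb
  exact hn' (MaximalSpectrum.ext ((h1 n' hj').trans (h1 n hj).symm))

end Groth.Agent.Hens
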