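import Groth.Agent.S0385
import Groth.Agent.Hens.SemiLocal
import Groth.Agent.Hensel.Pair
import Groth.Agent.EtaleSite.SH
import Mathlib.AlgebraicGeometry.Morphisms.Finite
import Mathlib.AlgebraicGeometry.Morphisms.UniversallyClosed
import Mathlib.RingTheory.Henselian

/-!
# The finite part of a quasi-finite separated scheme over a henselian local ring

* `range_subset_of_forall_closedPoint` : proper over a local base ⇒ contained in any open around the closed fibre
* `exists_finPart` : the open and closed finite part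
* `section_unique` : sections of separated étale schemes are determined on the closed fibre
-/

set_option linter.style.haveILetI false
set_option backward.isDefEq.respectTransparency.types false

universe u

open AlgebraicGeometry CategoryTheory CategoryTheory.Limits IsLocalRing

namespace Groth.Agent.Hens.FinPart

variable {R : Type u} [CommRing R] {X : Scheme.{u}}

/-- An open containing the closed fibre of a universally closed family contains all of it. -/
theorem range_subset_of_forall_closedPoint [IsLocalRing R] {Q : Scheme.{u}}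
    (f : X ⟶ Spec (CommRingCat.of R)) (q : Q ⟶ X) [UniversallyClosed (q ≫ f)] {O : Set X}
    (hO : IsOpen O) (h : ∀ z : Q, f (q z) = closedPoint R → q z ∈ O) : Set.range q ⊆ O := by
  rintro _ ⟨z, rfl⟩
  by_contra hz
  have hcl : IsClosed (q ⁻¹' Oᶜ) := hO.isClosed_compl.preimage q.continuous
  have him : IsClosed ((q ≫ f) '' (q ⁻¹' Oᶜ)) := (q ≫ f).isClosedMap _ hcl
  obtain ⟨w, hw, hwc⟩ : closedPoint R ∈ (q ≫ f) '' (q ⁻¹' Oᶜ) :=
    (IsLocalRing.specializes_closedPoint ((q ≫ f) z)).mem_closed him ⟨z, hz, rfl⟩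
  exact hw (h w ((Scheme.Hom.comp_apply q f w).symm.trans hwc))

theorem subset_of_forall_closedPoint [IsLocalRing R] (f : X ⟶ Spec (CommRingCat.of R)) (W : X.Opens)
    [IsFinite (W.ι ≫ f)] {O : Set X} (hO : IsOpen O)
    (h : ∀ x ∈ W, f x = closedPoint R → x ∈ O) : (W : Set X) ⊆ O := by
  have := range_subset_of_forall_closedPoint f W.ι hO fun z hz => h _ z.2 hz
  rwa [Scheme.Opens.range_ι] at this

variable [HenselianLocalRing R]

/-- An open of the spectrum of a finite algebra contains a clopen with the same closed fibre. -/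
theorem exists_clopen_of_finite {B : Type u} [CommRing B] [Algebra R B] [Module.Finite R B]
    {O : Set (PrimeSpectrum B)} (hO : IsOpen O) :
    ∃ C : Set (PrimeSpectrum B), IsClopen C ∧ C ⊆ O ∧
      ∀ P : PrimeSpectrum B, P ∈ O → P.asIdeal.comap (algebraMap R B) = maximalIdeal R → P ∈ C := by
  haveI := finite_maximalSpectrum_of_finite R B
  have hs : Set.SurjOn (Ideal.Quotient.mk ((maximalIdeal R).map (algebraMap R B)))
      {e : B | IsIdempotentElem e} {e | IsIdempotentElem e} :=
    (Hensel.idempotents_bijOn (I := maximalIdeal R) B).surjOn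
  choose e he hne hmem using fun n : MaximalSpectrum B => exists_idempotents_of_surjOn hs n
  refine ⟨⋃ n ∈ {n : MaximalSpectrum B | n.toPrimeSpectrum ∈ O}, PrimeSpectrum.basicOpen (e n), ?_, ?_, ?_⟩
  · exact (Set.toFinite _).isClopen_biUnion fun n _ =>
      PrimeSpectrum.isClopen_iff.2 ⟨e n, he n, rfl⟩
  · intro P hP
    obtain ⟨n, hn, hPn⟩ := Set.mem_iUnion₂.1 hP
    obtain ⟨M, hM, hle⟩ := Ideal.exists_le_maximal P.asIdeal P.isPrime.ne_top
    have hMn : (⟨M, hM⟩ : MaximalSpectrum B) = n := by
      by_contra hne'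
      have h1 : 1 - e n ∈ P.asIdeal :=
        (P.isPrime.mem_or_mem (x := e n) (y := 1 - e n) (by
          rw [mul_sub, mul_one, (he n).eq, sub_self]; exact zero_mem _)).resolve_left hPn
      have h2 := M.add_mem (hmem n ⟨M, hM⟩ hne') (hle h1)
      rw [add_sub_cancel] at h2
      exact hM.ne_top ((Ideal.eq_top_iff_one M).2 h2)
    subst hMn
    exact ((PrimeSpectrum.le_iff_specializes P (MaximalSpectrum.toPrimeSpectrum ⟨M, hM⟩)).1 hle).mem_open hO hn
  · intro P hPO hP
    haveI : (P.asIdeal.comap (algebraMap R B)).IsMaximal := hP ▸ inferInstance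
    have hmax : P.asIdeal.IsMaximal := Ideal.isMaximal_of_isIntegral_of_isMaximal_comap (R := R) P.asIdeal inferInstance
    exact Set.mem_iUnion₂.2 ⟨⟨P.asIdeal, hmax⟩, hPO, hne ⟨P.asIdeal, hmax⟩⟩

/-- The finite part of a quasi-finite separated scheme over a henselian local ring. -/
theorem exists_finPart (f : X ⟶ Spec (CommRingCat.of R))
    [LocallyQuasiFinite f] [LocallyOfFiniteType f] [QuasiCompact f] [IsSeparated f] :
    ∃ W : X.Opens, IsClosed (W : Set X) ∧ IsFinite (W.ι ≫ f) ∧
      ∀ x : X, f x = closedPoint R → x ∈ W := by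
  obtain ⟨T, j, π, hj, -, hπ, hjπ⟩ := S0385.result f
  haveI : IsAffine T := isAffine_of_isAffineHom π
  obtain ⟨φ, hφ⟩ := Spec.map_surjective (T.isoSpec.inv ≫ π)
  haveI hfin : IsFinite (Spec.map φ) := by rw [hφ]; infer_instance
  letI : Algebra R Γ(T, ⊤) := φ.hom.toAlgebra
  haveI : Module.Finite R Γ(T, ⊤) := RingHom.finite_algebraMap.1 ((IsFinite.SpecMap_iff φ).1 hfin)
  let j' : X ⟶ Spec Γ(T, ⊤) := j ≫ T.isoSpec.hom
  haveI : IsOpenImmersion j' := inferInstanceAs (IsOpenImmersion (j ≫ T.isoSpec.hom))
  have hj' : j' ≫ Spec.map φ = f := by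
    rw [hφ, Category.assoc, Iso.hom_inv_id_assoc, hjπ]
  obtain ⟨C, hC, hCj, hCmem⟩ := exists_clopen_of_finite (R := R) j'.isOpenEmbedding.isOpen_range
  let W : X.Opens := ⟨j' ⁻¹' C, hC.2.preimage j'.continuous⟩
  refine ⟨W, hC.1.preimage j'.continuous, ?_, fun x hx => hCmem _ ⟨x, rfl⟩ ?_⟩
  · haveI : IsClosedImmersion (W.ι ≫ j') := .of_isPreimmersion _ <| by
      have : Set.range (W.ι ≫ j') = C := by
        rw [Scheme.Hom.comp_base, TopCat.coe_comp, Set.range_comp, Scheme.Opens.range_ι]
        exact Set.image_preimage_eq_of_subset hCj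
      rw [this]; exact hC.1
    rw [← hj', ← Category.assoc]
    infer_instance
  · have h1 : Spec.map φ (j' x) = closedPoint R := by
      rw [← Scheme.Hom.comp_apply, hj']; exact hx
    exact congrArg PrimeSpectrum.asIdeal h1

theorem subset_of_isFinPart (f : X ⟶ Spec (CommRingCat.of R)) {W W' : X.Opens}
    (hW : IsFinite (W.ι ≫ f)) (hW' : ∀ x : X, f x = closedPoint R → x ∈ W') : W ≤ W' := by
  haveI := hW
  exact subset_of_forall_closedPoint f W W'.2 fun x _ hx => hW' x hx

/-- Sections of a separated étale scheme are determined by their closed fibre. -/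
theorem section_unique (g : X ⟶ Spec (CommRingCat.of R)) [Etale g] [IsSeparated g]
    {s s' : Spec (CommRingCat.of R) ⟶ X} (hs : s ≫ g = 𝟙 _) (hs' : s' ≫ g = 𝟙 _)
    (h : EtaleSite.closedPt R ≫ s = EtaleSite.closedPt R ≫ s') : s = s' := by
  let w : Spec (CommRingCat.of R) ⟶ pullback g g := pullback.lift s s' (hs.trans hs'.symm)
  have hΔo : IsOpen (Set.range (pullback.diagonal g)) := (pullback.diagonal g).isOpenEmbedding.isOpen_range
  have he : (EtaleSite.closedPt R ≫ s) ≫ pullback.diagonal g = EtaleSite.closedPt R ≫ w := by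
    apply pullback.hom_ext <;>
      simp only [w, Category.assoc, pullback.diagonal_fst, pullback.diagonal_snd, pullback.lift_fst,
        pullback.lift_snd, Category.comp_id, h]
  have hc : closedPoint R ∈ w ⁻¹' Set.range (pullback.diagonal g) := by
    haveI : IsLocalHom (CommRingCat.ofHom (residue R)).hom := inferInstanceAs (IsLocalHom (residue R))
    refine ⟨(EtaleSite.closedPt R ≫ s) (closedPoint (CommRingCat.of (ResidueField R))), ?_⟩
    rw [← Scheme.Hom.comp_apply, he, Scheme.Hom.comp_apply]
    exact congrArg w (Spec_closedPoint (f := CommRingCat.ofHom (residue R)))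
  have hr : Set.range w ⊆ Set.range (pullback.diagonal g) := by
    rintro _ ⟨z, rfl⟩
    exact (IsLocalRing.specializes_closedPoint z).mem_open (hΔo.preimage w.continuous) hc
  have hl := IsOpenImmersion.lift_fac (pullback.diagonal g) w hr
  have h1 := congrArg (· ≫ pullback.fst g g) hl
  have h2 := congrArg (· ≫ pullback.snd g g) hl
  simp only [Category.assoc, pullback.diagonal_fst, pullback.diagonal_snd, Category.comp_id, w,
    pullback.lift_fst, pullback.lift_snd] at h1 h2
  exact h1.symm.trans h2

end Groth.Agent.Hens.FinPart
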