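import Groth.Agent.Hens.ProperClopenLift
import Groth.Agent.S2147
import Groth.Agent.LimTop.Connected

/-!
# Clopen subsets lift along proper morphisms over arbitrary henselian pairs
-/

set_option autoImplicit false
set_option linter.style.haveILetI false
set_option backward.isDefEq.respectTransparency.types false

universe u

open CategoryTheory CategoryTheory.Limits AlgebraicGeometry TopologicalSpace

namespace Groth.Agent.Hens.ProperClopenGen

open Groth.Agent.Hens.FormalIdem (vanIdeal mem_vanIdeal mem_basicOpen_congr)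

variable {A : Type u} [CommRing A] {X : Scheme.{u}}

theorem appTop_mem_vanIdeal_iff {Y : Scheme.{u}} (g : X ⟶ Y) (x : X) (r : Γ(Y, ⊤)) :
    g.appTop r ∈ vanIdeal x ↔ r ∈ vanIdeal (g x) := by
  rw [mem_vanIdeal, mem_vanIdeal, ← Scheme.preimage_basicOpen_top]
  exact Iff.rfl

theorem mem_zeroLocus_iff (I : Ideal A) (f : X ⟶ Spec (CommRingCat.of A)) (x : X) :
    f x ∈ PrimeSpectrum.zeroLocus (I : Set A) ↔ ∀ a ∈ I, (Coh.toGlobal f a : Γ(X, ⊤)) ∈ vanIdeal x := by
  letI : X.Over (Spec (CommRingCat.of A)) := ⟨f⟩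
  exact (FormalIdem.mem_Z_iff I x).trans (forall₂_congr fun a _ => (mem_vanIdeal x _).symm)

theorem comp_appTop_apply {X Y Z : Scheme.{u}} (f : X ⟶ Y) (g : Y ⟶ Z) (r : Γ(Z, ⊤)) :
    (f ≫ g).appTop r = f.appTop (g.appTop r) := by
  rw [Scheme.Hom.comp_appTop]; rfl

/-- A map carrying `I`-points to `J`-points, in terms of vanishing. -/
theorem isProper_comp_isoSpec {Y : Scheme.{u}} {Z : Scheme.{u}} (g : Z ⟶ Y) [IsProper g] [IsAffine Y] :
    IsProper (g ≫ Y.isoSpec.hom : Z ⟶ Spec (CommRingCat.of Γ(Y, ⊤))) := inferInstance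

theorem toGlobal_isoSpec {Y Z : Scheme.{u}} (g : Z ⟶ Y) [IsAffine Y] (a : Γ(Y, ⊤)) :
    (Coh.toGlobal (g ≫ Y.isoSpec.hom : Z ⟶ Spec (CommRingCat.of Γ(Y, ⊤))) a : Γ(Z, ⊤)) = g.appTop a := by
  show ((g ≫ Y.toSpecΓ).appTop) ((Scheme.ΓSpecIso Γ(Y, ⊤)).inv a) = g.appTop a
  rw [Scheme.Hom.comp_appTop, Scheme.toSpecΓ_appTop]
  show g.appTop ((Scheme.ΓSpecIso Γ(Y, ⊤)).hom ((Scheme.ΓSpecIso Γ(Y, ⊤)).inv a)) = _
  rw [Iso.inv_hom_id_apply]

/-- Compact opens cutting out a clopen subset of `V(I)`, with a finitely generated witness. -/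
theorem exists_opens (I : Ideal A) (f : X ⟶ Spec (CommRingCat.of A)) [QuasiCompact f] [QuasiSeparated f]
    {V : Set X} (hVZ : V ⊆ f ⁻¹' PrimeSpectrum.zeroLocus (I : Set A))
    (hV : IsClopen (Subtype.val ⁻¹' V : Set ↥(f ⁻¹' PrimeSpectrum.zeroLocus (I : Set A) : Set X))) :
    ∃ (W W' : X.Opens) (t : Finset A), (∀ a ∈ t, a ∈ I) ∧ IsCompact (W : Set X) ∧ IsCompact (W' : Set X) ∧
      (W ⊓ W' ≤ ⨆ a : t, X.basicOpen (show Γ(X, ⊤) from Coh.toGlobal f a.1)) ∧
      ((⊤ : X.Opens) ≤ W ⊔ W' ⊔ ⨆ a : t, X.basicOpen (show Γ(X, ⊤) from Coh.toGlobal f a.1)) ∧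
      ∀ x ∈ f ⁻¹' PrimeSpectrum.zeroLocus (I : Set A), (x ∈ W ↔ x ∈ V) := by
  classical
  haveI : CompactSpace X := QuasiCompact.compactSpace_of_compactSpace f
  haveI : QuasiSeparatedSpace X := quasiSeparatedSpace_of_quasiSeparated f
  let Z : Set X := f ⁻¹' PrimeSpectrum.zeroLocus (I : Set A)
  have hZ : IsClosed Z := (PrimeSpectrum.isClosed_zeroLocus _).preimage f.continuous
  have key : ∀ T : Set X, T ⊆ Z → IsClopen (Subtype.val ⁻¹' T : Set Z) →
      ∃ W : X.Opens, IsCompact (W : Set X) ∧ (W : Set X) ∩ Z = T := by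
    intro T hTZ hT
    obtain ⟨O, hO, hOT⟩ := isOpen_induced_iff.1 hT.2
    have hmemO : ∀ x ∈ Z, x ∈ O ↔ x ∈ T := fun x hx => Set.ext_iff.1 hOT ⟨x, hx⟩
    have hTc : IsCompact T := by
      have e : T = Subtype.val '' (Subtype.val ⁻¹' T : Set Z) := by
        rw [Subtype.image_preimage_coe, Set.inter_eq_right.2 hTZ]
      rw [e]
      exact (hZ.isClosedEmbedding_subtypeVal.isClosedMap _ hT.1).isCompact
    have hcov : ∀ x : T, ∃ U : X.Opens, IsAffineOpen U ∧ (x : X) ∈ U ∧ (U : Set X) ⊆ O := fun x => by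
      obtain ⟨U, hU, hxU, hUO⟩ := exists_isAffineOpen_mem_and_subset (X := X)
        (U := ⟨O, hO⟩) ((hmemO x (hTZ x.2)).2 x.2)
      exact ⟨U, hU, hxU, hUO⟩
    choose U hU hxU hUO using hcov
    obtain ⟨s, hs⟩ := hTc.elim_finite_subcover (fun x => (U x : Set X)) (fun x => (U x).2)
      (fun x hx => Set.mem_iUnion.2 ⟨⟨x, hx⟩, hxU _⟩)
    refine ⟨⨆ x : s, U x.1, ?_, ?_⟩
    · rw [Opens.coe_iSup]
      exact isCompact_iUnion fun x => (hU _).isCompact
    · ext x
      simp only [Set.mem_inter_iff, SetLike.mem_coe, Opens.mem_iSup]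
      constructor
      · rintro ⟨⟨i, hi⟩, hxZ⟩; exact (hmemO x hxZ).1 (hUO _ hi)
      · intro hx
        obtain ⟨i, hi, hxi⟩ := Set.mem_iUnion₂.1 (hs hx)
        exact ⟨⟨⟨i, hi⟩, hxi⟩, hTZ hx⟩
  obtain ⟨W, hW, hWV⟩ := key V hVZ hV
  obtain ⟨W', hW', hWV'⟩ := key (Z \ V) Set.sdiff_subset (by
    have : (Subtype.val ⁻¹' (Z \ V) : Set Z) = (Subtype.val ⁻¹' V)ᶜ := by
      ext x; simp [x.2]
    rw [this]; exact hV.compl)
  let D : A → Set X := fun a => (X.basicOpen (show Γ(X, ⊤) from Coh.toGlobal f a) : Set X)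
  have hD : ∀ x, x ∉ Z → ∃ a ∈ I, x ∈ D a := fun x hx => by
    by_contra h
    push Not at h
    exact hx ((mem_zeroLocus_iff I f x).2 fun a ha => (mem_vanIdeal x _).2 (h a ha))
  have fin : ∀ C : Set X, IsCompact C → Disjoint C Z → ∃ s : Finset A, (∀ a ∈ s, a ∈ I) ∧
      C ⊆ ⋃ a ∈ s, D a := by
    intro C hC hd
    obtain ⟨s, hs⟩ := hC.elim_finite_subcover (fun a : I => D a.1) (fun a => (X.basicOpen _).2)
      (fun x hx => by
        obtain ⟨a, ha, hxa⟩ := hD x (Set.disjoint_left.1 hd hx)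
        exact Set.mem_iUnion.2 ⟨⟨a, ha⟩, hxa⟩)
    refine ⟨s.image Subtype.val, fun a ha => ?_, fun x hx => ?_⟩
    · obtain ⟨b, -, rfl⟩ := Finset.mem_image.1 ha; exact b.2
    · obtain ⟨b, hb, hxb⟩ := Set.mem_iUnion₂.1 (hs hx)
      exact Set.mem_iUnion₂.2 ⟨b.1, Finset.mem_image_of_mem _ hb, hxb⟩
  obtain ⟨s, hs, hsC⟩ := fin ((W : Set X) ∩ W') (QuasiSeparatedSpace.inter_isCompact _ _ W.2 hW W'.2 hW')
    (Set.disjoint_left.2 fun x hx hxZ => by
      have h1 : x ∈ V := by rw [← hWV]; exact ⟨hx.1, hxZ⟩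
      have h2 : x ∈ Z \ V := by rw [← hWV']; exact ⟨hx.2, hxZ⟩
      exact h2.2 h1)
  obtain ⟨s', hs', hsC'⟩ := fin ((W ⊔ W' : X.Opens) : Set X)ᶜ
    (W ⊔ W').2.isClosed_compl.isCompact
    (Set.disjoint_left.2 fun x hx hxZ => hx (by
      by_cases hxV : x ∈ V
      · rw [← hWV] at hxV; exact Or.inl hxV.1
      · have h2 : x ∈ Z \ V := ⟨hxZ, hxV⟩
        rw [← hWV'] at h2; exact Or.inr h2.1))
  refine ⟨W, W', s ∪ s', fun a ha => (Finset.mem_union.1 ha).elim (hs a) (hs' a), hW, hW', ?_, ?_,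
    fun x hx => ⟨fun h => by rw [← hWV]; exact ⟨h, hx⟩, fun h => by rw [← hWV] at h; exact h.1⟩⟩
  · intro x hx
    obtain ⟨a, ha, hxa⟩ := Set.mem_iUnion₂.1 (hsC hx)
    exact Opens.mem_iSup.2 ⟨⟨a, Finset.mem_union_left _ ha⟩, hxa⟩
  · intro x _
    by_cases hx : x ∈ W ⊔ W'
    · exact Or.inl hx
    · obtain ⟨a, ha, hxa⟩ := Set.mem_iUnion₂.1 (hsC' hx)
      exact Or.inr (Opens.mem_iSup.2 ⟨⟨a, Finset.mem_union_right _ ha⟩, hxa⟩)

/-- Almost idempotents with prescribed clopen part over `V(I)`, without Noetherian hypotheses. -/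
theorem exists_almost_idempotent (I : Ideal A) (f : X ⟶ Spec (CommRingCat.of A)) [IsProper f] {V : Set X}
    (hVZ : V ⊆ f ⁻¹' PrimeSpectrum.zeroLocus (I : Set A))
    (hV : IsClopen (Subtype.val ⁻¹' V : Set ↥(f ⁻¹' PrimeSpectrum.zeroLocus (I : Set A) : Set X))) :
    ∃ b : Γ(X, ⊤), b * b - b ∈ I.map (ProperClopenLift.φ f) ∧
      ∀ x ∈ f ⁻¹' PrimeSpectrum.zeroLocus (I : Set A), (x ∈ X.basicOpen b ↔ x ∈ V) := by
  classical
  obtain ⟨W, W', t, htI, hW, hW', hint, htop, hWV⟩ := exists_opens I f hVZ hV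
  obtain ⟨N, _, _, DX, DS, φ, cX, cS, hcX, hcS, eX, eS, hAff, hprop, hrel⟩ := S2147.result f
  haveI : ∀ i, CompactSpace (DS.obj i) := fun i => (hprop i).2.1
  haveI : ∀ i, IsProper (φ.app i) := fun i => (hprop i).1
  haveI : ∀ i, IsLocallyNoetherian (DS.obj i) := fun i => by
    haveI := (hprop i).2.2
    exact LocallyOfFiniteType.isLocallyNoetherian (Limits.IsTerminal.from specULiftZIsTerminal (DS.obj i))
  haveI : ∀ {i j : N} (a : i ⟶ j), IsAffineHom (DS.map a) := fun {i j} a => (hAff i j a).2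
  haveI : ∀ {i j : N} (a : i ⟶ j), IsAffineHom (DX.map a) := fun {i j} a => (hAff i j a).1
  haveI : ∀ i, QuasiSeparatedSpace (DS.obj i) := fun i => inferInstance
  haveI : ∀ i, CompactSpace (DX.obj i) := fun i => QuasiCompact.compactSpace_of_compactSpace (φ.app i)
  haveI : ∀ i, QuasiSeparatedSpace (DX.obj i) := fun i => quasiSeparatedSpace_of_quasiSeparated (φ.app i)
  let cX' : Cone DX := cX.extend eX.inv
  have hcX' : IsLimit cX' := hcX.extendIso eX.inv
  let cS' : Cone DS := cS.extend eS.inv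
  have hcS' : IsLimit cS' := hcS.extendIso eS.inv
  have hrel' : ∀ i, cX'.π.app i ≫ φ.app i = f ≫ cS'.π.app i := fun i => by
    show (eX.inv ≫ cX.π.app i) ≫ φ.app i = f ≫ eS.inv ≫ cS.π.app i
    rw [Category.assoc, hrel i, Iso.inv_hom_id_assoc]
  haveI : IsAffine cS'.pt := inferInstanceAs (IsAffine (Spec (CommRingCat.of A)))
  obtain ⟨i₀, hi₀⟩ := Scheme.exists_isAffine_of_isLimit DS cS' hcS'
  -- generators come from a stage
  have hgen : ∀ a : t, ∃ (i : N) (_ : i ⟶ i₀) (s : Γ(DS.obj i, ⊤)),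
      (cS'.π.app i).appTop s = (Scheme.ΓSpecIso (CommRingCat.of A)).inv a.1 := by
    intro a
    obtain ⟨i, s, hs⟩ := exists_appTop_π_eq_of_isLimit DS cS' hcS'
      ((Scheme.ΓSpecIso (CommRingCat.of A)).inv a.1)
    obtain ⟨k, p, q, -⟩ : ∃ (k : N) (_ : k ⟶ i) (_ : k ⟶ i₀), True :=
      ⟨IsCofiltered.min i i₀, IsCofiltered.minToLeft _ _, IsCofiltered.minToRight _ _, trivial⟩
    refine ⟨k, q, (DS.map p).appTop s, ?_⟩
    rw [hs, ← comp_appTop_apply, cS'.w]
  choose gi gh gs hgs using hgen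
  obtain ⟨i₁, h01, Wi, Wi', hWi, hWi', hWe, hWe'⟩ :=
    LimTop.exists_open_preimage₂ hcX' i₀ W.2 hW W'.2 hW'
  obtain ⟨i, hi⟩ := IsCofiltered.inf_objs_exists (insert i₁ (Finset.univ.image gi))
  let r : i ⟶ i₁ := (hi (Finset.mem_insert_self _ _)).some
  let q : ∀ a : t, i ⟶ gi a := fun a =>
    (hi (Finset.mem_insert_of_mem (Finset.mem_image_of_mem _ (Finset.mem_univ a)))).some
  let s : t → Γ(DS.obj i, ⊤) := fun a => (DS.map (q a)).appTop (gs a)
  have hs : ∀ a : t, (cX'.π.app i).appTop ((φ.app i).appTop (s a)) = (Coh.toGlobal f a.1 : Γ(X, ⊤)) := by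
    intro a
    rw [← comp_appTop_apply, hrel', comp_appTop_apply]
    show f.appTop ((cS'.π.app i).appTop ((DS.map (q a)).appTop (gs a))) = _
    rw [← comp_appTop_apply (cS'.π.app i) (DS.map (q a)), cS'.w, hgs]
    rfl
  let G : (DX.obj i).Opens := ⨆ a : t, (DX.obj i).basicOpen ((φ.app i).appTop (s a))
  have hG : cX'.π.app i ⁻¹ᵁ G = ⨆ a : t, X.basicOpen (show Γ(X, ⊤) from Coh.toGlobal f a.1) := by
    rw [Scheme.Hom.preimage_iSup]
    refine iSup_congr fun a => ?_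
    rw [Scheme.preimage_basicOpen_top, hs a]
    rfl
  let U : (DX.obj i).Opens := DX.map r ⁻¹ᵁ Wi
  let U' : (DX.obj i).Opens := DX.map r ⁻¹ᵁ Wi'
  have hU : cX'.π.app i ⁻¹ᵁ U = W := by
    rw [← Scheme.Hom.comp_preimage, cX'.w r]; exact Opens.ext hWe
  have hU' : cX'.π.app i ⁻¹ᵁ U' = W' := by
    rw [← Scheme.Hom.comp_preimage, cX'.w r]; exact Opens.ext hWe'
  have hUc : IsCompact ((U ⊓ U' : (DX.obj i).Opens) : Set (DX.obj i)) :=
    QuasiSeparatedSpace.inter_isCompact _ _ U.2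
      (QuasiCompact.isCompact_preimage (f := DX.map r) _ Wi.2 hWi) U'.2
      (QuasiCompact.isCompact_preimage (f := DX.map r) _ Wi'.2 hWi')
  obtain ⟨k₁, g₁, hk₁⟩ := exists_map_preimage_le_map_preimage DX cX' hcX' (U := U ⊓ U') (V := G) hUc
    (by rw [Scheme.Hom.preimage_inf, hU, hU', hG]; exact hint)
  obtain ⟨k₂, g₂, hk₂⟩ := exists_map_preimage_le_map_preimage DX cX' hcX'
    (U := (⊤ : (DX.obj i).Opens)) (V := U ⊔ U' ⊔ G) isCompact_univ
    (by rw [Scheme.Hom.preimage_sup, Scheme.Hom.preimage_sup, hU, hU', hG]; exact fun x _ => htop trivial)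
  obtain ⟨j, m₁, m₂, hm⟩ := IsCofiltered.cospan g₁ g₂
  let g : j ⟶ i := m₁ ≫ g₁
  let j₀ : j ⟶ i₀ := g ≫ r ≫ h01
  haveI : IsAffine (DS.obj j) := by
    haveI := hi₀
    exact isAffine_of_isAffineHom (DS.map j₀)
  haveI : IsLocallyNoetherian (DS.obj j) := inferInstance
  haveI : IsNoetherianRing Γ(DS.obj j, ⊤) :=
    IsLocallyNoetherian.component_noetherian ⟨⊤, isAffineOpen_top _⟩
  let sj : t → Γ(DS.obj j, ⊤) := fun a => (DS.map g).appTop (s a)
  let J : Ideal Γ(DS.obj j, ⊤) := Ideal.span (Set.range sj)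
  let fj : DX.obj j ⟶ Spec (CommRingCat.of Γ(DS.obj j, ⊤)) := φ.app j ≫ (DS.obj j).isoSpec.hom
  haveI : IsProper fj := isProper_comp_isoSpec (φ.app j)
  have hgj : ∀ a : t, (φ.app j).appTop (sj a) = (DX.map g).appTop ((φ.app i).appTop (s a)) := fun a => by
    exact (comp_appTop_apply _ _ _).symm.trans
      ((congrArg (fun k => k.appTop (s a)) (φ.naturality g).symm).trans (comp_appTop_apply _ _ _))
  have hZj : ∀ x, fj x ∈ PrimeSpectrum.zeroLocus (J : Set Γ(DS.obj j, ⊤)) ↔ DX.map g x ∉ G := by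
    intro x
    rw [mem_zeroLocus_iff]
    simp only [G, Opens.mem_iSup, not_exists]
    constructor
    · intro h a
      have := h (sj a) (Ideal.subset_span ⟨a, rfl⟩)
      rw [show (Coh.toGlobal fj (sj a) : Γ(DX.obj j, ⊤)) = (φ.app j).appTop (sj a) from
        toGlobal_isoSpec _ _] at this
      have h' : (DX.map g).appTop ((φ.app i).appTop (s a)) ∈ vanIdeal x := hgj a ▸ this
      rw [appTop_mem_vanIdeal_iff, mem_vanIdeal] at h'
      exact h'
    · intro h a ha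
      rw [toGlobal_isoSpec]
      refine (show J ≤ (vanIdeal x).comap (φ.app j).appTop.hom from Ideal.span_le.2 ?_) ha
      rintro _ ⟨b, rfl⟩
      show (φ.app j).appTop (sj b) ∈ vanIdeal x
      rw [hgj, appTop_mem_vanIdeal_iff, mem_vanIdeal]
      exact h b
  have hsep : ∀ x : DX.obj j, DX.map g x ∉ G →
      (DX.map g x ∈ U ↔ DX.map g x ∉ U') := by
    intro x hx
    constructor
    · intro h h'
      have h1 : DX.map m₁ x ∈ DX.map g₁ ⁻¹ᵁ (U ⊓ U') := by
        show DX.map g₁ (DX.map m₁ x) ∈ U ⊓ U'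
        rw [← LimTop.map_comp_apply]; exact ⟨h, h'⟩
      have h2 : DX.map g₁ (DX.map m₁ x) ∈ G := hk₁ h1
      rw [← LimTop.map_comp_apply] at h2
      exact hx h2
    · intro h
      have h2 : DX.map g₂ (DX.map m₂ x) ∈ U ⊔ U' ⊔ G :=
        hk₂ (show DX.map m₂ x ∈ DX.map g₂ ⁻¹ᵁ ⊤ from trivial)
      rw [← LimTop.map_comp_apply, ← hm] at h2
      rcases h2 with (h2 | h2) | h2
      · exact h2
      · exact absurd h2 h
      · exact absurd h2 hx
  obtain ⟨b, hb, hbV⟩ : ∃ b : Γ(DX.obj j, ⊤), b * b - b ∈ J.map (ProperClopenLift.φ fj) ∧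
      ∀ x ∈ fj ⁻¹' PrimeSpectrum.zeroLocus (J : Set Γ(DS.obj j, ⊤)),
        (x ∈ (DX.obj j).basicOpen b ↔ DX.map g x ∈ U) := by
    letI : (DX.obj j).Over (Spec (CommRingCat.of Γ(DS.obj j, ⊤))) := ⟨fj⟩
    haveI : IsProper (DX.obj j ↘ Spec (CommRingCat.of Γ(DS.obj j, ⊤))) := ‹IsProper fj›
    refine FormalIdem.exists_almost_idempotent (V := {x | DX.map g x ∈ U}) J ⟨?_, ?_⟩
    · have e : (Subtype.val ⁻¹' {x | DX.map g x ∈ U} : Set (FormalIdem.Z (X := DX.obj j) J)) =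
          (Subtype.val ⁻¹' {x | DX.map g x ∈ U'})ᶜ := by
        ext ⟨x, hx⟩
        exact hsep x ((hZj x).1 hx)
      rw [e]
      exact ((U'.2.preimage (DX.map g).continuous).preimage continuous_subtype_val).isClosed_compl
    · exact (U.2.preimage (DX.map g).continuous).preimage continuous_subtype_val
  refine ⟨(cX'.π.app j).appTop b, ?_, fun x hx => ?_⟩
  · rw [← map_mul, ← map_sub]
    have hle : (J.map (ProperClopenLift.φ fj)).map (cX'.π.app j).appTop.hom ≤ I.map (ProperClopenLift.φ f) := by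
      rw [Ideal.map_map, Ideal.map_le_iff_le_comap, Ideal.span_le]
      rintro _ ⟨a, rfl⟩
      show (cX'.π.app j).appTop (Coh.toGlobal fj (sj a)) ∈ I.map (ProperClopenLift.φ f)
      rw [toGlobal_isoSpec, hgj, ← comp_appTop_apply, cX'.w, hs]
      exact Ideal.mem_map_of_mem _ (htI _ a.2)
    exact hle (Ideal.mem_map_of_mem _ hb)
  · rw [← hWV x hx]
    have hπ : DX.map g (cX'.π.app j x) = cX'.π.app i x := LimTop.π_apply cX' g x
    have hxZ : fj (cX'.π.app j x) ∈ PrimeSpectrum.zeroLocus (J : Set Γ(DS.obj j, ⊤)) := by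
      rw [hZj, hπ]
      show x ∉ cX'.π.app i ⁻¹ᵁ G
      rw [hG, Opens.mem_iSup, not_exists]
      exact fun a => (mem_vanIdeal x _).1 ((mem_zeroLocus_iff I f x).1 hx _ (htI _ a.2))
    rw [← Scheme.preimage_basicOpen_top]
    refine (hbV _ hxZ).trans ?_
    rw [hπ, ← hU]
    exact Iff.rfl

/-- Clopen subsets over `V(I)` of a proper scheme over a henselian pair lift uniquely. -/
theorem existsUnique_clopen (I : Ideal A) [HenselianRing A I] (f : X ⟶ Spec (CommRingCat.of A))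
    [IsProper f] {V : Set X} (hVZ : V ⊆ f ⁻¹' PrimeSpectrum.zeroLocus (I : Set A))
    (hV : IsClopen (Subtype.val ⁻¹' V : Set ↥(f ⁻¹' PrimeSpectrum.zeroLocus (I : Set A) : Set X))) :
    ∃! U : Set X, IsClopen U ∧ U ∩ f ⁻¹' PrimeSpectrum.zeroLocus (I : Set A) = V := by
  obtain ⟨b, hb, hbV⟩ := exists_almost_idempotent I f hVZ hV
  letI : Algebra A Γ(X, ⊤) := (ProperClopenLift.φ f).toAlgebra
  haveI : Algebra.IsIntegral A Γ(X, ⊤) := ⟨fun y => by
    have h := isIntegral_appTop_of_universallyClosed f y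
    obtain ⟨p, hp, hpy⟩ := h
    refine ⟨p.map (Scheme.ΓSpecIso (CommRingCat.of A)).hom.hom, hp.map _, ?_⟩
    rw [Polynomial.eval₂_map]
    refine Eq.trans ?_ hpy
    congr 1
    ext a
    show f.appTop ((Scheme.ΓSpecIso (CommRingCat.of A)).inv ((Scheme.ΓSpecIso (CommRingCat.of A)).hom a)) = _
    rw [Iso.hom_inv_id_apply]⟩
  obtain ⟨e, he, heb⟩ := Groth.Agent.Hensel.exists_isIdempotentElem_lift' (A := A) (I := I)
    (B := (Γ(X, ⊤) : Type u)) (e := b) hb
  have heV : ∀ x ∈ f ⁻¹' PrimeSpectrum.zeroLocus (I : Set A), (x ∈ X.basicOpen e ↔ x ∈ V) :=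
    fun x hx => (mem_basicOpen_congr
      ((Ideal.map_le_iff_le_comap.2 fun a ha => (mem_zeroLocus_iff I f x).1 hx a ha :
        I.map (ProperClopenLift.φ f) ≤ vanIdeal x) heb)).trans (hbV x hx)
  have hjac : I.map (ProperClopenLift.φ f) ≤ Ideal.jacobson ⊥ :=
    Groth.Agent.Hensel.map_le_jacobson_bot_of_isIntegral HenselianRing.jac
  exact ProperClopenLift.existsUnique_of_idempotent I f hjac hVZ he heV

theorem clopenLift (I : Ideal A) [HenselianRing A I] (f : X ⟶ Spec (CommRingCat.of A)) [IsProper f] :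
    Groth.Agent.Hensel.ClopenLift (pullback.fst f (Spec.map (CommRingCat.ofHom (Ideal.Quotient.mk I)))) := by
  intro Y g hg V hV
  haveI : IsClosedImmersion (Spec.map (CommRingCat.ofHom (Ideal.Quotient.mk I))) :=
    IsClosedImmersion.spec_of_surjective _ Ideal.Quotient.mk_surjective
  haveI : IsFinite g := hg
  have hr : Set.range (pullback.fst g (pullback.fst f (Spec.map (CommRingCat.ofHom (Ideal.Quotient.mk I))))) =
      (g ≫ f) ⁻¹' PrimeSpectrum.zeroLocus (I : Set A) := by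
    rw [Scheme.Pullback.range_fst, ProperClopenLift.range_fst_mk]
    rfl
  exact ProperClopenLift.existsUnique_preimage
    (pullback.fst g (pullback.fst f (Spec.map (CommRingCat.ofHom (Ideal.Quotient.mk I))))).isClosedEmbedding
    hr (fun W hW hW' => existsUnique_clopen I (g ≫ f) hW hW') hV

end Groth.Agent.Hens.ProperClopenGen

namespace Groth.Agent.Hens.ProperClopenGen

/-- Unique clopen lifting along a map identifies connectedness. -/
theorem connectedSpace_iff {Y P : Type*} [TopologicalSpace Y] [TopologicalSpace P] {q : P → Y}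
    (hq : Continuous q) (h : ∀ V : Set P, IsClopen V → ∃! U : Set Y, IsClopen U ∧ q ⁻¹' U = V) :
    ConnectedSpace Y ↔ ConnectedSpace P := by
  have heq : ∀ U U' : Set Y, IsClopen U → IsClopen U' → q ⁻¹' U = q ⁻¹' U' → U = U' := fun U U' hU hU' e => by
    obtain ⟨W, -, hu⟩ := h _ (hU.preimage hq)
    exact (hu U ⟨hU, rfl⟩).trans (hu U' ⟨hU', e.symm⟩).symm
  constructor
  · intro hY
    have hne : Nonempty P := by
      by_contra hne
      rw [not_nonempty_iff] at hne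
      exact (Set.univ_nonempty (α := Y)).ne_empty
        (heq Set.univ ∅ isClopen_univ isClopen_empty (Subsingleton.elim _ _))
    exact { toPreconnectedSpace := preconnectedSpace_iff_clopen.2 fun V hV => by
              obtain ⟨U, ⟨hU, hUV⟩, -⟩ := h V hV
              rcases isClopen_iff.1 hU with rfl | rfl
              · exact Or.inl (hUV.symm.trans Set.preimage_empty)
              · exact Or.inr (hUV.symm.trans Set.preimage_univ)
            toNonempty := hne }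
  · intro hP
    exact { toPreconnectedSpace := preconnectedSpace_iff_clopen.2 fun U hU => by
              rcases isClopen_iff.1 (hU.preimage hq) with e | e
              · exact Or.inl (heq _ _ hU isClopen_empty (e.trans Set.preimage_empty.symm))
              · exact Or.inr (heq _ _ hU isClopen_univ (e.trans Set.preimage_univ.symm))
            toNonempty := hP.toNonempty.map q }

end Groth.Agent.Hens.ProperClopenGen
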