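import Groth.Prelude.Def_EGA4b
import Groth.Agent.S4695
import Groth.Agent.S9259
import Groth.Agent.EGA4Lib.FibreBC
import Groth.Agent.Hensel.Completion
import Groth.Agent.Hensel.RegularHom
import Groth.Agent.Hensel.Local
import Groth.Agent.Adic.Basic
import Groth.Agent.CAlg48.AdicPow
import Groth.Agent.RegLoc.AdicNoeth

/-!
# Finite algebras over G-rings and excellent rings
-/

set_option linter.style.haveILetI false

universe u

open IsLocalRing TensorProduct

namespace Groth.Agent.Hens

/-- Regularity does not change along an isomorphism of the base. -/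
theorem isRegularHom_of_bijective_base (R R' C : Type u) [CommRing R] [CommRing R'] [CommRing C]
    [Algebra R R'] [Algebra R C] [Algebra R' C] [IsScalarTower R R' C]
    (hb : Function.Bijective (algebraMap R R')) (h : CAlg.IsRegularHom R C) :
    CAlg.IsRegularHom R' C := by
  let f : R ≃ₐ[R] R' := AlgEquiv.ofBijective (Algebra.ofId R R') hb
  have key : ∀ (r : R') (c : C), r ⊗ₜ[R] c = (1 : R') ⊗ₜ[R] (r • c) := by
    intro r c
    obtain ⟨a, rfl⟩ := hb.2 r
    rw [Algebra.algebraMap_eq_smul_one, TensorProduct.smul_tmul, smul_assoc, one_smul]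
  let Φ : R' ⊗[R] C →ₐ[R'] C :=
    Algebra.TensorProduct.lift (Algebra.ofId R' C) (AlgHom.id R C) fun _ _ => Commute.all _ _
  have hΦ : ∀ x, (1 : R') ⊗ₜ[R] Φ x = x := by
    intro x
    induction x with
    | zero => simp
    | add x y hx hy => rw [map_add, TensorProduct.tmul_add, hx, hy]
    | tmul r c =>
      rw [key r c]
      simp [Φ]
  let e : C ≃ₐ[R'] R' ⊗[R] C :=
    (AlgEquiv.ofBijective Φ ⟨fun x y hxy => by rw [← hΦ x, ← hΦ y, hxy],
      fun c => ⟨1 ⊗ₜ c, by simp [Φ]⟩⟩).symm
  exact EGA4Lib.isRegularHom_baseChange (EGA4Lib.isQuotLike_of_surjective hb.2) e h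

section

variable {R₀ T : Type u} [CommRing R₀] [IsLocalRing R₀] [IsNoetherianRing R₀]
  [IsAdicComplete (maximalIdeal R₀) R₀] [CommRing T] [Algebra R₀ T] [Module.Finite R₀ T]

/-- The local factors of a finite algebra over a complete local ring are complete. -/
theorem finite_and_isAdicComplete_localization (M : Ideal T) [M.IsMaximal] :
    Module.Finite R₀ (Localization.AtPrime M) ∧
      IsAdicComplete (maximalIdeal (Localization.AtPrime M)) (Localization.AtPrime M) := by
  haveI : HenselianLocalRing R₀ :=
    Groth.Agent.Hensel.henselianLocalRing_of_henselianRing inferInstance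
  haveI : IsNoetherianRing T := IsNoetherianRing.of_finite R₀ T
  obtain ⟨n, e, he, hloc⟩ := Groth.Agent.Hensel.exists_pi_local (R := R₀) T
  obtain ⟨i, hi⟩ : ∃ i, e i ∉ M := by
    by_contra hne
    push Not at hne
    exact M.ne_top_iff_one.1 (Ideal.IsMaximal.ne_top ‹_›)
      (he.complete ▸ Submodule.sum_mem M fun i _ => hne i)
  haveI := hloc i
  have he1 : algebraMap T (Localization.AtPrime M) (e i) = 1 := by
    have hu : IsUnit (algebraMap T (Localization.AtPrime M) (e i)) :=
      IsLocalization.map_units (M := M.primeCompl) _ (⟨e i, hi⟩ : M.primeCompl)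
    exact (IsIdempotentElem.iff_eq_one_of_isUnit hu).1 ((he.idem i).map _)
  have hle : Ideal.span {1 - e i} ≤ M := by
    rw [Ideal.span_singleton_le_iff_mem]
    exact ((Ideal.IsMaximal.isPrime ‹M.IsMaximal›).mem_or_mem (x := e i) (y := 1 - e i)
      (by rw [(he.idem i).mul_one_sub_self]; exact M.zero_mem)).resolve_left hi
  have hsurj : Function.Surjective (algebraMap T (Localization.AtPrime M)) := by
    intro z
    obtain ⟨a, s, rfl⟩ := IsLocalization.exists_mk'_eq M.primeCompl z
    have hs : IsUnit (Ideal.Quotient.mk (Ideal.span {1 - e i}) (s : T)) := by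
      by_contra hns
      haveI : (M.map (Ideal.Quotient.mk (Ideal.span {1 - e i}))).IsMaximal :=
        Ideal.IsMaximal.map_of_surjective_of_ker_le Ideal.Quotient.mk_surjective
          (by rw [Ideal.mk_ker]; exact hle)
      have hmem : Ideal.Quotient.mk (Ideal.span {1 - e i}) (s : T) ∈
          M.map (Ideal.Quotient.mk (Ideal.span {1 - e i})) := by
        rw [eq_maximalIdeal this]; exact hns
      rw [Ideal.mem_quotient_iff_mem hle] at hmem
      exact s.2 hmem
    obtain ⟨u, hu⟩ := Ideal.Quotient.mk_surjective (hs.unit⁻¹ : Units _).1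
    refine ⟨a * u, ?_⟩
    rw [IsLocalization.eq_mk'_iff_mul_eq, map_mul, mul_assoc, ← map_mul]
    have hus : u * (s : T) - 1 ∈ Ideal.span {1 - e i} := by
      rw [← Ideal.Quotient.eq_zero_iff_mem, map_sub, map_mul, map_one, hu, sub_eq_zero]
      exact hs.val_inv_mul
    obtain ⟨w, hw⟩ := Ideal.mem_span_singleton'.1 hus
    rw [show u * (s : T) = 1 + w * (1 - e i) by rw [hw, add_sub_cancel], map_add, map_mul, map_sub,
      map_one, he1, sub_self, mul_zero, add_zero, mul_one]
  haveI hfin : Module.Finite R₀ (Localization.AtPrime M) :=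
    Module.Finite.of_surjective (IsScalarTower.toAlgHom R₀ T (Localization.AtPrime M)).toLinearMap hsurj
  refine ⟨hfin, ?_⟩
  haveI : IsNoetherianRing (Localization.AtPrime M) := IsNoetherianRing.of_finite R₀ _
  set C := Localization.AtPrime M
  haveI : IsAdicComplete ((maximalIdeal R₀).map (algebraMap R₀ C)) C :=
    (IsAdicComplete.map_algebraMap_iff _ _).mpr (Adic.isAdicComplete_of_finite _)
  have hloc' : (maximalIdeal R₀).map (algebraMap R₀ C) ≤ maximalIdeal C := by
    rw [Ideal.map_le_iff_le_comap]
    haveI := Ideal.isMaximal_comap_of_isIntegral_of_isMaximal (R := R₀) (maximalIdeal C)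
    rw [eq_maximalIdeal this]
  obtain ⟨d, hd⟩ : ∃ d, maximalIdeal C ^ d ≤ (maximalIdeal R₀).map (algebraMap R₀ C) := by
    refine Ideal.exists_pow_le_of_le_radical_of_fg ?_ (IsNoetherian.noetherian _)
    rw [Ideal.radical_eq_sInf]
    refine le_sInf fun P hP => ?_
    haveI := hP.2
    haveI h1 : (P.comap (algebraMap R₀ C)).IsMaximal :=
      (maximalIdeal.isMaximal R₀).eq_of_le (J := P.comap (algebraMap R₀ C))
        Ideal.IsPrime.ne_top' (Ideal.map_le_iff_le_comap.mp hP.1) ▸ inferInstance
    exact (eq_maximalIdeal (Ideal.isMaximal_of_isIntegral_of_isMaximal_comap P h1)).ge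
  exact CAlg48.AdicPow.isAdicComplete_of_pow_le (I := (maximalIdeal R₀).map (algebraMap R₀ C))
    (c := 1) (d := d + 1) Nat.one_pos d.succ_pos (by simpa using hloc')
    ((Ideal.pow_le_pow_right d.le_succ).trans hd)

end

section GRing

variable {R S : Type u} [CommRing R] [IsLocalRing R] [IsNoetherianRing R] [CommRing S]
  [Algebra R S] [Module.Finite R S]

/-- The core of the argument: a complete regular local `L`-algebra in which `L` is dense. -/
theorem isRegularHom_completion_of_dense (L : Type u) [CommRing L] [IsLocalRing L] [IsNoetherianRing L]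
    [Algebra S L] (C : Type u) [CommRing C] [IsLocalRing C] [IsNoetherianRing C]
    [IsAdicComplete (maximalIdeal C) C] [Algebra L C] [Algebra S C] [IsScalarTower S L C]
    [Algebra (S ⊗[R] AdicCompletion (maximalIdeal R) R) C]
    [IsScalarTower S (S ⊗[R] AdicCompletion (maximalIdeal R) R) C]
    (N : Submonoid (S ⊗[R] AdicCompletion (maximalIdeal R) R)) [IsLocalization N C]
    [hloc : IsLocalHom (algebraMap L C)]
    (hRL : (maximalIdeal R).map ((algebraMap S L).comp (algebraMap R S)) ≤ maximalIdeal L)
    (hC : CAlg.IsRegularHom L C) :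
    CAlg.IsRegularHom L (AdicCompletion (maximalIdeal L) L) := by
  set Rc := AdicCompletion (maximalIdeal R) R
  haveI : Module.Flat L C := hC.1
  haveI : Module.FaithfullyFlat L C := Module.FaithfullyFlat.of_flat_of_isLocalHom
  -- density
  have hdense : ∀ (n : ℕ) (c : C),
      ∃ a, c - algebraMap L C a ∈ (maximalIdeal L ^ n).map (algebraMap L C) := by
    intro n
    have hRC : ∀ r ∈ maximalIdeal R ^ n,
        algebraMap S C (algebraMap R S r) ∈ (maximalIdeal L ^ n).map (algebraMap L C) := by
      intro r hr
      rw [IsScalarTower.algebraMap_apply S L C]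
      refine Ideal.mem_map_of_mem _ ?_
      have := Ideal.mem_map_of_mem ((algebraMap S L).comp (algebraMap R S)) hr
      rw [Ideal.map_pow] at this
      exact Ideal.pow_right_mono hRL n this
    have hT : ∀ t : S ⊗[R] Rc, ∃ b : S, algebraMap (S ⊗[R] Rc) C t - algebraMap S C b ∈
        (maximalIdeal L ^ n).map (algebraMap L C) := by
      intro t
      induction t with
      | zero => exact ⟨0, by simp⟩
      | add x y hx hy =>
        obtain ⟨a, ha⟩ := hx
        obtain ⟨b, hb⟩ := hy
        exact ⟨a + b, by rw [map_add, map_add, add_sub_add_comm]; exact Ideal.add_mem _ ha hb⟩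
      | tmul s c =>
        obtain ⟨a, ha⟩ := Submodule.mkQ_surjective (maximalIdeal R ^ n • ⊤ : Submodule R R) (c.val n)
        have hca : c - algebraMap R Rc a ∈ (maximalIdeal R ^ n).map (algebraMap R Rc) := by
          rw [← Submodule.restrictScalars_mem R, ← Ideal.smul_top_eq_map,
            AdicCompletion.pow_smul_top_eq_ker_eval (IsNoetherian.noetherian _), LinearMap.mem_ker,
            map_sub, sub_eq_zero]
          exact ha.symm
        refine ⟨s * algebraMap R S a, ?_⟩
        have hle : (maximalIdeal R ^ n).map (algebraMap R Rc) ≤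
            ((maximalIdeal L ^ n).map (algebraMap L C)).comap
              ((algebraMap (S ⊗[R] Rc) C).comp
                (Algebra.TensorProduct.includeRight : Rc →ₐ[R] S ⊗[R] Rc).toRingHom) := by
          rw [Ideal.map_le_iff_le_comap]
          intro r hr
          show algebraMap (S ⊗[R] Rc) C ((1 : S) ⊗ₜ[R] algebraMap R Rc r) ∈
            (maximalIdeal L ^ n).map (algebraMap L C)
          have h2 : (1 : S) ⊗ₜ[R] algebraMap R Rc r = algebraMap S (S ⊗[R] Rc) (algebraMap R S r) := by
            show _ = algebraMap R S r ⊗ₜ[R] (1 : Rc)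
            rw [Algebra.algebraMap_eq_smul_one, Algebra.algebraMap_eq_smul_one, TensorProduct.smul_tmul]
          rw [h2, ← IsScalarTower.algebraMap_apply]
          exact hRC r hr
        have h3 := Ideal.mul_mem_left ((maximalIdeal L ^ n).map (algebraMap L C))
          (algebraMap (S ⊗[R] Rc) C (s ⊗ₜ 1)) (Ideal.mem_comap.1 (hle hca))
        have h4 : algebraMap (S ⊗[R] Rc) C (s ⊗ₜ 1) * algebraMap (S ⊗[R] Rc) C
            ((1 : S) ⊗ₜ[R] (c - algebraMap R Rc a)) =
            algebraMap (S ⊗[R] Rc) C (s ⊗ₜ c) - algebraMap S C (s * algebraMap R S a) := by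
          rw [← map_mul, Algebra.TensorProduct.tmul_mul_tmul, mul_one, one_mul, TensorProduct.tmul_sub,
            map_sub, IsScalarTower.algebraMap_apply S (S ⊗[R] Rc) C]
          congr 2
          show _ = (s * algebraMap R S a) ⊗ₜ[R] (1 : Rc)
          rw [Algebra.algebraMap_eq_smul_one, Algebra.algebraMap_eq_smul_one, TensorProduct.tmul_smul,
            mul_smul_comm, mul_one, TensorProduct.smul_tmul']
        exact h4 ▸ h3
    intro c
    obtain ⟨x, y, rfl⟩ := IsLocalization.exists_mk'_eq N c
    obtain ⟨bx, hbx⟩ := hT x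
    obtain ⟨by', hby⟩ := hT (y : S ⊗[R] Rc)
    have hy : IsUnit (algebraMap (S ⊗[R] Rc) C (y : S ⊗[R] Rc)) :=
      IsLocalization.map_units (M := N) C y
    by_cases hn : n = 0
    · exact ⟨0, by simp [hn, Ideal.map_top]⟩
    have hu : IsUnit (algebraMap S L by') := by
      refine (hloc.map_nonunit _) ?_
      rw [← IsScalarTower.algebraMap_apply]
      by_contra hnu
      have hJ : (maximalIdeal L ^ n).map (algebraMap L C) ≤ maximalIdeal C :=
        (Ideal.map_mono (Ideal.pow_le_self hn)).trans (IsLocalRing.map_maximalIdeal_le _)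
      have h5 : algebraMap (S ⊗[R] Rc) C (y : S ⊗[R] Rc) ∈ maximalIdeal C := by
        have := Ideal.add_mem _ (hJ hby) (show algebraMap S C by' ∈ maximalIdeal C from hnu)
        rwa [sub_add_cancel] at this
      exact h5 hy
    refine ⟨algebraMap S L bx * ↑hu.unit⁻¹, ?_⟩
    have h6 : (IsLocalization.mk' C x y - algebraMap L C (algebraMap S L bx * ↑hu.unit⁻¹)) *
        algebraMap (S ⊗[R] Rc) C (y : S ⊗[R] Rc) ∈ (maximalIdeal L ^ n).map (algebraMap L C) := by
      rw [sub_mul, IsLocalization.mk'_spec, map_mul, ← IsScalarTower.algebraMap_apply]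
      have h7 : algebraMap (S ⊗[R] Rc) C x -
          algebraMap S C bx * algebraMap L C ↑hu.unit⁻¹ * algebraMap (S ⊗[R] Rc) C (y : S ⊗[R] Rc) =
          (algebraMap (S ⊗[R] Rc) C x - algebraMap S C bx) -
            algebraMap S C bx * algebraMap L C ↑hu.unit⁻¹ *
              (algebraMap (S ⊗[R] Rc) C (y : S ⊗[R] Rc) - algebraMap S C by') := by
        have h8 : algebraMap L C ↑hu.unit⁻¹ * algebraMap S C by' = 1 := by
          rw [IsScalarTower.algebraMap_apply S L C, ← map_mul, hu.val_inv_mul, map_one]
        linear_combination (-algebraMap S C bx) * h8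
      rw [h7]
      exact Ideal.sub_mem _ hbx (Ideal.mul_mem_left _ _ hby)
    have h9 := Ideal.mul_mem_right (↑hy.unit⁻¹ : C) _ h6
    rwa [mul_assoc, hy.mul_val_inv, mul_one] at h9
  haveI : IsAdicComplete ((maximalIdeal L).map (algebraMap L C)) C := by
    obtain ⟨d, hd⟩ : ∃ d, maximalIdeal C ^ d ≤ (maximalIdeal L).map (algebraMap L C) := by
      refine ⟨1, ?_⟩
      rw [pow_one]
      intro x hx
      obtain ⟨a, ha⟩ := hdense 1 x
      rw [pow_one] at ha
      have hle := IsLocalRing.map_maximalIdeal_le (algebraMap L C)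
      have ham : a ∈ maximalIdeal L := by
        intro hua
        have h := Ideal.sub_mem _ hx (hle ha)
        rw [sub_sub_cancel] at h
        exact h (hua.map _)
      have h := Ideal.add_mem _ ha (Ideal.mem_map_of_mem _ ham)
      rwa [sub_add_cancel] at h
    exact CAlg48.AdicPow.isAdicComplete_of_pow_le (I := maximalIdeal C) (c := d + 1) (d := 1)
      d.succ_pos Nat.one_pos ((Ideal.pow_le_pow_right d.le_succ).trans hd)
      (by simpa using IsLocalRing.map_maximalIdeal_le (algebraMap L C))
  obtain ⟨e⟩ := Groth.Agent.Hensel.nonempty_completion_equiv (maximalIdeal L) C hdense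
    fun n => (Ideal.comap_map_eq_self_of_faithfullyFlat _).le
  exact Groth.Agent.Hensel.isRegularHom_congr e.symm hC


/-- The regularity of the formal fibres passes to the localizations of finite algebras. -/
theorem isRegularHom_completion_of_finite
    (hR : CAlg.IsRegularHom R (AdicCompletion (maximalIdeal R) R)) (Q : Ideal S) [Q.IsMaximal]
    (L : Type u) [CommRing L] [IsLocalRing L] [IsNoetherianRing L] [Algebra S L]
    [IsLocalization.AtPrime L Q] :
    CAlg.IsRegularHom L (AdicCompletion (maximalIdeal L) L) := by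
  set Rc := AdicCompletion (maximalIdeal R) R
  haveI : IsNoetherianRing Rc :=
    RegLoc.AdicNoeth.isNoetherianRing_adicCompletion _ (IsNoetherian.noetherian _)
  haveI : IsNoetherianRing S := IsNoetherianRing.of_finite R S
  haveI : Module.FaithfullyFlat R Rc := by
    haveI : Module.Flat R Rc := hR.1
    exact Module.FaithfullyFlat.of_flat_of_isLocalHom
  have hreg : CAlg.IsRegularHom S (S ⊗[R] Rc) :=
    (Groth.Agent.S4695.result R Rc S (Or.inr inferInstance)).1 hR
  letI : Algebra Rc (S ⊗[R] Rc) := Algebra.TensorProduct.rightAlgebra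
  haveI : Module.Finite Rc (S ⊗[R] Rc) := by
    refine Module.Finite.of_surjective
      ({ toFun := Algebra.TensorProduct.comm R Rc S
         map_add' := map_add _
         map_smul' := fun c x => by
          induction x with
          | zero => simp
          | add x y hx hy => rw [smul_add, map_add, map_add, hx, hy, smul_add]
          | tmul a b =>
            rw [TensorProduct.smul_tmul', RingHom.id_apply, Algebra.smul_def]
            show b ⊗ₜ[R] (c * a) = ((1 : S) ⊗ₜ[R] c) * (b ⊗ₜ[R] a)
            rw [Algebra.TensorProduct.tmul_mul_tmul, one_mul] } : Rc ⊗[R] S →ₗ[Rc] S ⊗[R] Rc) (AlgEquiv.surjective _)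
  haveI : IsNoetherianRing (S ⊗[R] Rc) := IsNoetherianRing.of_finite Rc _
  -- the prime over `Q`
  haveI : Module.FaithfullyFlat S (S ⊗[R] Rc) := inferInstance
  obtain ⟨⟨M, hM⟩, hMQ⟩ :=
    PrimeSpectrum.comap_surjective_of_faithfullyFlat (A := S) (B := S ⊗[R] Rc) ⟨Q, inferInstance⟩
  have hMQ' : M.comap (algebraMap S (S ⊗[R] Rc)) = Q := congrArg PrimeSpectrum.asIdeal hMQ
  haveI := hM
  haveI hQm : (Q.comap (algebraMap R S)).IsMaximal :=
    Ideal.isMaximal_comap_of_isIntegral_of_isMaximal Q
  haveI : M.IsMaximal := by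
    refine Ideal.isMaximal_of_isIntegral_of_isMaximal_comap (R := Rc) M ?_
    have hle : maximalIdeal Rc ≤ M.comap (algebraMap Rc (S ⊗[R] Rc)) := by
      rw [AdicCompletion.maximalIdeal_eq_map, Ideal.map_le_iff_le_comap, Ideal.comap_comap]
      intro r hr
      show (algebraMap Rc (S ⊗[R] Rc)) (algebraMap R Rc r) ∈ M
      have h1 : algebraMap R S r ∈ Q := (eq_maximalIdeal hQm).ge hr
      rw [← hMQ'] at h1
      have h2 : (algebraMap Rc (S ⊗[R] Rc)) (algebraMap R Rc r) =
          algebraMap S (S ⊗[R] Rc) (algebraMap R S r) := by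
        show (1 : S) ⊗ₜ[R] algebraMap R Rc r = algebraMap R S r ⊗ₜ[R] (1 : Rc)
        rw [Algebra.algebraMap_eq_smul_one, Algebra.algebraMap_eq_smul_one, TensorProduct.smul_tmul]
      rw [h2]
      exact h1
    rw [← (maximalIdeal.isMaximal Rc).eq_of_le (Ideal.IsPrime.ne_top') hle]
    infer_instance
  obtain ⟨-, hcomplete⟩ := finite_and_isAdicComplete_localization (R₀ := Rc) M
  set C := Localization.AtPrime M
  -- the algebra structure over `L`
  letI algQ : Algebra (Localization.AtPrime (M.comap (algebraMap S (S ⊗[R] Rc)))) C :=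
    (Localization.localRingHom (M.comap (algebraMap S (S ⊗[R] Rc))) M
      (algebraMap S (S ⊗[R] Rc)) rfl).toAlgebra
  have hC₀ : CAlg.IsRegularHom (Localization.AtPrime (M.comap (algebraMap S (S ⊗[R] Rc)))) C :=
    (Groth.Agent.S9259.result S (S ⊗[R] Rc)).1.1 hreg M
  haveI : IsLocalization.AtPrime L (M.comap (algebraMap S (S ⊗[R] Rc))) := by
    convert ‹IsLocalization.AtPrime L Q›
  let g := IsLocalization.algEquiv (M.comap (algebraMap S (S ⊗[R] Rc))).primeCompl
    (Localization.AtPrime (M.comap (algebraMap S (S ⊗[R] Rc)))) L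
  letI : Algebra (Localization.AtPrime (M.comap (algebraMap S (S ⊗[R] Rc)))) L :=
    g.toAlgHom.toRingHom.toAlgebra
  letI algL : Algebra L C :=
    ((algebraMap (Localization.AtPrime (M.comap (algebraMap S (S ⊗[R] Rc)))) C).comp
      g.symm.toAlgHom.toRingHom).toAlgebra
  haveI : IsScalarTower (Localization.AtPrime (M.comap (algebraMap S (S ⊗[R] Rc)))) L C :=
    IsScalarTower.of_algebraMap_eq fun x => by
      show _ = algebraMap _ C (g.symm (g x))
      rw [g.symm_apply_apply]
  haveI : IsScalarTower S L C := IsScalarTower.of_algebraMap_eq fun x => by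
    show _ = algebraMap _ C (g.symm (algebraMap S L x))
    rw [g.symm.commutes]
    show _ = Localization.localRingHom _ _ _ _ (algebraMap S _ x)
    rw [Localization.localRingHom_to_map, ← IsScalarTower.algebraMap_apply]
  have hC : CAlg.IsRegularHom L C :=
    isRegularHom_of_bijective_base (Localization.AtPrime (M.comap (algebraMap S (S ⊗[R] Rc)))) L C
      g.bijective hC₀
  haveI hloc : IsLocalHom (algebraMap L C) := by
    refine ⟨fun x hx => ?_⟩
    have h1 : IsUnit (g.symm x) :=
      (Localization.isLocalHom_localRingHom (M.comap (algebraMap S (S ⊗[R] Rc))) M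
        (algebraMap S (S ⊗[R] Rc)) rfl).map_nonunit _ hx
    simpa using h1.map g
  haveI : IsNoetherianRing C := IsLocalization.isNoetherianRing M.primeCompl C inferInstance
  have hRL : (maximalIdeal R).map ((algebraMap S L).comp (algebraMap R S)) ≤ maximalIdeal L := by
    rw [← Ideal.map_map, ← IsLocalization.AtPrime.map_eq_maximalIdeal Q L]
    refine Ideal.map_mono (Ideal.map_le_iff_le_comap.2 (eq_maximalIdeal hQm).ge)
  exact isRegularHom_completion_of_dense (R := R) L C M.primeCompl hRL hC

end GRing

/-- A finite algebra over a G-ring is a G-ring. -/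
theorem isGRing_of_finite {A B : Type u} [CommRing A] [CommRing B] [Algebra A B] [Module.Finite A B]
    (hA : CAlg.IsGRing A) : CAlg.IsGRing B := by
  haveI := hA.1
  refine ⟨IsNoetherianRing.of_finite A B, fun P hP => ?_⟩
  haveI : IsNoetherianRing B := IsNoetherianRing.of_finite A B
  let p := P.under A
  let Ap := Localization.AtPrime p
  let Bp := Localization (Algebra.algebraMapSubmonoid B p.primeCompl)
  letI : Algebra Ap Bp := localizationAlgebra p.primeCompl B
  haveI : IsScalarTower A Ap Bp :=
    IsScalarTower.of_algebraMap_eq' (IsLocalization.map_comp (M := p.primeCompl) _).symm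
  haveI : Module.Finite Ap Bp := Module.Finite.of_isLocalization A B p.primeCompl
  haveI : IsNoetherianRing Ap := IsLocalization.isNoetherianRing p.primeCompl _ inferInstance
  have hdisj : Disjoint (Algebra.algebraMapSubmonoid B p.primeCompl : Set B) (P : Set B) := by
    rw [Set.disjoint_left]
    rintro _ ⟨a, ha, rfl⟩ hP'
    exact ha hP'
  let Q := P.map (algebraMap B Bp)
  haveI : Q.IsPrime := IsLocalization.isPrime_of_isPrime_disjoint _ Bp P hP hdisj
  have hQP : Q.comap (algebraMap B Bp) = P :=
    IsLocalization.under_map_of_isPrime_disjoint _ Bp hP hdisj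
  haveI : Q.IsMaximal := by
    refine Ideal.isMaximal_of_isIntegral_of_isMaximal_comap (R := Ap) Q ?_
    have h1 : maximalIdeal Ap ≤ Q.comap (algebraMap Ap Bp) := by
      rw [← Localization.AtPrime.map_eq_maximalIdeal, Ideal.map_le_iff_le_comap, Ideal.comap_comap,
        ← IsScalarTower.algebraMap_eq, IsScalarTower.algebraMap_eq A B Bp, ← Ideal.comap_comap, hQP]
    rw [← (maximalIdeal.isMaximal Ap).eq_of_le Ideal.IsPrime.ne_top' h1]
    infer_instance
  letI : Algebra Bp (Localization.AtPrime P) :=
    (IsLocalization.lift (M := Algebra.algebraMapSubmonoid B p.primeCompl) (S := Bp)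
      (g := algebraMap B (Localization.AtPrime P)) fun y =>
        IsLocalization.map_units (M := P.primeCompl) _
          (⟨y.1, fun h => Set.disjoint_left.1 hdisj y.2 h⟩ : P.primeCompl)).toAlgebra
  haveI : IsScalarTower B Bp (Localization.AtPrime P) :=
    IsScalarTower.of_algebraMap_eq fun x => (IsLocalization.lift_eq _ x).symm
  have hle : Algebra.algebraMapSubmonoid B p.primeCompl ≤ P.primeCompl :=
    fun y hy h => Set.disjoint_left.1 hdisj hy h
  haveI : IsLocalization.AtPrime (Localization.AtPrime P) Q := by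
    haveI := IsLocalization.isLocalization_of_submonoid_le Bp (Localization.AtPrime P) _ _ hle
    refine IsLocalization.of_le (P.primeCompl.map (algebraMap B Bp)) Q.primeCompl ?_ ?_
    · rintro _ ⟨y, hy, rfl⟩ h
      exact hy (show y ∈ P from hQP ▸ h)
    · intro r hr
      obtain ⟨b, m, rfl⟩ := IsLocalization.exists_mk'_eq (Algebra.algebraMapSubmonoid B p.primeCompl) r
      have hb : b ∈ P.primeCompl := fun h => hr (by
        rw [IsLocalization.mk'_eq_mul_mk'_one]
        exact Ideal.mul_mem_right _ _ (Ideal.mem_map_of_mem _ h))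
      have := congrArg (algebraMap Bp (Localization.AtPrime P))
        (IsLocalization.mk'_spec Bp b m)
      rw [map_mul, ← IsScalarTower.algebraMap_apply, ← IsScalarTower.algebraMap_apply] at this
      exact isUnit_of_mul_isUnit_left (this ▸ IsLocalization.map_units (M := P.primeCompl) _ ⟨b, hb⟩)
  haveI : IsNoetherianRing (Localization.AtPrime P) :=
    IsLocalization.isNoetherianRing P.primeCompl _ inferInstance
  exact isRegularHom_completion_of_finite (R := Ap) (hA.2 p) Q (Localization.AtPrime P)

/-- A finite algebra over an excellent ring is excellent. -/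
theorem isExcellent_of_finite {A B : Type u} [CommRing A] [CommRing B] [Algebra A B]
    [Module.Finite A B] (hA : EGA4.IsExcellent A) : EGA4.IsExcellent B := by
  obtain ⟨hN, hC, hG, hJ⟩ := hA
  have hft : ∀ (S : Type u) [CommRing S] [Algebra B S], Algebra.FiniteType B S →
      ∀ [Algebra A S] [IsScalarTower A B S], Algebra.FiniteType A S := fun S _ _ h _ _ =>
    Algebra.FiniteType.trans (inferInstance : Algebra.FiniteType A B) h
  refine ⟨IsNoetherianRing.of_finite A B, ⟨IsNoetherianRing.of_finite A B, fun S _ _ h => ?_⟩,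
    isGRing_of_finite hG, fun S _ _ h => ?_⟩
  · letI := ((algebraMap B S).comp (algebraMap A B)).toAlgebra
    haveI : IsScalarTower A B S := IsScalarTower.of_algebraMap_eq' rfl
    exact hC.2 S (hft S h)
  · letI := ((algebraMap B S).comp (algebraMap A B)).toAlgebra
    haveI : IsScalarTower A B S := IsScalarTower.of_algebraMap_eq' rfl
    exact hJ S (hft S h)

end Groth.Agent.Hens
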