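import Groth.Agent.Hens.PairStage
import Mathlib.RingTheory.ZariskisMainTheorem
import Mathlib.RingTheory.TensorProduct.Quotient

/-!
# Algebras finite modulo the ideal of a henselian pair
-/

set_option linter.style.haveILetI false

universe u

open TensorProduct

namespace Groth.Agent.Hens

variable {A : Type u} [CommRing A] {I : Ideal A}

theorem bijective_quotientMap_of_isPairHenselization {B : Type u} [CommRing B] [Algebra A B]
    (hB : Hens2.IsPairHenselization A I B) :
    Function.Bijective
      (Ideal.quotientMap (I.map (algebraMap A B)) (algebraMap A B) Ideal.le_comap_map) := by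
  obtain ⟨E⟩ := nonempty_pairHenselization_algEquiv hB
  have hE : (I.map (algebraMap A (PairHenselization A I))).map E.toRingEquiv.toRingHom =
      I.map (algebraMap A B) := by
    rw [Ideal.map_map]
    exact congrArg (fun φ => I.map φ) E.toAlgHom.comp_algebraMap
  let e' := Ideal.quotientEquiv _ _ E.toRingEquiv hE.symm
  have : Ideal.quotientMap (I.map (algebraMap A B)) (algebraMap A B) Ideal.le_comap_map =
      e'.toRingHom.comp (Ideal.quotientMap _ (algebraMap A _) Ideal.le_comap_map) := by
    refine Ideal.Quotient.ringHom_ext (RingHom.ext fun a => ?_)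
    show Ideal.Quotient.mk _ (algebraMap A B a) = Ideal.Quotient.mk _ (E (algebraMap A _ a))
    rw [E.commutes]
  rw [this, RingHom.coe_comp]
  exact e'.bijective.comp bijective_quotientMap_pairHenselization

/-- Two henselizations of a pair are isomorphic. -/
theorem nonempty_algEquiv_of_isPairHenselization {B B' : Type u} [CommRing B] [Algebra A B]
    [CommRing B'] [Algebra A B'] (hB : Hens2.IsPairHenselization A I B)
    (hB' : Hens2.IsPairHenselization A I B') : Nonempty (B ≃ₐ[A] B') :=
  ⟨(nonempty_pairHenselization_algEquiv hB).some.symm.trans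
    (nonempty_pairHenselization_algEquiv hB').some⟩

/-- An étale algebra with a point in `C/J` lifts to the henselian pair `(C, J)`. -/
theorem exists_algHom_lift_etale {S : Type u} [CommRing S] [Algebra A S] [Algebra.Etale A S]
    {C : Type u} [CommRing C] [Algebra A C] {J : Ideal C} [HenselianRing C J]
    (σ : S →ₐ[A] C ⧸ J) :
    ∃ η : S →ₐ[A] C, ∀ s, Ideal.Quotient.mk J (η s) = σ s := by
  let σC : C ⊗[A] S →ₐ[C] C ⧸ J :=
    Algebra.TensorProduct.lift (Algebra.ofId C (C ⧸ J)) σ (fun _ _ => Commute.all _ _)
  obtain ⟨τ, hτ⟩ := Groth.Agent.Hensel.exists_algHom_lift (C ⊗[A] S) σC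
  refine ⟨(τ.restrictScalars A).comp Algebra.TensorProduct.includeRight, fun s => ?_⟩
  show (Ideal.Quotient.mkₐ C J).comp τ (1 ⊗ₜ s) = _
  rw [hτ]
  simp [σC]

/-- If `R/IR` is finite then `R` is quasi-finite at all primes containing `IR`. -/
theorem quasiFiniteAt_of_finite_quotient {R : Type u} [CommRing R] [Algebra A R]
    [Algebra.FiniteType A R] [Module.Finite A (R ⧸ I.map (algebraMap A R))]
    (Q : Ideal R) [Q.IsPrime] (hQ : I.map (algebraMap A R) ≤ Q) :
    Algebra.QuasiFiniteAt A Q := by
  let p := Q.comap (algebraMap A R)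
  haveI : Q.LiesOver p := ⟨rfl⟩
  have hIp : ∀ a ∈ I, algebraMap A p.ResidueField a = 0 := fun a ha =>
    Ideal.algebraMap_residueField_eq_zero.2 (hQ (Ideal.mem_map_of_mem _ ha))
  let q₀ : (R ⧸ I.map (algebraMap A R)) →ₐ[A] p.Fiber R :=
    Ideal.Quotient.liftₐ _ Algebra.TensorProduct.includeRight (fun x hx => by
      refine (Ideal.map_le_iff_le_comap (K := RingHom.ker
        (Algebra.TensorProduct.includeRight : R →ₐ[A] p.Fiber R).toRingHom)).2 (fun a ha => ?_) hx
      show Algebra.TensorProduct.includeRight (algebraMap A R a) = 0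
      rw [AlgHom.commutes, Algebra.TensorProduct.algebraMap_apply, hIp a ha, zero_tmul])
  let q : p.ResidueField ⊗[A] (R ⧸ I.map (algebraMap A R)) →ₐ[p.ResidueField] p.Fiber R :=
    Algebra.TensorProduct.lift (Algebra.ofId _ _) q₀ (fun _ _ => Commute.all _ _)
  have hq : Function.Surjective q := by
    intro z
    induction z using TensorProduct.induction_on with
    | zero => exact ⟨0, map_zero _⟩
    | tmul x r =>
      refine ⟨x ⊗ₜ Ideal.Quotient.mk _ r, ?_⟩
      show Algebra.TensorProduct.lift _ _ _ _ = _
      rw [Algebra.TensorProduct.lift_tmul]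
      show algebraMap p.ResidueField (p.Fiber R) x * ((1 : p.ResidueField) ⊗ₜ[A] r) = _
      simp
    | add x y hx hy =>
      obtain ⟨a, rfl⟩ := hx
      obtain ⟨b, rfl⟩ := hy
      exact ⟨a + b, map_add _ _ _⟩
  haveI : Module.Finite p.ResidueField (p.Fiber R) := Module.Finite.of_surjective q.toLinearMap hq
  let x : PrimeSpectrum (p.Fiber R) :=
    PrimeSpectrum.preimageEquivFiber A R ⟨p, inferInstance⟩ ⟨⟨Q, inferInstance⟩, rfl⟩
  exact .of_quasiFiniteAt_residueField p Q x.asIdeal
    congr($((PrimeSpectrum.preimageEquivFiber A R ⟨p, inferInstance⟩).symm_apply_apply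
      ⟨⟨Q, inferInstance⟩, rfl⟩).1.asIdeal)

/-- Over a henselian pair an algebra of finite type finite modulo the ideal has a finite quotient by
an idempotent which is a henselization of the pair. -/
theorem exists_finite_isPairHenselization [HenselianRing A I] (R : Type u) [CommRing R]
    [Algebra A R] [Algebra.FiniteType A R] [Module.Finite A (R ⧸ I.map (algebraMap A R))] :
    ∃ E : R, IsIdempotentElem E ∧ E - 1 ∈ I.map (algebraMap A R) ∧
      Module.Finite A (R ⧸ Ideal.span {1 - E}) ∧
      Hens2.IsPairHenselization R (I.map (algebraMap A R)) (R ⧸ Ideal.span {1 - E}) := by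
  obtain ⟨E, hE, hE1, hfin⟩ := Groth.Agent.Hensel.exists_isIdempotentElem_finite (I := I) R
    fun Q _ h => quasiFiniteAt_of_finite_quotient Q h
  refine ⟨E, hE, hE1, hfin, ?_, fun C _ J f hC hIJ => ?_⟩
  · haveI := hfin
    rw [Ideal.map_map, ← IsScalarTower.algebraMap_eq]
    exact Groth.Agent.Hensel.henselianRing_of_isIntegral _
  · have hfE : f E = 1 := by
      refine Groth.Agent.Hensel.isIdempotentElem_eq_of_sub_mem hC.jac (hE.map f)
        IsIdempotentElem.one ?_
      have := hIJ (Ideal.mem_map_of_mem f hE1)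
      rwa [map_sub, map_one] at this
    refine ⟨Ideal.Quotient.lift _ f fun x hx => ?_, ?_, fun g hg => ?_⟩
    · obtain ⟨c, rfl⟩ := Ideal.mem_span_singleton'.1 hx
      rw [map_mul, map_sub, map_one, hfE, sub_self, mul_zero]
    · exact RingHom.ext fun x => rfl
    · exact Ideal.Quotient.ringHom_ext (RingHom.ext fun x => RingHom.congr_fun hg x)

end Groth.Agent.Hens
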