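import Groth.Agent.Hens.CoupleGlobal
import Groth.Agent.Hensel.Pair
import Groth.Agent.S0002
import Groth.Agent.ProperFin.Supp
import Groth.Agent.ProperFin.Descend
import Mathlib.AlgebraicGeometry.Morphisms.Proper

/-!
# Proper schemes: finiteness of global functions, henselian couples come from henselian pairs
-/

set_option linter.style.haveILetI false
set_option backward.isDefEq.respectTransparency.types false

universe u

open AlgebraicGeometry CategoryTheory CategoryTheory.Limits

namespace Groth.Agent.Hens.CoupleProper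

/-- The global functions of a proper scheme over a Noetherian ring form a finite algebra. -/
theorem finite_toGlobal {A : Type u} [CommRing A] [IsNoetherianRing A] {X : Scheme.{u}}
    (f : X ⟶ Spec (CommRingCat.of A)) [IsProper f] :
    @RingHom.Finite A Γ(X, ⊤) _ _ (Coh.toGlobal f) := by
  letI : X.Over (Spec (CommRingCat.of A)) := ⟨f⟩
  haveI : IsProper (X ↘ Spec (CommRingCat.of A)) := ‹IsProper f›
  haveI := S0002.result A X (Coh.structureModule X) (ProperFin.isCoh_structureModule X) 0
  letI : Algebra A Γ(X, ⊤) := (Coh.toGlobal f).toAlgebra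
  let e : Coh.HH X (Coh.structureModule X) 0 →ₗ[A] Γ(X, ⊤) :=
    { toFun := fun x => ProperFin.h0Sec (Coh.structureModule X) x
      map_add' := fun x y => map_add _ x y
      map_smul' := fun a x => ProperFin.h0Sec_smul (Coh.structureModule X) (Coh.toGlobal f a) x }
  exact RingHom.finite_algebraMap.2
    (Module.Finite.of_surjective e (ProperFin.h0Sec (Coh.structureModule X)).surjective)

/-- The reduction of `B` modulo `IB` is a pushout. -/
theorem isPushout_quotient {A B : Type u} [CommRing A] [CommRing B] (φ : A →+* B) (I : Ideal A) :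
    IsPushout (CommRingCat.ofHom φ) (CommRingCat.ofHom (Ideal.Quotient.mk I))
      (CommRingCat.ofHom (Ideal.Quotient.mk (I.map φ)))
      (CommRingCat.ofHom (Ideal.quotientMap (I.map φ) φ Ideal.le_comap_map)) := by
  refine ⟨⟨by ext a; rfl⟩, ⟨PushoutCocone.IsColimit.mk _
    (fun s => CommRingCat.ofHom (Ideal.Quotient.lift (I.map φ) s.inl.hom fun b hb => ?_))
    (fun s => ?_) (fun s => ?_) fun s m h1 _ => ?_⟩⟩
  · refine (Ideal.map_le_iff_le_comap (K := RingHom.ker s.inl.hom)).2 (fun a ha => ?_) hb
    have h := congrArg (fun k => k.hom a) s.condition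
    show s.inl.hom (φ a) = 0
    exact h.trans ((congrArg s.inr.hom (Ideal.Quotient.eq_zero_iff_mem.2 ha)).trans (map_zero _))
  · ext b; rfl
  · ext a
    exact congrArg (fun k => k.hom a) s.condition
  · ext b
    exact congrArg (fun k => k.hom b) h1

theorem exists_proper_over_henselianPair {A : Type u} [CommRing A] [IsNoetherianRing A] (I : Ideal A)
    {X : Scheme.{u}} (f : X ⟶ Spec (CommRingCat.of A)) [IsProper f]
    (hX : Hensel.ClopenLift (pullback.fst f (Spec.map (CommRingCat.ofHom (Ideal.Quotient.mk I))))) :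
    ∃ (A' : Type u) (_ : CommRing A') (I' : Ideal A') (_ : HenselianRing A' I') (_ : IsNoetherianRing A')
      (f' : X ⟶ Spec (CommRingCat.of A')) (_ : IsProper f')
      (t : pullback f (Spec.map (CommRingCat.ofHom (Ideal.Quotient.mk I))) ⟶ Spec (CommRingCat.of (A' ⧸ I'))),
      IsPullback (pullback.fst f (Spec.map (CommRingCat.ofHom (Ideal.Quotient.mk I)))) t f'
        (Spec.map (CommRingCat.ofHom (Ideal.Quotient.mk I'))) := by
  let j := Spec.map (CommRingCat.ofHom (Ideal.Quotient.mk I))
  haveI : IsClosedImmersion j := IsClosedImmersion.spec_of_surjective _ Ideal.Quotient.mk_surjective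
  haveI : CompactSpace X := QuasiCompact.compactSpace_of_compactSpace f
  haveI : QuasiSeparatedSpace X := quasiSeparatedSpace_of_quasiSeparated f
  haveI hB : HenselianRing (Γ(X, ⊤) : Type u) (RingHom.ker (pullback.fst f j).appTop.hom) :=
    CoupleGlobal.henselianRing_ker _ hX
  let φ : A →+* Γ(X, ⊤) := Coh.toGlobal f
  let φ' : CommRingCat.of A ⟶ Γ(X, ⊤) := CommRingCat.ofHom φ
  letI : Algebra A Γ(X, ⊤) := φ.toAlgebra
  haveI : Module.Finite A Γ(X, ⊤) := RingHom.finite_algebraMap.1 (finite_toGlobal f)
  haveI : IsNoetherianRing Γ(X, ⊤) := IsNoetherianRing.of_finite A _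
  have hφf : (Scheme.ΓSpecIso (CommRingCat.of A)).hom ≫ φ' = f.appTop := by
    ext a
    show f.appTop ((Scheme.ΓSpecIso (CommRingCat.of A)).inv ((Scheme.ΓSpecIso (CommRingCat.of A)).hom a)) = _
    rw [Iso.hom_inv_id_apply]
  have hf : X.toSpecΓ ≫ Spec.map φ' = f := by
    refine ext_of_isAffine ?_
    rw [Scheme.Hom.comp_appTop, Scheme.toSpecΓ_appTop, Scheme.ΓSpecIso_naturality]
    exact hφf
  haveI : IsProper X.toSpecΓ := by
    haveI : IsProper (X.toSpecΓ ≫ Spec.map φ') := by rw [hf]; infer_instance
    exact IsProper.of_comp X.toSpecΓ (Spec.map φ')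
  let I' : Ideal Γ(X, ⊤) := I.map φ
  haveI : HenselianRing (Γ(X, ⊤) : Type u) I' := by
    refine Hensel.henselianRing_of_le (J := RingHom.ker (pullback.fst f j).appTop.hom) ?_
    rw [Ideal.map_le_iff_le_comap]
    intro a ha
    show (pullback.fst f j).appTop (φ a) = 0
    have h : φ' ≫ (pullback.fst f j).appTop = CommRingCat.ofHom (Ideal.Quotient.mk I) ≫
        (Scheme.ΓSpecIso _).inv ≫ (pullback.snd f j).appTop := by
      have h1 : f.appTop ≫ (pullback.fst f j).appTop = j.appTop ≫ (pullback.snd f j).appTop := by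
        rw [← Scheme.Hom.comp_appTop, ← Scheme.Hom.comp_appTop, pullback.condition]
      rw [← cancel_epi (Scheme.ΓSpecIso (CommRingCat.of A)).hom, ← Category.assoc, hφf, h1,
        ← Scheme.ΓSpecIso_naturality_assoc, Iso.hom_inv_id_assoc]
    refine (congrArg (fun k => k.hom a) h).trans ?_
    show (pullback.snd f j).appTop ((Scheme.ΓSpecIso _).inv (Ideal.Quotient.mk I a)) = 0
    rw [Ideal.Quotient.eq_zero_iff_mem.2 ha, map_zero, map_zero]
  have hsq : IsPullback (Spec.map (CommRingCat.ofHom (Ideal.Quotient.mk I')))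
      (Spec.map (CommRingCat.ofHom (Ideal.quotientMap I' φ Ideal.le_comap_map))) (Spec.map φ') j :=
    isPullback_SpecMap_of_isPushout _ _ _ _ (isPushout_quotient φ I)
  let t := hsq.lift (pullback.fst f j ≫ X.toSpecΓ) (pullback.snd f j) (by
    rw [Category.assoc, hf, pullback.condition])
  refine ⟨Γ(X, ⊤), inferInstance, I', inferInstance, inferInstance, X.toSpecΓ, inferInstance, t, ?_⟩
  refine IsPullback.flip (IsPullback.of_right (h₁₂ := Spec.map (CommRingCat.ofHom (Ideal.quotientMap I' φ Ideal.le_comap_map)))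
    (h₂₂ := Spec.map φ') ?_ (hsq.lift_fst _ _ _) hsq.flip)
  have ht : t ≫ Spec.map (CommRingCat.ofHom (Ideal.quotientMap I' φ Ideal.le_comap_map)) = pullback.snd f j :=
    hsq.lift_snd _ _ _
  rw [ht, hf]
  exact (IsPullback.of_hasPullback f j).flip

end Groth.Agent.Hens.CoupleProper
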