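import Groth.Agent.Hens.ProperClopenGen
import Groth.Agent.S7566

/-!
# Connected components and idempotents for unique clopen lifting on spectral spaces
-/

set_option autoImplicit false
set_option linter.style.haveILetI false

universe u

open AlgebraicGeometry CategoryTheory

namespace Groth.Agent.Hens.ClopenComponents

theorem bijective_connectedComponentsMap {Y P : Type u} [TopologicalSpace Y] [CompactSpace Y]
    [PrespectralSpace Y] [QuasiSeparatedSpace Y] [TopologicalSpace P] [CompactSpace P]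
    [PrespectralSpace P] [QuasiSeparatedSpace P] {q : P → Y} (hq : Continuous q)
    (h : ∀ V : Set P, IsClopen V → ∃! U : Set Y, IsClopen U ∧ q ⁻¹' U = V) :
    Function.Bijective hq.connectedComponentsMap := by
  constructor
  · intro a b hab
    obtain ⟨a, rfl⟩ := ConnectedComponents.surjective_coe a
    obtain ⟨b, rfl⟩ := ConnectedComponents.surjective_coe b
    rw [Continuous.connectedComponentsMap_mk, Continuous.connectedComponentsMap_mk] at hab
    refine (ConnectedComponents.coe_eq_coe'.2 ?_).symm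
    show b ∈ connectedComponent a
    rw [Groth.Agent.S7566.result]
    rintro V ⟨hV, haV⟩
    obtain ⟨U, ⟨hU, hUV⟩, -⟩ := h V hV
    have ha : q a ∈ U := by rw [← hUV] at haV; exact haV
    rw [← hUV]
    exact hU.connectedComponent_subset ha (ConnectedComponents.coe_eq_coe'.1 hab.symm)
  · intro c
    obtain ⟨y, rfl⟩ := ConnectedComponents.surjective_coe c
    have hne : ∀ Z : Set Y, IsClopen Z → y ∈ Z → (q ⁻¹' Z).Nonempty := fun Z hZ hy => by
      by_contra hne
      rw [Set.not_nonempty_iff_eq_empty] at hne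
      obtain ⟨U, -, hu⟩ := h ∅ isClopen_empty
      exact Set.notMem_empty y ((hu Z ⟨hZ, hne⟩).trans (hu ∅ ⟨isClopen_empty, rfl⟩).symm ▸ hy)
    obtain ⟨a, ha⟩ := IsCompact.nonempty_iInter_of_directed_nonempty_isCompact_isClosed
      (fun Z : {Z : Set Y // IsClopen Z ∧ y ∈ Z} => q ⁻¹' Z.1)
      (hι := ⟨⟨Set.univ, isClopen_univ, trivial⟩⟩)
      (fun Z Z' => ⟨⟨Z.1 ∩ Z'.1, Z.2.1.inter Z'.2.1, Z.2.2, Z'.2.2⟩,
        fun x hx => hx.1, fun x hx => hx.2⟩)
      (fun Z => hne Z.1 Z.2.1 Z.2.2) (fun Z => (Z.2.1.1.preimage hq).isCompact)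
      (fun Z => Z.2.1.1.preimage hq)
    refine ⟨ConnectedComponents.mk a, ?_⟩
    rw [Continuous.connectedComponentsMap_mk]
    refine ConnectedComponents.coe_eq_coe'.2 ?_
    rw [Groth.Agent.S7566.result]
    exact fun Z hZ => Set.mem_iInter.1 ha ⟨Z, hZ⟩

/-- An idempotent is zero where it is not invertible. -/
theorem germ_eq_zero_of_notMem {X : Scheme.{u}} {e : Γ(X, ⊤)} (he : IsIdempotentElem e) {x : X}
    (hx : x ∉ X.basicOpen e) : X.presheaf.germ ⊤ x trivial e = 0 := by
  have h : IsIdempotentElem (X.presheaf.germ ⊤ x trivial e) := by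
    rw [IsIdempotentElem, ← map_mul, he]
  have hnu : ¬ IsUnit (X.presheaf.germ ⊤ x trivial e) := fun hu =>
    hx ((Scheme.mem_basicOpen X e x trivial).2 hu)
  obtain ⟨u, hu⟩ := (IsLocalRing.isUnit_or_isUnit_one_sub_self _).resolve_left hnu
  have : X.presheaf.germ ⊤ x trivial e * (u : X.presheaf.stalk x) = 0 := by
    rw [hu, mul_sub, mul_one, h.eq, sub_self]
  exact (Units.mul_left_eq_zero u).1 this

/-- Idempotent global functions are determined by where they are invertible. -/
theorem idempotent_eq_of_mem_iff {X : Scheme.{u}} {e e' : Γ(X, ⊤)} (he : IsIdempotentElem e)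
    (he' : IsIdempotentElem e') (h : ∀ x, x ∈ X.basicOpen e ↔ x ∈ X.basicOpen e') : e = e' := by
  refine TopCat.Presheaf.section_ext X.sheaf ⊤ e e' fun x hx => ?_
  show X.presheaf.germ ⊤ x trivial e = X.presheaf.germ ⊤ x trivial e'
  have h1 : ∀ {d : Γ(X, ⊤)}, IsIdempotentElem d → x ∈ X.basicOpen d →
      X.presheaf.germ ⊤ x trivial d = 1 := fun {d} hd hxd => by
    have hu := (Scheme.mem_basicOpen X d x trivial).1 hxd
    exact hu.mul_left_cancel (by rw [mul_one, ← map_mul, hd])
  by_cases hxe : x ∈ X.basicOpen e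
  · rw [h1 he hxe, h1 he' ((h x).1 hxe)]
  · rw [germ_eq_zero_of_notMem he hxe, germ_eq_zero_of_notMem he' fun h' => hxe ((h x).2 h')]

end Groth.Agent.Hens.ClopenComponents
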