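import Groth.Agent.Hens.FormalIdem
import Groth.Agent.Hensel.ClopenLift
import Groth.Agent.SchPoints.Basic
import Mathlib.AlgebraicGeometry.GammaSpecAdjunction
import Mathlib.AlgebraicGeometry.Morphisms.Proper

/-!
# Proper schemes over henselian pairs are henselian couples
-/

set_option autoImplicit false
set_option linter.style.haveILetI false
set_option backward.isDefEq.respectTransparency.types false

universe u

open CategoryTheory CategoryTheory.Limits AlgebraicGeometry

namespace Groth.Agent.Hens.ProperClopenLift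

variable {A : Type u} [CommRing A] {X : Scheme.{u}}

/-- Global functions as an algebra through the structure map. -/
noncomputable abbrev φ (f : X ⟶ Spec (CommRingCat.of A)) : A →+* Γ(X, ⊤) := Coh.toGlobal f

theorem toSpecΓ_comp (f : X ⟶ Spec (CommRingCat.of A)) :
    X.toSpecΓ ≫ Spec.map (CommRingCat.ofHom (φ f)) = f := by
  refine ext_of_isAffine ?_
  rw [Scheme.Hom.comp_appTop, Scheme.toSpecΓ_appTop, Scheme.ΓSpecIso_naturality]
  ext a
  show f.appTop ((Scheme.ΓSpecIso (CommRingCat.of A)).inv ((Scheme.ΓSpecIso (CommRingCat.of A)).hom a)) = _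
  rw [Iso.hom_inv_id_apply]

theorem isProper_toSpecΓ (f : X ⟶ Spec (CommRingCat.of A)) [IsProper f] : IsProper X.toSpecΓ := by
  haveI : IsProper (X.toSpecΓ ≫ Spec.map (CommRingCat.ofHom (φ f))) := by
    rw [toSpecΓ_comp]; infer_instance
  exact IsProper.of_comp X.toSpecΓ (Spec.map (CommRingCat.ofHom (φ f)))

/-- A closed set missing the points over `V(I)` is empty, if `IB` is in the radical. -/
theorem eq_empty (I : Ideal A) (f : X ⟶ Spec (CommRingCat.of A)) [IsProper f]
    (hjac : I.map (φ f) ≤ Ideal.jacobson ⊥) {T : Set X} (hT : IsClosed T)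
    (hd : Disjoint T (f ⁻¹' PrimeSpectrum.zeroLocus (I : Set A))) : T = ∅ := by
  haveI := isProper_toSpecΓ f
  by_contra hne
  obtain ⟨x, hx⟩ := Set.nonempty_iff_ne_empty.2 hne
  have hcl := X.toSpecΓ.isClosedMap T hT
  let P : PrimeSpectrum Γ(X, ⊤) := X.toSpecΓ x
  obtain ⟨M, hM, hPM⟩ := P.asIdeal.exists_le_maximal P.isPrime.ne_top
  obtain ⟨y, hy, hyM⟩ : (⟨M, hM.isPrime⟩ : PrimeSpectrum Γ(X, ⊤)) ∈ X.toSpecΓ '' T :=
    ((PrimeSpectrum.le_iff_specializes P ⟨M, hM.isPrime⟩).1 hPM).mem_closed hcl ⟨x, hx, rfl⟩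
  refine Set.disjoint_left.1 hd hy ?_
  show f y ∈ PrimeSpectrum.zeroLocus (I : Set A)
  rw [← toSpecΓ_comp f]
  show Spec.map (CommRingCat.ofHom (φ f)) (X.toSpecΓ y) ∈ _
  rw [hyM]
  show (I : Set A) ⊆ (M.comap (φ f) : Set A)
  intro a ha
  have hle : Ideal.jacobson (⊥ : Ideal Γ(X, ⊤)) ≤ M := sInf_le ⟨bot_le, hM⟩
  exact hle (hjac (Ideal.mem_map_of_mem _ ha))

/-- An idempotent agreeing with a clopen on the part over `V(I)` gives its unique lift. -/
theorem existsUnique_of_idempotent (I : Ideal A) (f : X ⟶ Spec (CommRingCat.of A)) [IsProper f]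
    (hjac : I.map (φ f) ≤ Ideal.jacobson ⊥) {V : Set X}
    (hVZ : V ⊆ f ⁻¹' PrimeSpectrum.zeroLocus (I : Set A)) {e : Γ(X, ⊤)} (he : IsIdempotentElem e)
    (heV : ∀ x ∈ f ⁻¹' PrimeSpectrum.zeroLocus (I : Set A), (x ∈ X.basicOpen e ↔ x ∈ V)) :
    ∃! U : Set X, IsClopen U ∧ U ∩ f ⁻¹' PrimeSpectrum.zeroLocus (I : Set A) = V := by
  have hcl : IsClopen (X.basicOpen e : Set X) := by
    refine ⟨?_, (X.basicOpen e).2⟩
    have hcompl : (X.basicOpen e : Set X)ᶜ = X.basicOpen (1 - e) := by
      ext x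
      constructor
      · intro hx
        rw [SetLike.mem_coe, Scheme.mem_basicOpen _ _ _ (show x ∈ (⊤ : X.Opens) from trivial), map_sub, map_one]
        refine (IsLocalRing.isUnit_or_isUnit_one_sub_self _).resolve_left fun h => hx ?_
        exact (Scheme.mem_basicOpen _ _ _ (show x ∈ (⊤ : X.Opens) from trivial)).2 h
      · intro h1 h2
        have h3 : x ∈ X.basicOpen (e * (1 - e)) := by
          rw [Scheme.basicOpen_mul]; exact ⟨h2, h1⟩
        rw [mul_sub, mul_one, he, sub_self, Scheme.basicOpen_zero] at h3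
        exact h3.elim
    rw [← isOpen_compl_iff, hcompl]
    exact (X.basicOpen (1 - e)).2
  refine ⟨X.basicOpen e, ⟨hcl, ?_⟩, ?_⟩
  · ext x
    exact ⟨fun h => (heV x h.2).1 h.1, fun h => ⟨(heV x (hVZ h)).2 h, hVZ h⟩⟩
  · rintro U ⟨hU, hUV⟩
    have hdiff : ∀ x ∈ f ⁻¹' PrimeSpectrum.zeroLocus (I : Set A),
        x ∈ U ↔ x ∈ (X.basicOpen e : Set X) := fun x hx => by
      rw [SetLike.mem_coe, heV x hx, ← hUV]
      exact ⟨fun h => ⟨h, hx⟩, fun h => h.1⟩
    have h1 := eq_empty I f hjac (T := U ∩ (X.basicOpen e : Set X)ᶜ) (hU.1.inter hcl.compl.1)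
      (Set.disjoint_left.2 fun x hx hxZ => hx.2 ((hdiff x hxZ).1 hx.1))
    have h2 := eq_empty I f hjac (T := (X.basicOpen e : Set X) ∩ Uᶜ) (hcl.1.inter hU.compl.1)
      (Set.disjoint_left.2 fun x hx hxZ => hx.2 ((hdiff x hxZ).2 hx.1))
    ext x
    constructor
    · intro hx; by_contra h; exact Set.notMem_empty x (h1 ▸ ⟨hx, h⟩)
    · intro hx; by_contra h; exact Set.notMem_empty x (h2 ▸ ⟨hx, h⟩)

/-- Clopen subsets of the part over `V(I)` of a proper scheme lift uniquely. -/
theorem existsUnique_clopen [IsNoetherianRing A] (I : Ideal A) (f : X ⟶ Spec (CommRingCat.of A))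
    [IsProper f] (hB : HenselianRing (Γ(X, ⊤) : Type u) (I.map (φ f))) {V : Set X}
    (hVZ : V ⊆ f ⁻¹' PrimeSpectrum.zeroLocus (I : Set A))
    (hV : IsClopen (Subtype.val ⁻¹' V : Set ↥(f ⁻¹' PrimeSpectrum.zeroLocus (I : Set A) : Set X))) :
    ∃! U : Set X, IsClopen U ∧ U ∩ f ⁻¹' PrimeSpectrum.zeroLocus (I : Set A) = V := by
  letI : X.Over (Spec (CommRingCat.of A)) := ⟨f⟩
  haveI : IsProper (X ↘ Spec (CommRingCat.of A)) := ‹IsProper f›
  obtain ⟨e, he, heV⟩ := FormalIdem.exists_idempotent I hB hV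
  exact existsUnique_of_idempotent I f hB.jac hVZ he heV

/-- Global functions of a proper scheme are finite over a Noetherian base. -/
theorem finite_φ [IsNoetherianRing A] (f : X ⟶ Spec (CommRingCat.of A)) [IsProper f] : (φ f).Finite := by
  letI : X.Over (Spec (CommRingCat.of A)) := ⟨f⟩
  haveI : IsProper (X ↘ Spec (CommRingCat.of A)) := ‹IsProper f›
  haveI := FormalFun.isLocallyNoetherian_of_proper A X
  haveI := FormalFun.finiteCoh_of_proper A X (Coh.structureModule X) (ProperFin.isCoh_structureModule X) 0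
  letI : Algebra A Γ(X, ⊤) := (Coh.toGlobal f).toAlgebra
  let e : Coh.HH X (Coh.structureModule X) 0 →ₗ[A] Γ(X, ⊤) :=
    { toFun := fun x => ProperFin.h0Sec (Coh.structureModule X) x
      map_add' := fun x y => map_add _ x y
      map_smul' := fun a x => ProperFin.h0Sec_smul (Coh.structureModule X) (Coh.toGlobal f a) x }
  exact RingHom.finite_algebraMap.2
    (Module.Finite.of_surjective e (ProperFin.h0Sec (Coh.structureModule X)).surjective)

theorem range_fst_mk (I : Ideal A) (f : X ⟶ Spec (CommRingCat.of A)) :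
    Set.range (pullback.fst f (Spec.map (CommRingCat.ofHom (Ideal.Quotient.mk I)))) =
      f ⁻¹' PrimeSpectrum.zeroLocus (I : Set A) := by
  rw [Scheme.Pullback.range_fst]
  congr 1
  have h := range_comap_of_surjective (A ⧸ I) (Ideal.Quotient.mk I) Ideal.Quotient.mk_surjective
  rw [Ideal.mk_ker] at h
  exact h

/-- A clopen in the source of a closed embedding with known range lifts. -/
theorem existsUnique_preimage {Y P : Type*} [TopologicalSpace Y] [TopologicalSpace P] {q : P → Y}
    (hq : Topology.IsClosedEmbedding q) {Z : Set Y} (hqZ : Set.range q = Z)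
    (h : ∀ V : Set Y, V ⊆ Z → IsClopen (Subtype.val ⁻¹' V : Set Z) → ∃! U : Set Y, IsClopen U ∧ U ∩ Z = V)
    {V : Set P} (hV : IsClopen V) : ∃! U : Set Y, IsClopen U ∧ q ⁻¹' U = V := by
  subst hqZ
  have hcl : IsClopen (Subtype.val ⁻¹' (q '' V) : Set (Set.range q)) := by
    refine ⟨(hq.isClosedMap V hV.1).preimage continuous_subtype_val, isClosed_compl_iff.1 ?_⟩
    have : (Subtype.val ⁻¹' (q '' V) : Set (Set.range q))ᶜ = Subtype.val ⁻¹' (q '' Vᶜ) := by
      ext ⟨y, w, rfl⟩
      simp only [Set.mem_compl_iff, Set.mem_preimage, hq.injective.mem_set_image]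
    rw [this]
    exact (hq.isClosedMap _ hV.compl.1).preimage continuous_subtype_val
  obtain ⟨U, ⟨hU, hUV⟩, hu⟩ := h _ (Set.image_subset_range q V) hcl
  refine ⟨U, ⟨hU, ?_⟩, fun W ⟨hW, hWV⟩ => hu W ⟨hW, ?_⟩⟩
  · rw [← Set.preimage_inter_range (f := q), hUV, hq.injective.preimage_image]
  · rw [← hWV, Set.image_preimage_eq_inter_range]

/-- Proper schemes over Noetherian rings are henselian couples as soon as the global functions form a
henselian pair. -/
theorem clopenLift [IsNoetherianRing A] (I : Ideal A) (f : X ⟶ Spec (CommRingCat.of A)) [IsProper f]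
    (hB : HenselianRing (Γ(X, ⊤) : Type u) (I.map (φ f))) :
    Groth.Agent.Hensel.ClopenLift (pullback.fst f (Spec.map (CommRingCat.ofHom (Ideal.Quotient.mk I)))) := by
  intro Y g hg V hV
  haveI : IsClosedImmersion (Spec.map (CommRingCat.ofHom (Ideal.Quotient.mk I))) :=
    IsClosedImmersion.spec_of_surjective _ Ideal.Quotient.mk_surjective
  haveI : IsFinite g := hg
  let i := pullback.fst f (Spec.map (CommRingCat.ofHom (Ideal.Quotient.mk I)))
  have hr : Set.range (pullback.fst g i) = (g ≫ f) ⁻¹' PrimeSpectrum.zeroLocus (I : Set A) := by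
    rw [Scheme.Pullback.range_fst, range_fst_mk]
    rfl
  have hcomp : (g.appTop).hom.comp (φ f) = φ (g ≫ f) := by
    ext a
    show g.appTop (f.appTop _) = (g ≫ f).appTop _
    rw [Scheme.Hom.comp_appTop]; rfl
  have hY : HenselianRing (Γ(Y, ⊤) : Type u) (I.map (φ (g ≫ f))) := by
    haveI := hB
    letI : Algebra Γ(X, ⊤) Γ(Y, ⊤) := g.appTop.hom.toAlgebra
    have hfin : g.appTop.hom.Finite :=
      RingHom.Finite.of_comp_finite (f := φ f) (by rw [hcomp]; exact finite_φ (g ≫ f))
    haveI : Module.Finite Γ(X, ⊤) Γ(Y, ⊤) := RingHom.finite_algebraMap.1 hfin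
    have := Groth.Agent.Hensel.henselianRing_of_isIntegral (A := (Γ(X, ⊤) : Type u))
      (I := I.map (φ f)) (Γ(Y, ⊤) : Type u)
    rwa [Ideal.map_map, show (algebraMap Γ(X, ⊤) Γ(Y, ⊤)).comp (φ f) = φ (g ≫ f) from hcomp] at this
  exact existsUnique_preimage (pullback.fst g i).isClosedEmbedding hr
    (fun W hW hW' => existsUnique_clopen I (g ≫ f) hY hW hW') hV

theorem clopenLift_of_henselianRing [IsNoetherianRing A] (I : Ideal A) [HenselianRing A I]
    (f : X ⟶ Spec (CommRingCat.of A)) [IsProper f] :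
    Groth.Agent.Hensel.ClopenLift (pullback.fst f (Spec.map (CommRingCat.ofHom (Ideal.Quotient.mk I)))) := by
  refine clopenLift I f ?_
  letI : Algebra A Γ(X, ⊤) := (φ f).toAlgebra
  haveI : Module.Finite A Γ(X, ⊤) := RingHom.finite_algebraMap.1 (finite_φ f)
  exact Groth.Agent.Hensel.henselianRing_of_isIntegral (A := A) (I := I) (Γ(X, ⊤) : Type u)

/-- Unique clopen lifting along a closed embedding of Noetherian spaces identifies components. -/
theorem bijective_connectedComponentsMap {Y P : Type*} [TopologicalSpace Y] [TopologicalSpace P]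
    [TopologicalSpace.NoetherianSpace Y] {q : P → Y} (hq : Topology.IsClosedEmbedding q)
    (h : ∀ V : Set P, IsClopen V → ∃! U : Set Y, IsClopen U ∧ q ⁻¹' U = V) :
    Function.Bijective hq.continuous.connectedComponentsMap := by
  haveI : TopologicalSpace.NoetherianSpace P := hq.isInducing.noetherianSpace
  have hP : ∀ a : P, IsClopen (connectedComponent a) := fun a =>
    ⟨isClosed_connectedComponent, SchPoints.isOpen_connectedComponent_of_noetherian a⟩
  have hY : ∀ y : Y, IsClopen (connectedComponent y) := fun y =>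
    ⟨isClosed_connectedComponent, SchPoints.isOpen_connectedComponent_of_noetherian y⟩
  constructor
  · intro a b hab
    obtain ⟨a, rfl⟩ := ConnectedComponents.surjective_coe a
    obtain ⟨b, rfl⟩ := ConnectedComponents.surjective_coe b
    rw [Continuous.connectedComponentsMap_mk, Continuous.connectedComponentsMap_mk] at hab
    obtain ⟨U, ⟨hU, hUC⟩, -⟩ := h _ (hP a)
    have ha : q a ∈ U := show a ∈ q ⁻¹' U by rw [hUC]; exact mem_connectedComponent
    have hb : q b ∈ U := hU.connectedComponent_subset ha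
      (ConnectedComponents.coe_eq_coe'.1 hab.symm)
    have hbC : b ∈ connectedComponent a := by rw [← hUC]; exact hb
    exact (ConnectedComponents.coe_eq_coe'.2 hbC).symm
  · intro c
    obtain ⟨y, rfl⟩ := ConnectedComponents.surjective_coe c
    have hne : (q ⁻¹' connectedComponent y).Nonempty := by
      by_contra hne
      rw [Set.not_nonempty_iff_eq_empty] at hne
      obtain ⟨U, -, hu⟩ := h ∅ isClopen_empty
      have h1 := hu _ ⟨hY y, hne⟩
      have h2 := hu ∅ ⟨isClopen_empty, rfl⟩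
      exact Set.notMem_empty y (show y ∈ (∅ : Set Y) by rw [h2, ← h1]; exact mem_connectedComponent)
    obtain ⟨a, ha⟩ := hne
    exact ⟨ConnectedComponents.mk a, ConnectedComponents.coe_eq_coe'.2 ha⟩

end Groth.Agent.Hens.ProperClopenLift

namespace Groth.Agent.Hens.ProperClopenLift

variable {A : Type u} [CommRing A] {X : Scheme.{u}}

/-- `I` dies on the part over `V(I)`. -/
theorem map_le_ker (I : Ideal A) (f : X ⟶ Spec (CommRingCat.of A)) :
    I.map (φ f) ≤
      RingHom.ker (pullback.fst f (Spec.map (CommRingCat.ofHom (Ideal.Quotient.mk I)))).appTop.hom := by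
  rw [Ideal.map_le_iff_le_comap]
  intro a ha
  let j := Spec.map (CommRingCat.ofHom (Ideal.Quotient.mk I))
  let ψ := CommRingCat.ofHom (Ideal.Quotient.mk I)
  show (pullback.fst f j).appTop (f.appTop ((Scheme.ΓSpecIso (CommRingCat.of A)).inv a)) = 0
  have h1 : f.appTop ≫ (pullback.fst f j).appTop = j.appTop ≫ (pullback.snd f j).appTop := by
    rw [← Scheme.Hom.comp_appTop, ← Scheme.Hom.comp_appTop, pullback.condition]
  have h2 : (Scheme.ΓSpecIso (CommRingCat.of A)).inv ≫ j.appTop =
      ψ ≫ (Scheme.ΓSpecIso (CommRingCat.of (A ⧸ I))).inv := by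
    rw [Iso.inv_comp_eq, ← Category.assoc, Iso.eq_comp_inv]
    exact Scheme.ΓSpecIso_naturality ψ
  refine (congrArg (fun k => k.hom ((Scheme.ΓSpecIso (CommRingCat.of A)).inv a)) h1).trans ?_
  show (pullback.snd f j).appTop (((Scheme.ΓSpecIso (CommRingCat.of A)).inv ≫ j.appTop).hom a) = 0
  rw [h2]
  show (pullback.snd f j).appTop ((Scheme.ΓSpecIso _).inv (Ideal.Quotient.mk I a)) = 0
  rw [Ideal.Quotient.eq_zero_iff_mem.2 ha, map_zero, map_zero]

end Groth.Agent.Hens.ProperClopenLift
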