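import Groth.Agent.Hens.BranchCount
import Groth.Agent.Hens.Local
import Mathlib.SetTheory.Cardinal.Basic
import Mathlib.Algebra.BigOperators.Finprod

/-!
# Strict henselization of quotients; minimal primes fibrewise
-/

set_option autoImplicit false
set_option linter.style.haveILetI false
universe u

open IsLocalRing

namespace Groth.Agent.Hens

variable {A S : Type u} [CommRing A] [IsLocalRing A] [CommRing S] [IsLocalRing S] [Algebra A S]
  [IsLocalHom (algebraMap A S)]

/-- The quotient of a strict henselization is a strict henselization of the quotient. -/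
theorem isStrictHenselization_quotient [hS : _root_.Hensel.IsStrictHenselization A S] (I : Ideal A)
    [IsLocalRing (A ⧸ I)] [IsLocalRing (S ⧸ I.map (algebraMap A S))]
    [IsLocalHom (algebraMap (A ⧸ I) (S ⧸ I.map (algebraMap A S)))] :
    _root_.Hensel.IsStrictHenselization (A ⧸ I) (S ⧸ I.map (algebraMap A S)) := by
  haveI := hS.henselian
  let π := Ideal.Quotient.mk (I.map (algebraMap A S))
  haveI : IsLocalHom π := .of_surjective π Ideal.Quotient.mk_surjective
  haveI : IsLocalHom (Ideal.Quotient.mk I) := .of_surjective _ Ideal.Quotient.mk_surjective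
  let eA : ResidueField A ≃+* ResidueField (A ⧸ I) :=
    RingEquiv.ofBijective (ResidueField.map (Ideal.Quotient.mk I))
      ⟨RingHom.injective _, fun z => by
        obtain ⟨x, rfl⟩ := residue_surjective z
        obtain ⟨y, rfl⟩ := Ideal.Quotient.mk_surjective x
        exact ⟨residue _ y, rfl⟩⟩
  let eS : ResidueField S ≃+* ResidueField (S ⧸ I.map (algebraMap A S)) :=
    RingEquiv.ofBijective (ResidueField.map π)
      ⟨RingHom.injective _, fun z => by
        obtain ⟨x, rfl⟩ := residue_surjective z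
        obtain ⟨y, rfl⟩ := Ideal.Quotient.mk_surjective x
        exact ⟨residue _ y, rfl⟩⟩
  have hcomm : ∀ z, algebraMap (ResidueField (A ⧸ I)) (ResidueField (S ⧸ I.map (algebraMap A S))) (eA z) =
      eS (algebraMap (ResidueField A) (ResidueField S) z) := fun z => by
    obtain ⟨a, rfl⟩ := residue_surjective z
    rfl
  refine ⟨⟨fun f hf a₀ h1 h2 => ?_⟩, ⟨?_, ?_⟩, fun T _ _ f _ τ hτ => ?_⟩
  · obtain ⟨F, hF, -, hFm⟩ := Polynomial.lifts_and_degree_eq_and_monic
      ((Polynomial.lifts_iff_coeff_lifts f).2 fun n => Ideal.Quotient.mk_surjective _) hf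
    obtain ⟨b₀, rfl⟩ := Ideal.Quotient.mk_surjective a₀
    have he : ∀ (G : Polynomial S), (G.map π).eval (π b₀) = π (G.eval b₀) := fun G => by
      rw [Polynomial.eval_map, Polynomial.eval₂_at_apply]
    obtain ⟨b, hb, hb'⟩ := HenselianLocalRing.is_henselian F hFm b₀
      (fun hu => h1 (by rw [← hF, he]; exact hu.map π))
      (isUnit_of_map_unit π _ (by rw [← he, ← Polynomial.derivative_map, hF]; exact h2))
    refine ⟨π b, ?_, ?_⟩
    · rw [Polynomial.IsRoot, ← hF, Polynomial.eval_map, Polynomial.eval₂_at_apply]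
      rw [show F.eval b = 0 from hb, map_zero]
    · rw [← map_sub, IsLocalRing.mem_maximalIdeal]
      exact fun hu => hb' (isUnit_of_map_unit π _ hu)
  · haveI : IsSepClosed (ResidueField S) := hS.isSepClosure.sep_closed
    refine IsSepClosed.of_exists_root _ fun p _ hirr hsep => ?_
    obtain ⟨x, hx⟩ := IsSepClosed.exists_root (p.map eS.symm.toRingHom) (by
      rw [Polynomial.degree_map]; exact (Polynomial.degree_pos_of_irreducible hirr).ne') hsep.map
    refine ⟨eS x, ?_⟩
    rw [Polynomial.IsRoot, Polynomial.eval_map] at hx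
    have := congrArg eS.toRingHom hx
    rw [map_zero, Polynomial.hom_eval₂,
      show eS.toRingHom.comp eS.symm.toRingHom = RingHom.id _ from RingHom.ext fun z => eS.apply_symm_apply z] at this
    exact this
  · haveI := hS.isSepClosure.separable
    exact Algebra.IsSeparable.of_equiv_equiv eA eS (RingHom.ext hcomm)
  · haveI : IsLocalHom (f.comp (Ideal.Quotient.mk I)) := RingHom.isLocalHom_comp _ _
    obtain ⟨g, ⟨hg, hgr⟩, hu⟩ := hS.universal T (f.comp (Ideal.Quotient.mk I)) (τ.comp eS.toRingHom) (by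
      refine RingHom.ext fun z => ?_
      obtain ⟨a, rfl⟩ := residue_surjective z
      exact RingHom.congr_fun hτ (residue (A ⧸ I) (Ideal.Quotient.mk I a)))
    have hker : ∀ x ∈ I.map (algebraMap A S), g x = 0 := by
      intro x hx
      refine (Ideal.map_le_iff_le_comap (K := RingHom.ker g)).2 (fun a ha => ?_) hx
      show g (algebraMap A S a) = 0
      rw [← RingHom.comp_apply, hg, RingHom.comp_apply, Ideal.Quotient.eq_zero_iff_mem.2 ha,
        map_zero]
    refine ⟨Ideal.Quotient.lift _ g hker, ⟨?_, fun x => ?_⟩, fun g' ⟨hg', hgr'⟩ => ?_⟩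
    · refine Ideal.Quotient.ringHom_ext (RingHom.ext fun a => ?_)
      show g (algebraMap A S a) = f (Ideal.Quotient.mk I a)
      exact RingHom.congr_fun hg a
    · obtain ⟨s, rfl⟩ := Ideal.Quotient.mk_surjective x
      exact hgr s
    · refine Ideal.Quotient.ringHom_ext ?_
      rw [hu (g'.comp π) ⟨RingHom.ext fun a => ?_, fun s => ?_⟩]
      · exact RingHom.ext fun x => rfl
      · exact RingHom.congr_fun hg' (Ideal.Quotient.mk I a)
      · exact hgr' (π s)

omit [IsLocalHom (algebraMap A S)] in
/-- The number of minimal primes is the sum over the minimal primes of the base. -/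
theorem card_minimalPrimes_eq_finsum (h : Hensel.IsEtLike A S) (hA : (minimalPrimes A).Finite) :
    ENat.card (minimalPrimes S) =
      ∑ᶠ p : minimalPrimes A, ENat.card (minimalPrimes (S ⧸ p.1.map (algebraMap A S))) := by
  classical
  haveI := h.flat
  haveI := hA.fintype
  have hfib : ∀ p : minimalPrimes A, Nonempty (minimalPrimes (S ⧸ p.1.map (algebraMap A S)) ≃
      {P : minimalPrimes S // (⟨_, comap_mem_minimalPrimes_of_flat P.2⟩ : minimalPrimes A) = p}) := by
    intro p
    haveI := p.2.1.1
    let J := p.1.map (algebraMap A S)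
    have hmem : ∀ Q ∈ minimalPrimes (S ⧸ J),
        Q.comap (Ideal.Quotient.mk J) ∈ minimalPrimes S ∧
          (Q.comap (Ideal.Quotient.mk J)).comap (algebraMap A S) = p.1 := by
      intro Q hQ
      haveI := hQ.1.1
      have hJ : J ≤ Q.comap (Ideal.Quotient.mk J) := Ideal.mk_ker.symm.le.trans (Ideal.comap_mono bot_le)
      have hp : p.1 ≤ (Q.comap (Ideal.Quotient.mk J)).comap (algebraMap A S) :=
        Ideal.map_le_iff_le_comap.1 hJ
      obtain ⟨P, hP, hPQ⟩ := Ideal.exists_minimalPrimes_le
        (bot_le : (⊥ : Ideal S) ≤ Q.comap (Ideal.Quotient.mk J))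
      haveI := hP.1.1
      have hQeq : (Q.comap (Ideal.Quotient.mk J)).comap (algebraMap A S) = p.1 := by
        haveI : (Q.comap (Ideal.Quotient.mk J)).LiesOver
            ((Q.comap (Ideal.Quotient.mk J)).comap (algebraMap A S)) := ⟨rfl⟩
        obtain ⟨R', hR'le, hR'p, hR'⟩ := Ideal.exists_ideal_le_liesOver_of_le
          (Q.comap (Ideal.Quotient.mk J)) hp
        have hJR : J ≤ R' := Ideal.map_le_iff_le_comap.2 hR'.over.le
        haveI := Ideal.map_isPrime_of_surjective (f := Ideal.Quotient.mk J) Ideal.Quotient.mk_surjective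
          (I := R') (by rw [Ideal.mk_ker]; exact hJR)
        have hle : R'.map (Ideal.Quotient.mk J) ≤ Q := Ideal.map_le_iff_le_comap.2 hR'le
        refine le_antisymm ?_ hp
        refine (Ideal.comap_mono (Ideal.comap_mono (hQ.2 ⟨inferInstance, bot_le⟩ hle))).trans ?_
        rw [Ideal.comap_map_of_surjective _ Ideal.Quotient.mk_surjective, ← RingHom.ker_eq_comap_bot,
          Ideal.mk_ker, sup_eq_left.2 hJR]
        exact hR'.over.ge
      refine ⟨?_, hQeq⟩
      have hPp : P.comap (algebraMap A S) = p.1 := by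
        have h1 := (Ideal.comap_mono (f := algebraMap A S) hPQ).trans hQeq.le
        exact le_antisymm h1 (p.2.2 ⟨inferInstance, bot_le⟩ h1)
      have hJP : J ≤ P := Ideal.map_le_iff_le_comap.2 hPp.ge
      haveI := Ideal.map_isPrime_of_surjective (f := Ideal.Quotient.mk J) Ideal.Quotient.mk_surjective
        (I := P) (by rw [Ideal.mk_ker]; exact hJP)
      have hle : P.map (Ideal.Quotient.mk J) ≤ Q := Ideal.map_le_iff_le_comap.2 hPQ
      have hQP : Q.comap (Ideal.Quotient.mk J) ≤ P := by
        refine (Ideal.comap_mono (hQ.2 ⟨inferInstance, bot_le⟩ hle)).trans ?_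
        rw [Ideal.comap_map_of_surjective _ Ideal.Quotient.mk_surjective, ← RingHom.ker_eq_comap_bot,
          Ideal.mk_ker, sup_eq_left.2 hJP]
      rwa [le_antisymm hQP hPQ]
    refine ⟨Equiv.ofBijective (fun Q => ⟨⟨_, (hmem Q.1 Q.2).1⟩, Subtype.ext (hmem Q.1 Q.2).2⟩)
      ⟨fun Q Q' hQQ => Subtype.ext (Ideal.comap_injective_of_surjective _ Ideal.Quotient.mk_surjective
        (congrArg (fun P => (P.1 : minimalPrimes S).1) hQQ)), fun P => ?_⟩⟩
    obtain ⟨⟨P, hP⟩, hPp⟩ := P
    haveI := hP.1.1
    have hJP : J ≤ P := Ideal.map_le_iff_le_comap.2 (congrArg Subtype.val hPp).ge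
    haveI := Ideal.map_isPrime_of_surjective (f := Ideal.Quotient.mk J) Ideal.Quotient.mk_surjective
      (I := P) (by rw [Ideal.mk_ker]; exact hJP)
    have hc : (P.map (Ideal.Quotient.mk J)).comap (Ideal.Quotient.mk J) = P := by
      rw [Ideal.comap_map_of_surjective _ Ideal.Quotient.mk_surjective, ← RingHom.ker_eq_comap_bot,
        Ideal.mk_ker, sup_eq_left.2 hJP]
    refine ⟨⟨P.map (Ideal.Quotient.mk J), ⟨inferInstance, bot_le⟩, fun q hq hle => ?_⟩,
      Subtype.ext (Subtype.ext hc)⟩
    haveI := hq.1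
    refine Ideal.map_le_iff_le_comap.2 (hP.2 ⟨inferInstance, bot_le⟩ ?_)
    exact (Ideal.comap_mono hle).trans hc.le
  rw [finsum_eq_sum_of_fintype]
  simp only [fun p => ENat.card_congr (hfib p).some]
  rw [← ENat.card_congr (Equiv.sigmaFiberEquiv fun P : minimalPrimes S =>
    (⟨_, comap_mem_minimalPrimes_of_flat P.2⟩ : minimalPrimes A))]
  exact card_sigma' _
where
  card_sigma' {ι : Type u} [Fintype ι] (F : ι → Type u) :
      ENat.card (Σ i, F i) = ∑ i, ENat.card (F i) := by
    by_cases hf : ∀ i, Finite (F i)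
    · simp only [ENat.card_eq_coe_natCard, Nat.card_sigma, Nat.cast_sum]
    · obtain ⟨i, hi⟩ := not_forall.1 hf
      haveI : Infinite (F i) := not_finite_iff_infinite.1 hi
      haveI : Infinite (Σ i, F i) :=
        Infinite.of_injective (Sigma.mk i) fun _ _ h => eq_of_heq (Sigma.mk.inj_iff.1 h).2
      rw [ENat.card_eq_top_of_infinite]
      exact (eq_top_mono (Finset.single_le_sum (f := fun i => ENat.card (F i))
        (fun _ _ => zero_le) (Finset.mem_univ i)) ENat.card_eq_top_of_infinite).symm

end Groth.Agent.Hens
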