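import Groth.Agent.Hens.BranchCount
import Mathlib.FieldTheory.PurelyInseparable.Tower

/-!
# One branch means unibranch
-/

set_option autoImplicit false
set_option linter.style.haveILetI false
universe u

open IsLocalRing

namespace Groth.Agent.Hens

variable (A : Type u) [CommRing A] [IsLocalRing A]

theorem nontrivial_normRed : Nontrivial (CAlg2.normRed A) := by
  haveI : Nontrivial (CAlg2.red A) := Ideal.Quotient.nontrivial_iff.2 fun h => by
    have h1 : (1 : A) ∈ nilradical A := h ▸ Submodule.mem_top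
    exact not_isNilpotent_one (mem_nilradical.1 h1)
  haveI : Nontrivial (FractionRing (CAlg2.red A)) :=
    (IsFractionRing.injective (CAlg2.red A) (FractionRing (CAlg2.red A))).nontrivial
  infer_instance

theorem finite_minimalPrimes_of_isDomain_red (h : IsDomain (CAlg2.red A)) :
    (minimalPrimes A).Finite := by
  obtain ⟨e, -⟩ := exists_minimalPrimes_surjective_equiv (Ideal.Quotient.mk (nilradical A))
    Ideal.Quotient.mk_surjective Ideal.mk_ker.le
  haveI : Finite (minimalPrimes (CAlg2.red A)) := by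
    haveI : Subsingleton (minimalPrimes (CAlg2.red A)) := ⟨fun P Q => Subtype.ext (by
      have hP := le_bot_iff.1 (P.2.2 ⟨Ideal.isPrime_bot, le_rfl⟩ bot_le)
      have hQ := le_bot_iff.1 (Q.2.2 ⟨Ideal.isPrime_bot, le_rfl⟩ bot_le)
      rw [hP, hQ])⟩
    exact Finite.of_subsingleton
  haveI : Finite ↥(minimalPrimes A) := Finite.of_equiv _ e
  exact Set.toFinite _

theorem isDomain_red_of_isLocalRing_normRed (hfin : (minimalPrimes A).Finite)
    (h : IsLocalRing (CAlg2.normRed A)) : IsDomain (CAlg2.red A) := by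
  classical
  haveI : IsReduced (CAlg2.red A) :=
    (Ideal.isRadical_iff_quotient_reduced _).1 (Ideal.radical_isRadical _)
  haveI : Finite ↥(minimalPrimes (CAlg2.red A)) := by
    obtain ⟨e, -⟩ := exists_minimalPrimes_surjective_equiv (Ideal.Quotient.mk (nilradical A))
      Ideal.Quotient.mk_surjective Ideal.mk_ker.le
    haveI := hfin.to_subtype
    exact Finite.of_equiv _ e.symm
  cases nonempty_fintype ↥(minimalPrimes (CAlg2.red A))
  haveI : IsLocalRing (RedNorm.PiNorm (CAlg2.red A)) :=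
    (RedNorm.normEquiv (CAlg2.red A)).toRingEquiv.isLocalRing
  haveI hsub : Subsingleton ↥(minimalPrimes (CAlg2.red A)) := ⟨fun p q => by
    by_contra hpq
    rcases IsLocalRing.isUnit_or_isUnit_one_sub_self
      (Pi.single p 1 : RedNorm.PiNorm (CAlg2.red A)) with hu | hu
    · have := (Pi.isUnit_iff.1 hu) q
      rw [Pi.single_eq_of_ne (Ne.symm hpq)] at this
      exact not_isUnit_zero this
    · have := (Pi.isUnit_iff.1 hu) p
      rw [Pi.sub_apply, Pi.one_apply, Pi.single_eq_same, sub_self] at this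
      exact not_isUnit_zero this⟩
  haveI : Nontrivial (CAlg2.red A) := Ideal.Quotient.nontrivial_iff.2 fun h => by
    have h1 : (1 : A) ∈ nilradical A := h ▸ Submodule.mem_top
    exact not_isNilpotent_one (mem_nilradical.1 h1)
  haveI : NoZeroDivisors (CAlg2.red A) := ⟨fun {a b} hab => by
    obtain ⟨M, hM⟩ := Ideal.exists_maximal (CAlg2.red A)
    haveI := hM.isPrime
    obtain ⟨P, hP, -⟩ := Ideal.exists_minimalPrimes_le (bot_le : (⊥ : Ideal (CAlg2.red A)) ≤ M)
    have hall : ∀ x, x ∈ P → x = 0 := fun x hx => RedNorm.eq_zero_of_forall_mem fun p => by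
      rw [Subsingleton.elim p ⟨P, hP⟩]
      exact hx
    rcases hP.1.1.mem_or_mem (hab ▸ P.zero_mem : a * b ∈ P) with h | h
    · exact Or.inl (hall a h)
    · exact Or.inr (hall b h)⟩
  exact NoZeroDivisors.to_isDomain _

theorem card_eq_one_iff {α : Type u} : ENat.card α = 1 ↔ Subsingleton α ∧ Nonempty α := by
  rw [ENat.card_eq_one_iff_unique]
  exact unique_iff_subsingleton_and_nonempty α

/-- The residue field of a maximal ideal of an integral algebra embeds into the algebraic closure, and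
uniquely iff it is purely inseparable. -/
theorem emb_nonempty_and_subsingleton_iff {N : Type u} [CommRing N] [Algebra A N] [Algebra.IsIntegral A N]
    (m : Ideal N) [m.IsMaximal] :
    let E := {σ : N ⧸ m →+* AlgebraicClosure (ResidueField A) //
      σ.comp ((Ideal.Quotient.mk m).comp (algebraMap A N)) =
        (algebraMap (ResidueField A) (AlgebraicClosure (ResidueField A))).comp (residue A)}
    Nonempty E ∧ (Subsingleton E ↔ ∀ x : N ⧸ m, ∃ n : ℕ,
      x ^ (ringExpChar (N ⧸ m)) ^ n ∈ ((Ideal.Quotient.mk m).comp (algebraMap A N)).range) := by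
  intro E
  let k := ResidueField A
  let Ω := AlgebraicClosure k
  letI := Ideal.Quotient.field m
  have hm : m.comap (algebraMap A N) = maximalIdeal A :=
    eq_maximalIdeal (Ideal.isMaximal_comap_of_isIntegral_of_isMaximal m)
  let α : k →+* N ⧸ m :=
    Ideal.Quotient.lift (maximalIdeal A) ((Ideal.Quotient.mk m).comp (algebraMap A N))
      fun a ha => Ideal.Quotient.eq_zero_iff_mem.2 (by rw [← Ideal.mem_comap, hm]; exact ha)
  letI : Algebra k (N ⧸ m) := α.toAlgebra
  haveI : Algebra.IsAlgebraic k (N ⧸ m) := ⟨fun z => by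
    obtain ⟨w, rfl⟩ := Ideal.Quotient.mk_surjective z
    obtain ⟨p, hp, hp0⟩ := Algebra.IsIntegral.isIntegral (R := A) w
    refine ⟨p.map (residue A), (hp.map _).ne_zero, ?_⟩
    rw [Polynomial.aeval_def, Polynomial.eval₂_map]
    have := congrArg (Ideal.Quotient.mk m) hp0
    rw [map_zero, Polynomial.hom_eval₂] at this
    exact this⟩
  let Φ : E ≃ (N ⧸ m →ₐ[k] Ω) :=
    { toFun := fun σ => { σ.1 with
        commutes' := fun r => by
          obtain ⟨a, rfl⟩ := residue_surjective r
          exact RingHom.congr_fun σ.2 a }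
      invFun := fun f => ⟨f.toRingHom, RingHom.ext fun a => f.commutes (residue A a)⟩
      left_inv := fun _ => rfl
      right_inv := fun _ => rfl }
  refine ⟨⟨Φ.symm IsAlgClosed.lift⟩, ?_⟩
  haveI : Nonempty E := ⟨Φ.symm IsAlgClosed.lift⟩
  have hrange : ((Ideal.Quotient.mk m).comp (algebraMap A N)).range = (algebraMap k (N ⧸ m)).range := by
    refine le_antisymm ?_ ?_
    · rintro _ ⟨a, rfl⟩
      exact ⟨residue A a, rfl⟩
    · rintro _ ⟨r, rfl⟩
      obtain ⟨a, rfl⟩ := residue_surjective r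
      exact ⟨a, rfl⟩
  obtain ⟨q, hq⟩ := ExpChar.exists k
  haveI := hq
  haveI : ExpChar (N ⧸ m) q := expChar_of_injective_algebraMap (algebraMap k (N ⧸ m)).injective q
  rw [ringExpChar.eq (N ⧸ m) q, hrange, ← isPurelyInseparable_iff_pow_mem k q,
    isPurelyInseparable_iff_finSepDegree_eq_one, Field.finSepDegree,
    Nat.card_congr ((Field.embEquivOfIsAlgClosed k (N ⧸ m) Ω).trans Φ.symm),
    Nat.card_eq_one_iff_unique]
  exact (and_iff_left ‹Nonempty E›).symm

theorem isIntegral_normRed : Algebra.IsIntegral A (CAlg2.normRed A) := by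
  haveI : Algebra.IsIntegral A (CAlg2.red A) := Algebra.IsIntegral.of_finite A _
  exact Algebra.IsIntegral.trans (CAlg2.red A)

theorem card_maximalSpectrum_eq_one_iff {N : Type u} [CommRing N] [Nontrivial N] :
    ENat.card (MaximalSpectrum N) = 1 ↔ IsLocalRing N := by
  rw [card_eq_one_iff]
  constructor
  · rintro ⟨hsub, -⟩
    obtain ⟨M, hM⟩ := Ideal.exists_maximal N
    exact IsLocalRing.of_unique_max_ideal ⟨M, hM, fun M' hM' =>
      congrArg MaximalSpectrum.asIdeal (Subsingleton.elim (⟨M', hM'⟩ : MaximalSpectrum N) ⟨M, hM⟩)⟩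
  · intro h
    exact ⟨⟨fun P Q => MaximalSpectrum.ext
      ((eq_maximalIdeal P.isMaximal).trans (eq_maximalIdeal Q.isMaximal).symm)⟩,
      ⟨⟨_, maximalIdeal.isMaximal N⟩⟩⟩

theorem numBranches_eq_one_iff : Brnch.numBranches A = 1 ↔ CAlg2.IsUnibranch A := by
  haveI := nontrivial_normRed A
  by_cases hA : (minimalPrimes A).Finite
  · rw [Brnch.numBranches, if_pos hA, card_maximalSpectrum_eq_one_iff]
    exact ⟨fun h => ⟨isDomain_red_of_isLocalRing_normRed A hA h, h⟩, fun h => h.2⟩
  · rw [Brnch.numBranches, if_neg hA]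
    exact iff_of_false (by simp) fun h => hA (finite_minimalPrimes_of_isDomain_red A h.1)

theorem numGeomBranches_eq_one_iff : Brnch.numGeomBranches A = 1 ↔ CAlg2.IsGeomUnibranch A := by
  haveI := nontrivial_normRed A
  haveI := isIntegral_normRed A
  by_cases hA : (minimalPrimes A).Finite
  · have hemb : ∀ m : MaximalSpectrum (CAlg2.normRed A), Nonempty (Brnch.Emb A m) ∧
        (Subsingleton (Brnch.Emb A m) ↔ ∀ x : CAlg2.normRed A ⧸ m.asIdeal, ∃ n : ℕ,
          x ^ (ringExpChar (CAlg2.normRed A ⧸ m.asIdeal)) ^ n ∈ (Brnch.toResidue A m).range) := fun m =>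
      haveI := m.isMaximal
      emb_nonempty_and_subsingleton_iff A m.asIdeal
    haveI := fun m => (hemb m).1
    rw [Brnch.numGeomBranches, if_pos hA, card_eq_one_iff]
    constructor
    · rintro ⟨hsub, -⟩
      haveI hM : Subsingleton (MaximalSpectrum (CAlg2.normRed A)) :=
        ⟨fun m m' => congrArg Sigma.fst
          (Subsingleton.elim (⟨m, Classical.arbitrary _⟩ : Σ m, Brnch.Emb A m) ⟨m', Classical.arbitrary _⟩)⟩
      obtain ⟨M, hMmax⟩ := Ideal.exists_maximal (CAlg2.normRed A)
      have hloc : IsLocalRing (CAlg2.normRed A) :=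
        card_maximalSpectrum_eq_one_iff.1 (card_eq_one_iff.2 ⟨hM, ⟨⟨M, hMmax⟩⟩⟩)
      refine ⟨⟨isDomain_red_of_isLocalRing_normRed A hA hloc, hloc⟩, fun m hm => ?_⟩
      refine (hemb ⟨m, hm⟩).2.1 ⟨fun s t => ?_⟩
      exact eq_of_heq (Sigma.mk.inj_iff.1
        (Subsingleton.elim (⟨⟨m, hm⟩, s⟩ : Σ m, Brnch.Emb A m) ⟨⟨m, hm⟩, t⟩)).2
    · rintro ⟨⟨-, hloc⟩, hpi⟩
      obtain ⟨hM, ⟨M⟩⟩ := card_eq_one_iff.1 (card_maximalSpectrum_eq_one_iff.2 hloc)
      haveI : ∀ m, Subsingleton (Brnch.Emb A m) := fun m =>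
        (hemb m).2.2 (haveI := m.isMaximal; hpi m.asIdeal)
      exact ⟨⟨fun ⟨a, s⟩ ⟨b, t⟩ => by obtain rfl := Subsingleton.elim a b; rw [Subsingleton.elim s t]⟩,
        ⟨⟨M, Classical.arbitrary _⟩⟩⟩
  · rw [Brnch.numGeomBranches, if_neg hA]
    exact iff_of_false (by simp) fun h => hA (finite_minimalPrimes_of_isDomain_red A h.1.1)

end Groth.Agent.Hens
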