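import Mathlib.RingTheory.AdicCompletion.Completeness
import Mathlib.RingTheory.AdicCompletion.LocalRing
import Mathlib.RingTheory.Valuation.LocalSubring
import Mathlib.RingTheory.Valuation.ValuationRing
import Mathlib.RingTheory.Spectrum.Prime.Topology

/-!
# Adically separated points and lifting primes to the completion
-/

set_option autoImplicit false
set_option linter.style.haveILetI false

universe u

open IsLocalRing

namespace Groth.Agent.Hens.RigidAdic

/-- A specialisation `p ≤ x` from outside `V(I)` into `V(I)` is seen, after generisation inside the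
complement, by a local domain in which `I` is generated by one element with separated topology. -/
theorem exists_adic_point (B : Type u) [CommRing B] (s : Finset B) (p x : Ideal B) [p.IsPrime]
    [x.IsPrime] (hpx : p ≤ x) (hIx : Ideal.span (s : Set B) ≤ x)
    (hIp : ¬ Ideal.span (s : Set B) ≤ p) :
    ∃ (V : Type u) (_ : CommRing V) (_ : IsDomain V) (_ : IsLocalRing V) (φ : B →+* V) (a : B),
      a ∈ s ∧ φ a ≠ 0 ∧ (∀ b ∈ Ideal.span (s : Set B), φ a ∣ φ b) ∧ p ≤ RingHom.ker φ ∧
      (maximalIdeal V).comap φ = x ∧ ∀ z : V, (∀ n : ℕ, φ a ^ n ∣ z) → z = 0 := by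
  classical
  let A := B ⧸ p
  let π : B →+* A := Ideal.Quotient.mk p
  haveI hxp : (x.map π).IsPrime := Ideal.map_isPrime_of_surjective Ideal.Quotient.mk_surjective
    (by rw [Ideal.mk_ker]; exact hpx)
  let D := Localization.AtPrime (x.map π)
  haveI : IsDomain D := IsLocalization.isDomain_of_atPrime _ (x.map π)
  let f : B →+* D := (algebraMap A D).comp π
  have hfker : RingHom.ker f = p := by
    refine le_antisymm (fun b hb => ?_) fun b hb => ?_
    · have := IsLocalization.injective D (x.map π).primeCompl_le_nonZeroDivisors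
        (show algebraMap A D (π b) = algebraMap A D 0 by rw [map_zero]; exact hb)
      exact Ideal.Quotient.eq_zero_iff_mem.1 this
    · rw [RingHom.mem_ker, RingHom.comp_apply, Ideal.Quotient.eq_zero_iff_mem.2 hb, map_zero]
  have hfx : (maximalIdeal D).comap f = x := by
    show ((maximalIdeal D).comap (algebraMap A D)).comap π = x
    rw [show (maximalIdeal D).comap (algebraMap A D) = x.map π from
      Localization.AtPrime.under_maximalIdeal, Ideal.comap_map_of_surjective' _
      Ideal.Quotient.mk_surjective, Ideal.mk_ker, sup_eq_left.2 hpx]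
  obtain ⟨O, hO, hloc⟩ := IsLocalRing.exists_factor_valuationRing (algebraMap D (FractionRing D))
  let g : D →+* O := (algebraMap D (FractionRing D)).codRestrict O.toSubring hO
  haveI : IsLocalHom g := hloc
  let h : B →+* O := g.comp f
  have hhker : ∀ b, h b = 0 → b ∈ p := fun b hb => by
    rw [← hfker, RingHom.mem_ker]
    refine IsFractionRing.injective D (FractionRing D) ?_
    rw [map_zero]
    exact congrArg Subtype.val hb
  have hhp : ∀ b ∈ p, h b = 0 := fun b hb => by
    rw [RingHom.comp_apply, show f b = 0 from RingHom.mem_ker.1 (hfker.ge hb), map_zero]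
  have hhx : (maximalIdeal O).comap h = x := by
    refine (Ideal.ext fun b => ?_).trans hfx
    simp only [Ideal.mem_comap, IsLocalRing.mem_maximalIdeal, mem_nonunits_iff, h,
      RingHom.comp_apply]
    exact not_congr ⟨fun hu => IsUnit.of_map g _ hu, fun hu => hu.map g⟩
  -- an element of `s` of smallest valuation
  have key : ∀ t : Finset B, t.Nonempty → ∃ a ∈ t, ∀ b ∈ t, h a ∣ h b := by
    intro t ht
    induction ht using Finset.Nonempty.cons_induction with
    | singleton a => exact ⟨a, by simp, fun b hb => by simp [Finset.mem_singleton.1 hb]⟩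
    | cons b t hbt _ ih =>
      obtain ⟨a, ha, had⟩ := ih
      rcases ValuationRing.dvd_total (h a) (h b) with hd | hd
      · exact ⟨a, Finset.mem_cons_of_mem ha, fun c hc => by
          rcases Finset.mem_cons.1 hc with rfl | hc
          exacts [hd, had c hc]⟩
      · exact ⟨b, Finset.mem_cons_self b t, fun c hc => by
          rcases Finset.mem_cons.1 hc with rfl | hc
          exacts [dvd_rfl, hd.trans (had c hc)]⟩
  have hne : s.Nonempty := by
    rcases s.eq_empty_or_nonempty with rfl | hs
    · exact absurd (by simp) hIp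
    · exact hs
  obtain ⟨a, ha, had⟩ := key s hne
  have hdvd : ∀ b ∈ Ideal.span (s : Set B), h a ∣ h b := by
    intro b hb
    have h1 : Ideal.span (s : Set B) ≤ (Ideal.span {h a}).comap h := by
      rw [Ideal.span_le]
      exact fun c hc => Ideal.mem_span_singleton.2 (had c hc)
    exact Ideal.mem_span_singleton.1 (h1 hb)
  have ha0 : h a ≠ 0 := fun h0 => hIp fun b hb => hhker b (by
    have := hdvd b hb
    rw [h0, zero_dvd_iff] at this
    exact this)
  have hau : ¬ IsUnit (h a) := by
    have : a ∈ (maximalIdeal O).comap h := hhx.ge (hIx (Ideal.subset_span ha))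
    exact this
  -- the separated quotient
  let q : Ideal O := ⨅ n : ℕ, Ideal.span {h a ^ n}
  have hq : ∀ z, z ∈ q ↔ ∀ n : ℕ, h a ^ n ∣ z := fun z => by
    simp only [q, Ideal.mem_iInf, Ideal.mem_span_singleton]
  have haq : h a ∉ q := by
    rw [hq]
    intro hall
    have h2 := hall 2
    rw [pow_two] at h2
    obtain ⟨c, hc⟩ := h2
    refine hau (isUnit_iff_dvd_one.2 ⟨c, mul_left_cancel₀ ha0 ?_⟩)
    rw [mul_one, ← mul_assoc]
    exact hc
  haveI hqp : q.IsPrime := by
    refine ⟨fun htop => haq (by rw [htop]; trivial), fun {y z} hyz => ?_⟩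
    by_contra! hc
    rw [hq] at hyz
    simp only [hq, not_forall] at hc
    obtain ⟨⟨n, hn⟩, ⟨k, hk⟩⟩ := hc
    have hy := (ValuationRing.dvd_total (h a ^ n) y).resolve_left hn
    have hz := (ValuationRing.dvd_total (h a ^ k) z).resolve_left hk
    have h1 : h a ^ (n + k + 1) ∣ h a ^ (n + k) := (hyz (n + k + 1)).trans
      (by rw [pow_add]; exact mul_dvd_mul hy hz)
    rw [pow_succ] at h1
    obtain ⟨c, hc⟩ := h1
    refine hau (isUnit_iff_dvd_one.2 ⟨c, mul_left_cancel₀ (pow_ne_zero (n + k) ha0) ?_⟩)
    rw [mul_one, ← mul_assoc]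
    exact hc
  let π' : O →+* O ⧸ q := Ideal.Quotient.mk q
  haveI : IsLocalRing (O ⧸ q) := IsLocalRing.of_surjective' π' Ideal.Quotient.mk_surjective
  haveI : IsLocalHom π' := .of_surjective π' Ideal.Quotient.mk_surjective
  refine ⟨O ⧸ q, inferInstance, inferInstance, inferInstance, π'.comp h, a, ha,
    fun h0 => haq (Ideal.Quotient.eq_zero_iff_mem.1 h0), fun b hb => map_dvd π' (hdvd b hb),
    fun b hb => by rw [RingHom.mem_ker, RingHom.comp_apply, hhp b hb, map_zero], ?_, ?_⟩
  · rw [← Ideal.comap_comap, show (maximalIdeal (O ⧸ q)).comap π' = maximalIdeal O from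
      IsLocalRing.maximalIdeal_comap π', hhx]
  · intro z hz
    obtain ⟨w, rfl⟩ := Ideal.Quotient.mk_surjective z
    refine Ideal.Quotient.eq_zero_iff_mem.2 ((hq w).2 fun n => ?_)
    obtain ⟨c, hc⟩ := hz n
    obtain ⟨c, rfl⟩ := Ideal.Quotient.mk_surjective c
    have hmem : w - h a ^ n * c ∈ q := Ideal.Quotient.eq.1 (by rw [map_mul, map_pow]; exact hc)
    have := dvd_add ((hq _).1 hmem n) (dvd_mul_right (h a ^ n) c)
    rwa [sub_add_cancel] at this

variable {A : Type u} [CommRing A] {I : Ideal A}

/-- The kernel of reduction modulo `I ^ n` on the completion. -/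
theorem mem_map_pow_iff (hI : I.FG) (n : ℕ) (x : AdicCompletion I A) :
    x ∈ (I ^ n).map (algebraMap A (AdicCompletion I A)) ↔ AdicCompletion.evalₐ I n x = 0 := by
  constructor
  · intro hx
    have hle : (I ^ n).map (algebraMap A (AdicCompletion I A)) ≤
        RingHom.ker (AdicCompletion.evalₐ I n : AdicCompletion I A →ₐ[A] A ⧸ I ^ n).toRingHom := by
      rw [Ideal.map_le_iff_le_comap]
      intro a ha
      rw [Ideal.mem_comap, RingHom.mem_ker]
      exact ((AdicCompletion.evalₐ I n).commutes a).trans (Ideal.Quotient.eq_zero_iff_mem.2 ha)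
    exact hle hx
  · intro hx
    have h1 : AdicCompletion.eval I A n x = 0 := by
      rw [← AdicCompletion.factor_evalₐ_eq_eval I x (by simp), hx, map_zero]
    have h2 : x ∈ I ^ n • (⊤ : Submodule A (AdicCompletion I A)) := by
      rw [AdicCompletion.pow_smul_top_eq_ker_eval hI]; exact h1
    rwa [Ideal.smul_top_eq_map] at h2

/-- Approximation of elements of the completion. -/
theorem exists_sub_mem (hI : I.FG) (n : ℕ) (x : AdicCompletion I A) :
    ∃ r : A, x - algebraMap A (AdicCompletion I A) r ∈ (I ^ n).map (algebraMap A _) := by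
  obtain ⟨r, hr⟩ := Ideal.Quotient.mk_surjective (AdicCompletion.evalₐ I n x)
  refine ⟨r, (mem_map_pow_iff hI n _).2 ?_⟩
  rw [map_sub, AlgHom.commutes, Ideal.Quotient.algebraMap_eq, hr, sub_self]

/-- The unique prime of the completion over a prime containing `I`. -/
theorem exists_lift_closed (x : PrimeSpectrum A) (hx : I ≤ x.asIdeal) :
    ∃ Q : PrimeSpectrum (AdicCompletion I A),
      PrimeSpectrum.comap (algebraMap A (AdicCompletion I A)) Q = x := by
  haveI : (x.asIdeal.map (Ideal.Quotient.mk I)).IsPrime :=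
    Ideal.map_isPrime_of_surjective Ideal.Quotient.mk_surjective (by rw [Ideal.mk_ker]; exact hx)
  refine ⟨⟨(x.asIdeal.map (Ideal.Quotient.mk I)).comap (AdicCompletion.evalOneₐ I).toRingHom,
    inferInstance⟩, PrimeSpectrum.ext ?_⟩
  rw [PrimeSpectrum.comap_asIdeal, Ideal.comap_comap, AdicCompletion.evalOneₐ_comp_algebraMap_eq_mk,
    Ideal.comap_map_of_surjective' _ Ideal.Quotient.mk_surjective, Ideal.mk_ker]
  exact sup_eq_left.2 hx

/-- Adically separated points lift to the completion below any given lift of their closed point. -/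
theorem exists_lift (hI : I.FG) {V : Type*} [CommRing V] [IsDomain V] [IsLocalRing V]
    (φ : A →+* V) (a : A) (hdvd : ∀ b ∈ I, φ a ∣ φ b) (hsep : ∀ z : V, (∀ n : ℕ, φ a ^ n ∣ z) → z = 0)
    (Q : PrimeSpectrum (AdicCompletion I A))
    (hQ : Q.asIdeal.comap (algebraMap A _) = (maximalIdeal V).comap φ)
    (hIQ : I ≤ Q.asIdeal.comap (algebraMap A _)) :
    ∃ P : PrimeSpectrum (AdicCompletion I A), P.asIdeal ≤ Q.asIdeal ∧
      P.asIdeal.comap (algebraMap A _) = RingHom.ker φ := by
  haveI : (RingHom.ker φ).IsPrime := RingHom.ker_isPrime φ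
  set ψ := algebraMap A (AdicCompletion I A)
  let T : Submonoid (AdicCompletion I A) :=
    (RingHom.ker φ).primeCompl.map ψ ⊔ Q.asIdeal.primeCompl
  have hdisj : Disjoint (((RingHom.ker φ).map ψ : Ideal (AdicCompletion I A)) : Set (AdicCompletion I A)) T := by
    rw [Set.disjoint_left]
    intro t ht htT
    obtain ⟨_, ⟨x, hx, rfl⟩, s, hs, rfl⟩ := Submonoid.mem_sup.1 htT
    refine hx (RingHom.mem_ker.2 (hsep _ fun n => ?_))
    obtain ⟨r, hr⟩ := exists_sub_mem hI (n + 1) s
    have hru : IsUnit (φ r) := by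
      by_contra hc
      have : r ∈ Q.asIdeal.comap ψ := hQ.ge hc
      refine hs ?_
      have h2 : s - ψ r ∈ Q.asIdeal := (Ideal.map_le_iff_le_comap.2
        ((Ideal.pow_le_self (Nat.succ_ne_zero n)).trans hIQ)) hr
      have := Q.asIdeal.add_mem h2 this
      rwa [sub_add_cancel] at this
    have h3 := Ideal.mem_map_of_mem (AdicCompletion.evalₐ I (n + 1)).toRingHom ht
    rw [Ideal.map_map, AlgHom.toRingHom_eq_coe, AlgHom.comp_algebraMap,
      Ideal.Quotient.algebraMap_eq, Ideal.mem_map_iff_of_surjective _ Ideal.Quotient.mk_surjective] at h3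
    obtain ⟨y, hy, hy'⟩ := h3
    have h4 : AdicCompletion.evalₐ I (n + 1) (ψ x * s) = Ideal.Quotient.mk _ (x * r) := by
      have h5 := (mem_map_pow_iff hI (n + 1) _).1 hr
      rw [map_sub, AlgHom.commutes, sub_eq_zero] at h5
      rw [map_mul, AlgHom.commutes, h5, map_mul]
      rfl
    have h6 : y - x * r ∈ I ^ (n + 1) := Ideal.Quotient.eq.1 (hy'.trans h4)
    have h7 : ∀ z ∈ I ^ n, φ a ^ n ∣ φ z := by
      intro z hz
      have : (I ^ n).map φ ≤ Ideal.span {φ a ^ n} := by
        rw [Ideal.map_pow, ← Ideal.span_singleton_pow]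
        refine Ideal.pow_right_mono ?_ n
        rw [Ideal.map_le_iff_le_comap]
        exact fun b hb => Ideal.mem_span_singleton.2 (hdvd b hb)
      exact Ideal.mem_span_singleton.1 (this (Ideal.mem_map_of_mem φ hz))
    have h8 := h7 _ (Ideal.pow_le_pow_right (Nat.le_succ n) h6)
    rw [map_sub, RingHom.mem_ker.1 hy, zero_sub, dvd_neg, map_mul] at h8
    exact hru.dvd_mul_right.1 h8
  obtain ⟨P, hP, hle, hPT⟩ := Ideal.exists_le_prime_disjoint _ T hdisj
  refine ⟨⟨P, hP⟩, fun z hz => ?_, le_antisymm (fun z hz => ?_) (Ideal.map_le_iff_le_comap.1 hle)⟩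
  · by_contra hzQ
    exact Set.disjoint_left.1 hPT hz (Submonoid.mem_sup_right hzQ)
  · by_contra hzk
    exact Set.disjoint_left.1 hPT hz (Submonoid.mem_sup_left ⟨z, hzk, rfl⟩)

end Groth.Agent.Hens.RigidAdic
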