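import Groth.Agent.Hensel.Pair
import Groth.Agent.Hens.RigidAdic
import Mathlib.RingTheory.Polynomial.ScaleRoots
import Mathlib.RingTheory.IntegralClosure.IntegrallyClosed
import Mathlib.FieldTheory.IsAlgClosed.Basic

/-!
# Absolutely integrally closed rings, products of henselian pairs, functoriality of completions
-/

set_option autoImplicit false
set_option linter.style.haveILetI false

universe u v w

open Polynomial IsLocalRing

namespace Groth.Agent.Hens.RigidAIC

/-- Every monic polynomial of nonzero degree has a root. -/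
def IsAIC (R : Type u) [CommRing R] : Prop :=
  ∀ f : R[X], f.Monic → f.natDegree ≠ 0 → ∃ r, f.IsRoot r

theorem isAIC_pi {ι : Type v} {R : ι → Type w} [∀ i, CommRing (R i)] (h : ∀ i, IsAIC (R i)) :
    IsAIC (∀ i, R i) := by
  intro f hf hd
  have key : ∀ i, ∃ r : R i, (f.map (Pi.evalRingHom R i)).IsRoot r := by
    intro i
    rcases subsingleton_or_nontrivial (R i) with hs | hs
    · exact ⟨0, Subsingleton.elim _ _⟩
    · exact h i _ (hf.map _) (by rw [hf.natDegree_map]; exact hd)
  choose r hr using key
  refine ⟨r, funext fun i => ?_⟩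
  have h2 := hr i
  rw [IsRoot.def, eval_map] at h2
  refine Eq.trans ?_ h2
  rw [show r i = Pi.evalRingHom R i r from rfl, Polynomial.eval₂_at_apply]
  rfl

theorem isAIC_of_surjective {R S : Type*} [CommRing R] [CommRing S] (h : IsAIC R) (g : R →+* S)
    (hg : Function.Surjective g) : IsAIC S := by
  intro f hf hd
  rcases subsingleton_or_nontrivial S with hs | hs
  · exact ⟨0, Subsingleton.elim _ _⟩
  obtain ⟨F, hF, hFd, hFm⟩ := Polynomial.lifts_and_degree_eq_and_monic
    (f := g) (Polynomial.mem_lifts_of_surjective hg f) hf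
  obtain ⟨r, hr⟩ := h F hFm (by
    rw [Polynomial.natDegree_eq_of_degree_eq hFd]; exact hd)
  refine ⟨g r, ?_⟩
  rw [← hF]
  exact hr.map

theorem isAIC_localization {R : Type*} [CommRing R] (h : IsAIC R) (M : Submonoid R) (S : Type*)
    [CommRing S] [Algebra R S] [IsLocalization M S] : IsAIC S := by
  intro f hf hd
  obtain ⟨b, hb⟩ := IsLocalization.exist_integer_multiples M f.support f.coeff
  have hlift : f.scaleRoots (algebraMap R S b) ∈ Polynomial.lifts (algebraMap R S) := by
    refine (Polynomial.lifts_iff_coeff_lifts _).2 fun n => ?_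
    rw [Polynomial.coeff_scaleRoots]
    by_cases hn : n ∈ f.support
    · rcases eq_or_ne n f.natDegree with rfl | hne
      · rw [hf.coeff_natDegree, Nat.sub_self, pow_zero, mul_one]
        exact ⟨1, map_one _⟩
      · have hlt : n < f.natDegree := lt_of_le_of_ne (Polynomial.le_natDegree_of_mem_supp n hn) hne
        obtain ⟨k, hk⟩ := Nat.exists_eq_succ_of_ne_zero (Nat.sub_ne_zero_of_lt hlt)
        obtain ⟨c, hc⟩ := hb n hn
        refine ⟨c * b.1 ^ k, ?_⟩
        rw [hk, map_mul, map_pow, hc, pow_succ, Algebra.smul_def]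
        ring
    · rw [Polynomial.notMem_support_iff.1 hn, zero_mul]
      exact ⟨0, map_zero _⟩
  rcases subsingleton_or_nontrivial S with hs | hs
  · exact ⟨0, Subsingleton.elim _ _⟩
  obtain ⟨F, hF, hFd, hFm⟩ := Polynomial.lifts_and_degree_eq_and_monic hlift
    ((Polynomial.monic_scaleRoots_iff _).2 hf)
  obtain ⟨r, hr⟩ := h F hFm (by
    rw [Polynomial.natDegree_eq_of_degree_eq hFd, Polynomial.natDegree_scaleRoots]; exact hd)
  obtain ⟨v, hv⟩ := (IsLocalization.map_units S b).exists_left_inv
  refine ⟨algebraMap R S r * v, ?_⟩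
  have h1 : (f.scaleRoots (algebraMap R S b)).eval (algebraMap R S b * (algebraMap R S r * v)) = 0 := by
    rw [show algebraMap R S b * (algebraMap R S r * v) = algebraMap R S r by
      linear_combination algebraMap R S r * hv, ← hF]
    exact hr.map
  rw [show (f.scaleRoots (algebraMap R S b)).eval (algebraMap R S b * (algebraMap R S r * v)) =
    algebraMap R S b ^ f.natDegree * f.eval (algebraMap R S r * v) from
      Polynomial.scaleRoots_eval₂_mul (RingHom.id S) _ _] at h1
  exact ((IsLocalization.map_units S b).pow _).mul_right_eq_zero.1 h1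

/-- An absolutely integrally closed local ring is henselian. -/
theorem henselianLocalRing_of_isAIC {R : Type*} [CommRing R] [IsLocalRing R] (h : IsAIC R) :
    HenselianLocalRing R where
  is_henselian := by
    intro f hf
    induction hn : f.natDegree using Nat.strong_induction_on generalizing f with
    | _ n ih =>
      intro a ha hu
      by_cases hd : f.natDegree = 0
      · rw [Polynomial.Monic.natDegree_eq_zero hf |>.1 hd, eval_one] at ha
        exact absurd ha (by simp)
      obtain ⟨r, hr⟩ := h f hf hd
      by_cases har : a - r ∈ maximalIdeal R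
      · exact ⟨r, hr, by rw [← neg_sub]; exact neg_mem har⟩
      obtain ⟨g, hg⟩ := Polynomial.dvd_iff_isRoot.2 hr
      have hgm : g.Monic := (monic_X_sub_C r).of_mul_monic_left (hg ▸ hf)
      have hgd : g.natDegree < n := by
        rw [← hn, hg, (monic_X_sub_C r).natDegree_mul hgm, natDegree_X_sub_C]
        exact Nat.lt_one_add_iff.2 le_rfl
      have hga : g.eval a ∈ maximalIdeal R := by
        rw [hg, eval_mul, eval_sub, eval_X, eval_C] at ha
        exact ((maximalIdeal.isMaximal R).isPrime.mem_or_mem ha).resolve_left har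
      have hgu : IsUnit (g.derivative.eval a) := by
        rw [hg, derivative_mul, derivative_sub, derivative_X, derivative_C, sub_zero, one_mul,
          eval_add, eval_mul, eval_sub, eval_X, eval_C] at hu
        by_contra hc
        refine (mem_maximalIdeal _).1 (add_mem hga (Ideal.mul_mem_left _ (a - r) hc)) hu
      obtain ⟨x, hx, hxa⟩ := ih _ hgd g hgm rfl a hga hgu
      exact ⟨x, by rw [IsRoot.def, hg, eval_mul, hx, mul_zero], hxa⟩

theorem isAlgClosed_of_isAIC (K : Type u) [Field K] (h : IsAIC K) : IsAlgClosed K :=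
  IsAlgClosed.of_exists_root K fun p hp hirr => h p hp hirr.natDegree_pos.ne'

theorem isAlgClosed_residueField {R : Type u} [CommRing R] [IsLocalRing R] (h : IsAIC R) :
    IsAlgClosed (ResidueField R) :=
  isAlgClosed_of_isAIC _ (isAIC_of_surjective h (residue R) residue_surjective)

theorem isAIC_integralClosure (A K : Type u) [CommRing A] [Field K] [IsAlgClosed K] [Algebra A K] :
    IsAIC (integralClosure A K) := by
  intro f hf hd
  obtain ⟨x, hx⟩ := IsAlgClosed.exists_root (f.map (algebraMap (integralClosure A K) K))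
    (by rw [Polynomial.degree_eq_natDegree (hf.map _).ne_zero, hf.natDegree_map]; exact_mod_cast hd)
  rw [IsRoot.def, eval_map] at hx
  haveI : Algebra.IsIntegral A (integralClosure A K) := inferInstance
  have hxi : IsIntegral A x := isIntegral_trans x ⟨f, hf, hx⟩
  refine ⟨⟨x, hxi⟩, Subtype.ext ?_⟩
  refine Eq.trans ?_ hx
  exact (Polynomial.eval₂_at_apply (algebraMap (integralClosure A K) K) (⟨x, hxi⟩ : integralClosure A K)).symm

/-- Membership in the extension of a finitely generated ideal to a product. -/
theorem mem_map_pi_iff {A : Type u} [CommRing A] {I : Ideal A} (hI : I.FG) {ι : Type v} (R : ι → Type w)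
    [∀ i, CommRing (R i)] [∀ i, Algebra A (R i)] (x : ∀ i, R i) :
    x ∈ I.map (algebraMap A (∀ i, R i)) ↔ ∀ i, x i ∈ I.map (algebraMap A (R i)) := by
  classical
  constructor
  · intro hx i
    have := Ideal.mem_map_of_mem (Pi.evalRingHom R i) hx
    rwa [Ideal.map_map] at this
  · obtain ⟨s, rfl⟩ := hI
    induction s using Finset.induction generalizing x with
    | empty =>
      intro hx
      simp only [Finset.coe_empty, Ideal.span_empty, Ideal.map_bot, Ideal.mem_bot] at hx ⊢
      exact funext hx
    | insert a t hat ih =>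
      intro hx
      simp only [Finset.coe_insert, Ideal.span_insert, Ideal.map_sup, Ideal.map_span,
        Set.image_singleton] at hx ih ⊢
      choose y hy z hz hyz using fun i => Submodule.mem_sup.1 (hx i)
      choose c hc using fun i => Ideal.mem_span_singleton'.1 (hy i)
      refine Submodule.mem_sup.2 ⟨y, Ideal.mem_span_singleton'.2 ⟨c, funext hc⟩, z, ih z hz, funext hyz⟩

/-- A product of henselian pairs is a henselian pair. -/
theorem henselianRing_pi {A : Type u} [CommRing A] {I : Ideal A} (hI : I.FG) {ι : Type v}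
    (R : ι → Type w) [∀ i, CommRing (R i)] [∀ i, Algebra A (R i)]
    [∀ i, HenselianRing (R i) (I.map (algebraMap A (R i)))] :
    HenselianRing (∀ i, R i) (I.map (algebraMap A (∀ i, R i))) where
  jac := by
    intro x hx
    rw [Ideal.mem_jacobson_bot]
    intro y
    have h1 : ∀ i, IsUnit (x i * y i + 1) := fun i => Ideal.mem_jacobson_bot.1
      ((HenselianRing.jac (R := R i)) ((mem_map_pi_iff hI R x).1 hx i)) (y i)
    choose z hz using fun i => (h1 i).exists_right_inv
    exact IsUnit.of_mul_eq_one (a := x * y + 1) z (funext hz)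
  is_henselian := by
    intro f hf a ha hu
    have hmem := (mem_map_pi_iff hI R _).1 ha
    obtain ⟨v, hv⟩ := hu.exists_right_inv
    obtain ⟨v, rfl⟩ := Ideal.Quotient.mk_surjective v
    rw [← map_mul, ← map_one (Ideal.Quotient.mk _), Ideal.Quotient.eq] at hv
    have key : ∀ i, ∃ r : R i, (f.map (Pi.evalRingHom R i)).IsRoot r ∧
        r - a i ∈ I.map (algebraMap A (R i)) := by
      intro i
      refine HenselianRing.is_henselian _ (hf.map _) (a i) ?_ ?_
      · rw [eval_map, show a i = Pi.evalRingHom R i a from rfl, Polynomial.eval₂_at_apply]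
        exact hmem i
      · rw [derivative_map, eval_map, show a i = Pi.evalRingHom R i a from rfl, Polynomial.eval₂_at_apply]
        refine IsUnit.of_mul_eq_one (Ideal.Quotient.mk _ (v i)) ?_
        rw [← map_mul, ← map_one (Ideal.Quotient.mk _), Ideal.Quotient.eq]
        exact (mem_map_pi_iff hI R _).1 hv i
    choose r hr hra using key
    refine ⟨r, funext fun i => ?_, (mem_map_pi_iff hI R _).2 hra⟩
    have h2 := hr i
    rw [IsRoot.def, eval_map, show r i = Pi.evalRingHom R i r from rfl, Polynomial.eval₂_at_apply] at h2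
    exact h2

variable {R S T : Type u} [CommRing R] [CommRing S] [CommRing T]

theorem cmap_aux {J : Ideal R} {K : Ideal S} (g : R →+* S) (h : J ≤ K.comap g) {m n : ℕ} (hle : m ≤ n) :
    (Ideal.Quotient.factorPow K hle).comp ((Ideal.quotientMap (K ^ n) g
      ((Ideal.pow_right_mono h n).trans (Ideal.le_comap_pow g n))).comp
        (AdicCompletion.evalₐ J n).toRingHom) =
      (Ideal.quotientMap (K ^ m) g
        ((Ideal.pow_right_mono h m).trans (Ideal.le_comap_pow g m))).comp
          (AdicCompletion.evalₐ J m).toRingHom := by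
  refine RingHom.ext fun x => ?_
  obtain ⟨y, rfl⟩ := AdicCompletion.mk_surjective J R x
  simp only [RingHom.comp_apply, AlgHom.toRingHom_eq_coe, RingHom.coe_coe, AdicCompletion.evalₐ_mk,
    Ideal.quotientMap_mk]
  refine Ideal.Quotient.eq.2 ?_
  rw [← map_sub]
  refine (Ideal.pow_right_mono h m).trans (Ideal.le_comap_pow g m) ?_
  have h2 := SModEq.sub_mem.1 (y.property hle).symm
  rwa [Ideal.smul_eq_mul, Ideal.mul_top] at h2

/-- Functoriality of completions in the pair. -/
noncomputable def cmap {J : Ideal R} {K : Ideal S} (g : R →+* S) (h : J ≤ K.comap g) :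
    AdicCompletion J R →+* AdicCompletion K S :=
  AdicCompletion.liftRingHom K
    (fun n => (Ideal.quotientMap (K ^ n) g
      ((Ideal.pow_right_mono h n).trans (Ideal.le_comap_pow g n))).comp
        (AdicCompletion.evalₐ J n).toRingHom)
    (cmap_aux g h)

@[simp]
theorem evalₐ_cmap {J : Ideal R} {K : Ideal S} (g : R →+* S) (h : J ≤ K.comap g) (n : ℕ)
    (x : AdicCompletion J R) :
    AdicCompletion.evalₐ K n (cmap g h x) =
      Ideal.quotientMap (K ^ n) g ((Ideal.pow_right_mono h n).trans (Ideal.le_comap_pow g n))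
        (AdicCompletion.evalₐ J n x) :=
  AdicCompletion.evalₐ_liftRingHom K _ (cmap_aux g h) n x

theorem cmap_algebraMap {J : Ideal R} {K : Ideal S} (g : R →+* S) (h : J ≤ K.comap g) (r : R) :
    cmap g h (algebraMap R _ r) = algebraMap S _ (g r) := by
  refine AdicCompletion.ext_evalₐ fun n => ?_
  rw [evalₐ_cmap, AlgHom.commutes, AlgHom.commutes]
  rfl

theorem cmap_comp {J : Ideal R} {K : Ideal S} {L : Ideal T} (g : R →+* S) (h : J ≤ K.comap g)
    (g' : S →+* T) (h' : K ≤ L.comap g') (h'' : J ≤ L.comap (g'.comp g)) (x : AdicCompletion J R) :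
    cmap g' h' (cmap g h x) = cmap (g'.comp g) h'' x := by
  refine AdicCompletion.ext_evalₐ fun n => ?_
  rw [evalₐ_cmap, evalₐ_cmap, evalₐ_cmap]
  obtain ⟨y, hy⟩ := Ideal.Quotient.mk_surjective (AdicCompletion.evalₐ J n x)
  rw [← hy]
  rfl

end Groth.Agent.Hens.RigidAIC
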