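import Groth.Agent.Hensel.Pair
import Mathlib.AlgebraicGeometry.PullbackCarrier
import Mathlib.AlgebraicGeometry.Morphisms.Finite
import Mathlib.AlgebraicGeometry.Limits
import Mathlib.RingTheory.Spectrum.Prime.Topology

/-!
# Henselian couples of schemes: lifting of clopens along finite morphisms

* `existsUnique_of_range_eq` : the condition only depends on the closed subset
* `henselianRing_iff_clopenLift`, `clopenLift_sigma_iff`, `clopenLift_comp_finite`
-/

set_option linter.style.haveILetI false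
set_option backward.isDefEq.respectTransparency.types false

universe u

open AlgebraicGeometry CategoryTheory CategoryTheory.Limits

namespace Groth.Agent.Hens.Couple

/-- Transfer of unique lifting of clopens between two maps with the same range. -/
theorem existsUnique_of_range_eq {Y P Q : Type*} [TopologicalSpace Y] [TopologicalSpace P]
    [TopologicalSpace Q] {p : P → Y} {q : Q → Y} (hp : Continuous p) (hq : Topology.IsClosedEmbedding q)
    (he : Set.range p = Set.range q)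
    (h : ∀ V : Set P, IsClopen V → ∃! U : Set Y, IsClopen U ∧ p ⁻¹' U = V) (V : Set Q) (hV : IsClopen V) :
    ∃! U : Set Y, IsClopen U ∧ q ⁻¹' U = V := by
  have hcompl : (p ⁻¹' (q '' V))ᶜ = p ⁻¹' (q '' Vᶜ) := by
    ext z
    obtain ⟨w, hw⟩ : p z ∈ Set.range q := he ▸ Set.mem_range_self z
    simp only [Set.mem_compl_iff, Set.mem_preimage, ← hw, hq.injective.mem_set_image]
  have hV' : IsClopen (p ⁻¹' (q '' V)) :=
    ⟨(hq.isClosedMap V hV.1).preimage hp, isClosed_compl_iff.1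
      (hcompl ▸ (hq.isClosedMap _ hV.compl.1).preimage hp)⟩
  have key : ∀ U : Set Y, p ⁻¹' U = p ⁻¹' (q '' V) ↔ q ⁻¹' U = V := fun U => by
    constructor
    · intro hh
      ext w
      obtain ⟨z, hz⟩ : q w ∈ Set.range p := he ▸ Set.mem_range_self w
      have h1 := Set.ext_iff.1 hh z
      simp only [Set.mem_preimage, hz, hq.injective.mem_set_image] at h1 ⊢
      exact h1
    · intro hh
      ext z
      obtain ⟨w, hw⟩ : p z ∈ Set.range q := he ▸ Set.mem_range_self z
      simp only [Set.mem_preimage, ← hw, hq.injective.mem_set_image]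
      exact Set.ext_iff.1 hh w
  obtain ⟨U, ⟨hU, hUV⟩, hu⟩ := h _ hV'
  exact ⟨U, ⟨hU, (key U).1 hUV⟩, fun W hW => hu W ⟨hW.1, (key W).2 hW.2⟩⟩

theorem clopen_iff_idempotents {B : Type u} [CommRing B] (J : Ideal B) :
    (∀ V : Set (PrimeSpectrum (B ⧸ J)), IsClopen V →
        ∃! U : Set (PrimeSpectrum B), IsClopen U ∧ PrimeSpectrum.comap (Ideal.Quotient.mk J) ⁻¹' U = V) ↔
      Set.BijOn (Ideal.Quotient.mk J) {e : B | IsIdempotentElem e} {e | IsIdempotentElem e} := by
  have hpre : ∀ e : B, PrimeSpectrum.comap (Ideal.Quotient.mk J) ⁻¹' (PrimeSpectrum.basicOpen e : Set _) =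
      (PrimeSpectrum.basicOpen (Ideal.Quotient.mk J e) : Set _) := fun e => rfl
  constructor
  · intro h
    refine ⟨fun e he => he.map _, fun e he e' he' hee => ?_, fun ε hε => ?_⟩
    · obtain ⟨U, -, hu⟩ := h _ (PrimeSpectrum.isClopen_iff.2 ⟨_, he.map (Ideal.Quotient.mk J), rfl⟩)
      refine PrimeSpectrum.basicOpen_injOn_isIdempotentElem he he' (SetLike.coe_injective ?_)
      rw [hu _ ⟨PrimeSpectrum.isClopen_iff.2 ⟨e, he, rfl⟩, hpre e⟩,
        hu _ ⟨PrimeSpectrum.isClopen_iff.2 ⟨e', he', rfl⟩, (hpre e').trans (by rw [hee])⟩]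
    · obtain ⟨U, ⟨hU, hUV⟩, -⟩ := h _ (PrimeSpectrum.isClopen_iff.2 ⟨ε, hε, rfl⟩)
      obtain ⟨e, he, rfl⟩ := PrimeSpectrum.isClopen_iff.1 hU
      exact ⟨e, he, PrimeSpectrum.basicOpen_injOn_isIdempotentElem (he.map _) hε (SetLike.coe_injective hUV)⟩
  · intro h V hV
    obtain ⟨ε, hε, rfl⟩ := PrimeSpectrum.isClopen_iff.1 hV
    obtain ⟨e, he, rfl⟩ := h.surjOn hε
    refine ⟨_, ⟨PrimeSpectrum.isClopen_iff.2 ⟨e, he, rfl⟩, hpre e⟩, ?_⟩
    rintro W ⟨hW, hWV⟩
    obtain ⟨f, hf, rfl⟩ := PrimeSpectrum.isClopen_iff.1 hW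
    rw [h.injOn hf he (PrimeSpectrum.basicOpen_injOn_isIdempotentElem (hf.map _) (he.map _) (SetLike.coe_injective hWV))]

theorem isClosedEmbedding_comap_mk {B : Type u} [CommRing B] (J : Ideal B) :
    Topology.IsClosedEmbedding (PrimeSpectrum.comap (Ideal.Quotient.mk J)) :=
  PrimeSpectrum.isClosedEmbedding_comap_of_surjective _ _ Ideal.Quotient.mk_surjective

theorem range_comap_mk {B : Type u} [CommRing B] (J : Ideal B) :
    Set.range (PrimeSpectrum.comap (Ideal.Quotient.mk J)) = PrimeSpectrum.zeroLocus J := by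
  rw [range_comap_of_surjective _ _ Ideal.Quotient.mk_surjective, Ideal.mk_ker]

theorem range_fst_Spec {A B : Type u} [CommRing A] [CommRing B] [Algebra A B] (I : Ideal A) :
    Set.range (pullback.fst (Spec.map (CommRingCat.ofHom (algebraMap A B)))
      (Spec.map (CommRingCat.ofHom (Ideal.Quotient.mk I)))) =
    Set.range (PrimeSpectrum.comap (Ideal.Quotient.mk (I.map (algebraMap A B)))) := by
  have h : Set.range (Spec.map (CommRingCat.ofHom (Ideal.Quotient.mk I))) =
      PrimeSpectrum.zeroLocus (R := A) I := range_comap_mk I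
  rw [Scheme.Pullback.range_fst, range_comap_mk, h]
  ext P
  show I ≤ P.asIdeal.comap (algebraMap A B) ↔ I.map (algebraMap A B) ≤ P.asIdeal
  exact Ideal.map_le_iff_le_comap.symm

theorem henselianRing_iff_clopenLift (A : Type u) [CommRing A] (I : Ideal A) :
    HenselianRing A I ↔
    ∀ (Y : Scheme.{u}) (g : Y ⟶ Spec (CommRingCat.of A)), IsFinite g →
      ∀ V : Set ↥(pullback g (Spec.map (CommRingCat.ofHom (Ideal.Quotient.mk I)))), IsClopen V →
        ∃! U : Set ↥Y, IsClopen U ∧ (pullback.fst g (Spec.map (CommRingCat.ofHom (Ideal.Quotient.mk I)))).base ⁻¹' U = V := by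
  haveI : IsClosedImmersion (Spec.map (CommRingCat.ofHom (Ideal.Quotient.mk I))) :=
    IsClosedImmersion.spec_of_surjective _ Ideal.Quotient.mk_surjective
  constructor
  · intro hA Y g hg
    haveI : IsAffine Y := isAffine_of_isAffineHom g
    obtain ⟨φ, hφ⟩ := Spec.map_surjective (Y.isoSpec.inv ≫ g)
    haveI hfin : IsFinite (Spec.map φ) := by rw [hφ]; infer_instance
    letI : Algebra A Γ(Y, ⊤) := φ.hom.toAlgebra
    haveI : Module.Finite A Γ(Y, ⊤) := RingHom.finite_algebraMap.1 ((IsFinite.SpecMap_iff φ).1 hfin)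
    let J : Ideal Γ(Y, ⊤) := I.map (algebraMap A Γ(Y, ⊤))
    let q : PrimeSpectrum (Γ(Y, ⊤) ⧸ J) → Y :=
      fun P => Y.isoSpec.inv (PrimeSpectrum.comap (Ideal.Quotient.mk J) P)
    have hh : Function.Bijective (Y.isoSpec.inv : Spec Γ(Y, ⊤) → Y) :=
      (TopCat.homeoOfIso (Scheme.forgetToTop.mapIso Y.isoSpec.symm)).bijective
    have hq : Topology.IsClosedEmbedding q :=
      Y.isoSpec.inv.isClosedEmbedding.comp (isClosedEmbedding_comap_mk J)
    have hr : Set.range q = Set.range (pullback.fst g (Spec.map (CommRingCat.ofHom (Ideal.Quotient.mk I)))) := by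
      have h : Set.range (Spec.map (CommRingCat.ofHom (Ideal.Quotient.mk I))) =
          PrimeSpectrum.zeroLocus (R := A) I := range_comap_mk I
      rw [Scheme.Pullback.range_fst, h]
      ext y
      obtain ⟨P, rfl⟩ := hh.2 y
      have hP : Y.isoSpec.inv P ∈ Set.range q ↔ P ∈ Set.range (PrimeSpectrum.comap (Ideal.Quotient.mk J)) :=
        ⟨fun ⟨R, hR⟩ => ⟨R, hh.1 hR⟩, fun ⟨R, hR⟩ => ⟨R, congrArg Y.isoSpec.inv hR⟩⟩
      rw [hP, range_comap_mk]
      show J ≤ P.asIdeal ↔ I ≤ (g (Y.isoSpec.inv P)).asIdeal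
      rw [← Scheme.Hom.comp_apply, ← hφ]
      exact Ideal.map_le_iff_le_comap
    refine existsUnique_of_range_eq (p := q) hq.continuous
      (pullback.fst g (Spec.map (CommRingCat.ofHom (Ideal.Quotient.mk I)))).isClosedEmbedding hr ?_
    intro V hV
    obtain ⟨U, ⟨hU, hUV⟩, hu⟩ :=
      (clopen_iff_idempotents J).2 (Hensel.idempotents_bijOn (I := I) Γ(Y, ⊤)) V hV
    refine ⟨Y.isoSpec.inv '' U, ⟨⟨?_, ?_⟩, ?_⟩, ?_⟩
    · exact Y.isoSpec.inv.isClosedEmbedding.isClosedMap U hU.1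
    · exact Y.isoSpec.inv.isOpenEmbedding.isOpenMap U hU.2
    · rw [← hUV]
      ext P
      exact hh.1.mem_set_image
    · rintro W ⟨hW, hWV⟩
      rw [← hu (Y.isoSpec.inv ⁻¹' W) ⟨hW.preimage Y.isoSpec.inv.continuous, hWV⟩]
      exact (Set.image_preimage_eq _ hh.2).symm
  · intro h
    refine Hensel.henselianRing_of_idempotents_bijOn fun B _ _ hB => ?_
    haveI : IsFinite (Spec.map (CommRingCat.ofHom (algebraMap A B))) :=
      (IsFinite.SpecMap_iff _).2 (RingHom.finite_algebraMap.2 hB)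
    refine (clopen_iff_idempotents _).1 (existsUnique_of_range_eq (Scheme.Hom.continuous _)
      (isClosedEmbedding_comap_mk _) (range_fst_Spec I) (h _ _ inferInstance))

theorem clopenLift_comp_finite {X X₀ : Scheme.{u}} (i : X₀ ⟶ X) [IsClosedImmersion i]
    (hX : ∀ (Y : Scheme.{u}) (g : Y ⟶ X), IsFinite g →
      ∀ V : Set ↥(pullback g (i)), IsClopen V →
        ∃! U : Set ↥Y, IsClopen U ∧ (pullback.fst g (i)).base ⁻¹' U = V)
    {Y : Scheme.{u}} (h : Y ⟶ X) [IsFinite h] (Z : Scheme.{u}) (g : Z ⟶ Y) (hg : IsFinite g) :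
    ∀ V : Set ↥(pullback g (pullback.fst h i)), IsClopen V →
      ∃! U : Set ↥Z, IsClopen U ∧ (pullback.fst g (pullback.fst h i)).base ⁻¹' U = V := by
  haveI := hg
  refine existsUnique_of_range_eq (pullback.fst (g ≫ h) i).continuous
    (pullback.fst g (pullback.fst h i)).isClosedEmbedding ?_ (hX Z (g ≫ h) inferInstance)
  rw [Scheme.Pullback.range_fst, Scheme.Pullback.range_fst, Scheme.Pullback.range_fst,
    Scheme.Hom.comp_base, TopCat.coe_comp, Set.preimage_comp]

section Sigma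

variable {ι : Type u} {X X₀ : ι → Scheme.{u}} (i : ∀ j, X₀ j ⟶ X j)

theorem exists_sigma_eq (X : ι → Scheme.{u}) (x : (∐ X :)) : ∃ j y, Sigma.ι X j y = x :=
  ⟨_, (sigmaOpenCover X).covers x⟩

theorem index_eq {j k : ι} {x : X j} {y : X k} (h : Sigma.ι X j x = Sigma.ι X k y) : j = k := by
  by_contra hne
  exact Set.disjoint_left.1 (TopologicalSpace.Opens.coe_disjoint.2 (disjoint_opensRange_sigmaι X j k hne))
    ⟨x, h⟩ ⟨y, rfl⟩

theorem isClosedImmersion_sigmaι (j : ι) : IsClosedImmersion (Sigma.ι X j) := by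
  refine .of_isPreimmersion _ ⟨?_⟩
  have : (Set.range (Sigma.ι X j))ᶜ = ⋃ k ∈ {k | k ≠ j}, Set.range (Sigma.ι X k) := by
    ext x
    obtain ⟨k, y, rfl⟩ := exists_sigma_eq X x
    simp only [Set.mem_compl_iff, Set.mem_range, Set.mem_iUnion]
    constructor
    · intro h
      exact ⟨k, fun hk => h ⟨hk ▸ y, by subst hk; rfl⟩, y, rfl⟩
    · rintro ⟨l, hl, z, hz⟩ ⟨w, hw⟩
      exact hl ((index_eq hz).trans (index_eq hw).symm)
  rw [this]
  exact isOpen_biUnion fun k _ => (Sigma.ι X k).isOpenEmbedding.isOpen_range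

theorem clopenLift_of_sigma [∀ j, IsClosedImmersion (i j)]
    (h : ∀ (Y : Scheme.{u}) (g : Y ⟶ ∐ X), IsFinite g →
      ∀ V : Set ↥(pullback g (Limits.Sigma.map i)), IsClopen V →
        ∃! U : Set ↥Y, IsClopen U ∧ (pullback.fst g (Limits.Sigma.map i)).base ⁻¹' U = V)
    (j : ι) (Y : Scheme.{u}) (g : Y ⟶ X j) (hg : IsFinite g) :
    ∀ V : Set ↥(pullback g (i j)), IsClopen V →
        ∃! U : Set ↥Y, IsClopen U ∧ (pullback.fst g (i j)).base ⁻¹' U = V := by
  haveI := hg
  haveI := isClosedImmersion_sigmaι (X := X) j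
  refine existsUnique_of_range_eq (pullback.fst (g ≫ Sigma.ι X j) (Limits.Sigma.map i)).continuous
    (pullback.fst g (i j)).isClosedEmbedding ?_ (h Y (g ≫ Sigma.ι X j) inferInstance)
  rw [Scheme.Pullback.range_fst, Scheme.Pullback.range_fst]
  ext y
  constructor
  · rintro ⟨z, hz⟩
    obtain ⟨k, w, rfl⟩ := exists_sigma_eq X₀ z
    rw [← Scheme.Hom.comp_apply, Limits.Sigma.ι_map, Scheme.Hom.comp_apply, Scheme.Hom.comp_apply] at hz
    obtain rfl := index_eq hz
    exact ⟨w, (Sigma.ι X k).isOpenEmbedding.injective hz⟩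
  · rintro ⟨w, hw⟩
    refine ⟨Sigma.ι X₀ j w, ?_⟩
    rw [← Scheme.Hom.comp_apply, Limits.Sigma.ι_map, Scheme.Hom.comp_apply, hw]
    rfl

theorem clopenLift_sigma [∀ j, IsClosedImmersion (i j)]
    (h : ∀ j : ι, ∀ (Y : Scheme.{u}) (g : Y ⟶ X j), IsFinite g →
      ∀ V : Set ↥(pullback g (i j)), IsClopen V →
        ∃! U : Set ↥Y, IsClopen U ∧ (pullback.fst g (i j)).base ⁻¹' U = V)
    (Y : Scheme.{u}) (g : Y ⟶ ∐ X) (hg : IsFinite g) (V : Set ↥(pullback g (Limits.Sigma.map i)))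
    (hV : IsClopen V) :
    ∃! U : Set ↥Y, IsClopen U ∧ (pullback.fst g (Limits.Sigma.map i)).base ⁻¹' U = V := by
  let a := fun j => pullback.fst g (Sigma.ι X j)
  let g' := fun j => pullback.snd g (Sigma.ι X j)
  have hfin : ∀ j, IsFinite (g' j) := fun j => MorphismProperty.pullback_snd _ _ hg
  let b := fun j => pullback.lift (f := g) (g := Limits.Sigma.map i)
    (pullback.fst (g' j) (i j) ≫ a j) (pullback.snd (g' j) (i j) ≫ Sigma.ι X₀ j) (by
      rw [Category.assoc, Category.assoc, Limits.Sigma.ι_map, ← pullback.condition_assoc]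
      simp only [a, g', pullback.condition])
  have hb : ∀ j, b j ≫ pullback.fst g (Limits.Sigma.map i) = pullback.fst (g' j) (i j) ≫ a j :=
    fun j => pullback.lift_fst _ _ _
  have hb' : ∀ j w, pullback.fst g (Limits.Sigma.map i) (b j w) = a j (pullback.fst (g' j) (i j) w) := fun j w => by
    rw [← Scheme.Hom.comp_apply, hb, Scheme.Hom.comp_apply]
  have hcov : ∀ y : Y, ∃ j v, a j v = y := fun y => by
    obtain ⟨j, x, hx⟩ := exists_sigma_eq X (g y)
    obtain ⟨v, hv, -⟩ := Scheme.Pullback.exists_preimage_pullback (f := g) (g := Sigma.ι X j) y x hx.symm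
    exact ⟨j, v, hv⟩
  have hidx : ∀ {j k} {v w}, a j v = a k w → j = k := fun {j k v w} he => by
    refine index_eq (X := X) (x := g' j v) (y := g' k w) ?_
    rw [← Scheme.Hom.comp_apply, ← Scheme.Hom.comp_apply, ← pullback.condition, ← pullback.condition,
      Scheme.Hom.comp_apply, Scheme.Hom.comp_apply]
    exact congrArg g he
  -- every point of the pullback comes from one of the pieces
  have hlift : ∀ z, ∃ j w, b j w = z := fun z => by
    obtain ⟨j, s, hs⟩ := exists_sigma_eq X₀ (pullback.snd g (Limits.Sigma.map i) z)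
    let P := pullback g (Limits.Sigma.map i)
    let pt := P.fromSpecResidueField z
    have hr₀ : Set.range (pt ≫ pullback.snd g (Limits.Sigma.map i)) ⊆ Set.range (Sigma.ι X₀ j) := by
      rintro _ ⟨t, rfl⟩
      rw [Scheme.Hom.comp_apply, Scheme.fromSpecResidueField_apply, ← hs]
      exact ⟨s, rfl⟩
    let c₀ := IsOpenImmersion.lift (Sigma.ι X₀ j) _ hr₀
    have hc₀ : c₀ ≫ Sigma.ι X₀ j = pt ≫ pullback.snd g (Limits.Sigma.map i) := IsOpenImmersion.lift_fac _ _ _
    let c₁ := pullback.lift (f := g) (g := Sigma.ι X j) (pt ≫ pullback.fst g (Limits.Sigma.map i)) (c₀ ≫ i j) (by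
      rw [Category.assoc, pullback.condition, ← Category.assoc, ← hc₀, Category.assoc, Category.assoc,
        Limits.Sigma.ι_map])
    let c : Spec (P.residueField z) ⟶ pullback (g' j) (i j) := pullback.lift c₁ c₀ (pullback.lift_snd _ _ _)
    have hc : c ≫ b j = pt := by
      apply pullback.hom_ext
      · rw [Category.assoc, hb, pullback.lift_fst_assoc]
        exact pullback.lift_fst _ _ _
      · rw [Category.assoc, pullback.lift_snd, pullback.lift_snd_assoc, hc₀]
    refine ⟨j, c (IsLocalRing.closedPoint _), ?_⟩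
    rw [← Scheme.Hom.comp_apply, hc]
    exact Scheme.fromSpecResidueField_apply _ _
  choose U hU huniq using fun j => h j _ (g' j) (hfin j) (b j ⁻¹' V) (hV.preimage (b j).continuous)
  have hmem : ∀ j v, a j v ∈ (⋃ k, a k '' U k) ↔ v ∈ U j := fun j v => by
    refine ⟨fun hx => ?_, fun hv => Set.mem_iUnion.2 ⟨j, v, hv, rfl⟩⟩
    obtain ⟨k, w, hw, he⟩ := Set.mem_iUnion.1 hx
    obtain rfl := hidx he
    rwa [← (a k).isOpenEmbedding.injective he]
  refine ⟨⋃ k, a k '' U k, ⟨⟨?_, isOpen_iUnion fun k => (a k).isOpenEmbedding.isOpenMap _ (hU k).1.2⟩, ?_⟩, ?_⟩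
  · rw [← isOpen_compl_iff]
    have : (⋃ k, a k '' U k)ᶜ = ⋃ k, a k '' (U k)ᶜ := by
      ext y
      obtain ⟨j, v, rfl⟩ := hcov y
      rw [Set.mem_compl_iff, hmem]
      refine ⟨fun hv => Set.mem_iUnion.2 ⟨j, v, hv, rfl⟩, fun hx hv => ?_⟩
      obtain ⟨k, w, hw, he⟩ := Set.mem_iUnion.1 hx
      obtain rfl := hidx he
      exact hw ((a k).isOpenEmbedding.injective he ▸ hv)
    rw [this]
    exact isOpen_iUnion fun k => (a k).isOpenEmbedding.isOpenMap _ (hU k).1.compl.2
  · ext z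
    obtain ⟨j, w, rfl⟩ := hlift z
    rw [Set.mem_preimage, hb', hmem]
    exact Set.ext_iff.1 (hU j).2 w
  · rintro W ⟨hW, hWV⟩
    ext y
    obtain ⟨j, v, rfl⟩ := hcov y
    rw [hmem, ← huniq j (a j ⁻¹' W) ⟨hW.preimage (a j).continuous, ?_⟩]
    · rfl
    · ext w
      rw [Set.mem_preimage, Set.mem_preimage, ← hb']
      exact Set.ext_iff.1 hWV (b j w)

end Sigma

end Groth.Agent.Hens.Couple
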