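import Groth.Agent.Hens.BranchCore

/-!
Contraction gives a bijection from the minimal primes of `A' ⊗ S` onto those of `S`, for `A'` the
normalisation of the reduction of `A` and `S` flat over `A`.
-/

set_option autoImplicit false
set_option linter.style.haveILetI false

universe u

open TensorProduct

namespace Groth.Agent.Hens

/-- Minimal primes of `A' ⊗ S` and of `S` correspond under contraction. -/
theorem exists_minimalPrimes_normRed_tensor_equiv {A S : Type u} [CommRing A] [CommRing S] [Algebra A S]
    [Module.Flat A S] :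
    ∃ e : minimalPrimes (CAlg2.normRed A ⊗[A] S) ≃ minimalPrimes S, ∀ P, (e P).1 =
      P.1.comap (Algebra.TensorProduct.includeRight : S →ₐ[A] CAlg2.normRed A ⊗[A] S).toRingHom := by
  obtain ⟨e₁, he₁⟩ := exists_minimalPrimes_surjective_equiv
    (Algebra.TensorProduct.includeRight : S →ₐ[A] CAlg2.red A ⊗[A] S).toRingHom (fun z => by
      induction z with
      | zero => exact ⟨0, map_zero _⟩
      | add x y hx hy =>
        obtain ⟨a, ha⟩ := hx
        obtain ⟨b, hb⟩ := hy
        exact ⟨a + b, by rw [map_add, ha, hb]⟩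
      | tmul r t =>
        obtain ⟨a, rfl⟩ := Ideal.Quotient.mk_surjective r
        refine ⟨a • t, ?_⟩
        show (1 : CAlg2.red A) ⊗ₜ[A] (a • t) = _
        rw [← TensorProduct.smul_tmul]
        congr 1
        exact (Algebra.algebraMap_eq_smul_one a).symm) (fun t ht => by
      let ρ : CAlg2.red A ⊗[A] S →ₐ[A] S ⧸ nilradical S :=
        Algebra.TensorProduct.lift
          (Ideal.Quotient.liftₐ (nilradical A) (Algebra.ofId A (S ⧸ nilradical S)) fun a ha => by
            show Ideal.Quotient.mk (nilradical S) (algebraMap A S a) = 0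
            exact Ideal.Quotient.eq_zero_iff_mem.2
              (mem_nilradical.2 ((mem_nilradical.1 ha).map (algebraMap A S))))
          (Ideal.Quotient.mkₐ A (nilradical S)) fun _ _ => Commute.all _ _
      rw [← Ideal.Quotient.eq_zero_iff_mem]
      have h0 := congrArg ρ (show (1 : CAlg2.red A) ⊗ₜ[A] t = 0 from ht)
      rw [Algebra.TensorProduct.lift_tmul, map_one, one_mul, map_zero] at h0
      exact h0)
  let K := FractionRing (CAlg2.red A)
  obtain ⟨e₂, he₂⟩ := exists_minimalPrimes_tensor_equiv (A := A) (S := S) (B := CAlg2.red A) (K := K)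
    (nonZeroDivisors (CAlg2.red A)) (IsFractionRing.injective _ _)
  haveI : IsLocalization ((nonZeroDivisors (CAlg2.red A)).map (algebraMap (CAlg2.red A) (CAlg2.normRed A))) K := by
    refine (isLocalization_iff _ _).mpr ⟨?_, ?_, ?_⟩
    · rintro ⟨_, r, hr, rfl⟩
      rw [← IsScalarTower.algebraMap_apply]
      exact IsLocalization.map_units K (⟨r, hr⟩ : nonZeroDivisors (CAlg2.red A))
    · intro z
      obtain ⟨⟨a, r⟩, har⟩ := IsLocalization.surj (nonZeroDivisors (CAlg2.red A)) z
      refine ⟨(algebraMap _ _ a, ⟨_, Submonoid.mem_map_of_mem _ r.2⟩), ?_⟩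
      rw [← IsScalarTower.algebraMap_apply, ← IsScalarTower.algebraMap_apply]
      exact har
    · intro x y hxy
      exact ⟨1, by rw [Subtype.ext hxy]⟩
  obtain ⟨e₃, he₃⟩ := exists_minimalPrimes_tensor_equiv (A := A) (S := S) (B := CAlg2.normRed A) (K := K)
    ((nonZeroDivisors (CAlg2.red A)).map (algebraMap (CAlg2.red A) (CAlg2.normRed A)))
    Subtype.val_injective
  refine ⟨(e₃.symm.trans e₂).trans e₁, fun P => ?_⟩
  obtain ⟨Q, rfl⟩ := e₃.surjective P
  simp only [Equiv.trans_apply, Equiv.symm_apply_apply]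
  rw [he₁, he₂, he₃]
  exact Ideal.ext fun s => by simp

end Groth.Agent.Hens
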