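import Groth.Agent.Hens.BranchSup
import Groth.Agent.Wt.EtNbhd
import Mathlib.AlgebraicGeometry.Morphisms.Preimmersion
import Mathlib.AlgebraicGeometry.Fiber

/-!
# Branches on a subscheme or fibre as a supremum over étale neighbourhoods in the ambient scheme
-/

set_option linter.style.haveILetI false
set_option backward.isDefEq.respectTransparency.types false

universe u

open AlgebraicGeometry CategoryTheory CategoryTheory.Limits IsLocalRing

namespace Groth.Agent.Hens

theorem bijective_residueFieldMap_cancel {P U X : Scheme.{u}} (a : P ⟶ U) (g : U ⟶ X) (h : P ⟶ X)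
    (e : a ≫ g = h) (p : P) {u : U} (hu : a p = u) (hh : Function.Bijective (h.residueFieldMap p)) :
    Function.Bijective (a.residueFieldMap p) ∧ Function.Bijective (g.residueFieldMap u) := by
  subst e
  subst hu
  rw [Scheme.residueFieldMap_comp] at hh
  have hs : Function.Surjective
      ((a.residueFieldMap p).hom ∘ (g.residueFieldMap (a p)).hom) := hh.2
  exact ⟨⟨RingHom.injective _, hs.of_comp⟩,
    ⟨RingHom.injective _, hs.of_comp_left (RingHom.injective _)⟩⟩

theorem bijective_residueFieldMap_of_preimmersion {Z X : Scheme.{u}} (ι : Z ⟶ X) [IsPreimmersion ι]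
    (z : Z) : Function.Bijective (ι.residueFieldMap z) :=
  ⟨RingHom.injective _, fun a => by
    obtain ⟨b, rfl⟩ := IsLocalRing.residue_surjective a
    obtain ⟨c, rfl⟩ := ι.stalkMap_surjective z b
    exact ⟨IsLocalRing.residue _ c, rfl⟩⟩

variable {Z X : Scheme.{u}} (ι : Z ⟶ X) [IsPreimmersion ι] (z : Z) {U : Scheme.{u}} (g : U ⟶ X) (u : U)

theorem setOf_components_eq (p : (pullback g ι : Scheme.{u})) (hp : pullback.fst g ι p = u) :
    {W : Set ↑(pullback g ι) | W ∈ irreducibleComponents ↑(pullback g ι) ∧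
      ∃ u' ∈ W, pullback.fst g ι u' = u} =
    {W : Set ↑(pullback g ι) | W ∈ irreducibleComponents ↑(pullback g ι) ∧ p ∈ W} := by
  ext W
  refine and_congr_right fun _ => ⟨?_, fun h => ⟨p, h, hp⟩⟩
  rintro ⟨u', hu', he⟩
  rwa [(pullback.fst g ι).isEmbedding.injective (he.trans hp.symm)] at hu'

theorem isEtaleNbhd_snd (h : Hens2.IsEtaleNbhd g u (ι z)) :
    ∃ p : (pullback g ι : Scheme.{u}), pullback.fst g ι p = u ∧
      Hens2.IsEtaleNbhd (pullback.snd g ι) p z := by
  obtain ⟨p, hp1, hp2⟩ := Scheme.Pullback.exists_preimage_pullback (f := g) (g := ι) u z h.base_eq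
  haveI := h.etale
  refine ⟨p, hp1, inferInstance, hp2, ?_⟩
  have hb : Function.Bijective ((pullback.fst g ι ≫ g).residueFieldMap p) := by
    refine Wt.EtNbhd.residueFieldMap_bijective_comp _ _ p
      (bijective_residueFieldMap_of_preimmersion _ p) ?_
    subst hp1
    exact h.residue_bijective
  exact (bijective_residueFieldMap_cancel (pullback.snd g ι) ι _ pullback.condition.symm p rfl hb).1

omit g u in
theorem exists_nbhd_preimmersion {K : Type u} [Field K] [Algebra (Z.presheaf.stalk z) K]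
    [IsLocalHom (algebraMap (Z.presheaf.stalk z) (EtLoc (Z.presheaf.stalk z) K))]
    (hH : Hensel.IsEtLike (Z.presheaf.stalk z) (EtLoc (Z.presheaf.stalk z) K)) {n : ℕ}
    (hn : (n : ℕ∞) ≤ ENat.card (minimalPrimes (EtLoc (Z.presheaf.stalk z) K))) :
    ∃ (U : Scheme.{u}) (g : U ⟶ X) (u : U), Etale g ∧ g u = ι z ∧
      (Function.Surjective
          (ResidueField.map (algebraMap (Z.presheaf.stalk z) (EtLoc (Z.presheaf.stalk z) K))) →
        Function.Bijective (g.residueFieldMap u)) ∧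
      (n : ℕ∞) ≤ {W : Set ↑(pullback g ι) | W ∈ irreducibleComponents ↑(pullback g ι) ∧
        ∃ u' ∈ W, pullback.fst g ι u' = u}.encard := by
  classical
  rw [ENat.card_coe_set_eq] at hn
  obtain ⟨t, ht, htn⟩ := Set.exists_subset_encard_eq hn
  have hfin : t.Finite := Set.finite_of_encard_eq_coe htn
  obtain ⟨_, ⟨W, hW, rfl⟩, hxW, -⟩ :=
    X.isBasis_affineOpens.exists_subset_of_mem_open (Set.mem_univ (ι z)) isOpen_univ
  letI : Algebra Γ(X, W) (X.presheaf.stalk (ι z)) :=
    TopCat.Presheaf.algebra_section_stalk X.presheaf ⟨ι z, hxW⟩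
  haveI : IsLocalization.AtPrime (X.presheaf.stalk (ι z)) (hW.primeIdealOf ⟨ι z, hxW⟩).asIdeal :=
    hW.isLocalization_stalk ⟨ι z, hxW⟩
  letI : Algebra (X.presheaf.stalk (ι z)) (Z.presheaf.stalk z) := (ι.stalkMap z).hom.toAlgebra
  let H : Type u := EtLoc (Z.presheaf.stalk z) K
  letI : Algebra (X.presheaf.stalk (ι z)) (EtLoc (Z.presheaf.stalk z) K) :=
    ((algebraMap (Z.presheaf.stalk z) _).comp (ι.stalkMap z).hom).toAlgebra
  haveI : IsScalarTower (X.presheaf.stalk (ι z)) (Z.presheaf.stalk z) (EtLoc (Z.presheaf.stalk z) K) :=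
    .of_algebraMap_eq' rfl
  letI : Algebra Γ(X, W) (EtLoc (Z.presheaf.stalk z) K) :=
    ((algebraMap (X.presheaf.stalk (ι z)) _).comp (algebraMap Γ(X, W) (X.presheaf.stalk (ι z)))).toAlgebra
  haveI : IsScalarTower Γ(X, W) (X.presheaf.stalk (ι z)) (EtLoc (Z.presheaf.stalk z) K) :=
    .of_algebraMap_eq' rfl
  let sep : Ideal H → Ideal H → H := fun P Q => if h : ∃ a, a ∈ P ∧ a ∉ Q then h.choose else 0
  obtain ⟨E, _, _, hE, θ, hθ⟩ := exists_stage_of_surjective (A := X.presheaf.stalk (ι z))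
    (hW.primeIdealOf ⟨ι z, hxW⟩).asIdeal.primeCompl (ι.stalkMap_surjective z)
    ((hfin.toFinset ×ˢ hfin.toFinset).image fun p => sep p.1 p.2)
  let φR : Γ(X, W) ⟶ CommRingCat.of E := CommRingCat.ofHom (algebraMap Γ(X, W) E)
  have : Etale (Spec.map φR) := HasRingHomProperty.Spec_iff.mpr (RingHom.etale_algebraMap.mpr hE)
  let g : Spec (CommRingCat.of E) ⟶ X := Spec.map φR ≫ hW.fromSpec
  haveI : Etale g := inferInstanceAs (Etale (Spec.map φR ≫ hW.fromSpec))
  let c : Spec (CommRingCat.of H) ⟶ Spec (CommRingCat.of E) := Spec.map (CommRingCat.ofHom θ.toRingHom)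
  haveI : IsLocalRing (CommRingCat.of H) := inferInstanceAs (IsLocalRing (EtLoc (Z.presheaf.stalk z) K))
  let α : Z.presheaf.stalk z ⟶ CommRingCat.of H :=
    CommRingCat.ofHom (algebraMap (Z.presheaf.stalk z) (EtLoc (Z.presheaf.stalk z) K))
  haveI : IsLocalHom α.hom :=
    ‹IsLocalHom (algebraMap (Z.presheaf.stalk z) (EtLoc (Z.presheaf.stalk z) K))›
  have hcg : c ≫ g = (Spec.map α ≫ Z.fromSpecStalk z) ≫ ι := by
    rw [Category.assoc, ← Scheme.SpecMap_stalkMap_fromSpecStalk, ← Spec.map_comp_assoc,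
      ← hW.fromSpecStalk_eq_fromSpecStalk hxW, IsAffineOpen.fromSpecStalk, ← Spec.map_comp_assoc,
      ← Category.assoc, ← Spec.map_comp]
    congr 2
    ext r
    exact θ.commutes r
  let c' : Spec (CommRingCat.of H) ⟶ pullback g ι := pullback.lift c (Spec.map α ≫ Z.fromSpecStalk z) hcg
  have hc1 : c' ≫ pullback.fst g ι = c := pullback.lift_fst _ _ _
  have hc2 : c' ≫ pullback.snd g ι = Spec.map α ≫ Z.fromSpecStalk z := pullback.lift_snd _ _ _
  let p : (pullback g ι : Scheme.{u}) := c' (closedPoint (CommRingCat.of H))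
  have hpz : pullback.snd g ι p = z := by
    rw [← Scheme.Hom.comp_apply, hc2, Scheme.Hom.comp_apply, Spec_closedPoint,
      Scheme.fromSpecStalk_closedPoint]
  obtain ⟨φ, hφloc, hφ⟩ := StrictHens.SchemeBC.exists_stalk_hom c' (x := p) rfl
  obtain ⟨hmin, hres⟩ := stalkHom_properties (pullback.snd g ι) p hpz hH φ
    (by rw [← Category.assoc, hφ, hc2]; rfl)
  refine ⟨_, g, pullback.fst g ι p, inferInstance, ?_, fun hs => ?_, ?_⟩
  · rw [← Scheme.Hom.comp_apply, pullback.condition, Scheme.Hom.comp_apply, hpz]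
  · refine (bijective_residueFieldMap_cancel (pullback.fst g ι) g _ pullback.condition p rfl
      (Wt.EtNbhd.residueFieldMap_bijective_comp _ _ p (hres hs)
        (bijective_residueFieldMap_of_preimmersion ι _))).2
  rw [setOf_components_eq ι g _ p rfl, encard_components_eq, ← htn]
  refine Set.encard_le_encard_of_injOn (f := fun P => P.comap φ.hom) (fun P hP => hmin P (ht hP)) ?_
  intro P hP Q hQ hPQ
  haveI := (ht hP).1.1
  haveI := (ht hQ).1.1
  by_contra hne
  have hex : ∃ a, a ∈ P ∧ a ∉ Q := by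
    by_contra hno
    push Not at hno
    exact hne (le_antisymm hno ((ht hQ).2 ⟨inferInstance, bot_le⟩ hno))
  obtain ⟨e, he⟩ := hθ (sep P Q) (Finset.mem_image.2
    ⟨(P, Q), Finset.mem_product.2 ⟨hfin.mem_toFinset.2 hP, hfin.mem_toFinset.2 hQ⟩, rfl⟩)
  have hs : sep P Q ∈ P ∧ sep P Q ∉ Q := by
    have hsep : sep P Q = hex.choose := dif_pos hex
    rw [hsep]
    exact hex.choose_spec
  let a : Spec (CommRingCat.of H) := ⟨P, inferInstance⟩
  let b : Spec (CommRingCat.of H) := ⟨Q, inferInstance⟩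
  have h1 : Spec.map φ a = Spec.map φ b := PrimeSpectrum.ext hPQ
  have h2 : c a = c b := by
    rw [← hc1, ← hφ, Scheme.Hom.comp_apply, Scheme.Hom.comp_apply, Scheme.Hom.comp_apply,
      Scheme.Hom.comp_apply, h1]
  have h3 : P.comap θ.toRingHom = Q.comap θ.toRingHom := congrArg PrimeSpectrum.asIdeal h2
  have h4 : e ∈ P.comap θ.toRingHom := by
    show θ e ∈ P
    exact (show θ e = sep P Q from he) ▸ hs.1
  rw [h3] at h4
  exact hs.2 ((show θ e = sep P Q from he) ▸ h4)

omit g u in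
theorem numBranchesAt_preimmersion :
    Brnch.numBranchesAt Z z =
      ⨆ (U : Scheme.{u}) (g : U ⟶ X) (u : U) (_ : Hens2.IsEtaleNbhd g u (ι z)),
        {W : Set ↑(pullback g ι) | W ∈ irreducibleComponents ↑(pullback g ι) ∧
          ∃ u' ∈ W, pullback.fst g ι u' = u}.encard := by
  refine le_antisymm ?_ (iSup_le fun U => iSup_le fun g => iSup_le fun u => iSup_le fun h => ?_)
  · have hc : Brnch.numBranchesAt Z z = ENat.card (minimalPrimes (Henselization (Z.presheaf.stalk z))) :=
      (S9237.result (Z.presheaf.stalk z) (Henselization (Z.presheaf.stalk z))).symm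
    rw [hc]
    refine ENat.forall_natCast_le_iff_le.1 fun n hn => ?_
    obtain ⟨U, g, u, hg, hu, hres, hle⟩ :=
      exists_nbhd_preimmersion ι z (Hensel.isEtLike_of_isHenselization _ _) hn
    exact hle.trans (le_iSup_of_le U (le_iSup_of_le g (le_iSup_of_le u
      (le_iSup_of_le ⟨hg, hu, hres residueMap_henselization_bijective.2⟩ le_rfl))))
  · obtain ⟨p, hp, hn⟩ := isEtaleNbhd_snd ι z g u h
    rw [setOf_components_eq ι g u p hp, numBranchesAt_eq_iSup]
    exact le_iSup_of_le _ (le_iSup_of_le (pullback.snd g ι) (le_iSup_of_le p (le_iSup_of_le hn le_rfl)))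

omit g u in
theorem numGeomBranchesAt_preimmersion :
    Brnch.numGeomBranchesAt Z z =
      ⨆ (U : Scheme.{u}) (g : U ⟶ X) (u : U) (_ : Etale g ∧ g u = ι z),
        {W : Set ↑(pullback g ι) | W ∈ irreducibleComponents ↑(pullback g ι) ∧
          ∃ u' ∈ W, pullback.fst g ι u' = u}.encard := by
  refine le_antisymm ?_ (iSup_le fun U => iSup_le fun g => iSup_le fun u => iSup_le fun h => ?_)
  · have hc : Brnch.numGeomBranchesAt Z z =
        ENat.card (minimalPrimes (StrictHenselization (Z.presheaf.stalk z))) :=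
      (S9238.result (Z.presheaf.stalk z) (StrictHenselization (Z.presheaf.stalk z))).symm
    rw [hc]
    refine ENat.forall_natCast_le_iff_le.1 fun n hn => ?_
    obtain ⟨U, g, u, hg, hu, -, hle⟩ :=
      exists_nbhd_preimmersion ι z (Hensel.isEtLike_of_isStrictHenselization _ _) hn
    exact hle.trans (le_iSup_of_le U (le_iSup_of_le g (le_iSup_of_le u (le_iSup_of_le ⟨hg, hu⟩ le_rfl))))
  · obtain ⟨p, hp1, hp2⟩ := Scheme.Pullback.exists_preimage_pullback (f := g) (g := ι) u z h.2
    haveI := h.1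
    rw [setOf_components_eq ι g u p hp1, numGeomBranchesAt_eq_iSup]
    exact le_iSup_of_le _ (le_iSup_of_le (pullback.snd g ι) (le_iSup_of_le p
      (le_iSup_of_le ⟨inferInstance, hp2⟩ le_rfl)))

omit z in
theorem encard_components_iso_le {P Q U : Scheme.{u}} (e : P ≅ Q) (a : P ⟶ U) (b : Q ⟶ U)
    (h : e.hom ≫ b = a) (u : U) :
    {W : Set ↑Q | W ∈ irreducibleComponents ↑Q ∧ ∃ u' ∈ W, b u' = u}.encard ≤
      {W : Set ↑P | W ∈ irreducibleComponents ↑P ∧ ∃ u' ∈ W, a u' = u}.encard := by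
  subst h
  have hsurj : Function.Surjective e.hom := fun y => ⟨e.inv y, by
    rw [← Scheme.Hom.comp_apply, e.inv_hom_id]; rfl⟩
  refine Set.encard_le_encard_of_injOn (f := fun W => e.hom ⁻¹' W) ?_ (hsurj.preimage_injective.injOn)
  rintro W ⟨hW, u', hu', rfl⟩
  obtain ⟨v, rfl⟩ := hsurj u'
  exact ⟨preimage_mem_irreducibleComponents hW e.hom.isOpenEmbedding ⟨e.hom v, hu', v, rfl⟩,
    v, hu', rfl⟩

theorem encard_fiber_components_eq {S : Scheme.{u}} (f : X ⟶ S) (s : S) :
    {W : Set ↑((g ≫ f).fiber s) | W ∈ irreducibleComponents ↑((g ≫ f).fiber s) ∧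
      ∃ u' ∈ W, (g ≫ f).fiberι s u' = u}.encard =
    {W : Set ↑(pullback g (f.fiberι s)) | W ∈ irreducibleComponents ↑(pullback g (f.fiberι s)) ∧
      ∃ u' ∈ W, pullback.fst g (f.fiberι s) u' = u}.encard := by
  let e : pullback g (f.fiberι s) ≅ (g ≫ f).fiber s :=
    pullbackRightPullbackFstIso f (S.fromSpecResidueField s) g
  have he : e.hom ≫ (g ≫ f).fiberι s = pullback.fst g (f.fiberι s) :=
    pullbackRightPullbackFstIso_hom_fst f (S.fromSpecResidueField s) g
  exact le_antisymm (encard_components_iso_le e _ _ he u)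
    (encard_components_iso_le e.symm _ _ ((Iso.inv_comp_eq e).2 he.symm) u)

omit ι z g u in
theorem numBranchesAt_fiber {S : Scheme.{u}} (f : X ⟶ S) (x : X) :
    Brnch.numBranchesAt (f.fiber (f x)) (f.asFiber x) =
      ⨆ (U : Scheme.{u}) (g : U ⟶ X) (u : U) (_ : Hens2.IsEtaleNbhd g u x),
        {W : Set ↑((g ≫ f).fiber (f x)) | W ∈ irreducibleComponents ↑((g ≫ f).fiber (f x)) ∧
          ∃ u' ∈ W, (g ≫ f).fiberι (f x) u' = u}.encard := by
  simp only [encard_fiber_components_eq]
  haveI : IsPreimmersion (f.fiberι (f x)) :=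
    inferInstanceAs (IsPreimmersion (pullback.fst f (S.fromSpecResidueField (f x))))
  have := numBranchesAt_preimmersion (f.fiberι (f x)) (f.asFiber x)
  rw [Scheme.Hom.fiberι_asFiber] at this
  exact this

omit ι z g u in
theorem numGeomBranchesAt_fiber {S : Scheme.{u}} (f : X ⟶ S) (x : X) :
    Brnch.numGeomBranchesAt (f.fiber (f x)) (f.asFiber x) =
      ⨆ (U : Scheme.{u}) (g : U ⟶ X) (u : U) (_ : Etale g ∧ g u = x),
        {W : Set ↑((g ≫ f).fiber (f x)) | W ∈ irreducibleComponents ↑((g ≫ f).fiber (f x)) ∧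
          ∃ u' ∈ W, (g ≫ f).fiberι (f x) u' = u}.encard := by
  simp only [encard_fiber_components_eq]
  haveI : IsPreimmersion (f.fiberι (f x)) :=
    inferInstanceAs (IsPreimmersion (pullback.fst f (S.fromSpecResidueField (f x))))
  have := numGeomBranchesAt_preimmersion (f.fiberι (f x)) (f.asFiber x)
  rw [Scheme.Hom.fiberι_asFiber] at this
  exact this

end Groth.Agent.Hens
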