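import Groth.Agent.Hensel.ClopenLift
import Mathlib.AlgebraicGeometry.GammaSpecAdjunction
import Mathlib.RingTheory.Henselian
import Mathlib.RingTheory.Etale.StandardEtale

/-!
# Global sections of a henselian couple form a henselian pair
-/

set_option linter.style.haveILetI false
set_option backward.isDefEq.respectTransparency.types false

universe u

open AlgebraicGeometry CategoryTheory CategoryTheory.Limits Polynomial

namespace Groth.Agent.Hens.CoupleGlobal

variable {X X₀ : Scheme.{u}} (i : X₀ ⟶ X) [IsClosedImmersion i]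

/-- An element restricting to a unit on `X₀` is a unit. -/
theorem isUnit_of_isUnit_appTop (hX : Hensel.ClopenLift i) {f : Γ(X, ⊤)} (hf : IsUnit (i.appTop f)) :
    IsUnit f := by
  have h1 : ((X.basicOpen f : Set X))ᶜ = ∅ := by
    refine hX.eq_empty (X.basicOpen f).2.isClosed_compl (Set.disjoint_left.2 ?_)
    rintro _ hx ⟨s, rfl⟩
    have : s ∈ i ⁻¹ᵁ X.basicOpen f := by
      rw [Scheme.preimage_basicOpen_top, Scheme.basicOpen_of_isUnit X₀ hf]
      trivial
    exact hx this
  have h2 : X.basicOpen f = ⊤ := TopologicalSpace.Opens.ext (Set.compl_empty_iff.1 h1)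
  apply X.toRingedSpace.isUnit_of_isUnit_germ
  intro x hx
  have : x ∈ X.basicOpen f := by rw [h2]; trivial
  exact (Scheme.mem_basicOpen X f x hx).1 this

theorem henselianRing_ker [CompactSpace ↥X] [QuasiSeparatedSpace ↥X] (hX : Hensel.ClopenLift i) :
    HenselianRing (Γ(X, ⊤) : Type u) (RingHom.ker i.appTop.hom) where
  jac := fun x hx => Ideal.mem_jacobson_bot.2 fun y => isUnit_of_isUnit_appTop i hX (by
    rw [map_add, map_mul, RingHom.mem_ker.1 hx, zero_mul, zero_add, map_one]
    exact isUnit_one)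
  is_henselian f hf a₀ h₁ h₂ := by
    let B : CommRingCat.{u} := Γ(X, ⊤)
    let P : StandardEtalePair B := ⟨f, hf, derivative f, 1, 0, 1, by simp⟩
    letI : Algebra B Γ(X₀, ⊤) := i.appTop.hom.toAlgebra
    have hd : IsUnit (i.appTop.hom ((derivative f).eval a₀)) := by
      have := h₂.map (RingHom.kerLift i.appTop.hom)
      exact this
    have hev : ∀ q : Polynomial B, aeval (i.appTop.hom a₀) q = i.appTop.hom (q.eval a₀) := fun q =>
      aeval_algebraMap_apply_eq_algebraMap_eval a₀ q
    have hP : P.HasMap (i.appTop.hom a₀) := by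
      refine ⟨?_, ?_⟩
      · rw [hev]; exact RingHom.mem_ker.1 h₁
      · show IsUnit (aeval _ (derivative f))
        rw [hev]; exact hd
    let φ : B ⟶ CommRingCat.of P.Ring := CommRingCat.ofHom (algebraMap B P.Ring)
    let χ : CommRingCat.of P.Ring ⟶ Γ(X₀, ⊤) := CommRingCat.ofHom (P.lift _ hP).toRingHom
    haveI : Etale (Spec.map φ) :=
      HasRingHomProperty.Spec_iff.mpr (RingHom.etale_algebraMap.mpr inferInstance)
    have hcomm : i ≫ X.toSpecΓ = (X₀.toSpecΓ ≫ Spec.map χ) ≫ Spec.map φ := by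
      rw [Category.assoc, ← Spec.map_comp, Scheme.toSpecΓ_naturality]
      congr 2
      ext b
      exact ((P.lift _ hP).commutes b).symm
    let v : X₀ ⟶ pullback X.toSpecΓ (Spec.map φ) := pullback.lift i (X₀.toSpecΓ ≫ Spec.map χ) hcomm
    obtain ⟨u, hu, hiu⟩ := hX.exists_section (pullback.fst X.toSpecΓ (Spec.map φ)) v (pullback.lift_fst _ _ _)
    let m : X ⟶ Spec (CommRingCat.of P.Ring) := u ≫ pullback.snd _ _
    have hm : m ≫ Spec.map φ = X.toSpecΓ := by
      rw [Category.assoc, ← pullback.condition, ← Category.assoc, hu, Category.id_comp]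
    have him : i ≫ m = X₀.toSpecΓ ≫ Spec.map χ := by
      rw [← Category.assoc, hiu]; exact pullback.lift_snd _ _ _
    let ψ : CommRingCat.of P.Ring ⟶ Γ(X, ⊤) := (Scheme.ΓSpecIso (CommRingCat.of P.Ring)).inv ≫ m.appTop
    have hψ : φ ≫ ψ = 𝟙 B := by
      have := congrArg Scheme.Hom.appTop hm
      rw [Scheme.Hom.comp_appTop, Scheme.toSpecΓ_appTop] at this
      rw [← cancel_epi (Scheme.ΓSpecIso B).hom, Category.comp_id]
      refine Eq.trans ?_ this
      rw [show ψ = (Scheme.ΓSpecIso (CommRingCat.of P.Ring)).inv ≫ m.appTop from rfl,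
        ← Scheme.ΓSpecIso_naturality_assoc, Iso.hom_inv_id_assoc]
    have hψi : ψ ≫ i.appTop = χ := by
      have := congrArg Scheme.Hom.appTop him
      rw [Scheme.Hom.comp_appTop i m, Scheme.Hom.comp_appTop X₀.toSpecΓ (Spec.map χ),
        Scheme.toSpecΓ_appTop, Scheme.ΓSpecIso_naturality] at this
      rw [Category.assoc, this, Iso.inv_hom_id_assoc]
    let ψ' : P.Ring →ₐ[B] B := ⟨ψ.hom, fun b => congrArg (fun k => k.hom b) hψ⟩
    refine ⟨ψ' P.X, ?_, ?_⟩
    · have := (P.hasMap_X.map ψ').1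
      rwa [IsRoot, ← coe_aeval_eq_eval]
    · rw [RingHom.mem_ker, map_sub, sub_eq_zero]
      show (ψ ≫ i.appTop).hom P.X = i.appTop.hom a₀
      rw [hψi]
      exact P.lift_X _ hP

end Groth.Agent.Hens.CoupleGlobal
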