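import Groth.Agent.FEtCat.Full
import Groth.Agent.FEtCat.Count
import Groth.Agent.Hens.Local
import Groth.Agent.EtaleSite.SH
import Groth.Agent.Hens.FibreIdempotent
import Groth.Prelude.Def_Pi1
import Mathlib.AlgebraicGeometry.Morphisms.UniversallyOpen

/-!
# Clopens of finite étale covers across a set of closed points with connected strict punctured spectra
-/

set_option autoImplicit false
set_option linter.style.haveILetI false
set_option backward.isDefEq.respectTransparency.types false

universe u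

open CategoryTheory CategoryTheory.Limits AlgebraicGeometry IsLocalRing Topology

noncomputable section

namespace Groth.Agent.Hens.DenseExtend

theorem exists_specializes_of_mem_closure_basic {R : Type u} [CommRing R] {S : Set (PrimeSpectrum R)}
    (t : Finset R) (ht : S = ⋃ g ∈ (t : Set R), (PrimeSpectrum.basicOpen g : Set (PrimeSpectrum R)))
    (p : PrimeSpectrum R) (hp : p ∈ closure S) : ∃ q ∈ S, q ⤳ p := by
  rw [ht, t.finite_toSet.closure_biUnion, Set.mem_iUnion₂] at hp
  obtain ⟨g, hg, hpD⟩ := hp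
  by_contra hcon
  push Not at hcon
  have hnil : IsNilpotent (algebraMap R (Localization.AtPrime p.asIdeal) g) := by
    rw [nilpotent_iff_mem_prime]
    intro Q hQ
    by_contra hgQ
    refine hcon ⟨Q.comap (algebraMap R _), inferInstance⟩ (ht.ge (Set.mem_biUnion hg hgQ)) ?_
    rw [← PrimeSpectrum.le_iff_specializes]
    intro r hr
    by_contra hrp
    exact hQ.ne_top (Ideal.eq_top_of_isUnit_mem _ hr (IsLocalization.map_units _ (⟨r, hrp⟩ : p.asIdeal.primeCompl)))
  obtain ⟨n, hn⟩ := hnil
  rw [← map_pow, IsLocalization.map_eq_zero_iff p.asIdeal.primeCompl] at hn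
  obtain ⟨⟨s, hs⟩, hsn⟩ := hn
  obtain ⟨q, hqs, hqg⟩ := mem_closure_iff.1 hpD _ (PrimeSpectrum.basicOpen s).2 hs
  exact (q.isPrime.mem_or_mem (hsn ▸ q.asIdeal.zero_mem)).elim hqs fun h => hqg (q.isPrime.mem_of_pow_mem n h)

/-- A point of the closure of an open whose inclusion is quasi-compact near it is a specialization. -/
theorem exists_specializes_of_mem_closure {Y : Scheme.{u}} {W : Set Y} (hW : IsOpen W) {y : Y}
    (hqc : ∀ V : Y.Opens, IsAffineOpen V → IsCompact (W ∩ V)) (hy : y ∈ closure W) :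
    ∃ z ∈ W, z ⤳ y := by
  obtain ⟨_, ⟨V, hV, rfl⟩, hyV, -⟩ := Y.isBasis_affineOpens.exists_subset_of_mem_open (Set.mem_univ y) isOpen_univ
  have h1 : IsCompact (hV.fromSpec ⁻¹' W) := by
    rw [hV.fromSpec.isOpenEmbedding.isInducing.isCompact_iff, Set.image_preimage_eq_inter_range, hV.range_fromSpec]
    exact hqc V hV
  obtain ⟨p, rfl⟩ : y ∈ Set.range hV.fromSpec := hV.range_fromSpec.ge hyV
  have hp : p ∈ closure (hV.fromSpec ⁻¹' W) := by
    rw [← hV.fromSpec.isOpenEmbedding.isOpenMap.preimage_closure_eq_closure_preimage hV.fromSpec.continuous]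
    exact hy
  obtain ⟨t, ht⟩ := (PrimeSpectrum.isCompact_isOpen_iff (s := hV.fromSpec ⁻¹' W)).1
    ⟨h1, hW.preimage hV.fromSpec.continuous⟩
  obtain ⟨q, hq, hqp⟩ := exists_specializes_of_mem_closure_basic t (S := hV.fromSpec ⁻¹' W) (by
    refine ht.symm.trans (Set.ext fun q => ?_)
    rw [Set.mem_compl_iff, PrimeSpectrum.mem_zeroLocus, Set.not_subset, Set.mem_iUnion₂]
    exact ⟨fun ⟨g, hg, hgq⟩ => ⟨g, hg, hgq⟩, fun ⟨g, hg, hgq⟩ => ⟨g, hg, hgq⟩⟩) p hp
  exact ⟨hV.fromSpec q, hq, hqp.map hV.fromSpec.continuous⟩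

variable {X : Scheme.{u}} (U : X.Opens)

/-- Clopens extend. -/
theorem clopen_extend [QuasiCompact U.ι] (hU : Dense (U : Set X))
    (hcl : ∀ x : X, x ∉ U → IsClosed ({x} : Set X))
    (hsh : ∀ x : X, x ∉ U → ConnectedSpace (FEt.puncturedSpec (StrictHenselization (X.presheaf.stalk x)) : Scheme.{u}))
    (Y : FEt.Cat X) (D : Set ↥(pullback Y.hom U.ι)) (hD : IsClopen D) :
    ∃ W : Set Y.left, IsClopen W ∧ pullback.fst Y.hom U.ι ⁻¹' W = D := by
  have : IsFinite Y.hom := Y.prop.1
  have : Etale Y.hom := Y.prop.2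
  set j := pullback.fst Y.hom U.ι with hj
  have hjO : IsOpenImmersion j := MorphismProperty.pullback_fst (P := @IsOpenImmersion) _ _ inferInstance
  have hjq : QuasiCompact j := MorphismProperty.pullback_fst (P := @QuasiCompact) _ _ inferInstance
  have hrange : ∀ y, y ∈ Set.range j ↔ Y.hom y ∈ U := fun y => by
    rw [Scheme.Pullback.range_fst, Set.mem_preimage, Scheme.Opens.range_ι]; rfl
  have hqc : ∀ (E : Set ↥(pullback Y.hom U.ι)), IsClopen E → ∀ V : Y.left.Opens, IsAffineOpen V → IsCompact (j '' E ∩ (V : Set Y.left)) := by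
    intro E hE V hV
    rw [← Set.image_inter_preimage]
    exact ((QuasiCompact.isCompact_preimage (f := j) (V : Set Y.left) V.2 hV.isCompact).inter_left hE.1).image j.continuous
  have hdisj : ∀ y : Y.left, y ∈ closure (j '' D) → y ∈ closure (j '' Dᶜ) → False := by
    intro y h1 h2
    obtain ⟨z₁, hz₁, hy₁⟩ := exists_specializes_of_mem_closure (j.isOpenEmbedding.isOpenMap _ hD.2) (hqc D hD) h1
    obtain ⟨z₂, hz₂, hy₂⟩ := exists_specializes_of_mem_closure (j.isOpenEmbedding.isOpenMap _ hD.compl.2) (hqc Dᶜ hD.compl) h2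
    by_cases hyU : y ∈ Set.range j
    · obtain ⟨w, rfl⟩ := hyU
      obtain ⟨w₁, hw₁, rfl⟩ := hz₁
      obtain ⟨w₂, hw₂, rfl⟩ := hz₂
      have s1 := j.isOpenEmbedding.isInducing.specializes_iff.1 hy₁
      have s2 := j.isOpenEmbedding.isInducing.specializes_iff.1 hy₂
      exact (s2.mem_closed hD.compl.1 hw₂) (s1.mem_closed hD.1 hw₁)
    rw [hrange] at hyU
    set x := Y.hom y with hx
    let R := StrictHenselization (X.presheaf.stalk x)
    let g : Spec (CommRingCat.of R) ⟶ X :=
      Spec.map (CommRingCat.ofHom (algebraMap (X.presheaf.stalk x) R)) ≫ X.fromSpecStalk x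
    have hgc : g (closedPoint R) = x := by
      change X.fromSpecStalk x (PrimeSpectrum.comap (algebraMap (X.presheaf.stalk x) R) (closedPoint R)) = x
      rw [IsLocalRing.comap_closedPoint]
      exact Scheme.fromSpecStalk_closedPoint
    have hgU : ∀ p, p ≠ closedPoint R → g p ∈ U := by
      intro p hp
      by_contra hn
      have hs : g p ⤳ x := by
        exact ((IsLocalRing.specializes_closedPoint p).map g.continuous).trans (specializes_of_eq hgc)
      have he : g p = x := (hs.mem_closed (hcl (g p) hn) rfl).symm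
      apply hp
      have h' : PrimeSpectrum.comap (algebraMap (X.presheaf.stalk x) R) p = closedPoint (X.presheaf.stalk x) :=
        (X.fromSpecStalk x).isEmbedding.injective (he.trans Scheme.fromSpecStalk_closedPoint.symm)
      refine PrimeSpectrum.ext ((le_maximalIdeal p.2.ne_top).antisymm ?_)
      change maximalIdeal R ≤ p.asIdeal
      refine (map_maximalIdeal_etLoc (R := X.presheaf.stalk x)).ge.trans (Ideal.map_le_iff_le_comap.2 ?_)
      exact (congrArg PrimeSpectrum.asIdeal h').ge
    have hsc := hsh x hyU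
    let P := pullback Y.hom g
    obtain ⟨y', hy', hy'g⟩ := Scheme.Pullback.exists_preimage_pullback (f := Y.hom) (g := g) y (closedPoint R) hgc.symm
    haveI : IsSepClosed (ResidueField R) :=
      (Hensel.IsStrictHenselization.isSepClosure (R := X.presheaf.stalk x) (S := R)).sep_closed
    obtain ⟨⟨φ, hφ⟩, hφy⟩ := FEtCat.Count.exists_sec_apply_eq (pullback.snd Y.hom g) (EtaleSite.closedPt R) y' (by
      rw [hy'g]
      exact (IsLocalRing.comap_closedPoint (residue R)).symm.trans
        (congrArg (PrimeSpectrum.comap (residue R)) (Subsingleton.elim _ _)))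
    obtain ⟨s, hs, hsφ⟩ := EtaleSite.exists_section R (pullback.snd Y.hom g) φ hφ
    have hsc0 : s (closedPoint R) = y' := by
      refine Eq.trans ?_ ((congr($hsφ default)).trans hφy)
      rw [Scheme.Hom.comp_apply]
      exact congrArg s ((IsLocalRing.comap_closedPoint (residue R)).symm.trans
        (congrArg (PrimeSpectrum.comap (residue R)) (Subsingleton.elim _ _)))
    have : Etale (s ≫ pullback.snd Y.hom g) := by rw [hs]; infer_instance
    have : Etale s := Etale.of_comp s (pullback.snd Y.hom g)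
    have hopen : IsOpen (Set.range s) := s.isOpenMap.isOpen_range
    let π : P ⟶ Y.left := pullback.fst Y.hom g
    have : Flat g := by
      have h1 : Flat (Spec.map (CommRingCat.ofHom (algebraMap (X.presheaf.stalk x) R))) := by
        rw [HasRingHomProperty.Spec_iff (P := @Flat)]
        exact RingHom.flat_algebraMap_iff.2 inferInstance
      exact MorphismProperty.comp_mem (@Flat) _ _ h1 (Groth.Agent.Hens.FibreIdempotent.flat_fromSpecStalk x)
    have hgen : GeneralizingMap π := Flat.generalizingMap π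
    have hlift : ∀ z, z ⤳ y → z ∈ Set.range j → ∃ p : (FEt.puncturedSpec R : Scheme.{u}), π (s p.1) = z := by
      intro z hz hzj
      obtain ⟨z', hz', rfl⟩ := hgen (show z ⤳ π y' from hy' ▸ hz)
      obtain ⟨p, rfl⟩ := hz'.mem_open hopen ⟨closedPoint R, hsc0⟩
      refine ⟨⟨p, fun hp => ?_⟩, rfl⟩
      have hp' : p = closedPoint R := hp
      subst hp'
      rw [hsc0] at hzj
      exact hyU ((hrange y).1 (hy' ▸ hzj))
    let ρ : (FEt.puncturedSpec R : Scheme.{u}) ⟶ Y.left := (FEt.puncturedSpec R).ι ≫ s ≫ π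
    have hρ : ∀ p, ρ p ∈ Set.range j := fun p => by
      rw [hrange]
      have : (s ≫ π) ≫ Y.hom = g := by rw [Category.assoc, pullback.condition, reassoc_of% hs]
      change ((s ≫ π) ≫ Y.hom) p.1 ∈ U
      rw [this]
      exact hgU p.1 p.2
    obtain ⟨p₁, hp₁⟩ := hlift z₁ hy₁ (Set.image_subset_range _ _ hz₁)
    obtain ⟨p₂, hp₂⟩ := hlift z₂ hy₂ (Set.image_subset_range _ _ hz₂)
    have hcl' : IsClopen (ρ ⁻¹' (j '' D)) := by
      refine ⟨⟨?_⟩, (j.isOpenEmbedding.isOpenMap _ hD.2).preimage ρ.continuous⟩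
      rw [show (ρ ⁻¹' (j '' D))ᶜ = ρ ⁻¹' (j '' Dᶜ) from ?_]
      · exact (j.isOpenEmbedding.isOpenMap _ hD.compl.2).preimage ρ.continuous
      ext p
      obtain ⟨w, hw⟩ := hρ p
      simp only [Set.mem_compl_iff, Set.mem_preimage, ← hw, j.isOpenEmbedding.injective.mem_set_image]
    rcases isClopen_iff.1 hcl' with he | he
    · refine (he.le (show p₁ ∈ ρ ⁻¹' (j '' D) from ?_) :)
      rw [Set.mem_preimage, show ρ p₁ = z₁ from hp₁]
      exact hz₁
    · have h : ρ p₂ ∈ j '' D := he.ge (Set.mem_univ p₂)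
      rw [show ρ p₂ = z₂ from hp₂] at h
      obtain ⟨w, hw, rfl⟩ := hz₂
      exact hw (j.isOpenEmbedding.injective.mem_set_image.1 h)
  have hcover : ∀ y, y ∈ closure (j '' D) ∨ y ∈ closure (j '' Dᶜ) := by
    intro y
    rw [← Set.mem_union, ← closure_union, ← Set.image_union, Set.union_compl_self, Set.image_univ]
    have hd : Dense (Set.range j) := by
      have := hU.preimage Y.hom.isOpenMap
      rwa [show Set.range j = Y.hom ⁻¹' (U : Set X) from Set.ext hrange]
    exact hd y
  refine ⟨closure (j '' D), ⟨isClosed_closure, ?_⟩, ?_⟩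
  · rw [show closure (j '' D) = (closure (j '' Dᶜ))ᶜ from Set.ext fun y =>
      ⟨fun h h' => hdisj y h h', fun h => (hcover y).resolve_right h⟩]
    exact isClosed_closure.isOpen_compl
  · ext w
    refine ⟨fun h => by_contra fun hw => hdisj (j w) h (subset_closure ⟨w, hw, rfl⟩), fun h => subset_closure ⟨w, h, rfl⟩⟩

end Groth.Agent.Hens.DenseExtend
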