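import Groth.Agent.FEtCat.Full
import Groth.Agent.FEtCat.Count
import Groth.Agent.Hens.Local
import Groth.Agent.EtaleSite.SH
import Groth.Agent.Hens.FibreIdempotent
import Groth.Prelude.Def_Pi1
import Mathlib.AlgebraicGeometry.Morphisms.UniversallyOpen

/-!
# Clopens of finite étale covers across a set of closed points with connected strict punctured spectra
-/

set_option autoImplicit false
set_option linter.style.haveILetI false
set_option backward.isDefEq.respectTransparency.types false

universe u

open CategoryTheory CategoryTheory.Limits AlgebraicGeometry IsLocalRing Topology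

noncomputable section

namespace Groth.Agent.Hens.DenseExtendGen

theorem eq_of_specializes_genericPoint {α : Type*} [TopologicalSpace α] [T0Space α] {η z : α}
    (hη : η ∈ genericPoints α) (h : z ⤳ η) : z = η := by
  have h1 : closure {η} ⊆ closure {z} := closure_minimal (Set.singleton_subset_iff.2 (specializes_iff_mem_closure.1 h)) isClosed_closure
  have h2 : closure {z} ⊆ closure {η} := hη.2 isIrreducible_singleton.closure h1
  exact ((specializes_iff_mem_closure.2 (h1 (subset_closure rfl))).antisymm
    (specializes_iff_mem_closure.2 (h2 (subset_closure rfl)))).eq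

theorem mem_genericPoints_of_forall {α : Type*} [TopologicalSpace α] [QuasiSober α] {η : α}
    (h : ∀ z, z ⤳ η → z = η) : η ∈ genericPoints α := by
  refine ⟨isIrreducible_singleton.closure, fun T hT hle => ?_⟩
  obtain ⟨z, hz⟩ := QuasiSober.sober hT.closure isClosed_closure
  have := h z (hz.specializes (subset_closure (hle (subset_closure rfl))))
  subst this
  exact fun t ht => hz.def.ge (subset_closure ht)

/-- A point of the closure of an open set is a specialization of one of its points. -/
theorem exists_specializes_of_mem_closure {X : Scheme.{u}} (Y : FEt.Cat X)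
    (hirr : ∀ V : X.Opens, IsCompact (V : Set X) → (irreducibleComponents ↥V).Finite)
    {W : Set Y.left} (hW : IsOpen W) {y : Y.left} (hy : y ∈ closure W) : ∃ z ∈ W, z ⤳ y := by
  have : IsFinite Y.hom := Y.prop.1
  have : Etale Y.hom := Y.prop.2
  obtain ⟨_, ⟨V₀, hV₀, rfl⟩, hyV, -⟩ := X.isBasis_affineOpens.exists_subset_of_mem_open (Set.mem_univ (Y.hom y)) isOpen_univ
  let V : Y.left.Opens := Y.hom ⁻¹ᵁ V₀
  let r := Y.hom ∣_ V₀
  have hfin : (genericPoints ↥(V : Scheme.{u})).Finite := by
    refine Set.Finite.subset (Set.Finite.preimage' (genericPoints.finite (α := ↥((V₀ : X.Opens) : Scheme.{u})) (hirr V₀ hV₀.isCompact)) (f := r)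
      (fun x _ => r.finite_preimage_singleton x)) fun η hη => ?_
    refine mem_genericPoints_of_forall fun x hx => ?_
    obtain ⟨z, hz, rfl⟩ := Flat.generalizingMap r hx
    rw [eq_of_specializes_genericPoint hη hz]
  let v : ↥(V : Scheme.{u}) := ⟨y, hyV⟩
  have hv : v ∈ closure (V.ι ⁻¹' W) := by
    rw [← V.ι.isOpenEmbedding.isOpenMap.preimage_closure_eq_closure_preimage V.ι.continuous]
    exact hy
  have hc : v ∈ closure (V.ι ⁻¹' W ∩ genericPoints ↥(V : Scheme.{u})) := by
    refine closure_minimal ?_ isClosed_closure hv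
    refine Set.Subset.trans ?_ ((hW.preimage V.ι.continuous).inter_closure (t := genericPoints ↥(V : Scheme.{u})))
    rw [genericPoints.closure, Set.inter_univ]
  rw [← Set.biUnion_of_singleton (V.ι ⁻¹' W ∩ genericPoints ↥(V : Scheme.{u})),
    (hfin.subset Set.inter_subset_right).closure_biUnion, Set.mem_iUnion₂] at hc
  obtain ⟨η, hη, hηy⟩ := hc
  exact ⟨V.ι η, hη.1, (specializes_iff_mem_closure.2 hηy).map V.ι.continuous⟩

variable {X : Scheme.{u}} (U : X.Opens)

/-- Clopens extend. -/
theorem clopen_extend (hU : Dense (U : Set X))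
    (hirr : ∀ V : X.Opens, IsCompact (V : Set X) → (irreducibleComponents ↥V).Finite)
    (hsh : ∀ x : X, x ∉ U → ConnectedSpace (FEt.puncturedSpec (StrictHenselization (X.presheaf.stalk x)) : Scheme.{u}))
    (Y : FEt.Cat X) (D : Set ↥(pullback Y.hom U.ι)) (hD : IsClopen D) :
    ∃ W : Set Y.left, IsClopen W ∧ pullback.fst Y.hom U.ι ⁻¹' W = D := by
  have : IsFinite Y.hom := Y.prop.1
  have : Etale Y.hom := Y.prop.2
  set j := pullback.fst Y.hom U.ι with hj
  have hjO : IsOpenImmersion j := MorphismProperty.pullback_fst (P := @IsOpenImmersion) _ _ inferInstance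
  have hrange : ∀ y, y ∈ Set.range j ↔ Y.hom y ∈ U := fun y => by
    rw [Scheme.Pullback.range_fst, Set.mem_preimage, Scheme.Opens.range_ι]; rfl
  have hcover : ∀ y, y ∈ closure (j '' D) ∨ y ∈ closure (j '' Dᶜ) := by
    intro y
    rw [← Set.mem_union, ← closure_union, ← Set.image_union, Set.union_compl_self, Set.image_univ]
    have hd : Dense (Set.range j) := by
      have := hU.preimage Y.hom.isOpenMap
      rwa [show Set.range j = Y.hom ⁻¹' (U : Set X) from Set.ext hrange]
    exact hd y
  have hdisj : ∀ y : Y.left, y ∈ closure (j '' D) → y ∈ closure (j '' Dᶜ) → False := by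
    intro y₀ h1₀ h2₀
    let O : Set Y.left := closure (j '' D) ∩ closure (j '' Dᶜ)
    obtain ⟨y, hyO, hmin⟩ : ∃ y ∈ O, ∀ z ∈ O, z ⤳ y → z = y := by
      have hO : IsClosed O := isClosed_closure.inter isClosed_closure
      haveI : QuasiSober O := hO.isClosedEmbedding_subtypeVal.quasiSober
      obtain ⟨T, hT, -⟩ := exists_mem_irreducibleComponents_subset_of_isIrreducible _
        (isIrreducible_singleton (x := (⟨y₀, h1₀, h2₀⟩ : O)))
      obtain ⟨η, hη⟩ := QuasiSober.sober hT.1 (isClosed_of_mem_irreducibleComponents T hT)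
      have hgp : η ∈ genericPoints O := by rw [genericPoints, Set.mem_setOf_eq, hη.def]; exact hT
      exact ⟨η.1, η.2, fun z hz hzη => congrArg Subtype.val
        (eq_of_specializes_genericPoint hgp ((subtype_specializes_iff _ _).2 hzη : (⟨z, hz⟩ : O) ⤳ η))⟩
    obtain ⟨h1, h2⟩ := hyO
    obtain ⟨z₁, hz₁, hy₁⟩ := exists_specializes_of_mem_closure Y hirr (j.isOpenEmbedding.isOpenMap _ hD.2) h1
    obtain ⟨z₂, hz₂, hy₂⟩ := exists_specializes_of_mem_closure Y hirr (j.isOpenEmbedding.isOpenMap _ hD.compl.2) h2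
    by_cases hyU : y ∈ Set.range j
    · obtain ⟨w, rfl⟩ := hyU
      obtain ⟨w₁, hw₁, rfl⟩ := hz₁
      obtain ⟨w₂, hw₂, rfl⟩ := hz₂
      have s1 := j.isOpenEmbedding.isInducing.specializes_iff.1 hy₁
      have s2 := j.isOpenEmbedding.isInducing.specializes_iff.1 hy₂
      exact (s2.mem_closed hD.compl.1 hw₂) (s1.mem_closed hD.1 hw₁)
    rw [hrange] at hyU
    set x := Y.hom y with hx
    let R := StrictHenselization (X.presheaf.stalk x)
    let g : Spec (CommRingCat.of R) ⟶ X :=
      Spec.map (CommRingCat.ofHom (algebraMap (X.presheaf.stalk x) R)) ≫ X.fromSpecStalk x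
    have hgc : g (closedPoint R) = x := by
      change X.fromSpecStalk x (PrimeSpectrum.comap (algebraMap (X.presheaf.stalk x) R) (closedPoint R)) = x
      rw [IsLocalRing.comap_closedPoint]
      exact Scheme.fromSpecStalk_closedPoint
    have hgx : ∀ p, g p = x → p = closedPoint R := by
      intro p he
      have h' : PrimeSpectrum.comap (algebraMap (X.presheaf.stalk x) R) p = closedPoint (X.presheaf.stalk x) :=
        (X.fromSpecStalk x).isEmbedding.injective (he.trans Scheme.fromSpecStalk_closedPoint.symm)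
      refine PrimeSpectrum.ext ((le_maximalIdeal p.2.ne_top).antisymm ?_)
      refine (map_maximalIdeal_etLoc (R := X.presheaf.stalk x)).ge.trans (Ideal.map_le_iff_le_comap.2 ?_)
      exact (congrArg PrimeSpectrum.asIdeal h').ge
    have hsc := hsh x hyU
    let P := pullback Y.hom g
    obtain ⟨y', hy', hy'g⟩ := Scheme.Pullback.exists_preimage_pullback (f := Y.hom) (g := g) y (closedPoint R) hgc.symm
    haveI : IsSepClosed (ResidueField R) :=
      (Hensel.IsStrictHenselization.isSepClosure (R := X.presheaf.stalk x) (S := R)).sep_closed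
    obtain ⟨⟨φ, hφ⟩, hφy⟩ := FEtCat.Count.exists_sec_apply_eq (pullback.snd Y.hom g) (EtaleSite.closedPt R) y' (by
      rw [hy'g]
      exact (IsLocalRing.comap_closedPoint (residue R)).symm.trans
        (congrArg (PrimeSpectrum.comap (residue R)) (Subsingleton.elim _ _)))
    obtain ⟨s, hs, hsφ⟩ := EtaleSite.exists_section R (pullback.snd Y.hom g) φ hφ
    have hsc0 : s (closedPoint R) = y' := by
      refine Eq.trans ?_ ((congr($hsφ default)).trans hφy)
      rw [Scheme.Hom.comp_apply]
      exact congrArg s ((IsLocalRing.comap_closedPoint (residue R)).symm.trans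
        (congrArg (PrimeSpectrum.comap (residue R)) (Subsingleton.elim _ _)))
    have : Etale (s ≫ pullback.snd Y.hom g) := by rw [hs]; infer_instance
    have : Etale s := Etale.of_comp s (pullback.snd Y.hom g)
    have hopen : IsOpen (Set.range s) := s.isOpenMap.isOpen_range
    let π : P ⟶ Y.left := pullback.fst Y.hom g
    have : Flat g := by
      have h1 : Flat (Spec.map (CommRingCat.ofHom (algebraMap (X.presheaf.stalk x) R))) := by
        rw [HasRingHomProperty.Spec_iff (P := @Flat)]
        exact RingHom.flat_algebraMap_iff.2 inferInstance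
      exact MorphismProperty.comp_mem (@Flat) _ _ h1 (Groth.Agent.Hens.FibreIdempotent.flat_fromSpecStalk x)
    have hgen : GeneralizingMap π := Flat.generalizingMap π
    have hlift : ∀ z, z ⤳ y → z ∈ Set.range j → ∃ p : (FEt.puncturedSpec R : Scheme.{u}), π (s p.1) = z := by
      intro z hz hzj
      obtain ⟨z', hz', rfl⟩ := hgen (show z ⤳ π y' from hy' ▸ hz)
      obtain ⟨p, rfl⟩ := hz'.mem_open hopen ⟨closedPoint R, hsc0⟩
      refine ⟨⟨p, fun hp => ?_⟩, rfl⟩
      have hp' : p = closedPoint R := hp
      subst hp'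
      rw [hsc0] at hzj
      exact hyU ((hrange y).1 (hy' ▸ hzj))
    let ρ : (FEt.puncturedSpec R : Scheme.{u}) ⟶ Y.left := (FEt.puncturedSpec R).ι ≫ s ≫ π
    have hgs : (s ≫ π) ≫ Y.hom = g := by rw [Category.assoc, pullback.condition, reassoc_of% hs]
    have hρ : ∀ p, ρ p ∈ closure (j '' D) → ρ p ∉ closure (j '' Dᶜ) := fun p ha hb => by
      refine p.2 (hgx p.1 ?_)
      have hsp : ρ p ⤳ y := by
        have h := (IsLocalRing.specializes_closedPoint p.1).map (s ≫ π).continuous
        rwa [show (s ≫ π) (closedPoint R) = y from by rw [Scheme.Hom.comp_apply, hsc0]; exact hy'] at h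
      have e1 : g p.1 = Y.hom (ρ p) := (congr($hgs p.1)).symm
      rw [e1, hmin _ ⟨ha, hb⟩ hsp]
    obtain ⟨p₁, hp₁⟩ := hlift z₁ hy₁ (Set.image_subset_range _ _ hz₁)
    obtain ⟨p₂, hp₂⟩ := hlift z₂ hy₂ (Set.image_subset_range _ _ hz₂)
    have hcl' : IsClopen (ρ ⁻¹' closure (j '' D)) := by
      refine ⟨isClosed_closure.preimage ρ.continuous, ?_⟩
      rw [show ρ ⁻¹' closure (j '' D) = (ρ ⁻¹' closure (j '' Dᶜ))ᶜ from Set.ext fun p =>
        ⟨hρ p, fun h => (hcover (ρ p)).resolve_right h⟩]
      exact (isClosed_closure.preimage ρ.continuous).isOpen_compl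
    rcases isClopen_iff.1 hcl' with he | he
    · refine (he.le (show p₁ ∈ ρ ⁻¹' closure (j '' D) from ?_) :)
      rw [Set.mem_preimage, show ρ p₁ = z₁ from hp₁]
      exact subset_closure hz₁
    · exact hρ p₂ (he.ge (Set.mem_univ p₂)) ((show ρ p₂ = z₂ from hp₂).symm ▸ subset_closure hz₂)
  refine ⟨closure (j '' D), ⟨isClosed_closure, ?_⟩, ?_⟩
  · rw [show closure (j '' D) = (closure (j '' Dᶜ))ᶜ from Set.ext fun y =>
      ⟨fun h h' => hdisj y h h', fun h => (hcover y).resolve_right h⟩]
    exact isClosed_closure.isOpen_compl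
  · ext w
    refine ⟨fun h => by_contra fun hw => hdisj (j w) h (subset_closure ⟨w, hw, rfl⟩), fun h => subset_closure ⟨w, h, rfl⟩⟩

end Groth.Agent.Hens.DenseExtendGen
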