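import Groth.Agent.Hensel.EtLikeNormal
import Mathlib.RingTheory.Flat.Localization
import Mathlib.LinearAlgebra.TensorProduct.Finiteness

/-!
# Localizations of base changes of ind-étale local algebras
-/

set_option autoImplicit false
set_option linter.style.haveILetI false
universe u

open IsLocalRing TensorProduct

namespace Groth.Agent.Hens

variable {A S B : Type u} [CommRing A] [IsLocalRing A] [CommRing S] [IsLocalRing S] [Algebra A S]
  [CommRing B] [Algebra A B]

/-- The local rings of the base change of an ind-étale local algebra are ind-étale local algebras. -/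
theorem isEtLike_localization_tensor (h : Hensel.IsEtLike A S) (M : Ideal (B ⊗[A] S)) [M.IsPrime]
    (L : Type u) [CommRing L] [IsLocalRing L] [Algebra (B ⊗[A] S) L] [IsLocalization.AtPrime L M]
    [Algebra (Localization.AtPrime (M.comap (algebraMap B (B ⊗[A] S)))) L] [Algebra B L]
    [IsScalarTower B (B ⊗[A] S) L]
    [IsScalarTower B (Localization.AtPrime (M.comap (algebraMap B (B ⊗[A] S)))) L] :
    Hensel.IsEtLike (Localization.AtPrime (M.comap (algebraMap B (B ⊗[A] S)))) L := by
  classical
  set m := M.comap (algebraMap B (B ⊗[A] S)) with hm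
  haveI := h.flat
  letI : Algebra A L := ((algebraMap B L).comp (algebraMap A B)).toAlgebra
  haveI : IsScalarTower A B L := IsScalarTower.of_algebraMap_eq' rfl
  haveI : IsScalarTower A (Localization.AtPrime m) L := IsScalarTower.of_algebraMap_eq fun a => by
    rw [IsScalarTower.algebraMap_apply A B (Localization.AtPrime m), ← IsScalarTower.algebraMap_apply B,
      ← IsScalarTower.algebraMap_apply A B L]
  haveI : IsScalarTower A (B ⊗[A] S) L := IsScalarTower.of_algebraMap_eq fun a => by
    rw [IsScalarTower.algebraMap_apply A B (B ⊗[A] S), ← IsScalarTower.algebraMap_apply B,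
      ← IsScalarTower.algebraMap_apply A B L]
  let jS : S →ₐ[A] L := (IsScalarTower.toAlgHom A (B ⊗[A] S) L).comp Algebra.TensorProduct.includeRight
  have hmem : ∀ x : B ⊗[A] S, algebraMap (B ⊗[A] S) L x ∈ maximalIdeal L ↔ x ∈ M := fun x =>
    IsLocalization.AtPrime.to_map_mem_maximal_iff L M x
  have hloc : IsLocalHom (algebraMap (Localization.AtPrime m) L) := by
    refine ⟨fun z hz => ?_⟩
    obtain ⟨b, c, rfl⟩ := IsLocalization.exists_mk'_eq m.primeCompl z
    have h1 := congrArg (algebraMap (Localization.AtPrime m) L)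
      (IsLocalization.mk'_spec (Localization.AtPrime m) b c)
    rw [map_mul, ← IsScalarTower.algebraMap_apply, ← IsScalarTower.algebraMap_apply] at h1
    have hb : IsUnit (algebraMap B L b) := by
      rw [← h1]
      refine hz.mul ?_
      rw [IsScalarTower.algebraMap_apply B (Localization.AtPrime m) L]
      exact (IsLocalization.map_units (M := m.primeCompl) _ c).map _
    refine (IsLocalization.AtPrime.isUnit_mk'_iff (Localization.AtPrime m) m b c).2 fun hbm => ?_
    rw [IsScalarTower.algebraMap_apply B (B ⊗[A] S) L] at hb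
    exact ((hmem _).2 hbm) hb
  refine ⟨?_, le_antisymm (IsLocalRing.map_maximalIdeal_le _) ?_, fun s => ?_⟩
  · haveI : Module.Flat (B ⊗[A] S) L := IsLocalization.flat L M.primeCompl
    haveI : Module.Flat B L := Module.Flat.trans B (B ⊗[A] S) L
    exact (Module.flat_iff_of_isLocalization (S := Localization.AtPrime m) (p := m.primeCompl) (M := L)).2
      inferInstance
  · -- the fibre is absolutely flat, hence a field after localizing
    set J := (maximalIdeal (Localization.AtPrime m)).map (algebraMap (Localization.AtPrime m) L)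
    have hJ : J ≠ ⊤ := ne_top_of_le_ne_top (maximalIdeal.isMaximal L).ne_top
      (IsLocalRing.map_maximalIdeal_le _)
    haveI : Nontrivial (L ⧸ J) := Ideal.Quotient.nontrivial_iff.2 hJ
    haveI : IsLocalRing (L ⧸ J) := IsLocalRing.of_surjective' (Ideal.Quotient.mk J) Ideal.Quotient.mk_surjective
    let κ := ResidueField (Localization.AtPrime m)
    let g : κ →ₐ[A] L ⧸ J :=
      { Ideal.Quotient.lift (maximalIdeal (Localization.AtPrime m))
          ((Ideal.Quotient.mk J).comp (algebraMap (Localization.AtPrime m) L))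
          (fun a ha => Ideal.Quotient.eq_zero_iff_mem.2 (Ideal.mem_map_of_mem _ ha)) with
        commutes' := fun a => by
          show Ideal.Quotient.mk J (algebraMap (Localization.AtPrime m) L (algebraMap A _ a)) = _
          rw [← IsScalarTower.algebraMap_apply]
          rfl }
    let Φ : κ ⊗[A] S →ₐ[A] L ⧸ J :=
      Algebra.TensorProduct.lift g ((Ideal.Quotient.mkₐ A J).comp jS) fun _ _ => Commute.all _ _
    let bκ : B →ₐ[A] κ := IsScalarTower.toAlgHom A B κ
    have hΦ : ∀ x : B ⊗[A] S, Φ (Algebra.TensorProduct.map bκ (AlgHom.id A S) x) =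
        Ideal.Quotient.mk J (algebraMap (B ⊗[A] S) L x) := fun x => by
      induction x with
      | zero => simp
      | add x y hx hy => simp only [map_add, hx, hy]
      | tmul b t =>
        rw [Algebra.TensorProduct.map_tmul, Algebra.TensorProduct.lift_tmul]
        show Ideal.Quotient.mk J (algebraMap (Localization.AtPrime m) L (algebraMap B _ b)) *
          Ideal.Quotient.mk J (algebraMap (B ⊗[A] S) L ((1 : B) ⊗ₜ t)) = _
        rw [← map_mul, ← IsScalarTower.algebraMap_apply, IsScalarTower.algebraMap_apply B (B ⊗[A] S) L,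
          ← map_mul]
        simp
    intro z hz
    obtain ⟨t, u, rfl⟩ := IsLocalization.exists_mk'_eq M.primeCompl z
    have ht : algebraMap (B ⊗[A] S) L t ∈ maximalIdeal L := by
      rw [← IsLocalization.mk'_spec L t u]
      exact Ideal.mul_mem_right _ _ hz
    obtain ⟨y, hy⟩ := h.exists_mul_mul_eq κ (Algebra.TensorProduct.map bκ (AlgHom.id A S) t)
    have hy' := congrArg Φ hy
    rw [map_mul, map_mul, hΦ] at hy'
    obtain ⟨w, hw⟩ := Ideal.Quotient.mk_surjective (Φ y)
    have hu : IsUnit (1 - algebraMap (B ⊗[A] S) L t * w) :=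
      (IsLocalRing.isUnit_or_isUnit_one_sub_self (algebraMap (B ⊗[A] S) L t * w)).resolve_left
        fun hu => (Ideal.mul_mem_right w _ ht) hu
    have htJ : algebraMap (B ⊗[A] S) L t ∈ J := by
      have h2 : algebraMap (B ⊗[A] S) L t * (1 - algebraMap (B ⊗[A] S) L t * w) ∈ J := by
        rw [← Ideal.Quotient.eq_zero_iff_mem, map_mul, map_sub, map_one, map_mul, hw]
        linear_combination -hy'
      obtain ⟨v, hv⟩ := hu.exists_right_inv
      have h3 := Ideal.mul_mem_right v _ h2
      rwa [mul_assoc, hv, mul_one] at h3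
    rw [show IsLocalization.mk' L t u = algebraMap (B ⊗[A] S) L t * IsLocalization.mk' L 1 u from
      IsLocalization.mk'_eq_mul_mk'_one (S := L) t u]
    exact Ideal.mul_mem_right _ _ htJ
  · -- stages
    choose t u hz using IsLocalization.exists_mk'_eq (S := L) M.primeCompl
    let T : Finset (B ⊗[A] S) := s.image t ∪ s.image fun z => (u z : B ⊗[A] S)
    choose F hF using fun x : B ⊗[A] S => TensorProduct.exists_finset x
    obtain ⟨E, _, _, hE, θ, hθ⟩ := h.stage (T.biUnion fun x => (F x).image Prod.snd)
    let Bm := Localization.AtPrime m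
    let ψ : Bm ⊗[A] E →ₐ[Bm] L :=
      Algebra.TensorProduct.lift (Algebra.ofId Bm L) (jS.comp θ) fun _ _ => Commute.all _ _
    have hT : ∀ x ∈ T, ∃ e, ψ e = algebraMap (B ⊗[A] S) L x := fun x hx => by
      have hx' : algebraMap (B ⊗[A] S) L x ∈ ψ.range := by
        rw [hF x, map_sum]
        refine Subalgebra.sum_mem _ fun p hp => ?_
        obtain ⟨e, he⟩ := hθ p.2 (Finset.mem_biUnion.2 ⟨x, hx, Finset.mem_image_of_mem _ hp⟩)
        refine ⟨algebraMap B Bm p.1 ⊗ₜ e, ?_⟩
        show ψ (algebraMap B Bm p.1 ⊗ₜ e) = _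
        rw [Algebra.TensorProduct.lift_tmul]
        show algebraMap Bm L (algebraMap B Bm p.1) * algebraMap (B ⊗[A] S) L ((1 : B) ⊗ₜ θ e) = _
        rw [← IsScalarTower.algebraMap_apply, IsScalarTower.algebraMap_apply B (B ⊗[A] S) L, ← map_mul,
          show (θ : E → S) e = p.2 from he]
        simp
      exact hx'
    choose! e he using hT
    have huT : ∀ z ∈ s, (u z : B ⊗[A] S) ∈ T := fun z hzs =>
      Finset.mem_union_right _ (Finset.mem_image_of_mem _ hzs)
    let d := ∏ z ∈ s, e (u z : B ⊗[A] S)
    have hd : IsUnit (ψ d) := by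
      rw [map_prod]
      exact IsUnit.prod_iff.2 fun z hzs => he _ (huT z hzs) ▸ IsLocalization.map_units L (u z)
    let ψ' : Localization.Away d →ₐ[Bm] L :=
      IsLocalization.liftAlgHom (M := Submonoid.powers d) (f := ψ) fun y => by
        obtain ⟨k, hk⟩ := y.2
        rw [← hk, map_pow]
        exact hd.pow k
    have hψ' : ∀ e, ψ' (algebraMap (Bm ⊗[A] E) _ e) = ψ e := fun e => IsLocalization.lift_eq _ e
    refine ⟨Localization.Away d, inferInstance, inferInstance, inferInstance, ψ', fun z hzs => ?_⟩
    have hu : IsUnit (algebraMap (Bm ⊗[A] E) (Localization.Away d) (e (u z : B ⊗[A] S))) :=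
      isUnit_of_dvd_unit (map_dvd (algebraMap (Bm ⊗[A] E) (Localization.Away d))
        (Finset.dvd_prod_of_mem (fun z => e (u z : B ⊗[A] S)) hzs))
        (IsLocalization.map_units (M := Submonoid.powers d) _ ⟨d, Submonoid.mem_powers d⟩)
    refine ⟨algebraMap _ _ (e (t z)) * ↑hu.unit⁻¹, ?_⟩
    have h1 := congrArg ψ' hu.mul_val_inv
    rw [map_mul, hψ', he _ (huT z hzs), map_one] at h1
    have h2 : ψ' (algebraMap _ _ (e (t z))) = algebraMap (B ⊗[A] S) L (t z) := by
      rw [hψ', he _ (Finset.mem_union_left _ (Finset.mem_image_of_mem _ hzs))]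
    show ψ' _ = z
    rw [map_mul, h2]
    refine Eq.trans ?_ (hz z)
    rw [IsLocalization.eq_mk'_iff_mul_eq]
    linear_combination algebraMap (B ⊗[A] S) L (t z) * h1

/-- If the local rings of `B` are normal domains, so are those of `B ⊗ S`. -/
theorem isDomain_localization_tensor (h : Hensel.IsEtLike A S) (M : Ideal (B ⊗[A] S)) [M.IsPrime]
    (hB : IsDomain (Localization.AtPrime (M.comap (algebraMap B (B ⊗[A] S)))) ∧
      IsIntegrallyClosed (Localization.AtPrime (M.comap (algebraMap B (B ⊗[A] S))))) :
    IsDomain (Localization.AtPrime M) ∧ IsIntegrallyClosed (Localization.AtPrime M) := by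
  letI := (Localization.localRingHom (M.comap (algebraMap B (B ⊗[A] S))) M
    (algebraMap B (B ⊗[A] S)) rfl).toAlgebra
  haveI : IsScalarTower B (Localization.AtPrime (M.comap (algebraMap B (B ⊗[A] S))))
      (Localization.AtPrime M) := IsScalarTower.of_algebraMap_eq fun x =>
    ((Localization.localRingHom_to_map _ _ _ rfl x).trans
      (IsScalarTower.algebraMap_apply B (B ⊗[A] S) (Localization.AtPrime M) x).symm).symm
  haveI := hB.1
  haveI := hB.2
  exact (isEtLike_localization_tensor h M (Localization.AtPrime M)).isDomain_and_isIntegrallyClosed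

end Groth.Agent.Hens
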