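import Groth.Agent.Hensel.Pair
import Groth.Agent.Hens.SemiLocal
import Groth.Agent.Hens.BranchCore

/-! A local ring is henselian as soon as all its finite domain algebras are local; application to
localizations of henselian valuation rings. -/

set_option autoImplicit false
set_option linter.style.haveILetI false

open IsLocalRing Polynomial

universe u

namespace Groth.Agent.Hens

/-- The primes of a finite algebra below a given set of maximal ideals form a closed set, if every
prime is below a unique maximal ideal. -/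
theorem isClosed_primesBelow {B : Type u} [CommRing B] [Finite (MaximalSpectrum B)]
    (huniq : ∀ (P : Ideal B), P.IsPrime → ∀ m n : MaximalSpectrum B,
      P ≤ m.asIdeal → P ≤ n.asIdeal → m = n) (M : Set (MaximalSpectrum B)) :
    IsClosed {P : PrimeSpectrum B | ∃ m ∈ M, P.asIdeal ≤ m.asIdeal} := by
  classical
  have hM : M.Finite := Set.toFinite M
  let S : Submonoid B :=
    { carrier := {b | ∀ m ∈ M, b ∉ m.asIdeal}
      mul_mem' := fun ha hb m hm h =>
        (m.isMaximal.isPrime.mem_or_mem h).elim (ha m hm) (hb m hm)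
      one_mem' := fun m _ h => m.isMaximal.ne_top ((Ideal.eq_top_iff_one _).2 h) }
  have hrange : {P : PrimeSpectrum B | ∃ m ∈ M, P.asIdeal ≤ m.asIdeal} =
      Set.range (PrimeSpectrum.comap (algebraMap B (Localization S))) := by
    rw [PrimeSpectrum.localization_comap_range (Localization S) S]
    ext P
    simp only [Set.mem_ofPred_eq]
    constructor
    · rintro ⟨m, hm, hle⟩
      exact Set.disjoint_left.2 fun b hb hbP => hb m hm (hle hbP)
    · intro hdis
      have hsub : (P.asIdeal : Set B) ⊆ ⋃ m ∈ (↑hM.toFinset : Set (MaximalSpectrum B)),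
          (m.asIdeal : Set B) := by
        intro b hb
        simp only [Set.Finite.coe_toFinset, Set.mem_iUnion, exists_prop]
        by_contra hb'
        push Not at hb'
        exact Set.disjoint_left.1 hdis (show b ∈ (S : Set B) from hb') hb
      by_cases hne : hM.toFinset.Nonempty
      · obtain ⟨a, ha⟩ := hne
        obtain ⟨m, hm, hle⟩ := (Ideal.subset_union_prime a a
          (fun i _ _ _ => i.isMaximal.isPrime)).1 hsub
        exact ⟨m, hM.mem_toFinset.1 hm, hle⟩
      · rw [Finset.not_nonempty_iff_eq_empty] at hne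
        have : (0 : B) ∈ (∅ : Set B) := by
          have h := hsub P.asIdeal.zero_mem
          simp [hne] at h
        exact this.elim
  rw [hrange]
  refine PrimeSpectrum.isClosed_range_of_stableUnderSpecialization _ ?_
  rw [← hrange]
  rintro P Q hPQ ⟨m, hm, hle⟩
  rw [← PrimeSpectrum.le_iff_specializes] at hPQ
  obtain ⟨n, hn, hQn⟩ := Q.asIdeal.exists_le_maximal Q.isPrime.ne_top
  have := huniq P.asIdeal P.isPrime m ⟨n, hn⟩ hle ((show P.asIdeal ≤ Q.asIdeal from hPQ).trans hQn)
  subst this
  exact ⟨_, hm, hQn⟩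

/-- A local ring all of whose finite domain algebras are local is henselian. -/
theorem henselianLocalRing_of_finite_domains {R : Type u} [CommRing R] [IsLocalRing R]
    (h : ∀ (B : Type u) [CommRing B] [IsDomain B] [Algebra R B], Module.Finite R B → IsLocalRing B) :
    HenselianLocalRing R := by
  refine Hensel.henselianLocalRing_of_henselianRing
    (Hensel.henselianRing_of_idempotents_bijOn fun B _ _ _ => ⟨fun e he => he.map _, ?_, ?_⟩)
  · intro e he f hf hef
    exact Hensel.isIdempotentElem_eq_of_sub_mem map_maximalIdeal_le_jacobson he hf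
      (Ideal.Quotient.eq.1 hef)
  intro ε hε
  obtain ⟨e, rfl⟩ := Ideal.Quotient.mk_surjective ε
  let J := (maximalIdeal R).map (algebraMap R B)
  haveI := finite_maximalSpectrum_of_finite R B
  have huniq : ∀ (P : Ideal B), P.IsPrime → ∀ m n : MaximalSpectrum B,
      P ≤ m.asIdeal → P ≤ n.asIdeal → m = n := by
    intro P hP m n hm hn
    haveI := h (B ⧸ P) (Module.Finite.quotient R P)
    have key : ∀ N : MaximalSpectrum B, P ≤ N.asIdeal →
        N.asIdeal = (maximalIdeal (B ⧸ P)).comap (Ideal.Quotient.mk P) := by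
      intro N hN
      haveI := N.isMaximal
      haveI : (N.asIdeal.map (Ideal.Quotient.mk P)).IsMaximal :=
        Ideal.IsMaximal.map_of_surjective_of_ker_le Ideal.Quotient.mk_surjective
          (by rw [Ideal.mk_ker]; exact hN)
      rw [← eq_maximalIdeal this, Ideal.comap_map_of_surjective _ Ideal.Quotient.mk_surjective,
        ← RingHom.ker_eq_comap_bot, Ideal.mk_ker]
      exact (sup_eq_left.2 hN).symm
    exact MaximalSpectrum.ext ((key m hm).trans (key n hn).symm)
  let C : Set (MaximalSpectrum B) → Set (PrimeSpectrum B) := fun M =>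
    {P | ∃ m ∈ M, P.asIdeal ≤ m.asIdeal}
  let M₁ : Set (MaximalSpectrum B) := {m | e ∉ m.asIdeal}
  have hcompl : (C M₁)ᶜ = C M₁ᶜ := by
    ext P
    constructor
    · intro hP
      obtain ⟨n, hn, hPn⟩ := P.asIdeal.exists_le_maximal P.isPrime.ne_top
      exact ⟨⟨n, hn⟩, fun hn' => hP ⟨_, hn', hPn⟩, hPn⟩
    · rintro ⟨n, hn, hPn⟩ ⟨m, hm, hPm⟩
      exact hn (huniq _ P.isPrime m n hPm hPn ▸ hm)
  have hclopen : IsClopen (C M₁) :=
    ⟨isClosed_primesBelow huniq M₁, isClosed_compl_iff.1 (hcompl ▸ isClosed_primesBelow huniq M₁ᶜ)⟩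
  obtain ⟨e', he', he'C⟩ := PrimeSpectrum.isClopen_iff.1 hclopen
  refine ⟨e', he', PrimeSpectrum.basicOpen_injOn_isIdempotentElem (he'.map _) hε ?_⟩
  ext q
  simp only [PrimeSpectrum.basicOpen_eq_zeroLocus_compl, Set.mem_compl_iff,
    PrimeSpectrum.mem_zeroLocus, Set.singleton_subset_iff, SetLike.mem_coe]
  let P : Ideal B := q.asIdeal.comap (Ideal.Quotient.mk J)
  haveI : P.IsPrime := Ideal.IsPrime.comap _
  have hJP : J ≤ P := fun x hx => by
    rw [Ideal.mem_comap, Ideal.Quotient.eq_zero_iff_mem.2 hx]; exact q.asIdeal.zero_mem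
  have hPmax : P.IsMaximal := by
    refine Ideal.isMaximal_of_isIntegral_of_isMaximal_comap (R := R) _ ?_
    have hle : maximalIdeal R ≤ P.comap (algebraMap R B) := Ideal.map_le_iff_le_comap.1 hJP
    rw [← (maximalIdeal.isMaximal R).eq_of_le (Ideal.IsPrime.comap _).ne_top hle]
    exact maximalIdeal.isMaximal R
  have hiff : (⟨P, inferInstance⟩ : PrimeSpectrum B) ∈ C M₁ ↔ e ∉ P := by
    constructor
    · rintro ⟨m, hm, hle⟩ he
      exact hm ((hPmax.eq_of_le m.isMaximal.ne_top hle) ▸ he)
    · exact fun he => ⟨⟨P, hPmax⟩, he, le_rfl⟩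
  rw [he'C] at hiff
  exact hiff

section Valuation

/-- In a field, a root of a polynomial with a unit coefficient over a local integrally closed
subring lies in the subring or has its inverse there. -/
theorem mem_or_inv_mem_of_root {L : Type u} [Field L] (W : Subring L) [IsLocalRing W]
    (hW : ∀ x : L, IsIntegral W x → x ∈ W) {x : L} :
    ∀ (n : ℕ) (g : W[X]), g.natDegree ≤ n → (∃ i, IsUnit (g.coeff i)) → aeval x g = 0 →
      x ∈ W ∨ x⁻¹ ∈ W := by
  intro n
  induction n with
  | zero =>
    intro g hg ⟨i, hi⟩ h0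
    rw [eq_C_of_natDegree_le_zero hg] at hi h0
    rcases i with _ | i
    · rw [coeff_C_zero] at hi
      rw [aeval_C] at h0
      exact absurd h0 (hi.map (algebraMap W L)).ne_zero
    · rw [coeff_C_succ] at hi
      exact absurd hi not_isUnit_zero
  | succ n ih =>
    intro g hg ⟨i, hi⟩ h0
    by_cases hdeg : g.natDegree ≤ n
    · exact ih g hdeg ⟨i, hi⟩ h0
    have hdeg : g.natDegree = n + 1 := by omega
    let a := g.coeff (n + 1)
    have hb : (a : L) * x ∈ W := by
      refine hW _ ?_
      have := isIntegral_leadingCoeff_smul g x h0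
      rwa [leadingCoeff, hdeg] at this
    let b : W := ⟨_, hb⟩
    let g' := g - C a * X ^ (n + 1) + C b * X ^ n
    have hg' : g'.natDegree ≤ n := by
      rw [natDegree_le_iff_coeff_eq_zero]
      intro m hm
      simp only [g', coeff_add, coeff_sub, coeff_C_mul, coeff_X_pow]
      rcases eq_or_ne m (n + 1) with rfl | hne
      · simp [a]
      · rw [coeff_eq_zero_of_natDegree_lt (by omega), if_neg hne, if_neg (by omega)]
        simp
    have hg'0 : aeval x g' = 0 := by
      simp only [g', map_add, map_sub, map_mul, aeval_C, map_pow, aeval_X, h0]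
      show 0 - (a : L) * x ^ (n + 1) + ((a : L) * x) * x ^ n = 0
      ring
    by_cases hu : ∃ j, IsUnit (g'.coeff j)
    · exact ih g' hg' hu hg'0
    push Not at hu
    have hcoeff : ∀ j, j ≠ n → j ≠ n + 1 → g'.coeff j = g.coeff j := by
      intro j h1 h2
      simp [g', coeff_C_mul, coeff_X_pow, h1, h2]
    by_cases hin : i = n + 1
    · subst hin
      left
      obtain ⟨c, hc⟩ := hi.exists_left_inv
      have hc' : (c : L) * (a : L) = 1 := by exact_mod_cast congrArg (Subtype.val) hc
      have := W.mul_mem c.2 hb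
      rwa [← mul_assoc, hc', one_mul] at this
    by_cases hin' : i = n
    · subst hin'
      right
      have hsum : g'.coeff i = g.coeff i + b := by simp [g', coeff_C_mul, coeff_X_pow]
      have hbu : IsUnit b := by
        rcases isUnit_or_isUnit_of_isUnit_add (show IsUnit (g'.coeff i + -b) by
          rw [hsum, add_neg_cancel_right]; exact hi) with h | h
        · exact absurd h (hu i)
        · exact (IsUnit.neg_iff b).1 h
      obtain ⟨c, hc⟩ := hbu.exists_left_inv
      have hc' : (c : L) * ((a : L) * x) = 1 := congrArg (Subtype.val) hc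
      have hinv : x⁻¹ = (c : L) * (a : L) := by
        refine inv_eq_of_mul_eq_one_left ?_
        rw [mul_assoc]; exact hc'
      rw [hinv]
      exact W.mul_mem c.2 a.2
    exact absurd (hcoeff i hin' hin ▸ hi) (hu i)

/-- A domain finite over a localization of a henselian valuation ring at a prime is local. -/
theorem isLocalRing_of_finite_localization {V : Type u} [CommRing V] [IsDomain V] [ValuationRing V]
    [HenselianLocalRing V] (p : Ideal V) [p.IsPrime] (B : Type u) [CommRing B] [IsDomain B]
    [Algebra (Localization.AtPrime p) B] [Module.Finite (Localization.AtPrime p) B] :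
    IsLocalRing B := by
  classical
  let Vp := Localization.AtPrime p
  letI : Algebra V B := ((algebraMap Vp B).comp (algebraMap V Vp)).toAlgebra
  haveI : IsScalarTower V Vp B := .of_algebraMap_eq fun _ => rfl
  let L := FractionRing B
  haveI : IsScalarTower V B L := inferInstance
  have hscale : ∀ x : B, ∃ s : V, s ∉ p ∧ IsIntegral V (s • x) := fun x => by
    obtain ⟨⟨s, hs⟩, h⟩ := IsIntegral.exists_multiple_integral_of_isLocalization p.primeCompl x
      (Algebra.IsIntegral.isIntegral (R := Vp) x)
    exact ⟨s, hs, h⟩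
  have hsB : ∀ s : V, s ∉ p → IsUnit (algebraMap V B s) := fun s hs =>
    (IsLocalization.map_units Vp (⟨s, hs⟩ : p.primeCompl)).map (algebraMap Vp B)
  let C : Subalgebra V L := integralClosure V L
  haveI hCint : Algebra.IsIntegral V C := integralClosure.AlgebraIsIntegral
  haveI : IsLocalRing C := isLocalRing_of_integral_domain V C
  haveI : IsLocalRing C.toSubring := ‹IsLocalRing C›
  have hclosed : ∀ x : L, IsIntegral C.toSubring x → x ∈ C.toSubring := fun x hx =>
    isIntegral_trans (R := V) (A := C) x hx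
  -- every element of `L` is algebraic over the image of `V`
  let V' := (algebraMap V L).range
  letI : Algebra V V' := (algebraMap V L).rangeRestrict.toAlgebra
  haveI : IsScalarTower V V' L := .of_algebraMap_eq fun _ => rfl
  have hint : ∀ z : L, IsIntegral V z → IsAlgebraic V' z := fun z hz =>
    (hz.tower_top (A := V')).isAlgebraic
  have halgB : ∀ x : B, IsAlgebraic V' (algebraMap B L x) := by
    intro x
    obtain ⟨s, hs, h⟩ := hscale x
    have hne : algebraMap V L s ≠ 0 := ((hsB s hs).map (algebraMap B L)).ne_zero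
    have e : algebraMap B L x = (algebraMap V L s)⁻¹ * algebraMap B L (s • x) := by
      rw [Algebra.smul_def, map_mul, ← IsScalarTower.algebraMap_apply, inv_mul_cancel_left₀ hne]
    rw [e]
    exact (IsAlgebraic.inv (hint _ isIntegral_algebraMap)).mul
      (hint _ (h.map (IsScalarTower.toAlgHom V B L)))
  have halg : ∀ x : L, IsAlgebraic V' x := by
    intro x
    obtain ⟨b, c, -, rfl⟩ := IsFractionRing.div_surjective (A := B) x
    rw [div_eq_mul_inv]
    exact (halgB b).mul (halgB c).inv
  have hval : ∀ x : L, x ∈ C.toSubring ∨ x⁻¹ ∈ C.toSubring := by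
    intro x
    rcases eq_or_ne x 0 with rfl | hx
    · exact Or.inl C.toSubring.zero_mem
    obtain ⟨f', hf', hf'0⟩ := halg x
    obtain ⟨f, rfl⟩ := Polynomial.map_surjective (algebraMap V V')
      (algebraMap V L).rangeRestrict_surjective f'
    rw [aeval_map_algebraMap] at hf'0
    have hne : ∃ j ∈ f.support, algebraMap V L (f.coeff j) ≠ 0 := by
      by_contra hall
      push Not at hall
      refine hf' (Polynomial.ext fun j => ?_)
      rw [coeff_map, coeff_zero]
      by_cases hj : j ∈ f.support
      · exact Subtype.ext (hall j hj)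
      · rw [notMem_support_iff.1 hj, map_zero]
    obtain ⟨j, hj, hjne⟩ := hne
    -- a coefficient dividing all coefficients
    have hmin : ∀ T : Finset ℕ, T.Nonempty → ∃ i ∈ T, ∀ k ∈ T, f.coeff i ∣ f.coeff k := by
      intro T hT
      induction hT using Finset.Nonempty.cons_induction with
      | singleton a => exact ⟨a, Finset.mem_singleton_self a, fun k hk => by
          rw [Finset.mem_singleton.1 hk]⟩
      | cons a T ha hT ih =>
        obtain ⟨i, hi, hdvd⟩ := ih
        rcases ValuationRing.dvd_total (f.coeff a) (f.coeff i) with h | h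
        · exact ⟨a, Finset.mem_cons_self a T, fun k hk => (Finset.mem_cons.1 hk).elim
            (fun e => e ▸ dvd_rfl) fun hk => h.trans (hdvd k hk)⟩
        · exact ⟨i, Finset.mem_cons.2 (Or.inr hi), fun k hk => (Finset.mem_cons.1 hk).elim
            (fun e => e ▸ h) (hdvd k)⟩
    obtain ⟨i, -, hdvd⟩ := hmin _ ⟨j, hj⟩
    have hine : algebraMap V L (f.coeff i) ≠ 0 := fun h => by
      obtain ⟨d, hd⟩ := hdvd j hj
      rw [hd, map_mul, h, zero_mul] at hjne
      exact hjne rfl
    have hdvd' : Polynomial.C (f.coeff i) ∣ f := C_dvd_iff_dvd_coeff _ _ |>.2 fun k => by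
      by_cases hk : k ∈ f.support
      · exact hdvd k hk
      · rw [notMem_support_iff.1 hk]; exact dvd_zero _
    obtain ⟨g, hg⟩ := hdvd'
    have hgi : g.coeff i = 1 := by
      have h := congrArg (coeff · i) hg
      simp only [coeff_C_mul] at h
      exact (mul_right_eq_self₀.1 h.symm).resolve_right fun h0 => hine (by rw [h0, map_zero])
    have hg0 : aeval x g = 0 := by
      rw [hg, map_mul, aeval_C] at hf'0
      exact (mul_eq_zero.1 hf'0).resolve_left hine
    refine mem_or_inv_mem_of_root C.toSubring hclosed g.natDegree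
      (g.map ((algebraMap V L).codRestrict C.toSubring C.algebraMap_mem)) natDegree_map_le
      ⟨i, by rw [coeff_map, hgi, map_one]; exact isUnit_one⟩ ?_
    rw [aeval_def, eval₂_map]
    exact hg0
  have htotal : ∀ Q₁ Q₂ : Ideal C, Q₁ ≤ Q₂ ∨ Q₂ ≤ Q₁ := by
    intro Q₁ Q₂
    by_contra hne
    push Not at hne
    obtain ⟨h1, h2⟩ := hne
    obtain ⟨a, ha, ha'⟩ := SetLike.not_le_iff_exists.1 h1
    obtain ⟨b, hb, hb'⟩ := SetLike.not_le_iff_exists.1 h2
    have ha0 : (a : L) ≠ 0 := fun h => ha' (by rw [show a = 0 from Subtype.ext h]; exact Q₂.zero_mem)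
    have hb0 : (b : L) ≠ 0 := fun h => hb' (by rw [show b = 0 from Subtype.ext h]; exact Q₁.zero_mem)
    rcases hval ((b : L) / a) with h | h
    · refine hb' (?_ : b ∈ Q₁)
      have e : b = (⟨_, h⟩ : C) * a := Subtype.ext (div_mul_cancel₀ _ ha0).symm
      rw [e]; exact Q₁.mul_mem_left _ ha
    · refine ha' (?_ : a ∈ Q₂)
      have e : a = (⟨_, h⟩ : C) * b := Subtype.ext (by
        show (a : L) = ((b : L) / a)⁻¹ * b
        rw [inv_div, div_mul_cancel₀ _ hb0])
      rw [e]; exact Q₂.mul_mem_left _ hb
  -- two maximal ideals of `B` coincide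
  let B₀ := integralClosure V B
  let ι : B₀ →ₐ[V] C := ((IsScalarTower.toAlgHom V B L).comp B₀.val).codRestrict C
    fun z => (show IsIntegral V (z : B) from z.2).map (IsScalarTower.toAlgHom V B L)
  have hιinj : Function.Injective ι := fun z w h => Subtype.ext
    (IsFractionRing.injective B L (congrArg Subtype.val h))
  letI : Algebra B₀ C := ι.toRingHom.toAlgebra
  haveI : IsScalarTower V B₀ C := .of_algebraMap_eq fun v => (ι.commutes v).symm
  haveI : Algebra.IsIntegral B₀ C := Algebra.IsIntegral.tower_top V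
  have hlift : ∀ M : Ideal B, M.IsMaximal → ∃ Q : Ideal C, Q.IsPrime ∧
      Q.comap (algebraMap B₀ C) = M.comap B₀.val.toRingHom ∧
      Q.comap (algebraMap V C) = p := by
    intro M hM
    haveI : (M.comap B₀.val.toRingHom).IsPrime := Ideal.IsPrime.comap _
    obtain ⟨Q, -, hQ, hQ'⟩ := Ideal.exists_ideal_over_prime_of_isIntegral (R := B₀) (S := C)
      (M.comap B₀.val.toRingHom) ⊥ (fun z hz => by
        rw [Ideal.mem_comap, Ideal.mem_bot] at hz
        rw [show z = 0 from hιinj (hz.trans (map_zero ι).symm)]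
        exact Ideal.zero_mem _)
    refine ⟨Q, hQ, hQ', ?_⟩
    rw [IsScalarTower.algebraMap_eq V B₀ C, ← Ideal.comap_comap, hQ', Ideal.comap_comap]
    haveI := hM
    have hmax : (M.comap (algebraMap Vp B)).IsMaximal :=
      Ideal.isMaximal_comap_of_isIntegral_of_isMaximal M
    show M.comap (algebraMap V B) = p
    rw [IsScalarTower.algebraMap_eq V Vp B, ← Ideal.comap_comap, eq_maximalIdeal hmax]
    exact Localization.AtPrime.under_maximalIdeal
  have hle : ∀ M₁ M₂ : Ideal B, M₁.IsMaximal → M₂.IsMaximal →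
      M₁.comap B₀.val.toRingHom = M₂.comap B₀.val.toRingHom → M₁ ≤ M₂ := by
    intro M₁ M₂ _ hM₂ he x hx
    obtain ⟨s, hs, h⟩ := hscale x
    have : (⟨s • x, h⟩ : B₀) ∈ M₂.comap B₀.val.toRingHom := by
      rw [← he]
      show s • x ∈ M₁
      rw [Algebra.smul_def]; exact M₁.mul_mem_left _ hx
    have h' : algebraMap V B s * x ∈ M₂ := by rw [← Algebra.smul_def]; exact this
    exact (hM₂.isPrime.mem_or_mem h').resolve_left fun hs' =>
      hM₂.ne_top (M₂.eq_top_of_isUnit_mem hs' (hsB s hs))
  obtain ⟨M₀, hM₀⟩ := Ideal.exists_maximal B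
  refine IsLocalRing.of_unique_max_ideal ⟨M₀, hM₀, fun M hM => ?_⟩
  obtain ⟨Q, hQ, hQB, hQp⟩ := hlift M hM
  obtain ⟨Q', hQ', hQB', hQp'⟩ := hlift M₀ hM₀
  have hQQ : Q = Q' := by
    rcases htotal Q Q' with h | h
    · exact h.lt_or_eq.resolve_left fun hlt =>
        (Ideal.IsIntegral.comap_lt_comap (R := V) hlt).ne (hQp.trans hQp'.symm)
    · exact (h.lt_or_eq.resolve_left fun hlt =>
        (Ideal.IsIntegral.comap_lt_comap (R := V) hlt).ne (hQp'.trans hQp.symm)).symm
  have he : M.comap B₀.val.toRingHom = M₀.comap B₀.val.toRingHom := by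
    rw [← hQB, ← hQB', hQQ]
  exact hM.eq_of_le hM₀.ne_top (hle M M₀ hM hM₀ he)

end Valuation

end Groth.Agent.Hens
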