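import Mathlib.RingTheory.Flat.Basic
import Mathlib.RingTheory.LocalRing.Basic
import Mathlib.RingTheory.Noetherian.Basic
import Mathlib.RingTheory.Finiteness.Ideal
import Mathlib.RingTheory.IntegralClosure.IntegrallyClosed
import Mathlib.RingTheory.Polynomial.ScaleRoots
import Mathlib.RingTheory.Nilpotent.Basic
import Mathlib.LinearAlgebra.TensorProduct.Pi
import Mathlib.LinearAlgebra.TensorProduct.RightExactness

/-!
Flat algebras over normal local domains: divisibility is detected on the punctured spectrum
-/

set_option autoImplicit false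
set_option linter.style.haveILetI false

universe u

open IsLocalRing TensorProduct Polynomial

namespace Groth.Agent.Hens.FlatClosed

variable {R : Type u} [CommRing R] [IsDomain R] [IsLocalRing R] [IsNoetherianRing R] [IsIntegrallyClosed R]

theorem dvd_of_maximalIdeal_mul (hnp : ¬ (maximalIdeal R).IsPrincipal) {a y : R} (ha : a ≠ 0)
    (h : ∀ m ∈ maximalIdeal R, a ∣ m * y) : a ∣ y := by
  classical
  by_cases hm : ∀ m ∈ maximalIdeal R, ∃ m' ∈ maximalIdeal R, m * y = a * m'
  · let K := FractionRing R
    let N : Submodule R K := Submodule.map (Algebra.linearMap R K) (maximalIdeal R)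
    have hN : N ≠ ⊥ := fun hN => by
      apply hnp
      have : maximalIdeal R = ⊥ := by
        rw [eq_bot_iff]
        intro m hm'
        have h0 : algebraMap R K m = 0 := (Submodule.mem_bot R).1 (hN ▸ Submodule.mem_map_of_mem hm' : _)
        exact (map_eq_zero_iff _ (IsFractionRing.injective R K)).1 h0
      rw [this]
      exact bot_isPrincipal
    have hz : IsIntegral R (algebraMap R K y / algebraMap R K a) := by
      refine isIntegral_of_smul_mem_submodule N hN ((IsNoetherian.noetherian _).map _) _ ?_
      rintro _ ⟨m, hm', rfl⟩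
      obtain ⟨m', hm'', he⟩ := hm m hm'
      refine ⟨m', hm'', ?_⟩
      have ha' : algebraMap R K a ≠ 0 := (map_ne_zero_iff _ (IsFractionRing.injective R K)).2 ha
      rw [Algebra.linearMap_apply, Algebra.linearMap_apply, smul_eq_mul, div_mul_eq_mul_div, eq_div_iff ha',
        ← map_mul, ← map_mul, mul_comm m' a, ← he, mul_comm m y]
    obtain ⟨r, hr⟩ := IsIntegrallyClosed.algebraMap_eq_of_integral hz
    refine ⟨r, IsFractionRing.injective R K ?_⟩
    rw [map_mul, hr, mul_div_cancel₀ _ ((map_ne_zero_iff _ (IsFractionRing.injective R K)).2 ha)]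
  push Not at hm
  obtain ⟨m₀, hm₀, hne⟩ := hm
  obtain ⟨u, hu⟩ := h m₀ hm₀
  have huU : IsUnit u := by
    by_contra hu'
    exact hne u ((mem_maximalIdeal u).2 hu') hu
  refine absurd ⟨⟨m₀, le_antisymm (fun m hm' => ?_) ?_⟩⟩ hnp
  · obtain ⟨r, hr⟩ := h m hm'
    rw [Submodule.mem_span_singleton]
    obtain ⟨v, hv⟩ := huU.exists_right_inv
    refine ⟨r * v, ?_⟩
    have h2 : a * (m * u) = a * (r * m₀) := by
      linear_combination (m₀ : R) * hr - m * hu
    have h3 := mul_left_cancel₀ ha h2
    rw [smul_eq_mul]
    linear_combination (-v) * h3 + m * hv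
  · rw [Submodule.span_singleton_le_iff_mem]; exact hm₀

theorem dvd_of_pow_mul (hnp : ¬ (maximalIdeal R).IsPrincipal) {a : R} (ha : a ≠ 0) (M : ℕ) :
    ∀ y : R, (∀ m ∈ maximalIdeal R ^ M, a ∣ m * y) → a ∣ y := by
  induction M with
  | zero => intro y h; simpa using h 1 (by simp)
  | succ M ih =>
    intro y h
    refine dvd_of_maximalIdeal_mul hnp ha fun m hm => ih (m * y) fun n hn => ?_
    rw [← mul_assoc]
    exact h _ (by rw [pow_succ]; exact Ideal.mul_mem_mul hn hm)

variable {C : Type u} [CommRing C] [Algebra R C] [Module.Flat R C]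

theorem dvd_of_radical (hnp : ¬ (maximalIdeal R).IsPrincipal) {a : R} (ha : a ≠ 0) {x : C}
    (h : maximalIdeal R ≤ (((Ideal.span {algebraMap R C a}).colon ({x} : Set C)).comap (algebraMap R C)).radical) :
    algebraMap R C a ∣ x := by
  classical
  obtain ⟨M, hM⟩ := Ideal.exists_pow_le_of_le_radical_of_fg_radical h (IsNoetherian.noetherian _)
  obtain ⟨F, hF⟩ := (IsNoetherian.noetherian (maximalIdeal R ^ M) : (maximalIdeal R ^ M).FG)
  let Q := R ⧸ Ideal.span {a}
  let ψ : Q →ₗ[R] (↥F → Q) := LinearMap.pi fun g => LinearMap.lsmul R Q (g : R)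
  have hψ : Function.Injective ψ := by
    rw [injective_iff_map_eq_zero]
    intro q hq
    obtain ⟨y, rfl⟩ := Ideal.Quotient.mk_surjective q
    rw [Ideal.Quotient.eq_zero_iff_mem, Ideal.mem_span_singleton]
    refine dvd_of_pow_mul hnp ha M y fun m hm => ?_
    rw [← hF] at hm
    induction hm using Submodule.span_induction with
    | mem g hg =>
      have h1 := congrFun hq ⟨g, hg⟩
      simp only [ψ, LinearMap.pi_apply, LinearMap.lsmul_apply, Pi.zero_apply] at h1
      rw [← Ideal.mem_span_singleton, ← Ideal.Quotient.eq_zero_iff_mem, ← h1]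
      rfl
    | zero => simp
    | add g g' _ _ hg hg' => rw [add_mul]; exact dvd_add hg hg'
    | smul r g _ hg => rw [smul_eq_mul, mul_assoc]; exact hg.mul_left r
  have h1 : x ⊗ₜ[R] (1 : Q) = 0 := by
    apply Module.Flat.lTensor_preserves_injective_linearMap (M := C) ψ hψ
    rw [map_zero, LinearMap.lTensor_tmul]
    refine (TensorProduct.piRight R R C fun _ : ↥F => Q).injective (funext fun g => ?_)
    rw [map_zero, Pi.zero_apply, TensorProduct.piRight_apply]
    simp only [TensorProduct.piRightHom_tmul, ψ, LinearMap.pi_apply, LinearMap.lsmul_apply]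
    have hg : (g : R) ∈ maximalIdeal R ^ M := hF ▸ Submodule.subset_span g.2
    obtain ⟨c, hc⟩ := Ideal.mem_span_singleton.1 (Submodule.mem_colon_singleton.1 (hM hg))
    rw [smul_eq_mul] at hc
    rw [← TensorProduct.smul_tmul, Algebra.smul_def, hc, ← Algebra.smul_def, TensorProduct.smul_tmul,
      show a • (1 : Q) = 0 from ?_, tmul_zero]
    rw [Algebra.smul_def, mul_one]
    exact Ideal.Quotient.eq_zero_iff_mem.2 (Ideal.mem_span_singleton_self a)
  have h2 : Function.Exact (LinearMap.toSpanSingleton R R a) (Ideal.span {a}).mkQ := by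
    rw [LinearMap.exact_iff, Submodule.ker_mkQ]
    exact LinearMap.span_singleton_eq_range R R a
  obtain ⟨z, hz⟩ := ((lTensor_exact C h2 (Submodule.mkQ_surjective _)) (x ⊗ₜ 1)).1 h1
  refine ⟨TensorProduct.rid R C z, ?_⟩
  have h3 : ∀ z : C ⊗[R] R, TensorProduct.rid R C ((LinearMap.toSpanSingleton R R a).lTensor C z) =
      algebraMap R C a * TensorProduct.rid R C z := by
    intro z
    induction z using TensorProduct.induction_on with
    | zero => simp
    | tmul c r =>
      simp only [LinearMap.lTensor_tmul, LinearMap.toSpanSingleton_apply, TensorProduct.rid_tmul,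
        smul_eq_mul, Algebra.smul_def, map_mul]
      ring
    | add p q hp hq => rw [map_add, map_add, hp, hq, map_add, mul_add]
  rw [← h3, hz, TensorProduct.rid_tmul, one_smul]

/-- An element of the punctured closure which is integral is divisible. -/
theorem dvd_of_integral {a : R} (ha : a ≠ 0) {x : C}
    (h : maximalIdeal R ≤ (((Ideal.span {algebraMap R C a}).colon ({x} : Set C)).comap (algebraMap R C)).radical)
    (hred : IsReduced (C ⧸ (maximalIdeal R).map (algebraMap R C)))
    (p : C[X]) (hp : p.Monic) (hx : (p.scaleRoots (algebraMap R C a)).eval x = 0) :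
    algebraMap R C a ∣ x := by
  classical
  by_cases hnp : (maximalIdeal R).IsPrincipal
  · obtain ⟨t, ht⟩ := hnp
    by_cases ht0 : t = 0
    · have : IsUnit a := by
        by_contra hu
        have hmem : a ∈ maximalIdeal R := (mem_maximalIdeal a).2 hu
        rw [ht, ht0] at hmem
        exact ha (by simpa using hmem)
      exact (this.map (algebraMap R C)).dvd
    have htC : ∀ z : C, algebraMap R C t * z = 0 → z = 0 := fun z hz => by
      have := Module.Flat.lTensor_preserves_injective_linearMap (M := C) (LinearMap.toSpanSingleton R R t)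
        (fun r s hrs => mul_right_cancel₀ ht0 hrs)
      have h0 : (LinearMap.toSpanSingleton R R t).lTensor C (z ⊗ₜ 1) = 0 := by
        rw [LinearMap.lTensor_tmul, LinearMap.toSpanSingleton_apply, one_smul, ← mul_one t, ← smul_eq_mul,
          ← TensorProduct.smul_tmul, Algebra.smul_def, hz, zero_tmul]
      have := congrArg (TensorProduct.rid R C) (this (h0.trans (map_zero _).symm))
      simpa using this
    -- write a as a unit times a power of t
    have hirr : maximalIdeal R = Ideal.span {t} := ht
    obtain ⟨k, v, hv⟩ : ∃ (k : ℕ) (v : Rˣ), a = v * t ^ k := by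
      obtain ⟨k, v, hv⟩ : ∃ (k : ℕ) (v : R), a = v * t ^ k ∧ ¬ t ∣ v := by
        have htu : ¬ IsUnit t := fun hu => (maximalIdeal.isMaximal R).ne_top
          (hirr.trans (Ideal.span_singleton_eq_top.2 hu))
        obtain ⟨k, v, hv, he⟩ := WfDvdMonoid.max_power_factor ha (irreducible_of_span_eq ht0 htu hirr)
        exact ⟨k, v, by rw [he, mul_comm], hv⟩
      have hvu : IsUnit v := by
        by_contra hu
        have hmem : v ∈ maximalIdeal R := (mem_maximalIdeal v).2 hu
        rw [hirr, Ideal.mem_span_singleton] at hmem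
        exact hv.2 hmem
      exact ⟨k, hvu.unit, hv.1⟩
    have key : ∀ (k : ℕ) (x : C) (p : C[X]), p.Monic → (p.scaleRoots (algebraMap R C t ^ k)).eval x = 0 →
        algebraMap R C t ^ k ∣ x := by
      intro k
      induction k with
      | zero => intro x p _ _; simp
      | succ k ih =>
        intro x p hp hx
        have hpow : x ^ p.natDegree ∈ (maximalIdeal R).map (algebraMap R C) := by
          rw [hirr, Ideal.map_span, Set.image_singleton, Ideal.mem_span_singleton]
          rw [Polynomial.eval_eq_sum_range, Polynomial.natDegree_scaleRoots, Finset.sum_range_succ,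
            Polynomial.coeff_scaleRoots_natDegree, hp.leadingCoeff, one_mul] at hx
          rw [eq_neg_of_add_eq_zero_right hx, dvd_neg]
          refine Finset.dvd_sum fun i hi => Dvd.dvd.mul_right ?_ _
          rw [Polynomial.coeff_scaleRoots, ← pow_mul]
          exact (dvd_pow_self _ (Nat.mul_ne_zero (Nat.succ_ne_zero k)
            (Nat.sub_ne_zero_of_lt (Finset.mem_range.1 hi)))).mul_left _
        have hxm : x ∈ (maximalIdeal R).map (algebraMap R C) := by
          rw [← Ideal.Quotient.eq_zero_iff_mem] at hpow ⊢
          rw [map_pow] at hpow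
          exact eq_zero_of_pow_eq_zero hpow
        rw [hirr, Ideal.map_span, Set.image_singleton, Ideal.mem_span_singleton] at hxm
        obtain ⟨x', rfl⟩ := hxm
        have hs : p.scaleRoots (algebraMap R C t ^ (k + 1)) = (p.scaleRoots (algebraMap R C t ^ k)).scaleRoots (algebraMap R C t) := by
          rw [pow_succ, Polynomial.scaleRoots_mul]
        rw [hs, Polynomial.scaleRoots_eval_mul] at hx
        have hcan : ∀ (n : ℕ) (z : C), algebraMap R C t ^ n * z = 0 → z = 0 := by
          intro n
          induction n with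
          | zero => intro z hz; simpa using hz
          | succ n ihn => intro z hz; rw [pow_succ, mul_assoc] at hz; exact htC z (ihn _ hz)
        obtain ⟨w, rfl⟩ := ih x' p hp (hcan _ _ hx)
        exact ⟨w, by rw [pow_succ]; ring⟩
    have hva : algebraMap R C a = algebraMap R C t ^ k * algebraMap R C v := by
      rw [hv, map_mul, map_pow, mul_comm]
    rw [hva, Polynomial.scaleRoots_mul] at hx
    rw [hva, IsUnit.mul_right_dvd (v.isUnit.map (algebraMap R C))]
    obtain ⟨v', hv'⟩ := (v.isUnit.map (algebraMap R C)).exists_right_inv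
    have hxx : x = algebraMap R C v * (v' * x) := by rw [← mul_assoc, hv', one_mul]
    rw [hxx, Polynomial.scaleRoots_eval_mul] at hx
    have h5 := key k (v' * x) p hp (((v.isUnit.map (algebraMap R C)).pow _).mul_right_eq_zero.1 hx)
    rw [hxx]
    exact h5.mul_left _
  · exact dvd_of_radical hnp ha h
where
  irreducible_of_span_eq {t : R} (ht0 : t ≠ 0) (htu : ¬ IsUnit t) (hirr : maximalIdeal R = Ideal.span {t}) :
      Irreducible t := by
    refine ((Ideal.span_singleton_prime ht0).1 ?_).irreducible
    rw [← hirr]
    exact (maximalIdeal.isMaximal R).isPrime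

end Groth.Agent.Hens.FlatClosed
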