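import Groth.Agent.FormalFun.Finite
import Groth.Agent.ProperFin.Supp
import Groth.Agent.ProperFin.Descend
import Groth.Agent.Props.AffineCritFT
import Groth.Agent.Hensel.Pair
import Mathlib.AlgebraicGeometry.AffineScheme

/-!
# Clopen subsets of `V(I)` as compatible systems of idempotent sections of `O/I^n O`
-/

set_option autoImplicit false
set_option linter.style.haveILetI false
set_option backward.isDefEq.respectTransparency.types false

universe u

open CategoryTheory CategoryTheory.Limits AlgebraicGeometry Opposite TopologicalSpace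

noncomputable section

namespace Groth.Agent.Hens.FormalIdem

variable {A : Type u} [CommRing A] {X : Scheme.{u}} [X.Over (Spec (CommRingCat.of A))]
variable (I : Ideal A)

local notation "O" => Coh.structureModule X

/-- The points lying over `V(I)`. -/
def Z : Set X := {x | (X ↘ Spec (CommRingCat.of A)) x ∈ PrimeSpectrum.zeroLocus (I : Set A)}

/-- The structure map to sections over an open. -/
abbrev γ (W : X.Opens) : A →+* Γ(X, W) := FormalFun.gA (A := A) W

theorem mem_basicOpen_toGlobal (a : A) (x : X) :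
    x ∈ X.basicOpen (show Γ(X, ⊤) from Coh.toGlobal (X ↘ Spec (CommRingCat.of A)) a) ↔
      a ∉ ((X ↘ Spec (CommRingCat.of A)) x).asIdeal := by
  show x ∈ X.basicOpen ((X ↘ Spec (CommRingCat.of A)).appTop
    ((Scheme.ΓSpecIso (CommRingCat.of A)).inv a)) ↔ _
  rw [← Scheme.preimage_basicOpen_top]
  show (X ↘ Spec (CommRingCat.of A)) x ∈ (Spec (CommRingCat.of A)).basicOpen _ ↔ _
  rw [basicOpen_eq_of_affine]
  exact Iff.rfl

theorem mem_Z_iff (x : X) : x ∈ Z I ↔ ∀ a ∈ I,
    x ∉ X.basicOpen (show Γ(X, ⊤) from Coh.toGlobal (X ↘ Spec (CommRingCat.of A)) a) := by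
  simp only [Z, Set.mem_setOf_eq, PrimeSpectrum.mem_zeroLocus, mem_basicOpen_toGlobal, not_not]
  exact Iff.rfl

theorem mem_basicOpen_γ (W : X.Opens) (a : A) {x : X} (hx : x ∈ W) :
    x ∈ X.basicOpen (γ W a) ↔
      x ∈ X.basicOpen (show Γ(X, ⊤) from Coh.toGlobal (X ↘ Spec (CommRingCat.of A)) a) := by
  show x ∈ X.basicOpen (X.presheaf.map (homOfLE (le_top (a := W))).op _) ↔ _
  rw [Scheme.basicOpen_res]
  exact ⟨fun h => h.2, fun h => ⟨hx, h⟩⟩

theorem res_γ {W W' : X.Opens} (h : W' ≤ W) (a : A) :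
    X.presheaf.map (homOfLE h).op (γ W a) = γ W' a :=
  Coh.resTop_comp (op W) (op W') (homOfLE h).op _

/-- The ideal generated by `I^(n+1)` on sections. -/
abbrev J (n : ℕ) (W : X.Opens) : Ideal Γ(X, W) := (I ^ (n + 1)).map (γ W)

section Affine

variable {W : X.Opens} (hW : IsAffineOpen W)

theorem mem_basicOpen_fromSpec (r : Γ(X, W)) (P : PrimeSpectrum Γ(X, W)) :
    hW.fromSpec P ∈ X.basicOpen r ↔ r ∉ P.asIdeal := by
  show P ∈ hW.fromSpec ⁻¹ᵁ X.basicOpen r ↔ _
  rw [hW.fromSpec_preimage_basicOpen]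
  exact Iff.rfl

theorem fromSpec_mem (P : PrimeSpectrum Γ(X, W)) : hW.fromSpec P ∈ W := by
  rw [← SetLike.mem_coe, ← hW.range_fromSpec]; exact ⟨P, rfl⟩

theorem exists_fromSpec_eq {x : X} (hx : x ∈ W) : ∃ P : PrimeSpectrum Γ(X, W), hW.fromSpec P = x := by
  rw [← SetLike.mem_coe, ← hW.range_fromSpec] at hx; exact hx

theorem fromSpec_mem_Z_iff (P : PrimeSpectrum Γ(X, W)) (n : ℕ) :
    hW.fromSpec P ∈ Z I ↔ J I n W ≤ P.asIdeal := by
  rw [mem_Z_iff]
  constructor
  · intro h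
    rw [Ideal.map_le_iff_le_comap]
    refine le_trans (Ideal.pow_le_self (Nat.succ_ne_zero n)) fun a ha => ?_
    by_contra hna
    exact h a ha ((mem_basicOpen_γ W a (fromSpec_mem hW P)).1 ((mem_basicOpen_fromSpec hW _ P).2 hna))
  · intro h a ha hx
    refine (mem_basicOpen_fromSpec hW _ P).1 ((mem_basicOpen_γ W a (fromSpec_mem hW P)).2 hx) ?_
    refine P.isPrime.mem_of_pow_mem (n + 1) ?_
    rw [← map_pow]
    exact h (Ideal.mem_map_of_mem _ (Ideal.pow_mem_pow ha (n + 1)))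

end Affine

/-- Reading a function as a section of the structure module. -/
abbrev toO {W : X.Opens} (r : Γ(X, W)) : Γ(Coh.structureModule X, W) := r

/-- Reduction of a function modulo `I^(n+1)`. -/
def π (n : ℕ) (W : X.Opens) : Γ(X, W) →+ Γ(Formal.modPow I (n + 1) O, W) where
  toFun r := (Formal.modPowπ I (n + 1) O).app W (toO r)
  map_zero' := map_zero _
  map_add' r s := map_add _ (toO r) (toO s)

theorem π_eq_zero {n : ℕ} {W : X.Opens} {r : Γ(X, W)} (hr : r ∈ J I n W) : π I n W r = 0 := by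
  suffices h : ∀ y : Γ(X, W), π I n W (r * y) = 0 by simpa using h 1
  refine Submodule.span_induction ?_ ?_ ?_ ?_ hr
  · rintro _ ⟨a, ha, rfl⟩ y
    show (Formal.smulMod A O a ≫ cokernel.π (Formal.smulFamily (I ^ (n + 1)) O)).app W (toO y) = 0
    rw [FormalFun.smulMod_comp_π O ha]
    rfl
  · intro y; rw [zero_mul, map_zero]
  · intro a b _ _ ha hb y; rw [add_mul, map_add, ha, hb, add_zero]
  · intro c a _ ha y; rw [smul_eq_mul, mul_comm c a, mul_assoc]; exact ha _

theorem mem_J_of_π_eq_zero [IsNoetherianRing A] {n : ℕ} {W : X.Opens} (hW : IsAffineOpen W)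
    {r : Γ(X, W)} (hr : π I n W r = 0) : r ∈ J I n W := by
  classical
  obtain ⟨s, b, hb⟩ := Submodule.fg_iff_exists_fin_generating_family.mp (IsNoetherian.noetherian (I ^ (n + 1)))
  let c : ULift.{u} (Fin s) → A := fun q => b q.down
  have hc : I ^ (n + 1) = Ideal.span (Set.range c) := by
    rw [show c = b ∘ Equiv.ulift from rfl, EquivLike.range_comp]; exact hb.symm
  haveI : (Coh.structureModule X).IsQuasicoherent := ProjTwist.isQuasicoherent_structureModule X
  obtain ⟨y, hy⟩ := (FormalFun.ker_iff c O hc hW (toO r)).1 hr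
  rw [show r = ∑ k, γ W (c k) * (show Γ(X, W) from y k) from hy]
  exact Ideal.sum_mem _ fun k _ => Ideal.mul_mem_right _ _
    (Ideal.mem_map_of_mem _ (hc.symm ▸ Ideal.subset_span ⟨k, rfl⟩))

theorem π_res {n : ℕ} {W W' : X.Opens} (h : W' ≤ W) (r : Γ(X, W)) :
    (Formal.modPow I (n + 1) O).presheaf.map (homOfLE h).op (π I n W r) =
      π I n W' (X.presheaf.map (homOfLE h).op r) :=
  (NatTrans.naturality_apply (Formal.modPowπ I (n + 1) O).mapPresheaf (homOfLE h).op (toO r)).symm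

theorem π_trans {n : ℕ} {W : X.Opens} (r : Γ(X, W)) :
    (Formal.modPowTrans I (n + 1) O).app W (π I (n + 1) W r) = π I n W r := by
  show (Formal.modPowπ I (n + 1 + 1) O ≫ Formal.modPowTrans I (n + 1) O).app W (toO r) = _
  rw [Formal.modPowπ_trans]
  rfl

variable (V : Set X)

/-- A section of `O/I^(n+1)O` which is, locally, the idempotent of `V`. -/
def Good (n : ℕ) (W : X.Opens) (s : Γ(Formal.modPow I (n + 1) O, W)) : Prop :=
  ∃ r : Γ(X, W), r * r - r ∈ J I n W ∧
    (∀ x ∈ W, x ∈ Z I → (x ∈ X.basicOpen r ↔ x ∈ V)) ∧ π I n W r = s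

theorem good_res {n : ℕ} {W W' : X.Opens} (h : W' ≤ W) {s : Γ(Formal.modPow I (n + 1) O, W)}
    (hs : Good I V n W s) :
    Good I V n W' ((Formal.modPow I (n + 1) O).presheaf.map (homOfLE h).op s) := by
  obtain ⟨r, hr, hrV, rfl⟩ := hs
  refine ⟨X.presheaf.map (homOfLE h).op r, ?_, fun x hx hxZ => ?_, (π_res I h r).symm⟩
  · rw [← map_mul, ← map_sub]
    have : (J I n W).map (X.presheaf.map (homOfLE h).op).hom = J I n W' := by
      rw [Ideal.map_map]
      congr 1
      ext a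
      exact res_γ h a
    rw [← this]
    exact Ideal.mem_map_of_mem _ hr
  · rw [Scheme.basicOpen_res]
    exact ⟨fun h' => (hrV x (h hx) hxZ).1 h'.2, fun h' => ⟨hx, (hrV x (h hx) hxZ).2 h'⟩⟩

theorem good_trans {n : ℕ} {W : X.Opens} {s : Γ(Formal.modPow I (n + 1 + 1) O, W)}
    (hs : Good I V (n + 1) W s) : Good I V n W ((Formal.modPowTrans I (n + 1) O).app W s) := by
  obtain ⟨r, hr, hrV, rfl⟩ := hs
  exact ⟨r, Ideal.map_mono (Ideal.pow_le_pow_right (Nat.le_succ _)) hr, hrV, (π_trans I r).symm⟩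

theorem good_unique {n : ℕ} {W : X.Opens} (hW : IsAffineOpen W)
    {s s' : Γ(Formal.modPow I (n + 1) O, W)} (hs : Good I V n W s) (hs' : Good I V n W s') : s = s' := by
  obtain ⟨r, hr, hrV, rfl⟩ := hs
  obtain ⟨r', hr', hrV', rfl⟩ := hs'
  rw [← sub_eq_zero, ← map_sub]
  refine π_eq_zero I ?_
  rw [← Ideal.Quotient.eq]
  let q := Ideal.Quotient.mk (J I n W)
  refine PrimeSpectrum.basicOpen_injOn_isIdempotentElem
    (show IsIdempotentElem (q r) by rw [IsIdempotentElem, ← map_mul]; exact Ideal.Quotient.eq.2 hr)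
    (show IsIdempotentElem (q r') by rw [IsIdempotentElem, ← map_mul]; exact Ideal.Quotient.eq.2 hr') ?_
  ext P
  let P' : PrimeSpectrum Γ(X, W) := PrimeSpectrum.comap q P
  have hP' : hW.fromSpec P' ∈ Z I := (fromSpec_mem_Z_iff I hW P' n).2 fun z hz => by
    show q z ∈ P.asIdeal
    rw [Ideal.Quotient.eq_zero_iff_mem.2 hz]; exact P.asIdeal.zero_mem
  show q r ∉ P.asIdeal ↔ q r' ∉ P.asIdeal
  exact ((mem_basicOpen_fromSpec hW r P').symm.trans (hrV _ (fromSpec_mem hW P') hP')).trans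
    (((mem_basicOpen_fromSpec hW r' P').symm.trans (hrV' _ (fromSpec_mem hW P') hP')).symm)

variable {V}

theorem exists_good {n : ℕ} {W : X.Opens} (hW : IsAffineOpen W)
    (hV : IsClopen (Subtype.val ⁻¹' V : Set (Z (X := X) I))) :
    ∃ s, Good I V n W s := by
  let R := Γ(X, W)
  let q := Ideal.Quotient.mk (J I n W)
  have hmem : ∀ P : PrimeSpectrum (R ⧸ J I n W), hW.fromSpec (PrimeSpectrum.comap q P) ∈ Z I :=
    fun P => (fromSpec_mem_Z_iff I hW _ n).2 fun z hz => by
      show q z ∈ P.asIdeal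
      rw [Ideal.Quotient.eq_zero_iff_mem.2 hz]; exact P.asIdeal.zero_mem
  let j : PrimeSpectrum (R ⧸ J I n W) → Z (X := X) I :=
    fun P => ⟨hW.fromSpec (PrimeSpectrum.comap q P), hmem P⟩
  have hj : Continuous j :=
    (hW.fromSpec.continuous.comp (PrimeSpectrum.continuous_comap q)).subtype_mk _
  obtain ⟨e, he, hCe⟩ := PrimeSpectrum.isClopen_iff.1 (hV.preimage hj)
  obtain ⟨r, rfl⟩ := Ideal.Quotient.mk_surjective e
  refine ⟨_, r, Ideal.Quotient.eq.1 (by rw [map_mul]; exact he), fun x hx hxZ => ?_, rfl⟩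
  obtain ⟨P, rfl⟩ := exists_fromSpec_eq hW hx
  obtain ⟨P', rfl⟩ : P ∈ Set.range (PrimeSpectrum.comap q) := by
    rw [range_comap_of_surjective _ _ Ideal.Quotient.mk_surjective, Ideal.mk_ker,
      PrimeSpectrum.mem_zeroLocus, SetLike.coe_subset_coe]
    exact (fromSpec_mem_Z_iff I hW P n).1 hxZ
  rw [mem_basicOpen_fromSpec]
  exact (Set.ext_iff.1 hCe P').symm

theorem exists_global (hV : IsClopen (Subtype.val ⁻¹' V : Set (Z (X := X) I))) (n : ℕ) :
    ∃ s : Γ(Formal.modPow I (n + 1) O, ⊤), ∀ W : X.affineOpens,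
      Good I V n W.1 ((Formal.modPow I (n + 1) O).presheaf.map (homOfLE le_top).op s) := by
  let F : TopCat.Sheaf Ab.{u} X := ⟨(Formal.modPow I (n + 1) O).presheaf, (Formal.modPow I (n + 1) O).isSheaf⟩
  choose t ht using fun W : X.affineOpens => exists_good I (n := n) W.2 hV
  have hcov : (⊤ : X.Opens) ≤ iSup fun W : X.affineOpens => W.1 := fun x _ => by
    obtain ⟨W, hW, hxW, -⟩ := exists_isAffineOpen_mem_and_subset (X := X) (Opens.mem_top x)
    exact Opens.mem_iSup.2 ⟨⟨W, hW⟩, hxW⟩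
  have hcompat : TopCat.Presheaf.IsCompatible F.obj (fun W : X.affineOpens => W.1) t := by
    intro W W'
    have hcov' : W.1 ⊓ W'.1 ≤ iSup fun U : {U : X.affineOpens // U.1 ≤ W.1 ⊓ W'.1} => U.1.1 := fun x hx => by
      obtain ⟨U, hU, hxU, hUle⟩ := exists_isAffineOpen_mem_and_subset (X := X) hx
      exact Opens.mem_iSup.2 ⟨⟨⟨U, hU⟩, hUle⟩, hxU⟩
    refine F.eq_of_locally_eq' (fun U : {U : X.affineOpens // U.1 ≤ W.1 ⊓ W'.1} => U.1.1) _
      (fun U => homOfLE U.2) hcov' _ _ fun U => ?_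
    show ((F.obj.map _ ≫ F.obj.map _) : _ ⟶ _) (t W) = ((F.obj.map _ ≫ F.obj.map _) : _ ⟶ _) (t W')
    rw [← F.obj.map_comp, ← F.obj.map_comp]
    exact good_unique I V U.1.2 (good_res I V (U.2.trans inf_le_left) (ht W))
      (good_res I V (U.2.trans inf_le_right) (ht W'))
  obtain ⟨s, hs, -⟩ := F.existsUnique_gluing' (fun W : X.affineOpens => W.1) ⊤
    (fun W => homOfLE le_top) hcov t hcompat
  exact ⟨s, fun W => by rw [show _ = t W from hs W]; exact ht W⟩

theorem exists_almost_idempotent [IsNoetherianRing A] [IsProper (X ↘ Spec (CommRingCat.of A))]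
    (hV : IsClopen (Subtype.val ⁻¹' V : Set (Z (X := X) I))) :
    ∃ b : Γ(X, ⊤),
      b * b - b ∈ I.map (show A →+* Γ(X, ⊤) from Coh.toGlobal (X ↘ Spec (CommRingCat.of A))) ∧
      ∀ x ∈ Z I, (x ∈ X.basicOpen b ↔ x ∈ V) := by
  haveI := FormalFun.isLocallyNoetherian_of_proper A X
  haveI := FormalFun.compactSpace_of_proper A X
  have hfin := FormalFun.finiteCoh_of_proper A X
  have hM : Coh.IsCoh (Coh.structureModule X) := ProperFin.isCoh_structureModule X
  obtain ⟨c, hc⟩ := FormalFun.kernels_adically_small I hfin hM 0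
  choose s hs using fun n => exists_global I hV n
  have hstr : ∀ n, (Formal.modPowTrans I (n + 1) O).app ⊤ (s (n + 1)) = s n := by
    intro n
    let F : TopCat.Sheaf Ab.{u} X := ⟨(Formal.modPow I (n + 1) O).presheaf, (Formal.modPow I (n + 1) O).isSheaf⟩
    refine F.eq_of_locally_eq' (fun W : X.affineOpens => W.1) ⊤ (fun W => homOfLE le_top)
      (fun x _ => by
        obtain ⟨W, hW, hxW, -⟩ := exists_isAffineOpen_mem_and_subset (X := X) (Opens.mem_top x)
        exact Opens.mem_iSup.2 ⟨⟨W, hW⟩, hxW⟩) _ _ fun W => ?_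
    refine Eq.trans ((NatTrans.naturality_apply (Formal.modPowTrans I (n + 1) O).mapPresheaf
      (homOfLE le_top).op (s (n + 1))).symm) ?_
    exact good_unique I V W.2 (good_trans I V (hs (n + 1) W)) (hs n W)
  let x : Formal.HHlim I O 0 := ⟨fun n => (ProperFin.h0Sec _).symm (s n), fun n =>
    (ProperFin.h0Sec _).injective (by
      rw [AddEquiv.apply_symm_apply]
      refine (ProperFin.h0Sec_hMap _ _).trans ?_
      rw [AddEquiv.apply_symm_apply]
      exact hstr n)⟩
  obtain ⟨z, hz⟩ := (FormalFun.complMap_bijective I 0 hfin hM).2 x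
  obtain ⟨y, hy⟩ := Submodule.Quotient.mk_surjective _ (z.val (c + 1 + 1))
  let b : Γ(X, ⊤) := ProperFin.h0Sec O y
  have hb : π I (c + 1) ⊤ b = s (c + 1) := by
    have h1 : Formal.toHHmodPow I O 0 (c + 1) y = (ProperFin.h0Sec _).symm (s (c + 1)) := by
      rw [← FormalFun.quotMap_mk I O (c + 1) y, hy]
      exact congrArg (fun w : Formal.HHlim I O 0 => w.1 (c + 1)) hz
    refine ((ProperFin.h0Sec_hMap (Formal.modPowπ I (c + 1 + 1) O) y).symm.trans ?_)
    exact (congrArg _ h1).trans (AddEquiv.apply_symm_apply _ _)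
  have hloc : ∀ W : X.affineOpens, ∃ r, r * r - r ∈ J I (c + 1) W.1 ∧
      (∀ x ∈ W.1, x ∈ Z I → (x ∈ X.basicOpen r ↔ x ∈ V)) ∧
      X.presheaf.map (homOfLE (le_top (a := W.1))).op b - r ∈ J I (c + 1) W.1 := by
    intro W
    obtain ⟨r, hr, hrV, hrs⟩ := hs (c + 1) W
    refine ⟨r, hr, hrV, mem_J_of_π_eq_zero I W.2 ?_⟩
    rw [map_sub, hrs, ← π_res, hb, sub_self]
  have hd : b * b - b ∈ I.map (show A →+* Γ(X, ⊤) from Coh.toGlobal (X ↘ Spec (CommRingCat.of A))) := by
    let d := b * b - b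
    have hd0 : π I (c + 1) ⊤ d = 0 := by
      let F : TopCat.Sheaf Ab.{u} X := ⟨(Formal.modPow I (c + 1 + 1) O).presheaf, (Formal.modPow I (c + 1 + 1) O).isSheaf⟩
      refine F.eq_of_locally_eq' (fun W : X.affineOpens => W.1) ⊤ (fun W => homOfLE le_top)
        (fun x _ => by
          obtain ⟨W, hW, hxW, -⟩ := exists_isAffineOpen_mem_and_subset (X := X) (Opens.mem_top x)
          exact Opens.mem_iSup.2 ⟨⟨W, hW⟩, hxW⟩) _ _ fun W => ?_
      refine Eq.trans (π_res I le_top d) (Eq.trans ?_ (map_zero _).symm)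
      refine π_eq_zero I ?_
      obtain ⟨r, hr, -, hbr⟩ := hloc W
      rw [map_sub, map_mul]
      set b' := X.presheaf.map (homOfLE (le_top (a := W.1))).op b
      rw [show b' * b' - b' = (b' - r) * (b' + r - 1) + (r * r - r) by ring]
      exact add_mem (Ideal.mul_mem_right _ _ hbr) hr
    have hker : (ProperFin.h0Sec O).symm (toO d) ∈ (Formal.toHHmodPow I O 0 (c + 1)).ker := by
      rw [AddMonoidHom.mem_ker]
      apply (ProperFin.h0Sec _).injective
      rw [map_zero]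
      refine (ProperFin.h0Sec_hMap (Formal.modPowπ I (c + 1 + 1) O) _).trans ?_
      rw [AddEquiv.apply_symm_apply]
      exact hd0
    have h1 := hc (c + 1) (Nat.le_succ c) hker
    rw [Nat.add_sub_cancel_left, pow_one, SetLike.mem_coe] at h1
    have h2 : ∀ y ∈ (I • ⊤ : Submodule A (Coh.HH X O 0)), (show Γ(X, ⊤) from ProperFin.h0Sec O y) ∈
        I.map (show A →+* Γ(X, ⊤) from Coh.toGlobal (X ↘ Spec (CommRingCat.of A))) := by
      intro y hy
      refine Submodule.smul_induction_on hy (fun a ha w _ => ?_) (fun a b ha hb => ?_)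
      · rw [show a • w = Coh.toGlobal (X ↘ Spec (CommRingCat.of A)) a • w from rfl,
          ProperFin.h0Sec_smul]
        exact Ideal.mul_mem_right _ _ (Ideal.mem_map_of_mem _ ha)
      · rw [map_add]; exact add_mem ha hb
    have h3 := h2 _ h1
    rwa [AddEquiv.apply_symm_apply] at h3
  refine ⟨b, hd, fun x hxZ => ?_⟩
  obtain ⟨W, hW, hxW, -⟩ := exists_isAffineOpen_mem_and_subset (X := X) (Opens.mem_top x)
  obtain ⟨r, -, hrV, hbr⟩ := hloc ⟨W, hW⟩
  rw [← hrV x hxW hxZ]
  obtain ⟨P, rfl⟩ := exists_fromSpec_eq hW hxW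
  have hb' : X.presheaf.map (homOfLE (le_top (a := W))).op b - r ∈ P.asIdeal :=
    (fromSpec_mem_Z_iff I hW P (c + 1)).1 hxZ hbr
  have hres : hW.fromSpec P ∈ X.basicOpen (X.presheaf.map (homOfLE (le_top (a := W))).op b) ↔
      hW.fromSpec P ∈ X.basicOpen b := by
    rw [Scheme.basicOpen_res]
    exact ⟨fun h => h.2, fun h => ⟨fromSpec_mem hW P, h⟩⟩
  rw [← hres, mem_basicOpen_fromSpec, mem_basicOpen_fromSpec]
  exact ⟨fun h hr => h (by simpa using add_mem hb' hr), fun h hb'' => h (by simpa using sub_mem hb'' hb')⟩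

/-- The functions not invertible at a point. -/
def vanIdeal (x : X) : Ideal Γ(X, ⊤) :=
  (IsLocalRing.maximalIdeal (X.presheaf.stalk x)).comap (X.presheaf.germ ⊤ x trivial).hom

omit [X.Over (Spec (CommRingCat.of A))] in
theorem mem_vanIdeal (x : X) (r : Γ(X, ⊤)) : r ∈ vanIdeal x ↔ x ∉ X.basicOpen r :=
  (not_congr (Scheme.mem_basicOpen X r x trivial)).symm

omit [X.Over (Spec (CommRingCat.of A))] in
theorem mem_basicOpen_congr {x : X} {b e : Γ(X, ⊤)} (h : e - b ∈ vanIdeal x) :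
    x ∈ X.basicOpen e ↔ x ∈ X.basicOpen b := by
  rw [← not_iff_not, ← mem_vanIdeal, ← mem_vanIdeal]
  exact ⟨fun he => by simpa using sub_mem he h, fun hb => by simpa using add_mem h hb⟩

theorem map_le_vanIdeal {x : X} (hx : x ∈ Z I) :
    I.map (show A →+* Γ(X, ⊤) from Coh.toGlobal (X ↘ Spec (CommRingCat.of A))) ≤ vanIdeal x :=
  Ideal.map_le_iff_le_comap.2 fun a ha => (mem_vanIdeal x _).2 ((mem_Z_iff I x).1 hx a ha)

theorem exists_idempotent [IsNoetherianRing A] [IsProper (X ↘ Spec (CommRingCat.of A))]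
    (hB : HenselianRing (Γ(X, ⊤) : Type u)
      (I.map (show A →+* Γ(X, ⊤) from Coh.toGlobal (X ↘ Spec (CommRingCat.of A)))))
    (hV : IsClopen (Subtype.val ⁻¹' V : Set (Z (X := X) I))) :
    ∃ e : Γ(X, ⊤), IsIdempotentElem e ∧ ∀ x ∈ Z I, (x ∈ X.basicOpen e ↔ x ∈ V) := by
  obtain ⟨b, hb, hbV⟩ := exists_almost_idempotent I hV
  obtain ⟨e, he, heb⟩ : ∃ e : Γ(X, ⊤), IsIdempotentElem e ∧
      e - b ∈ I.map (show A →+* Γ(X, ⊤) from Coh.toGlobal (X ↘ Spec (CommRingCat.of A))) := by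
    haveI := hB
    have := Hensel.exists_isIdempotentElem_lift' (A := (Γ(X, ⊤) : Type u))
      (I := I.map (show A →+* Γ(X, ⊤) from Coh.toGlobal (X ↘ Spec (CommRingCat.of A))))
      (B := (Γ(X, ⊤) : Type u)) (e := b) (by rw [Algebra.algebraMap_self, Ideal.map_id]; exact hb)
    simpa [Algebra.algebraMap_self] using this
  exact ⟨e, he, fun x hx => (mem_basicOpen_congr (map_le_vanIdeal I hx heb)).trans (hbV x hx)⟩

end Groth.Agent.Hens.FormalIdem
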