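import Mathlib.RingTheory.Henselian
import Mathlib.FieldTheory.IsSepClosed
import Mathlib.FieldTheory.Galois.Infinite
import Mathlib.RingTheory.Polynomial.GaussLemma
import Mathlib.RingTheory.Localization.Integral
import Mathlib.RingTheory.Localization.LocalizationLocalization
import Mathlib.RingTheory.IntegralClosure.IntegrallyClosed

/-! A normal local domain whose maximal ideal has a Galois stable prime over it in the integral
closure in a separable closure is henselian. -/

set_option autoImplicit false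
set_option linter.style.haveILetI false

open IsLocalRing Polynomial

universe u

namespace Groth.Agent.Hens

theorem henselianLocalRing_of_galois_stable {W L Ks : Type u} [CommRing W] [IsDomain W]
    [IsLocalRing W] [IsIntegrallyClosed W] [Field L] [Algebra W L] [IsFractionRing W L]
    [Field Ks] [Algebra L Ks] [IsSepClosed Ks] [Normal L Ks] [Algebra W Ks] [IsScalarTower W L Ks]
    (M : Ideal (integralClosure W Ks)) [M.IsPrime]
    (hM : M.comap (algebraMap W (integralClosure W Ks)) = maximalIdeal W)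
    (hstab : ∀ (σ : Ks ≃ₐ[L] Ks) (x y : integralClosure W Ks),
      x ∈ M → σ (x : Ks) = (y : Ks) → y ∈ M) :
    HenselianLocalRing W := by
  classical
  refine ⟨fun f hf a₀ hfa hfd => ?_⟩
  -- an irreducible monic factor with the same simple root
  have hex : ∃ n, ∃ g : W[X], g.natDegree = n ∧ g.Monic ∧ g ∣ f ∧ g.eval a₀ ∈ maximalIdeal W :=
    ⟨_, f, rfl, hf, dvd_rfl, hfa⟩
  obtain ⟨g, hgn, hg, ⟨h, hgh⟩, hga⟩ := Nat.find_spec hex
  have hgd : IsUnit (g.derivative.eval a₀) := by
    have e : f.derivative.eval a₀ = g.derivative.eval a₀ * h.eval a₀ + g.eval a₀ * h.derivative.eval a₀ := by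
      rw [hgh, derivative_mul, eval_add, eval_mul, eval_mul]
    rw [e] at hfd
    rcases isUnit_or_isUnit_of_isUnit_add hfd with h' | h'
    · exact isUnit_of_mul_isUnit_left h'
    · exact absurd (isUnit_of_mul_isUnit_left h') ((mem_maximalIdeal _).1 hga)
  have hg1 : g ≠ 1 := fun h1 => by
    rw [h1, eval_one] at hga
    exact (maximalIdeal.isMaximal W).ne_top ((Ideal.eq_top_iff_one _).2 hga)
  have hirr : Irreducible g := by
    rw [hg.irreducible_iff_natDegree' ]
    refine ⟨hg1, fun p q hp hq hpq => ?_⟩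
    intro hmem
    rw [Finset.mem_Ioc] at hmem
    have hdeg : g.natDegree = p.natDegree + q.natDegree := by rw [← hpq, hp.natDegree_mul hq]
    rw [← hpq, eval_mul] at hga
    rcases (maximalIdeal.isMaximal W).isPrime.mem_or_mem hga with h' | h'
    · exact Nat.find_min hex (show p.natDegree < Nat.find hex by omega)
        ⟨p, rfl, hp, (Dvd.intro q hpq).trans ⟨h, hgh⟩, h'⟩
    · exact Nat.find_min hex (show q.natDegree < Nat.find hex by omega)
        ⟨q, rfl, hq, (Dvd.intro_left p hpq).trans ⟨h, hgh⟩, h'⟩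
  have hirrL : Irreducible (g.map (algebraMap W L)) :=
    (hg.irreducible_iff_irreducible_map_fraction_map (K := L)).1 hirr
  have hsepL : (g.map (algebraMap W L)).Separable := by
    rw [separable_iff_derivative_ne_zero hirrL, derivative_map, Ne,
      Polynomial.map_eq_zero_iff (IsFractionRing.injective W L)]
    exact fun h0 => not_isUnit_zero (M₀ := W) (by simpa [h0] using hgd)
  have hmapKs : g.map (algebraMap W Ks) = (g.map (algebraMap W L)).map (algebraMap L Ks) := by
    rw [Polynomial.map_map, ← IsScalarTower.algebraMap_eq]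
  have hsplit : (g.map (algebraMap W Ks)).Splits := by
    rw [hmapKs]
    exact IsSepClosed.splits_of_separable _ hsepL.map
  have hmKs : (g.map (algebraMap W Ks)).Monic := hg.map _
  let B := integralClosure W Ks
  have hroot : ∀ r ∈ (g.map (algebraMap W Ks)).roots, r ∈ B := fun r hr =>
    ⟨g, hg, by rw [← eval_map]; exact ((mem_roots hmKs.ne_zero).1 hr)⟩
  let s : Multiset B := (g.map (algebraMap W Ks)).roots.pmap (fun r hr => (⟨r, hr⟩ : B)) hroot
  have hsval : s.map (Subtype.val : B → Ks) = (g.map (algebraMap W Ks)).roots := by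
    show Multiset.map _ (Multiset.pmap _ _ hroot) = _
    rw [Multiset.map_pmap]
    show Multiset.pmap (fun r _ => id r) _ hroot = _
    rw [Multiset.pmap_eq_map, Multiset.map_id]
  have hinj : Function.Injective (algebraMap B Ks) := Subtype.val_injective
  have hprod : g.map (algebraMap W B) = (s.map fun r => X - C r).prod := by
    apply Polynomial.map_injective (algebraMap B Ks) hinj
    rw [Polynomial.map_map, ← IsScalarTower.algebraMap_eq, Polynomial.map_multiset_prod,
      Multiset.map_map]
    have e : (s.map ((Polynomial.map (algebraMap B Ks)) ∘ fun r => X - C r)) =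
        (s.map (Subtype.val : B → Ks)).map fun r => X - C r := by
      rw [Multiset.map_map]
      exact Multiset.map_congr rfl fun r _ => by simp
    rw [e, hsval]
    exact (prod_multiset_X_sub_C_of_monic_of_roots_card_eq hmKs
      hsplit.natDegree_eq_card_roots.symm).symm
  have hcard : Multiset.card s = g.natDegree := by
    show Multiset.card (Multiset.pmap _ _ hroot) = _
    rw [Multiset.card_pmap, ← hsplit.natDegree_eq_card_roots, natDegree_map_eq_of_injective]
    rw [IsScalarTower.algebraMap_eq W L Ks]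
    exact (algebraMap L Ks).injective.comp (IsFractionRing.injective W L)
  let a : B ⧸ M := Ideal.Quotient.mk M (algebraMap W B a₀)
  have hgaM : algebraMap W B (g.eval a₀) ∈ M := by
    have := hM.ge hga; exact this
  obtain ⟨r₁, hr₁, hr₁a⟩ : ∃ r ∈ s, algebraMap W B a₀ - r ∈ M := by
    have e : algebraMap W B (g.eval a₀) = (s.map fun r => algebraMap W B a₀ - r).prod := by
      rw [← eval_map_apply, hprod, eval_multiset_prod, Multiset.map_map]
      simp
    rw [e] at hgaM
    obtain ⟨x, hx, hxM⟩ := (Ideal.IsPrime.multiset_prod_mem_iff_exists_mem ‹_› _).1 hgaM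
    obtain ⟨r, hr, rfl⟩ := Multiset.mem_map.1 hx
    exact ⟨r, hr, hxM⟩
  have hall : ∀ r ∈ s, Ideal.Quotient.mk M r = a := by
    intro r hr
    have hroot' : ∀ t ∈ s, aeval (t : Ks) (g.map (algebraMap W L)) = 0 := by
      intro t ht
      have : (t : Ks) ∈ (g.map (algebraMap W Ks)).roots := hsval ▸ Multiset.mem_map_of_mem _ ht
      rw [aeval_map_algebraMap, aeval_def, ← eval_map]
      exact (mem_roots hmKs.ne_zero).1 this
    have hmin : minpoly L (r : Ks) = minpoly L (r₁ : Ks) :=
      (minpoly.eq_of_irreducible_of_monic hirrL (hroot' r hr) (hg.map _)).symm.trans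
        (minpoly.eq_of_irreducible_of_monic hirrL (hroot' r₁ hr₁) (hg.map _))
    obtain ⟨σ, hσ⟩ := (Normal.minpoly_eq_iff_mem_orbit Ks).1 hmin
    have hσ' : σ (r₁ : Ks) = (r : Ks) := hσ
    refine (Ideal.Quotient.eq.2 (hstab σ _ _ hr₁a ?_)).symm
    show σ (algebraMap W Ks a₀ - (r₁ : Ks)) = algebraMap W Ks a₀ - (r : Ks)
    rw [map_sub, hσ', IsScalarTower.algebraMap_apply W L Ks, AlgEquiv.commutes]
  let π := (Ideal.Quotient.mk M).comp (algebraMap W B)
  have hbar : g.map π = (X - C a) ^ g.natDegree := by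
    rw [← Polynomial.map_map, hprod, Polynomial.map_multiset_prod, Multiset.map_map,
      ← hcard]
    refine (congrArg Multiset.prod (?_ : _ = Multiset.replicate (Multiset.card s) (X - C a))).trans
      (Multiset.prod_replicate _ _)
    rw [← Multiset.map_const']
    exact Multiset.map_congr rfl fun r hr => by simp [hall r hr]
  have hd1 : g.natDegree = 1 := by
    by_contra hne
    have hpos : g.natDegree ≠ 0 := fun h0 => hg1 (hg.natDegree_eq_zero.1 h0)
    have hder : π (g.derivative.eval a₀) = 0 := by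
      rw [← eval_map_apply, ← derivative_map, hbar, derivative_X_sub_C_pow]
      simp [π, a, zero_pow (show g.natDegree - 1 ≠ 0 by omega)]
    have hnu : g.derivative.eval a₀ ∈ maximalIdeal W :=
      hM.le (show algebraMap W B (g.derivative.eval a₀) ∈ M from
        Ideal.Quotient.eq_zero_iff_mem.1 hder)
    exact (mem_maximalIdeal _).1 hnu hgd
  refine ⟨-g.coeff 0, ?_, ?_⟩
  · have e := hg.eq_X_add_C hd1
    rw [IsRoot, hgh, eval_mul, e]
    simp
  · have e := hg.eq_X_add_C hd1
    rw [e] at hga
    simp only [eval_add, eval_X, eval_C] at hga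
    have : -g.coeff 0 - a₀ = -(a₀ + g.coeff 0) := by ring
    rw [this]
    exact neg_mem hga

/-- Global form: a Galois stable prime of the integral closure lies over `Q`. -/
theorem henselianLocalRing_atPrime_of_galois_stable {C L Ks : Type u} [CommRing C] [IsDomain C]
    [IsIntegrallyClosed C] [Field L] [Algebra C L] [IsFractionRing C L]
    [Field Ks] [Algebra L Ks] [IsSepClosed Ks] [Normal L Ks] [Algebra C Ks] [IsScalarTower C L Ks]
    (P : Ideal (integralClosure C Ks)) [P.IsPrime] (Q : Ideal C) [Q.IsPrime]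
    (hP : P.comap (algebraMap C (integralClosure C Ks)) = Q)
    (hstab : ∀ (σ : Ks ≃ₐ[L] Ks) (x y : integralClosure C Ks),
      x ∈ P → σ (x : Ks) = (y : Ks) → y ∈ P) :
    HenselianLocalRing (Localization.AtPrime Q) := by
  classical
  let W := Localization.AtPrime Q
  let φ : W →+* L := IsLocalization.lift (M := Q.primeCompl) (g := algebraMap C L) fun c =>
    isUnit_iff_ne_zero.2 fun h => c.2 (by
      rw [(IsFractionRing.injective C L) (h.trans (map_zero _).symm)]; exact Q.zero_mem)
  letI : Algebra W L := φ.toAlgebra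
  haveI : IsScalarTower C W L := .of_algebraMap_eq fun c => (IsLocalization.lift_eq _ c).symm
  letI : Algebra W Ks := ((algebraMap L Ks).comp φ).toAlgebra
  haveI : IsScalarTower W L Ks := .of_algebraMap_eq fun _ => rfl
  haveI : IsScalarTower C W Ks := .of_algebraMap_eq fun c => by
    show algebraMap C Ks c = algebraMap L Ks (φ (algebraMap C W c))
    rw [IsLocalization.lift_eq, ← IsScalarTower.algebraMap_apply]
  haveI : IsFractionRing W L :=
    IsFractionRing.isFractionRing_of_isDomain_of_isLocalization Q.primeCompl W L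
  haveI : IsIntegrallyClosed W :=
    isIntegrallyClosed_of_isLocalization W Q.primeCompl Q.primeCompl_le_nonZeroDivisors
  let B := integralClosure W Ks
  let B₀ := integralClosure C Ks
  have hscale : ∀ x : B, ∃ s : C, s ∉ Q ∧ IsIntegral C (s • (x : Ks)) := fun x => by
    obtain ⟨⟨s, hs⟩, h⟩ := IsIntegral.exists_multiple_integral_of_isLocalization Q.primeCompl
      (x : Ks) x.2
    exact ⟨s, hs, h⟩
  have hPQ : ∀ s : C, s ∉ Q → algebraMap C B₀ s ∉ P := fun s hs h => hs (hP.le h)
  let M : Ideal B :=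
    { carrier := {x | ∃ s : C, s ∉ Q ∧ ∃ y ∈ P, (y : Ks) = s • (x : Ks)}
      add_mem' := by
        rintro x x' ⟨s, hs, y, hy, hyx⟩ ⟨s', hs', y', hy', hyx'⟩
        refine ⟨s * s', Q.primeCompl.mul_mem hs hs', s' • y + s • y',
          P.add_mem (Submodule.smul_of_tower_mem _ _ hy) (Submodule.smul_of_tower_mem _ _ hy'), ?_⟩
        simp only [Subalgebra.coe_add, SetLike.val_smul, hyx, hyx', smul_add, smul_smul]
        rw [mul_comm s' s]
      zero_mem' := ⟨1, Q.primeCompl.one_mem, 0, P.zero_mem, by simp⟩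
      smul_mem' := by
        rintro z x ⟨s, hs, y, hy, hyx⟩
        obtain ⟨t, ht, hz⟩ := hscale z
        refine ⟨t * s, Q.primeCompl.mul_mem ht hs, (⟨_, hz⟩ : B₀) * y, P.mul_mem_left _ hy, ?_⟩
        simp only [Subalgebra.coe_mul, smul_eq_mul, hyx, smul_mul_assoc, mul_smul_comm, smul_smul]
        rw [mul_comm s t] }
  haveI : M.IsPrime := by
    refine ⟨fun htop => ?_, fun {x x'} hxx => ?_⟩
    · obtain ⟨s, hs, y, hy, hy1⟩ := (Ideal.eq_top_iff_one M).1 htop
      refine hPQ s hs ?_
      have : algebraMap C B₀ s = y := Subtype.ext (by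
        rw [hy1]; show algebraMap C Ks s = s • ((1 : B) : Ks)
        rw [Subalgebra.coe_one, Algebra.smul_def, mul_one])
      rw [this]; exact hy
    · obtain ⟨u, hu, z, hz, hzx⟩ := hxx
      obtain ⟨s, hs, hx⟩ := hscale x
      obtain ⟨t, ht, hx'⟩ := hscale x'
      have e : algebraMap C B₀ u * ((⟨_, hx⟩ : B₀) * ⟨_, hx'⟩) = algebraMap C B₀ (s * t) * z := by
        refine Subtype.ext ?_
        show algebraMap C Ks u * ((s • (x : Ks)) * (t • (x' : Ks))) =
          algebraMap C Ks (s * t) * (z : Ks)
        rw [hzx, Subalgebra.coe_mul, map_mul]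
        simp only [Algebra.smul_def]
        ring
      have hmem : algebraMap C B₀ u * ((⟨_, hx⟩ : B₀) * ⟨_, hx'⟩) ∈ P := by
        rw [e]; exact P.mul_mem_left _ hz
      rcases (Ideal.IsPrime.mem_or_mem ‹_› hmem) with h | h
      · exact absurd h (hPQ u hu)
      rcases (Ideal.IsPrime.mem_or_mem ‹_› h) with h | h
      · exact Or.inl ⟨s, hs, _, h, rfl⟩
      · exact Or.inr ⟨t, ht, _, h, rfl⟩
  refine henselianLocalRing_of_galois_stable (W := W) (L := L) (Ks := Ks) M ?_ ?_
  · ext w
    obtain ⟨⟨c, t⟩, ht⟩ := IsLocalization.surj Q.primeCompl w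
    have hw : w ∈ maximalIdeal W ↔ c ∈ Q := by
      rw [← IsLocalization.AtPrime.to_map_mem_maximal_iff W Q c, ← ht]
      refine ⟨fun h => Ideal.mul_mem_right _ _ h, fun h => ?_⟩
      exact ((maximalIdeal.isMaximal W).isPrime.mem_or_mem h).resolve_right fun h' =>
        t.2 ((IsLocalization.AtPrime.to_map_mem_maximal_iff W Q (t : C)).1 h')
    have htw : (t : C) • algebraMap W Ks w = algebraMap C Ks c := by
      rw [Algebra.smul_def, IsScalarTower.algebraMap_apply C W Ks, ← map_mul, mul_comm, ht,
        ← IsScalarTower.algebraMap_apply]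
    rw [hw, Ideal.mem_comap]
    constructor
    · rintro ⟨s, hs, y, hy, hyw⟩
      have e : (t : C) • y = algebraMap C B₀ (s * c) := Subtype.ext (by
        show (t : C) • (y : Ks) = algebraMap C Ks (s * c)
        rw [hyw, smul_comm]
        show s • ((t : C) • algebraMap W Ks w) = _
        rw [htw, map_mul, Algebra.smul_def])
      have : s * c ∈ Q := hP.le (by
        show algebraMap C B₀ (s * c) ∈ P
        rw [← e]; exact Submodule.smul_of_tower_mem _ _ hy)
      exact ((Ideal.IsPrime.mem_or_mem ‹_› this).resolve_left hs)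
    · intro hc
      exact ⟨t, t.2, algebraMap C B₀ c, hP.ge hc, htw.symm⟩
  · rintro σ x x' ⟨s, hs, y, hy, hyx⟩ hσ
    have hσy : σ (y : Ks) = s • (x' : Ks) := by
      rw [hyx, ← hσ, Algebra.smul_def, Algebra.smul_def, map_mul,
        IsScalarTower.algebraMap_apply C L Ks, AlgEquiv.commutes]
    have hint : IsIntegral C (σ (y : Ks)) := y.2.map (σ.restrictScalars C)
    exact ⟨s, hs, ⟨_, hint⟩, hstab σ y ⟨_, hint⟩ hy rfl, hσy⟩

/-- If every element of `H` stabilises `T`, so does every automorphism fixing the fixed field of `H`. -/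
theorem mem_of_fixes_fixedField {K Ks : Type u} [Field K] [Field Ks] [Algebra K Ks] [IsGalois K Ks]
    (H : Subgroup (Ks ≃ₐ[K] Ks)) (T : Set Ks) (hH : ∀ h ∈ H, ∀ x ∈ T, h x ∈ T)
    (σ : Ks ≃ₐ[K] Ks) (hσ : ∀ x ∈ IntermediateField.fixedField H, σ x = x) {x : Ks} (hx : x ∈ T) :
    σ x ∈ T := by
  let Hc : ClosedSubgroup (Ks ≃ₐ[K] Ks) := ⟨H.topologicalClosure, H.isClosed_topologicalClosure⟩
  have hmem : σ ∈ (IntermediateField.fixedField Hc.1).fixingSubgroup :=
    (IntermediateField.mem_fixingSubgroup_iff _ _).2 fun y hy =>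
      hσ y fun h => hy ⟨h.1, H.le_topologicalClosure h.2⟩
  rw [InfiniteGalois.fixingSubgroup_fixedField Hc] at hmem
  have hopen : IsOpen ((σ * ·) '' (MulAction.stabilizer (Ks ≃ₐ[K] Ks) x : Set (Ks ≃ₐ[K] Ks))) :=
    (Homeomorph.mulLeft σ).isOpenMap _ (stabilizer_isOpen_of_isIntegral x)
  obtain ⟨h, ⟨τ, hτ, rfl⟩, hh⟩ := mem_closure_iff.1 (show σ ∈ closure (H : Set (Ks ≃ₐ[K] Ks)) from hmem)
    _ hopen ⟨1, one_mem (MulAction.stabilizer (Ks ≃ₐ[K] Ks) x), mul_one σ⟩
  have := hH _ hh x hx
  rwa [AlgEquiv.mul_apply, show τ x = x from hτ] at this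

end Groth.Agent.Hens
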