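import Groth.Agent.Hens.GaloisFixed

/-! Henselianity of the localized integral closure in the fixed field of a group stabilising a
maximal ideal of the integral closure in a separable closure. -/

set_option autoImplicit false
set_option linter.style.haveILetI false

open IsLocalRing

universe u

namespace Groth.Agent.Hens

theorem isIntegrallyClosed_integralClosure (R L : Type u) [CommRing R] [Field L] [Algebra R L]
    [IsFractionRing (integralClosure R L) L] : IsIntegrallyClosed (integralClosure R L) :=
  (isIntegrallyClosed_iff L).2 fun {x} hx => ⟨⟨x, isIntegral_trans (R := R) x hx⟩, rfl⟩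

variable {R K Ks : Type u} [CommRing R] [IsDomain R] [Field K] [Algebra R K] [IsFractionRing R K]
    [Field Ks] [Algebra K Ks] [IsSepClosure K Ks] [Algebra R Ks] [IsScalarTower R K Ks]

omit [IsDomain R] [IsFractionRing R K] [IsSepClosure K Ks] in
/-- The generators of the decomposition group stabilise the maximal ideal in both directions. -/
theorem stable_closure_of_maps_into (Ps : Ideal (integralClosure R Ks)) [Ps.IsMaximal]
    (S : Set (Ks ≃ₐ[K] Ks))
    (hS : ∀ σ ∈ S, ∀ x : integralClosure R Ks, x ∈ Ps →
      ∃ h : σ (x : Ks) ∈ integralClosure R Ks, (⟨σ (x : Ks), h⟩ : integralClosure R Ks) ∈ Ps) :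
    ∀ σ ∈ Subgroup.closure S, ∀ x ∈ (Subtype.val '' (Ps : Set (integralClosure R Ks)) : Set Ks),
      σ x ∈ (Subtype.val '' (Ps : Set (integralClosure R Ks)) : Set Ks) := by
  have key : ∀ σ ∈ Subgroup.closure S, ∀ x : Ks,
      x ∈ (Subtype.val '' (Ps : Set (integralClosure R Ks)) : Set Ks) ↔
      σ x ∈ (Subtype.val '' (Ps : Set (integralClosure R Ks)) : Set Ks) := by
    intro σ hσ
    induction hσ using Subgroup.closure_induction with
    | one => simp
    | mul a b _ _ ha hb => exact fun x => (hb x).trans (ha (b x))
    | inv a _ ha =>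
      intro x
      have e : a (a⁻¹ x) = x := by rw [← AlgEquiv.mul_apply, mul_inv_cancel, AlgEquiv.one_apply]
      exact ((ha (a⁻¹ x)).trans (by rw [e])).symm
    | mem a ha =>
      intro x
      constructor
      · rintro ⟨y, hy, rfl⟩
        obtain ⟨h, h'⟩ := hS a ha y hy
        exact ⟨_, h', rfl⟩
      · rintro ⟨y, hy, hyx⟩
        have hx : x ∈ integralClosure R Ks := by
          have := y.2.map (a.symm.restrictScalars R)
          rw [show (a.symm.restrictScalars R) (y : Ks) = x by
            rw [hyx]; exact a.symm_apply_apply x] at this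
          exact this
        refine ⟨⟨x, hx⟩, ?_, rfl⟩
        let f : integralClosure R Ks →+* integralClosure R Ks :=
          (((a.restrictScalars R).toAlgHom.comp (integralClosure R Ks).val).codRestrict _
            fun z => z.2.map (a.restrictScalars R)).toRingHom
        have hle : Ps ≤ Ps.comap f := fun z hz => by
          obtain ⟨h, h'⟩ := hS a ha z hz
          exact h'
        have heq := (‹Ps.IsMaximal›).eq_of_le
          (Ideal.comap_ne_top f (Ideal.IsMaximal.ne_top ‹_›)) hle
        rw [SetLike.mem_coe, heq, Ideal.mem_comap]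
        rw [show f ⟨x, hx⟩ = y from Subtype.ext hyx.symm]
        exact hy
  exact fun σ hσ x hx => (key σ hσ x).1 hx

theorem henselianLocalRing_fixedField (Ps : Ideal (integralClosure R Ks)) [Ps.IsMaximal]
    (H : Subgroup (Ks ≃ₐ[K] Ks))
    (hH : ∀ σ ∈ H, ∀ x ∈ (Subtype.val '' (Ps : Set (integralClosure R Ks)) : Set Ks),
      σ x ∈ (Subtype.val '' (Ps : Set (integralClosure R Ks)) : Set Ks))
    (L : IntermediateField K Ks) (hL : L = IntermediateField.fixedField H)
    (Q : Ideal (integralClosure R L)) [Q.IsPrime]
    (hQ : ∀ y : integralClosure R L, y ∈ Q ↔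
      ∃ x : integralClosure R Ks, x ∈ Ps ∧ (x : Ks) = ((y : L) : Ks)) :
    HenselianLocalRing (Localization.AtPrime Q) := by
  haveI : IsGalois K Ks := inferInstance
  haveI : IsSepClosed Ks := IsSepClosure.sep_closed K
  haveI : IsGalois L Ks := IsGalois.tower_top_intermediateField L
  haveI : IsScalarTower R K L := IsScalarTower.of_algebraMap_eq fun r => Subtype.ext (by
    show algebraMap R Ks r = _
    exact IsScalarTower.algebraMap_apply R K Ks r)
  haveI : Algebra.IsAlgebraic K L := IntermediateField.isAlgebraic_tower_bot (S := L)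
  haveI : Algebra.IsAlgebraic R L := (IsFractionRing.comap_isAlgebraic_iff (C := L) (A := R) (K := K)).2 inferInstance
  haveI : IsFractionRing (integralClosure R L) L :=
    integralClosure.isFractionRing_of_algebraic fun x hx => IsFractionRing.injective R K (by
      rw [IsScalarTower.algebraMap_apply R K L, map_eq_zero] at hx
      rw [hx, map_zero])
  haveI := isIntegrallyClosed_integralClosure R L
  let C := integralClosure R L
  haveI : IsScalarTower R L Ks := .of_algebraMap_eq fun _ => rfl
  haveI : IsScalarTower C L Ks := inferInstance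
  haveI : IsScalarTower R C Ks := inferInstance
  have hmem : ∀ z : integralClosure C Ks, (z : Ks) ∈ integralClosure R Ks := fun z =>
    isIntegral_trans (R := R) (A := C) (z : Ks) z.2
  let e : integralClosure C Ks →+* integralClosure R Ks :=
    ((integralClosure C Ks).val.toRingHom).codRestrict (integralClosure R Ks) hmem
  refine henselianLocalRing_atPrime_of_galois_stable (L := L) (Ks := Ks) (Ps.comap e) Q ?_ ?_
  · ext y
    rw [Ideal.mem_comap, Ideal.mem_comap, hQ]
    constructor
    · intro h; exact ⟨_, h, rfl⟩
    · rintro ⟨x, hx, hxy⟩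
      have : e (algebraMap C _ y) = x := Subtype.ext hxy.symm
      rw [this]; exact hx
  · intro σ x y hx hσ
    have hfix : ∀ z ∈ IntermediateField.fixedField H, σ.restrictScalars K z = z := by
      intro z hz
      exact σ.commutes (⟨z, hL ▸ hz⟩ : L)
    obtain ⟨w, hw, hwy⟩ := mem_of_fixes_fixedField H _ hH (σ.restrictScalars K) hfix
      (x := (x : Ks)) ⟨e x, hx, rfl⟩
    rw [Ideal.mem_comap, show e y = w from Subtype.ext (hwy.trans hσ).symm]
    exact hw

end Groth.Agent.Hens
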