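import Groth.Agent.Hens.Local
import Groth.Agent.Hens.Unique
import Groth.Agent.Hens.Lifting
import Groth.Agent.Hens.GaloisStage
import Groth.Agent.Hensel.EssSub
import Groth.Agent.Hensel.Local
import Groth.Agent.EtStruct.Local
import Mathlib.RingTheory.MvPolynomial.Basic
import Mathlib.RingTheory.FinitePresentation

/-!
# Henselizations of local rings essentially of finite type and finite local algebras
-/

set_option autoImplicit false
set_option linter.style.haveILetI false
set_option backward.isDefEq.respectTransparency.types false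

universe u

open IsLocalRing

namespace Groth.Agent.Hens.HensEft

/-- A nontrivial finite algebra over a henselian local ring which embeds in a local ring is local. -/
theorem isLocalRing_of_injective {R X L : Type u} [CommRing R] [HenselianLocalRing R] [CommRing X]
    [Algebra R X] [Module.Finite R X] [CommRing L] [IsLocalRing L] (ι : X →+* L) (hι : Function.Injective ι) :
    IsLocalRing X := by
  obtain ⟨n, e, he, hloc⟩ := Groth.Agent.Hensel.exists_pi_local (R := R) X
  haveI : Nontrivial X := ι.domain_nontrivial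
  have h01 : ∀ i, e i = 0 ∨ e i = 1 := fun i => by
    have hmul : ι (e i) * (1 - ι (e i)) = 0 := by
      rw [mul_sub, mul_one, ← map_mul, (he.idem i).eq, sub_self]
    rcases IsLocalRing.isUnit_or_isUnit_one_sub_self (ι (e i)) with h | h
    · exact Or.inr (hι (by rw [map_one, eq_comm, ← sub_eq_zero]; exact h.mul_right_eq_zero.1 hmul))
    · exact Or.inl (hι (by rw [map_zero]; exact h.mul_left_eq_zero.1 hmul))
  obtain ⟨i, hi⟩ : ∃ i, e i ≠ 0 := by
    by_contra! hall
    exact one_ne_zero (α := X) (by rw [← he.complete]; exact Finset.sum_eq_zero fun i _ => hall i)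
  haveI := hloc i
  have hb : Ideal.span {1 - e i} = (⊥ : Ideal X) := by
    rw [(h01 i).resolve_left hi, sub_self, Ideal.span_singleton_eq_bot]
  exact ((Ideal.quotEquivOfEq hb).trans (RingEquiv.quotientBot X)).isLocalRing

section Stage

variable {R₀ A' : Type u} [CommRing R₀] [IsLocalRing R₀] [CommRing A'] [IsLocalRing A'] [Algebra R₀ A']
  [IsLocalHom (algebraMap R₀ A')] [hA : Hensel.IsHenselization R₀ A']

include hA in
/-- An element of the henselization is congruent to one of the base. -/
theorem exists_sub_mem (z : A') : ∃ r : R₀, z - algebraMap R₀ A' r ∈ maximalIdeal A' := by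
  obtain ⟨x, hx⟩ := (residueMap_bijective_of_isHenselization (R := R₀) A').2 (residue A' z)
  obtain ⟨r, rfl⟩ := residue_surjective x
  exact ⟨r, by rw [← residue_eq_zero_iff, map_sub, ← hx, ResidueField.map_residue, sub_self]⟩

include hA in
/-- The henselization is a henselization of each of its essentially étale stages. -/
theorem isHenselization_essSub (E : Subalgebra R₀ A') (hE : Groth.Agent.Hensel.IsEssSub E)
    [IsLocalRing E] [IsLocalHom (algebraMap E A')] : Hensel.IsHenselization E A' := by
  refine ⟨hA.henselian, fun T _ _ f hf => ?_⟩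
  haveI := hf
  haveI : IsLocalHom (algebraMap R₀ E) := ⟨fun x hx => isUnit_of_map_unit (algebraMap R₀ A') x (by
    rw [IsScalarTower.algebraMap_apply R₀ E A']; exact hx.map _)⟩
  haveI : IsLocalHom (f.comp (algebraMap R₀ E)) := RingHom.isLocalHom_comp _ _
  obtain ⟨g, hg, huniq⟩ := hA.universal T (f.comp (algebraMap R₀ E)) inferInstance
  letI : Algebra R₀ T := (f.comp (algebraMap R₀ E)).toAlgebra
  have hgloc : ∀ x ∈ maximalIdeal A', g x ∈ maximalIdeal T := fun x hx => by
    rw [← map_maximalIdeal_of_isHenselization (R := R₀) A'] at hx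
    have h1 := Ideal.mem_map_of_mem g hx
    rw [Ideal.map_map, hg] at h1
    exact IsLocalRing.map_maximalIdeal_le (f.comp (algebraMap R₀ E)) h1
  have hgE : g.comp (algebraMap E A') = f := by
    obtain ⟨C, _, _, q, _, hC, -, ⟨e⟩⟩ := hE.essEtale
    haveI := hC
    let ι : C →ₐ[R₀] E := e.symm.toAlgHom.comp (IsScalarTower.toAlgHom R₀ C (Localization.AtPrime q))
    let θ₁ : C →ₐ[R₀] T :=
      { toRingHom := (g.comp (algebraMap E A')).comp ι.toRingHom
        commutes' := fun r => by
          show g (algebraMap E A' (ι (algebraMap R₀ C r))) = _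
          rw [AlgHom.commutes, ← IsScalarTower.algebraMap_apply, ← RingHom.comp_apply, hg]
          rfl }
    let θ₂ : C →ₐ[R₀] T :=
      { toRingHom := f.comp ι.toRingHom
        commutes' := fun r => by
          show f (ι (algebraMap R₀ C r)) = _
          rw [AlgHom.commutes]
          rfl }
    have hθ : θ₁ = θ₂ := eq_of_point_eq (residue T) fun c => by
      obtain ⟨r, hr⟩ := exists_sub_mem (R₀ := R₀) (algebraMap E A' (ι c))
      have hr' : ι c - algebraMap R₀ E r ∈ maximalIdeal E := fun hu => (mem_maximalIdeal _).1 hr (by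
        have h2 := hu.map (algebraMap E A')
        rwa [map_sub, ← IsScalarTower.algebraMap_apply] at h2)
      show residue T (g (algebraMap E A' (ι c))) = residue T (f (ι c))
      have e1 : residue T (g (algebraMap E A' (ι c))) = residue T (f (algebraMap R₀ E r)) := by
        rw [← sub_eq_zero, ← map_sub, residue_eq_zero_iff,
          show f (algebraMap R₀ E r) = g (algebraMap R₀ A' r) from (RingHom.congr_fun hg r).symm, ← map_sub]
        exact hgloc _ hr
      have e2 : residue T (f (ι c)) = residue T (f (algebraMap R₀ E r)) := by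
        rw [← sub_eq_zero, ← map_sub, residue_eq_zero_iff, ← map_sub]
        exact IsLocalRing.map_maximalIdeal_le f (Ideal.mem_map_of_mem f hr')
      rw [e1, e2]
    have h3 : ((g.comp (algebraMap E A')).comp e.symm.toAlgHom.toRingHom) =
        f.comp e.symm.toAlgHom.toRingHom :=
      IsLocalization.ringHom_ext q.primeCompl (RingHom.ext fun c => AlgHom.congr_fun hθ c)
    refine RingHom.ext fun x => ?_
    obtain ⟨y, rfl⟩ := e.symm.surjective x
    exact RingHom.congr_fun h3 y
  exact ⟨g, hgE, fun g' hg' => huniq g' (by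
    show g'.comp _ = _
    rw [IsScalarTower.algebraMap_eq R₀ E A', ← RingHom.comp_assoc, hg'])⟩

end Stage

/-- Maps out of a presented algebra whose relations descend. -/
theorem exists_lift {E A' A₁ : Type u} [CommRing E] [CommRing A'] [CommRing A₁] [Algebra E A'] [Algebra A' A₁]
    [Algebra E A₁] [IsScalarTower E A' A₁] {r : ℕ} (J : Ideal (MvPolynomial (Fin r) E))
    (π : MvPolynomial (Fin r) A' →ₐ[A'] A₁) (hπ : Function.Surjective π)
    (t : Finset (MvPolynomial (Fin r) A')) (ht : Ideal.span (↑t : Set _) = RingHom.ker π.toRingHom)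
    (t₀ : ∀ p ∈ t, MvPolynomial (Fin r) E) (ht₀ : ∀ p hp, MvPolynomial.map (algebraMap E A') (t₀ p hp) = p)
    (hJt : ∀ p hp, t₀ p hp ∈ J) (μ : (MvPolynomial (Fin r) E ⧸ J) →ₐ[E] A₁)
    (hμ : ∀ i, μ (Ideal.Quotient.mk J (MvPolynomial.X i)) = π (MvPolynomial.X i))
    {T : Type u} [CommRing T] (f : (MvPolynomial (Fin r) E ⧸ J) →+* T) (g : A' →+* T)
    (hfg : g.comp (algebraMap E A') = f.comp (algebraMap E (MvPolynomial (Fin r) E ⧸ J))) :
    ∃ h : A₁ →+* T, h.comp (algebraMap A' A₁) = g ∧ h.comp μ.toRingHom = f := by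
  let ev : MvPolynomial (Fin r) A' →+* T :=
    MvPolynomial.eval₂Hom g fun i => f (Ideal.Quotient.mk J (MvPolynomial.X i))
  have hev : ∀ p, ev (MvPolynomial.map (algebraMap E A') p) = f (Ideal.Quotient.mk J p) := fun p => by
    induction p using MvPolynomial.induction_on with
    | C a =>
      rw [MvPolynomial.map_C, MvPolynomial.eval₂Hom_C]
      exact RingHom.congr_fun hfg a
    | add p q hp hq => rw [map_add, map_add, hp, hq, map_add, map_add]
    | mul_X p i hp => rw [map_mul, map_mul, hp, MvPolynomial.map_X, MvPolynomial.eval₂Hom_X', map_mul, map_mul]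
  have hker : RingHom.ker π.toRingHom ≤ RingHom.ker ev := by
    rw [← ht, Ideal.span_le]
    intro p hp
    show ev p = 0
    rw [← ht₀ p hp, hev, Ideal.Quotient.eq_zero_iff_mem.2 (hJt p hp), map_zero]
  have hπev : ∀ p, π (MvPolynomial.map (algebraMap E A') p) = μ (Ideal.Quotient.mk J p) := fun p => by
    induction p using MvPolynomial.induction_on with
    | C a =>
      rw [MvPolynomial.map_C, show π (MvPolynomial.C (algebraMap E A' a)) = algebraMap A' A₁ (algebraMap E A' a)
        from π.commutes _, ← IsScalarTower.algebraMap_apply]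
      exact (μ.commutes a).symm
    | add p q hp hq => rw [map_add, map_add, hp, hq, map_add, map_add]
    | mul_X p i hp => rw [map_mul, map_mul, hp, MvPolynomial.map_X, map_mul, map_mul, hμ]
  refine ⟨π.toRingHom.liftOfSurjective hπ ⟨ev, hker⟩, RingHom.ext fun a => ?_, RingHom.ext fun x => ?_⟩
  · show π.toRingHom.liftOfSurjective hπ ⟨ev, hker⟩ (algebraMap A' A₁ a) = g a
    rw [← π.commutes]
    refine (RingHom.liftOfSurjective_comp_apply π.toRingHom hπ ⟨ev, hker⟩ (algebraMap A' _ a)).trans ?_
    exact MvPolynomial.eval₂Hom_C _ _ a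
  · obtain ⟨p, rfl⟩ := Ideal.Quotient.mk_surjective x
    show π.toRingHom.liftOfSurjective hπ ⟨ev, hker⟩ (μ (Ideal.Quotient.mk J p)) = _
    rw [← hπev]
    exact (RingHom.liftOfSurjective_comp_apply π.toRingHom hπ ⟨ev, hker⟩ _).trans (hev p)

/-- The henselization property of a finite algebra over a stage with the lifting property. -/
theorem exists_eft_of_presented (A : Type u) [CommRing A] (E : Type u) [CommRing E] [IsLocalRing E] [Algebra A E]
    [Algebra.EssFiniteType A E] (A' : Type u) [CommRing A'] [IsLocalRing A'] [Algebra E A']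
    [IsLocalHom (algebraMap E A')] [Hensel.IsHenselization E A'] (A₁ : Type u) [CommRing A₁]
    [HenselianLocalRing A₁] [Algebra A A₁] [Algebra E A₁] [IsScalarTower A E A₁] [Algebra A' A₁] [IsScalarTower E A' A₁]
    [Module.Finite A' A₁]
    (C : Type u) [CommRing C] [Algebra E C] [Algebra A C] [IsScalarTower A E C] [Module.Finite E C]
    (μ : C →ₐ[E] A₁)
    (hkill : ∀ {T : Type u} [CommRing T] (f : C →+* T) (g : A' →+* T),
      g.comp (algebraMap E A') = f.comp (algebraMap E C) →
      ∃ h : A₁ →+* T, h.comp (algebraMap A' A₁) = g ∧ h.comp μ.toRingHom = f)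
    (huniqA : ∀ {T : Type u} [CommRing T] (h h' : A₁ →+* T) {g : A' →+* T}, h.comp (algebraMap A' A₁) = g →
      h'.comp (algebraMap A' A₁) = g → h.comp μ.toRingHom = h'.comp μ.toRingHom → h = h') :
    ∃ (C : Type u) (_ : CommRing C) (_ : IsLocalRing C) (_ : Algebra A C) (_ : Algebra.EssFiniteType A C)
      (_ : Algebra C A₁) (_ : IsScalarTower A C A₁) (_ : IsLocalHom (algebraMap C A₁)),
      Hensel.IsHenselization C A₁ := by
  haveI : Algebra.IsIntegral E C := Algebra.IsIntegral.of_finite E C
  let Mu : Ideal C := (maximalIdeal A₁).comap μ.toRingHom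
  have hmax : ∀ M : Ideal C, M.IsMaximal → M = Mu := fun M hM => by
    haveI := hM
    letI := Ideal.Quotient.field M
    have hME : M.comap (algebraMap E C) = maximalIdeal E :=
      IsLocalRing.eq_maximalIdeal (Ideal.isMaximal_comap_of_isIntegral_of_isMaximal (R := E) M)
    let e : ResidueField E ≃+* ResidueField A' :=
      RingEquiv.ofBijective _ (residueMap_bijective_of_isHenselization (R := E) A')
    let b : ResidueField E →+* C ⧸ M :=
      Ideal.Quotient.lift (maximalIdeal E) ((Ideal.Quotient.mk M).comp (algebraMap E C)) fun x hx =>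
        Ideal.Quotient.eq_zero_iff_mem.2 (show x ∈ M.comap (algebraMap E C) by rw [hME]; exact hx)
    obtain ⟨h, -, hhμ⟩ := hkill (Ideal.Quotient.mk M) ((b.comp e.symm.toRingHom).comp (residue A')) (by
      refine RingHom.ext fun a => ?_
      show b (e.symm (residue A' (algebraMap E A' a))) = _
      rw [show residue A' (algebraMap E A' a) = e (residue E a) from
        (ResidueField.map_residue (algebraMap E A') a).symm, RingEquiv.symm_apply_apply]
      rfl)
    have hs : Function.Surjective h := fun y => by
      obtain ⟨x, rfl⟩ := Ideal.Quotient.mk_surjective y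
      exact ⟨μ x, RingHom.congr_fun hhμ x⟩
    haveI := RingHom.ker_isMaximal_of_surjective h hs
    have hk : RingHom.ker h = maximalIdeal A₁ := IsLocalRing.eq_maximalIdeal inferInstance
    show M = (maximalIdeal A₁).comap μ.toRingHom
    rw [← hk, RingHom.comap_ker, hhμ, Ideal.mk_ker]
  haveI : Nontrivial C := μ.toRingHom.domain_nontrivial
  haveI : IsLocalRing C := by
    obtain ⟨M, hM⟩ := Ideal.exists_maximal C
    exact IsLocalRing.of_unique_max_ideal ⟨M, hM, fun M' hM' => (hmax M' hM').trans (hmax M hM).symm⟩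
  haveI : Algebra.EssFiniteType A C := Algebra.EssFiniteType.comp A E C
  letI : Algebra C A₁ := μ.toRingHom.toAlgebra
  haveI : IsScalarTower A C A₁ := .of_algebraMap_eq fun a => by
    rw [RingHom.algebraMap_toAlgebra, IsScalarTower.algebraMap_apply A E A₁, IsScalarTower.algebraMap_apply A E C]
    exact (μ.commutes _).symm
  haveI : IsLocalHom (algebraMap C A₁) := ⟨fun x hx => by
    by_contra hn
    have h1 : x ∈ Mu := (hmax _ (maximalIdeal.isMaximal C)) ▸ (mem_maximalIdeal _).2 hn
    exact (mem_maximalIdeal _).1 h1 hx⟩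
  haveI : IsLocalHom (algebraMap E C) := ⟨fun x hx => isUnit_of_map_unit (algebraMap E A') x (by
    haveI : IsLocalHom (algebraMap A' A₁) := ⟨fun y hy => by
      by_contra hn
      have h1 : (maximalIdeal A₁).comap (algebraMap A' A₁) = maximalIdeal A' :=
        IsLocalRing.eq_maximalIdeal (Ideal.isMaximal_comap_of_isIntegral_of_isMaximal (R := A') _)
      have h2 : y ∈ (maximalIdeal A₁).comap (algebraMap A' A₁) := h1 ▸ (mem_maximalIdeal _).2 hn
      exact (mem_maximalIdeal _).1 h2 hy⟩
    have h1 := hx.map μ.toRingHom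
    rw [show μ.toRingHom (algebraMap E C x) = algebraMap E A₁ x from μ.commutes x,
      IsScalarTower.algebraMap_apply E A' A₁] at h1
    exact isUnit_of_map_unit (algebraMap A' A₁) _ h1)⟩
  refine ⟨C, inferInstance, inferInstance, inferInstance, inferInstance, inferInstance, inferInstance, inferInstance,
    inferInstance, fun T _ _ f hf => ?_⟩
  haveI := hf
  obtain ⟨g, hg, huniq⟩ := (inferInstance : Hensel.IsHenselization E A').universal T (f.comp (algebraMap E C))
    (RingHom.isLocalHom_comp _ _)
  obtain ⟨h, hh, hhμ⟩ := hkill f g hg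
  refine ⟨h, hhμ, fun h' hh' => ?_⟩
  have hgA : h'.comp (algebraMap A' A₁) = g := huniq _ (by
    show (h'.comp _).comp _ = _
    rw [RingHom.comp_assoc, ← hh', RingHom.comp_assoc]
    congr 1
    refine RingHom.ext fun a => ?_
    show algebraMap A' A₁ (algebraMap E A' a) = algebraMap C A₁ (algebraMap E C a)
    rw [RingHom.algebraMap_toAlgebra, ← IsScalarTower.algebraMap_apply E A' A₁]
    exact (μ.commutes a).symm)
  refine huniqA h' h hgA hh ?_
  rw [hhμ, ← hh', RingHom.algebraMap_toAlgebra]

set_option maxHeartbeats 1200000 in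
/-- A finite local algebra over the henselization of a local ring essentially of finite type is the
henselization of a local ring essentially of finite type. -/
theorem exists_eft_of_finite (A : Type u) [CommRing A] (R₀ : Type u) [CommRing R₀] [IsLocalRing R₀]
    [Algebra A R₀] [Algebra.EssFiniteType A R₀] (A' : Type u) [CommRing A'] [IsLocalRing A']
    [IsNoetherianRing A'] [Algebra R₀ A'] [IsLocalHom (algebraMap R₀ A')] [hA : Hensel.IsHenselization R₀ A']
    [Algebra A A'] [IsScalarTower A R₀ A']
    (A₁ : Type u) [CommRing A₁] [IsLocalRing A₁] [Algebra A A₁] [Algebra A' A₁] [IsScalarTower A A' A₁]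
    [Module.Finite A' A₁] :
    ∃ (C : Type u) (_ : CommRing C) (_ : IsLocalRing C) (_ : Algebra A C) (_ : Algebra.EssFiniteType A C)
      (_ : Algebra C A₁) (_ : IsScalarTower A C A₁) (_ : IsLocalHom (algebraMap C A₁)),
      Hensel.IsHenselization C A₁ := by
  classical
  haveI : HenselianLocalRing A' := hA.henselian
  haveI : HenselianLocalRing A₁ := henselianLocalRing_of_finite (A := A') A₁
  haveI : Algebra.FinitePresentation A' A₁ := Algebra.FinitePresentation.of_finiteType.1 inferInstance
  obtain ⟨r, π, hπ, t, ht⟩ := Algebra.FinitePresentation.out (R := A') (A := A₁)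
  choose gm hgm hgc using fun i : Fin r => Algebra.IsIntegral.isIntegral (R := A') (π (MvPolynomial.X i))
  let s : Finset A' := (t.biUnion fun p => MvPolynomial.coeffs p) ∪
    (Finset.univ.biUnion fun i => (Finset.range ((gm i).natDegree + 1)).image (gm i).coeff)
  have hlike := Groth.Agent.Hensel.isEtLike_of_isHenselization R₀ A'
  obtain ⟨E, hE, hsE⟩ := hlike.exists_essSub s
  haveI := hE.isLocalRing
  haveI := hE.isLocalHom
  haveI : Hensel.IsHenselization E A' := isHenselization_essSub E hE
  haveI : Algebra.EssFiniteType R₀ E := Groth.Agent.Hensel.essFiniteType_of_isEssentiallyEtale hE.essEtale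
  haveI : Algebra.EssFiniteType A E := Algebra.EssFiniteType.comp A R₀ E
  haveI : IsScalarTower A E A' := .of_algebraMap_eq fun a => rfl
  haveI : IsScalarTower E A' A₁ := .of_algebraMap_eq fun x => rfl
  haveI : IsScalarTower A E A₁ := .of_algebraMap_eq fun a => by
    rw [IsScalarTower.algebraMap_apply E A' A₁, ← IsScalarTower.algebraMap_apply A E A',
      ← IsScalarTower.algebraMap_apply A A' A₁]
  have hlift : ∀ i, ∃ g₀ : Polynomial E, g₀.map (algebraMap E A') = gm i ∧ g₀.Monic := fun i => by
    obtain ⟨q, hq, -, hqm⟩ := Polynomial.lifts_and_degree_eq_and_monic (f := algebraMap E A') (p := gm i) (by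
      rw [Polynomial.lifts_iff_coeff_lifts]
      intro n
      rcases le_or_gt n (gm i).natDegree with hn | hn
      · exact ⟨⟨_, hsE (Finset.mem_union_right _ (Finset.mem_biUnion.2 ⟨i, Finset.mem_univ i,
          Finset.mem_image_of_mem _ (Finset.mem_range.2 (Nat.lt_succ_of_le hn))⟩))⟩, rfl⟩
      · exact ⟨0, by rw [map_zero, Polynomial.coeff_eq_zero_of_natDegree_lt hn]⟩) (hgm i)
    exact ⟨q, hq, hqm⟩
  choose g₀ hg₀ hg₀m using hlift
  have hlift' : ∀ p ∈ t, ∃ p₀ : MvPolynomial (Fin r) E, MvPolynomial.map (algebraMap E A') p₀ = p := fun p hp => by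
    refine MvPolynomial.mem_range_map_iff_coeffs_subset.2 fun x hx => ?_
    exact ⟨⟨x, hsE (Finset.mem_union_left _ (Finset.mem_biUnion.2 ⟨p, hp, hx⟩))⟩, rfl⟩
  choose t₀ ht₀ using hlift'
  let J : Ideal (MvPolynomial (Fin r) E) := Ideal.span
    (Set.range (fun p : t => t₀ p.1 p.2) ∪ Set.range fun i => Polynomial.aeval (MvPolynomial.X i) (g₀ i))
  let c : Fin r → A₁ := fun i => π (MvPolynomial.X i)
  have hπev : ∀ p : MvPolynomial (Fin r) E, π (MvPolynomial.map (algebraMap E A') p) = MvPolynomial.aeval c p := by
    intro p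
    rw [show π = MvPolynomial.aeval c from MvPolynomial.algHom_ext fun i => by simp [c],
      MvPolynomial.aeval_map_algebraMap]
  have hJ : J ≤ RingHom.ker (MvPolynomial.aeval (R := E) c).toRingHom := by
    refine Ideal.span_le.2 ?_
    rintro _ (⟨p, rfl⟩ | ⟨i, rfl⟩)
    · show MvPolynomial.aeval c (t₀ p.1 p.2) = 0
      rw [← hπev, ht₀]
      have : p.1 ∈ RingHom.ker π.toRingHom := ht ▸ Ideal.subset_span p.2
      exact this
    · show MvPolynomial.aeval c (Polynomial.aeval (MvPolynomial.X i) (g₀ i)) = 0
      rw [← Polynomial.aeval_algHom_apply, MvPolynomial.aeval_X,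
        ← Polynomial.aeval_map_algebraMap A', hg₀]
      exact hgc i
  let C := MvPolynomial (Fin r) E ⧸ J
  let μ : C →ₐ[E] A₁ := Ideal.Quotient.liftₐ J (MvPolynomial.aeval c) fun x hx => hJ hx
  have hμ : ∀ p, μ (Ideal.Quotient.mk J p) = MvPolynomial.aeval c p := fun p => rfl
  haveI hCfin : Module.Finite E C := by
    have hint : ∀ x ∈ Set.range (fun i => Ideal.Quotient.mkₐ E J (MvPolynomial.X i)), IsIntegral E x := by
      rintro _ ⟨i, rfl⟩
      refine ⟨g₀ i, hg₀m i, ?_⟩
      rw [← Polynomial.aeval_def, Polynomial.aeval_algHom_apply, Ideal.Quotient.mkₐ_eq_mk,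
        Ideal.Quotient.eq_zero_iff_mem]
      exact Ideal.subset_span (Or.inr ⟨i, rfl⟩)
    have htop : Algebra.adjoin E (Set.range fun i => Ideal.Quotient.mkₐ E J (MvPolynomial.X i)) = ⊤ := by
      rw [Set.range_comp' (Ideal.Quotient.mkₐ E J) MvPolynomial.X, ← AlgHom.map_adjoin, MvPolynomial.adjoin_range_X,
        Algebra.map_top, AlgHom.range_eq_top]
      exact Ideal.Quotient.mkₐ_surjective E J
    have hfg := fg_adjoin_of_finite (R := E) (A := MvPolynomial (Fin r) E ⧸ J) (Set.finite_range _) hint
    rw [htop, Algebra.top_toSubmodule] at hfg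
    exact ⟨hfg⟩
  have hkill : ∀ {T : Type u} [CommRing T] (f : C →+* T) (g : A' →+* T),
      g.comp (algebraMap E A') = f.comp (algebraMap E C) →
      ∃ h : A₁ →+* T, h.comp (algebraMap A' A₁) = g ∧ h.comp μ.toRingHom = f := by
    intro T _ f g hfg
    exact exists_lift J π hπ t ht t₀ ht₀ (fun p hp => Ideal.subset_span (Or.inl ⟨⟨p, hp⟩, rfl⟩)) μ
      (fun i => by rw [hμ, MvPolynomial.aeval_X]) f g hfg
  refine exists_eft_of_presented A E A' A₁ (MvPolynomial (Fin r) E ⧸ J) μ hkill ?_
  intro T _ h h' g hgh hgh' hμh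
  refine RingHom.ext fun y => ?_
  obtain ⟨p, rfl⟩ := hπ y
  refine RingHom.congr_fun (f := h.comp π.toRingHom) (g := h'.comp π.toRingHom)
    (MvPolynomial.ringHom_ext (fun a => ?_) fun i => ?_) p
  · show h (π (MvPolynomial.C a)) = h' (π (MvPolynomial.C a))
    rw [show π (MvPolynomial.C a) = algebraMap A' A₁ a from π.commutes a]
    exact (RingHom.congr_fun hgh a).trans (RingHom.congr_fun hgh' a).symm
  · show h (π (MvPolynomial.X i)) = h' (π (MvPolynomial.X i))
    have h1 : π (MvPolynomial.X i) = μ (Ideal.Quotient.mk J (MvPolynomial.X i)) := by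
      rw [hμ, MvPolynomial.aeval_X]
    rw [h1]
    exact RingHom.congr_fun hμh _

/-- Conversely, a henselian local ring with an injective finite local map into the henselization of a
local ring essentially of finite type is such a henselization. -/
theorem exists_eft_of_injective (A : Type u) [CommRing A] [IsNoetherianRing A] (A' : Type u) [CommRing A']
    [HenselianLocalRing A'] [Algebra A A'] (A₁ : Type u) [CommRing A₁] [IsLocalRing A₁] [Algebra A A₁]
    [Algebra A' A₁] [IsScalarTower A A' A₁] [Module.Finite A' A₁] (hinj : Function.Injective (algebraMap A' A₁))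
    (C : Type u) [CommRing C] [IsLocalRing C] [Algebra A C] [Algebra.EssFiniteType A C] [Algebra C A₁]
    [IsScalarTower A C A₁] [IsLocalHom (algebraMap C A₁)] [hC : Hensel.IsHenselization C A₁] :
    ∃ (D : Type u) (_ : CommRing D) (_ : IsLocalRing D) (_ : Algebra A D) (_ : Algebra.EssFiniteType A D)
      (_ : Algebra D A') (_ : IsScalarTower A D A') (_ : IsLocalHom (algebraMap D A')),
      Hensel.IsHenselization D A' := by
  classical
  let c : Algebra.EssFiniteType.finset A C → A₁ := fun x => algebraMap C A₁ x.1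
  choose gm hgm hgc using fun i => Algebra.IsIntegral.isIntegral (R := A') (c i)
  let s : Finset A' := Finset.univ.biUnion fun i => (Finset.range ((gm i).natDegree + 1)).image (gm i).coeff
  let B₀ : Subalgebra A A' := Algebra.adjoin A (↑s : Set A')
  haveI : Algebra.FiniteType A B₀ := ⟨(Subalgebra.fg_top B₀).2 ⟨s, rfl⟩⟩
  let q : Ideal B₀ := (maximalIdeal A').comap (algebraMap B₀ A')
  let L := Localization.AtPrime q
  have hu : ∀ y : q.primeCompl, IsUnit (algebraMap B₀ A' y) := fun y => not_not.1 y.2
  letI : Algebra L A' := (IsLocalization.lift (M := q.primeCompl) (S := L) hu).toAlgebra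
  haveI : IsScalarTower B₀ L A' := .of_algebraMap_eq fun b => (IsLocalization.lift_eq hu b).symm
  haveI : IsScalarTower A L A' := .of_algebraMap_eq fun a => by
    rw [IsScalarTower.algebraMap_apply A B₀ L, ← IsScalarTower.algebraMap_apply B₀ L A',
      ← IsScalarTower.algebraMap_apply A B₀ A']
  haveI : IsLocalHom (algebraMap L A') := ⟨fun x hx => by
    obtain ⟨b, y, rfl⟩ := IsLocalization.exists_mk'_eq q.primeCompl x
    refine IsLocalization.AtPrime.isUnit_mk'_iff L q b y |>.2 fun hb => ?_
    have h1 : IsUnit (algebraMap B₀ A' b) := by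
      have h2 := hx.mul (hu y)
      rw [IsScalarTower.algebraMap_apply B₀ L A' (y : B₀), ← map_mul, IsLocalization.mk'_spec,
        ← IsScalarTower.algebraMap_apply] at h2
      exact h2
    exact (mem_maximalIdeal _).1 hb h1⟩
  haveI : Algebra.EssFiniteType A L := by
    haveI : Algebra.EssFiniteType B₀ L := Algebra.EssFiniteType.of_isLocalization _ q.primeCompl
    exact Algebra.EssFiniteType.comp A B₀ L
  haveI : IsNoetherianRing L := Algebra.EssFiniteType.isNoetherianRing A L
  let H := Henselization L
  haveI : IsNoetherianRing H :=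
    (Groth.Agent.Hensel.isEtLike_of_isHenselization L H).isNoetherianRing_of_base
  obtain ⟨θ, hθ, -⟩ := (inferInstance : Hensel.IsHenselization L H).universal A' (algebraMap L A') inferInstance
  letI : Algebra H A' := θ.toAlgebra
  haveI : IsScalarTower L H A' := .of_algebraMap_eq' hθ.symm
  letI : Algebra A H := ((algebraMap L H).comp (algebraMap A L)).toAlgebra
  haveI : IsScalarTower A L H := .of_algebraMap_eq' rfl
  haveI : IsScalarTower A H A' := .of_algebraMap_eq fun a => by
    rw [IsScalarTower.algebraMap_apply A L H, ← IsScalarTower.algebraMap_apply L H A',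
      ← IsScalarTower.algebraMap_apply A L A']
  haveI hθloc : IsLocalHom (algebraMap H A') := ⟨fun x hx => by
    by_contra hn
    have h1 : x ∈ maximalIdeal H := (mem_maximalIdeal _).2 hn
    rw [← map_maximalIdeal_of_isHenselization (R := L) H] at h1
    have h2 := Ideal.mem_map_of_mem (algebraMap H A') h1
    rw [Ideal.map_map, ← IsScalarTower.algebraMap_eq L H A'] at h2
    exact (mem_maximalIdeal _).1 (IsLocalRing.map_maximalIdeal_le (algebraMap L A') h2) hx⟩
  haveI : IsLocalHom (algebraMap A' A₁) := ⟨fun y hy => by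
    by_contra hn
    have h1 : (maximalIdeal A₁).comap (algebraMap A' A₁) = maximalIdeal A' :=
      IsLocalRing.eq_maximalIdeal (Ideal.isMaximal_comap_of_isIntegral_of_isMaximal (R := A') _)
    have h2 : y ∈ (maximalIdeal A₁).comap (algebraMap A' A₁) := h1 ▸ (mem_maximalIdeal _).2 hn
    exact (mem_maximalIdeal _).1 h2 hy⟩
  letI : Algebra H A₁ := ((algebraMap A' A₁).comp (algebraMap H A')).toAlgebra
  haveI : IsScalarTower H A' A₁ := .of_algebraMap_eq' rfl
  haveI : IsScalarTower A H A₁ := .of_algebraMap_eq fun a => by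
    rw [IsScalarTower.algebraMap_apply H A' A₁, ← IsScalarTower.algebraMap_apply A H A',
      ← IsScalarTower.algebraMap_apply A A' A₁]
  haveI : IsLocalHom (algebraMap H A₁) := RingHom.isLocalHom_comp _ _
  have hint : ∀ i, IsIntegral H (c i) := fun i => by
    obtain ⟨g', hg', -, hg'm⟩ := Polynomial.lifts_and_degree_eq_and_monic (f := algebraMap H A') (p := gm i) (by
      rw [Polynomial.lifts_iff_coeff_lifts]
      intro n
      rcases le_or_gt n (gm i).natDegree with hn | hn
      · refine ⟨algebraMap L H (algebraMap B₀ L ⟨_, Algebra.subset_adjoin (Finset.mem_biUnion.2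
          ⟨i, Finset.mem_univ i, Finset.mem_image_of_mem _ (Finset.mem_range.2 (Nat.lt_succ_of_le hn))⟩)⟩), ?_⟩
        rw [← IsScalarTower.algebraMap_apply L H A', ← IsScalarTower.algebraMap_apply B₀ L A']
        rfl
      · exact ⟨0, by rw [map_zero, Polynomial.coeff_eq_zero_of_natDegree_lt hn]⟩) (hgm i)
    refine ⟨g', hg'm, ?_⟩
    rw [← Polynomial.aeval_def, ← Polynomial.aeval_map_algebraMap A', hg']
    exact hgc i
  let M : Subalgebra H A₁ := Algebra.adjoin H (Set.range c)
  haveI : Module.Finite H M := Module.Finite.iff_fg.2 (fg_adjoin_of_finite (Set.finite_range c) fun x hx => by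
    obtain ⟨i, rfl⟩ := hx
    exact hint i)
  haveI : HenselianLocalRing H := inferInstance
  haveI : IsLocalRing M := isLocalRing_of_injective (R := H) M.val.toRingHom Subtype.val_injective
  haveI : HenselianLocalRing M := henselianLocalRing_of_finite (A := H) M
  haveI : Algebra.IsIntegral H M := Algebra.IsIntegral.of_finite H M
  haveI hMloc : IsLocalHom (M.val.toRingHom) := ⟨fun x hx => by
    by_contra hn
    have h1 : ((maximalIdeal A₁).comap M.val.toRingHom).comap (algebraMap H M) = maximalIdeal H := by
      rw [Ideal.comap_comap]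
      refine le_antisymm (IsLocalRing.le_maximalIdeal (Ideal.comap_ne_top _ (maximalIdeal.isMaximal A₁).ne_top)) ?_
      exact fun y hy => IsLocalRing.map_maximalIdeal_le (algebraMap H A₁) (Ideal.mem_map_of_mem _ hy)
    haveI : ((maximalIdeal A₁).comap M.val.toRingHom).IsPrime := Ideal.IsPrime.comap _
    have h2 : (maximalIdeal A₁).comap M.val.toRingHom = maximalIdeal M :=
      IsLocalRing.eq_maximalIdeal (Ideal.isMaximal_of_isIntegral_of_isMaximal_comap (R := H) _
        (by rw [h1]; exact maximalIdeal.isMaximal H))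
    have h3 : x ∈ (maximalIdeal A₁).comap M.val.toRingHom := h2 ▸ (mem_maximalIdeal _).2 hn
    exact (mem_maximalIdeal _).1 h3 hx⟩
  have hgen : ∀ b ∈ Algebra.adjoin A (Algebra.EssFiniteType.finset A C : Set C), algebraMap C A₁ b ∈ M := by
    intro b hb
    have hle : Algebra.adjoin A (Algebra.EssFiniteType.finset A C : Set C) ≤
        (M.restrictScalars A).comap (IsScalarTower.toAlgHom A C A₁) :=
      Algebra.adjoin_le fun x hx => Algebra.subset_adjoin (R := H) (A := A₁) ⟨⟨x, hx⟩, rfl⟩
    exact hle hb
  have hmemM : ∀ z : C, algebraMap C A₁ z ∈ M := fun z => by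
    obtain ⟨t, ht, htu, hzt⟩ := (Algebra.essFiniteType_cond_iff A C (Algebra.EssFiniteType.finset A C)).1
      ‹Algebra.EssFiniteType A C›.cond.choose_spec z
    have hu' : IsUnit (⟨_, hgen t ht⟩ : M) := isUnit_of_map_unit M.val.toRingHom _ (htu.map (algebraMap C A₁))
    obtain ⟨w, hw⟩ := hu'.exists_right_inv
    have hw' : algebraMap C A₁ t * (w : A₁) = 1 := congrArg Subtype.val hw
    rw [show algebraMap C A₁ z = algebraMap C A₁ (z * t) * (w : A₁) by rw [map_mul, mul_assoc, hw', mul_one]]
    exact M.mul_mem (hgen _ hzt) w.2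
  let κ : C →+* M := (algebraMap C A₁).codRestrict M.toSubring hmemM
  haveI : IsLocalHom κ := ⟨fun x hx => isUnit_of_map_unit (algebraMap C A₁) x (hx.map M.val.toRingHom)⟩
  obtain ⟨g, hg, -⟩ := hC.universal M κ inferInstance
  haveI : HenselianLocalRing A₁ := hC.henselian
  obtain ⟨w, -, hw⟩ := hC.universal A₁ (algebraMap C A₁) inferInstance
  have hid : M.val.toRingHom.comp g = RingHom.id A₁ := by
    refine (hw _ ?_).trans (hw _ (RingHom.id_comp _)).symm
    show (M.val.toRingHom.comp g).comp _ = _
    rw [RingHom.comp_assoc, hg]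
    rfl
  have htop : ∀ x : A₁, x ∈ M := fun x => by
    have := RingHom.congr_fun hid x
    rw [show x = (g x : A₁) from this.symm]
    exact (g x).2
  haveI : Module.Finite H A₁ :=
    Module.Finite.of_surjective M.val.toLinearMap fun x => ⟨⟨x, htop x⟩, rfl⟩
  haveI : Module.Finite H A' :=
    Module.Finite.of_injective ((IsScalarTower.toAlgHom H A' A₁).toLinearMap) hinj
  exact exists_eft_of_finite A L H A'

/-- Write a henselization of an essentially finite type local ring at a prime. -/
theorem exists_atPrime (A : Type u) [CommRing A] (C : Type u) [CommRing C] [IsLocalRing C] [Algebra A C]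
    [Algebra.EssFiniteType A C] (S : Type u) [CommRing S] [IsLocalRing S] [Algebra A S] [Algebra C S]
    [IsScalarTower A C S] [IsLocalHom (algebraMap C S)] [hS : Hensel.IsHenselization C S] :
    ∃ (B : Type u) (_ : CommRing B) (_ : Algebra A B) (_ : Algebra.FiniteType A B) (p : Ideal B) (_ : p.IsPrime)
      (_ : Algebra (Localization.AtPrime p) S) (_ : IsScalarTower A (Localization.AtPrime p) S)
      (_ : IsLocalHom (algebraMap (Localization.AtPrime p) S)), Hensel.IsHenselization (Localization.AtPrime p) S := by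
  obtain ⟨B, _, _, _, q, _, ⟨e⟩⟩ := EtStruct.exists_finiteType_atPrime A C
  letI : Algebra (Localization.AtPrime q) S := ((algebraMap C S).comp e.toAlgHom.toRingHom).toAlgebra
  haveI he : IsLocalHom e.toAlgHom.toRingHom :=
    IsLocalHom.of_surjective _ e.surjective
  haveI : IsScalarTower A (Localization.AtPrime q) S := .of_algebraMap_eq fun a => by
    rw [RingHom.algebraMap_toAlgebra, IsScalarTower.algebraMap_apply A C S]
    show _ = algebraMap C S (e (algebraMap A _ a))
    rw [e.commutes]
  haveI : IsLocalHom (algebraMap (Localization.AtPrime q) S) := RingHom.isLocalHom_comp _ _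
  refine ⟨B, inferInstance, inferInstance, inferInstance, q, inferInstance, inferInstance, inferInstance,
    inferInstance, hS.henselian, fun T _ _ f hf => ?_⟩
  haveI := hf
  haveI : IsLocalHom e.symm.toAlgHom.toRingHom := IsLocalHom.of_surjective _ e.symm.surjective
  obtain ⟨g, hg, huniq⟩ := hS.universal T (f.comp e.symm.toAlgHom.toRingHom) (RingHom.isLocalHom_comp _ _)
  refine ⟨g, RingHom.ext fun x => ?_, fun g' hg' => huniq g' (RingHom.ext fun c => ?_)⟩
  · show g (algebraMap C S (e x)) = f x
    rw [← RingHom.comp_apply g, hg]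
    show f (e.symm (e x)) = f x
    rw [e.symm_apply_apply]
  · show g' (algebraMap C S c) = f (e.symm c)
    rw [← hg']
    show _ = g' (algebraMap C S (e (e.symm c)))
    rw [e.apply_symm_apply]

end Groth.Agent.Hens.HensEft
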