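import Groth.Agent.Hens.PairHfp
import Mathlib.Algebra.Colimit.DirectLimit
import Mathlib.RingTheory.FiniteStability

/-!
# Henselian finitely presented maps of henselian pairs
-/

set_option linter.style.haveILetI false

universe u

namespace Groth.Agent.Hens

variable {A : Type u} [CommRing A] {I : Ideal A}

/-! ### The universal property in terms of algebra maps -/

section

variable {R : Type u} [CommRing R] [Algebra A R] {B : Type u} [CommRing B] [Algebra R B]
  [Algebra A B] [IsScalarTower A R B] {C : Type u} [CommRing C] [Algebra A C]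
  [HenselianRing C (I.map (algebraMap A C))]

theorem hfp_exists_algHom (hB : Hens2.IsPairHenselization R (I.map (algebraMap A R)) B)
    (f : R →ₐ[A] C) : ∃ g : B →ₐ[A] C, ∀ r, g (algebraMap R B r) = f r := by
  obtain ⟨g, hg, -⟩ := hB.2 C (I.map (algebraMap A C)) f.toRingHom inferInstance
    (by rw [Ideal.map_map]; exact le_of_eq (congrArg (fun φ => I.map φ) f.comp_algebraMap))
  refine ⟨⟨g, fun a => ?_⟩, RingHom.congr_fun hg⟩
  show g (algebraMap A B a) = _
  rw [IsScalarTower.algebraMap_apply A R B]
  exact (RingHom.congr_fun hg _).trans (f.commutes a)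

theorem hfp_algHom_ext (hB : Hens2.IsPairHenselization R (I.map (algebraMap A R)) B)
    {g₁ g₂ : B →ₐ[A] C} (h : ∀ r, g₁ (algebraMap R B r) = g₂ (algebraMap R B r)) : g₁ = g₂ := by
  have hf : (g₁.toRingHom.comp (algebraMap R B)).comp (algebraMap A R) = algebraMap A C := by
    rw [RingHom.comp_assoc, ← IsScalarTower.algebraMap_eq]
    exact g₁.comp_algebraMap
  obtain ⟨g, -, hu⟩ := hB.2 C (I.map (algebraMap A C)) (g₁.toRingHom.comp (algebraMap R B))
    inferInstance (by rw [Ideal.map_map, hf])
  refine AlgHom.ext fun x => RingHom.congr_fun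
    ((hu g₁.toRingHom rfl).trans (hu g₂.toRingHom ?_).symm) x
  exact RingHom.ext fun r => (h r).symm

end

/-- It suffices to test the universal property against pairs `(D, ID)` and `A`-algebra maps. -/
theorem isPairHenselization_of_algHom {T : Type u} [CommRing T] [Algebra A T] {C : Type u}
    [CommRing C] [Algebra T C] [Algebra A C] [IsScalarTower A T C]
    (hC : HenselianRing C (I.map (algebraMap A C)))
    (hex : ∀ (D : Type u) [CommRing D] [Algebra A D] [HenselianRing D (I.map (algebraMap A D))]
      (f : T →ₐ[A] D), ∃ g : C →ₐ[A] D, ∀ t, g (algebraMap T C t) = f t)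
    (huniq : ∀ (D : Type u) [CommRing D] [Algebra A D] [HenselianRing D (I.map (algebraMap A D))]
      (g₁ g₂ : C →ₐ[A] D), (∀ t, g₁ (algebraMap T C t) = g₂ (algebraMap T C t)) → g₁ = g₂) :
    Hens2.IsPairHenselization T (I.map (algebraMap A T)) C := by
  refine ⟨?_, fun D _ J f hD hJ => ?_⟩
  · rwa [Ideal.map_map, ← IsScalarTower.algebraMap_eq]
  letI : Algebra A D := (f.comp (algebraMap A T)).toAlgebra
  have hle : I.map (algebraMap A D) ≤ J := by
    rw [RingHom.algebraMap_toAlgebra, ← Ideal.map_map]
    exact hJ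
  haveI : HenselianRing D (I.map (algebraMap A D)) := Groth.Agent.Hensel.henselianRing_of_le hle
  obtain ⟨g, hg⟩ := hex D ⟨f, fun _ => rfl⟩
  refine ⟨g.toRingHom, RingHom.ext hg, fun g' hg' => ?_⟩
  let G : C →ₐ[A] D := ⟨g', fun a => by
    show g' (algebraMap A C a) = f (algebraMap A T a)
    rw [IsScalarTower.algebraMap_apply A T C]
    exact RingHom.congr_fun hg' _⟩
  have := huniq D G g fun t => (RingHom.congr_fun hg' t).trans (hg t).symm
  exact RingHom.ext fun x => AlgHom.congr_fun this x

/-- The henselian property passes to quotients. -/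
theorem henselianRing_of_surjective {B B' : Type u} [CommRing B] [CommRing B'] [Algebra A B]
    [Algebra A B'] [HenselianRing B (I.map (algebraMap A B))] (π : B →ₐ[A] B')
    (hπ : Function.Surjective π) : HenselianRing B' (I.map (algebraMap A B')) := by
  letI : Algebra B B' := π.toRingHom.toAlgebra
  haveI : Algebra.IsIntegral B B' := ⟨fun y => by
    obtain ⟨x, rfl⟩ := hπ y
    exact isIntegral_algebraMap⟩
  have h := Groth.Agent.Hensel.henselianRing_of_isIntegral (A := B)
    (I := I.map (algebraMap A B)) B'
  rw [Ideal.map_map] at h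
  rwa [show (algebraMap B B').comp (algebraMap A B) = algebraMap A B' from π.comp_algebraMap] at h

/-- Henselization commutes with quotients. -/
theorem isPairHenselization_of_quotient {R : Type u} [CommRing R] [Algebra A R] {B : Type u}
    [CommRing B] [Algebra R B] [Algebra A B] [IsScalarTower A R B]
    (hB : Hens2.IsPairHenselization R (I.map (algebraMap A R)) B)
    {T : Type u} [CommRing T] [Algebra A T] (ψ : R →ₐ[A] T) (hψ : Function.Surjective ψ)
    {B' : Type u} [CommRing B'] [Algebra A B'] [Algebra T B'] [IsScalarTower A T B']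
    (π : B →ₐ[A] B') (hπ : Function.Surjective π)
    (hcomm : ∀ r, π (algebraMap R B r) = algebraMap T B' (ψ r))
    (hker : RingHom.ker π ≤ (RingHom.ker ψ).map (algebraMap R B)) :
    Hens2.IsPairHenselization T (I.map (algebraMap A T)) B' := by
  haveI : HenselianRing B (I.map (algebraMap A B)) := by
    have := hB.1
    rwa [Ideal.map_map, ← IsScalarTower.algebraMap_eq] at this
  refine isPairHenselization_of_algHom (henselianRing_of_surjective π hπ)
    (fun D _ _ _ f => ?_) (fun D _ _ _ g₁ g₂ h => ?_)
  · obtain ⟨g, hg⟩ := hfp_exists_algHom hB (f.comp ψ)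
    have hle : RingHom.ker π ≤ RingHom.ker g := hker.trans <| Ideal.map_le_iff_le_comap.2 fun r hr =>
      show g (algebraMap R B r) = 0 by
        rw [hg, AlgHom.comp_apply, show ψ r = 0 from hr, map_zero]
    refine ⟨AlgHom.liftOfSurjective π hπ g hle, fun t => ?_⟩
    obtain ⟨r, rfl⟩ := hψ t
    rw [← hcomm, AlgHom.liftOfSurjective_apply, hg]
    rfl
  · have key : g₁.comp π = g₂.comp π := hfp_algHom_ext hB fun r => by
      simp only [AlgHom.comp_apply, hcomm]
      exact h _
    refine AlgHom.ext fun y => ?_
    obtain ⟨x, rfl⟩ := hπ y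
    exact AlgHom.congr_fun key x

/-- Finitely many elements of a henselization lie in one elementary étale neighbourhood. -/
theorem exists_etale_stage {R : Type u} [CommRing R] {K : Ideal R} {B : Type u} [CommRing B]
    [Algebra R B] (hB : Hens2.IsPairHenselization R K B) (s : Finset B) :
    ∃ (R' : Type u) (_ : CommRing R') (_ : Algebra R R'), Algebra.Etale R R' ∧
      Function.Bijective
        (Ideal.quotientMap (K.map (algebraMap R R')) (algebraMap R R') Ideal.le_comap_map) ∧
      ∃ θ : R' →ₐ[R] B, ∀ x ∈ s, x ∈ θ.range := by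
  classical
  obtain ⟨E⟩ := nonempty_pairHenselization_algEquiv hB
  obtain ⟨S, _, _, _, θ, hθ⟩ := exists_pairStage_finset (A := R) (I := K) (s.image E.symm)
  obtain ⟨t, ht, hbij⟩ := exists_away_bijective ((pairPoint R K).comp θ)
  have hu : IsUnit (θ t) :=
    isUnit_of_isUnit_pairPoint (A := R) (I := K) (by
      rw [← AlgHom.comp_apply, ht]; exact isUnit_one)
  refine ⟨Localization.Away t, inferInstance, inferInstance, Algebra.Etale.comp R S _, hbij,
    E.toAlgHom.comp (awayExt θ t hu), fun x hx => ?_⟩
  obtain ⟨a, ha⟩ := hθ _ (Finset.mem_image_of_mem E.symm hx)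
  refine ⟨algebraMap S _ a, ?_⟩
  show E (awayExt θ t hu (algebraMap S _ a)) = x
  rw [awayExt_algebraMap]
  exact (congrArg E ha).trans (E.apply_symm_apply x)

/-- Maps out of an elementary étale neighbourhood into a henselian pair are unique. -/
theorem eq_of_etale_stage {R : Type u} [CommRing R] {K : Ideal R} {R' : Type u} [CommRing R']
    [Algebra R R'] [Algebra.Etale R R']
    (h : Function.Surjective
      (Ideal.quotientMap (K.map (algebraMap R R')) (algebraMap R R') Ideal.le_comap_map))
    {D : Type u} [CommRing D] {J : Ideal D} [HenselianRing D J] {g₁ g₂ : R' →+* D}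
    (hg : g₁.comp (algebraMap R R') = g₂.comp (algebraMap R R'))
    (hJ : K.map (g₁.comp (algebraMap R R')) ≤ J) : g₁ = g₂ := by
  letI : Algebra R D := (g₁.comp (algebraMap R R')).toAlgebra
  let G₁ : R' →ₐ[R] D := ⟨g₁, fun _ => rfl⟩
  let G₂ : R' →ₐ[R] D := ⟨g₂, fun r => (RingHom.congr_fun hg r).symm⟩
  have hsec : (Ideal.Quotient.mkₐ R J).comp G₁ = (Ideal.Quotient.mkₐ R J).comp G₂ :=
    section_unique h _ _ fun a ha =>
      show Ideal.Quotient.mk J (algebraMap R D a) = 0 from
        Ideal.Quotient.eq_zero_iff_mem.2 (hJ (Ideal.mem_map_of_mem _ ha))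
  have := Groth.Agent.Hensel.algHom_eq_of_sub_mem (HenselianRing.jac (I := J))
    (f := G₁) (g := G₂) fun s => Ideal.Quotient.eq.1 (AlgHom.congr_fun hsec s)
  exact RingHom.ext fun x => AlgHom.congr_fun this x

end Groth.Agent.Hens
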