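import Groth.Agent.Hens.Hfp

/-!
# Composition of Henselian finitely presented maps
-/

set_option linter.style.haveILetI false

universe u

open TensorProduct

namespace Groth.Agent.Hens

theorem exists_finitePresentation_comp {A : Type u} [CommRing A] {I : Ideal A}
    {R : Type u} [CommRing R] [Algebra A R] [Algebra.FinitePresentation A R]
    {B : Type u} [CommRing B] [Algebra R B] [Algebra A B] [IsScalarTower A R B]
    (hB : Hens2.IsPairHenselization R (I.map (algebraMap A R)) B)
    {S : Type u} [CommRing S] [Algebra B S] [Algebra A S] [IsScalarTower A B S]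
    [Algebra.FinitePresentation B S]
    {C : Type u} [CommRing C] [Algebra S C] [Algebra B C] [Algebra A C] [IsScalarTower B S C]
    [IsScalarTower A B C]
    (hC : Hens2.IsPairHenselization S (I.map (algebraMap A S)) C) :
    ∃ (T : Type u) (_ : CommRing T) (_ : Algebra A T) (_ : Algebra T C) (_ : IsScalarTower A T C),
      Algebra.FinitePresentation A T ∧
        Hens2.IsPairHenselization T (I.map (algebraMap A T)) C := by
  classical
  haveI : IsScalarTower A S C := IsScalarTower.of_algebraMap_eq fun a => by
    rw [IsScalarTower.algebraMap_apply A B C, IsScalarTower.algebraMap_apply A B S,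
      ← IsScalarTower.algebraMap_apply B S C]
  obtain ⟨n, π, hπ, s, hs⟩ := Algebra.FinitePresentation.out (R := B) (A := S)
  obtain ⟨R', _, _, _, hbij, θ, hθ⟩ := exists_etale_stage hB (s.biUnion MvPolynomial.coeffs)
  letI : Algebra A R' := ((algebraMap R R').comp (algebraMap A R)).toAlgebra
  haveI : IsScalarTower A R R' := IsScalarTower.of_algebraMap_eq' rfl
  haveI : Algebra.FinitePresentation A R' := Algebra.FinitePresentation.trans A R R'
  have hlift : ∀ p ∈ s, ∃ p' : MvPolynomial (Fin n) R', MvPolynomial.map θ.toRingHom p' = p := by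
    intro p hp
    have hmem : p ∈ Set.range (MvPolynomial.map (σ := Fin n) θ.toRingHom) := by
      rw [MvPolynomial.mem_range_map_iff_coeffs_subset]
      intro c hc
      obtain ⟨c', hc'⟩ := hθ c (Finset.mem_biUnion.2 ⟨p, hp, hc⟩)
      exact ⟨c', hc'⟩
    exact hmem
  choose lift hlift using hlift
  let k : Finset (MvPolynomial (Fin n) R') := s.attach.image fun p => lift p.1 p.2
  haveI : Algebra.FinitePresentation A (MvPolynomial (Fin n) R') :=
    Algebra.FinitePresentation.mvPolynomial_of_finitePresentation _
  let πR : MvPolynomial (Fin n) R' →+* S := π.toRingHom.comp (MvPolynomial.map θ.toRingHom)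
  have hπR : ∀ x ∈ Ideal.span (k : Set (MvPolynomial (Fin n) R')),
      ((algebraMap S C).comp πR) x = 0 := by
    intro x hx
    have : Ideal.span (k : Set (MvPolynomial (Fin n) R')) ≤
        RingHom.ker ((algebraMap S C).comp πR) := by
      rw [Ideal.span_le]
      intro y hy
      obtain ⟨z, -, rfl⟩ := Finset.mem_image.1 (Finset.mem_coe.1 hy)
      show algebraMap S C (π (MvPolynomial.map θ.toRingHom (lift z.1 z.2))) = 0
      rw [hlift, show π z.1 = 0 from hs.le (Ideal.subset_span z.2), map_zero]
    exact this hx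
  let j : (MvPolynomial (Fin n) R' ⧸ Ideal.span (k : Set (MvPolynomial (Fin n) R'))) →+* C :=
    Ideal.Quotient.lift _ ((algebraMap S C).comp πR) hπR
  letI := j.toAlgebra
  have hθA : ∀ a, θ (algebraMap A R' a) = algebraMap A B a := fun a => by
    rw [IsScalarTower.algebraMap_apply A R R', θ.commutes, ← IsScalarTower.algebraMap_apply]
  haveI : IsScalarTower A
      (MvPolynomial (Fin n) R' ⧸ Ideal.span (k : Set (MvPolynomial (Fin n) R'))) C :=
    IsScalarTower.of_algebraMap_eq (R := A)
      (S := MvPolynomial (Fin n) R' ⧸ Ideal.span (k : Set (MvPolynomial (Fin n) R'))) (A := C)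
      fun a => by
      show _ = algebraMap S C (π (MvPolynomial.map θ.toRingHom (MvPolynomial.C (algebraMap A R' a))))
      rw [MvPolynomial.map_C, show θ.toRingHom (algebraMap A R' a) = algebraMap A B a from hθA a,
        show π (MvPolynomial.C (algebraMap A B a)) = algebraMap B S (algebraMap A B a) from
          π.commutes _, ← IsScalarTower.algebraMap_apply B S C, ← IsScalarTower.algebraMap_apply]
  refine ⟨_, inferInstance, inferInstance, inferInstance, inferInstance,
    Algebra.FinitePresentation.quotient ⟨k, rfl⟩, ?_⟩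
  have hCH : HenselianRing C (I.map (algebraMap A C)) := by
    have := hC.1
    rwa [Ideal.map_map, ← IsScalarTower.algebraMap_eq] at this
  refine isPairHenselization_of_algHom hCH (fun D _ _ _ f => ?_) (fun D _ _ _ g₁ g₂ h => ?_)
  · let F : MvPolynomial (Fin n) R' →ₐ[A] D := f.comp (Ideal.Quotient.mkₐ A _)
    let F₀ : R' →ₐ[A] D := F.comp (IsScalarTower.toAlgHom A R' (MvPolynomial (Fin n) R'))
    obtain ⟨b, hb⟩ := hfp_exists_algHom hB (F₀.comp (IsScalarTower.toAlgHom A R R'))
    have hstage : b.toRingHom.comp θ.toRingHom = F₀.toRingHom := by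
      refine eq_of_etale_stage (J := I.map (algebraMap A D)) hbij.2
        (RingHom.ext fun m => ?_) (le_of_eq ?_)
      · show b (θ (algebraMap R R' m)) = F₀ (algebraMap R R' m)
        rw [θ.commutes, hb]
        rfl
      · rw [Ideal.map_map, RingHom.comp_assoc, ← IsScalarTower.algebraMap_eq]
        exact congrArg (fun ψ => I.map ψ) (b.comp (θ.restrictScalars A)).comp_algebraMap
    letI : Algebra B D := b.toRingHom.toAlgebra
    haveI : IsScalarTower A B D := IsScalarTower.of_algebraMap_eq' b.comp_algebraMap.symm
    let Φ : MvPolynomial (Fin n) B →ₐ[B] D :=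
      MvPolynomial.aeval fun i => F (MvPolynomial.X i)
    have hΦ : Φ.toRingHom.comp (MvPolynomial.map θ.toRingHom) = F.toRingHom := by
      refine MvPolynomial.ringHom_ext (fun r => ?_) (fun i => ?_)
      · show Φ (MvPolynomial.map θ.toRingHom (MvPolynomial.C r)) = F (MvPolynomial.C r)
        rw [MvPolynomial.map_C, MvPolynomial.aeval_C]
        exact RingHom.congr_fun hstage r
      · show Φ (MvPolynomial.map θ.toRingHom (MvPolynomial.X i)) = F (MvPolynomial.X i)
        rw [MvPolynomial.map_X, MvPolynomial.aeval_X]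
    have hker : RingHom.ker π ≤ RingHom.ker Φ := by
      refine hs.ge.trans ?_
      rw [Ideal.span_le]
      intro p hp
      show Φ p = 0
      rw [← hlift p hp]
      refine (RingHom.congr_fun hΦ _).trans ?_
      show f (Ideal.Quotient.mk _ (lift p hp)) = 0
      rw [Ideal.Quotient.eq_zero_iff_mem.2 (Ideal.subset_span ?_), map_zero]
      exact Finset.mem_coe.2 (Finset.mem_image.2 ⟨⟨p, hp⟩, Finset.mem_attach _ _, rfl⟩)
    let Ψ : S →ₐ[B] D := AlgHom.liftOfSurjective π hπ Φ hker
    obtain ⟨g, hg⟩ := hfp_exists_algHom hC (Ψ.restrictScalars A)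
    refine ⟨g, fun t => ?_⟩
    obtain ⟨x, rfl⟩ := Ideal.Quotient.mk_surjective t
    show g (algebraMap S C (π (MvPolynomial.map θ.toRingHom x))) = _
    rw [hg]
    refine (AlgHom.liftOfSurjective_apply π hπ Φ hker _).trans ?_
    exact RingHom.congr_fun hΦ x
  · have hR : ∀ r, g₁ (algebraMap B C (algebraMap R B r)) =
        g₂ (algebraMap B C (algebraMap R B r)) := fun r => by
      have := h (Ideal.Quotient.mk _ (MvPolynomial.C (algebraMap R R' r)))
      have e : algebraMap _ C (Ideal.Quotient.mk (Ideal.span (k : Set (MvPolynomial (Fin n) R')))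
          (MvPolynomial.C (algebraMap R R' r))) = algebraMap B C (algebraMap R B r) := by
        show algebraMap S C (π (MvPolynomial.map θ.toRingHom (MvPolynomial.C _))) = _
        rw [MvPolynomial.map_C, show θ.toRingHom (algebraMap R R' r) = algebraMap R B r from
          θ.commutes r]
        show algebraMap S C (π (algebraMap B _ _)) = _
        rw [π.commutes, ← IsScalarTower.algebraMap_apply]
      rwa [e] at this
    have hBmap := hfp_algHom_ext hB (g₁ := g₁.comp (IsScalarTower.toAlgHom A B C))
      (g₂ := g₂.comp (IsScalarTower.toAlgHom A B C)) hR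
    refine hfp_algHom_ext hC fun x => ?_
    obtain ⟨p, rfl⟩ := hπ x
    have : (g₁.toRingHom.comp (algebraMap S C)).comp π.toRingHom =
        (g₂.toRingHom.comp (algebraMap S C)).comp π.toRingHom := by
      refine MvPolynomial.ringHom_ext (fun b => ?_) (fun i => ?_)
      · show g₁ (algebraMap S C (π (algebraMap B _ b))) = g₂ (algebraMap S C (π (algebraMap B _ b)))
        rw [π.commutes, ← IsScalarTower.algebraMap_apply]
        exact AlgHom.congr_fun hBmap b
      · have := h (Ideal.Quotient.mk _ (MvPolynomial.X i))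
        have e : algebraMap _ C (Ideal.Quotient.mk (Ideal.span (k : Set (MvPolynomial (Fin n) R')))
            (MvPolynomial.X i)) = algebraMap S C (π (MvPolynomial.X i)) := by
          show algebraMap S C (π (MvPolynomial.map θ.toRingHom (MvPolynomial.X i))) = _
          rw [MvPolynomial.map_X]
        rwa [e] at this
    exact RingHom.congr_fun this p

/-- Maps between Henselian finitely presented algebras are Henselian finitely presented. -/
theorem exists_finitePresentation_algHom {A : Type u} [CommRing A] {I : Ideal A}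
    {R : Type u} [CommRing R] [Algebra A R] [Algebra.FinitePresentation A R]
    {B : Type u} [CommRing B] [Algebra R B] [Algebra A B] [IsScalarTower A R B]
    (hB : Hens2.IsPairHenselization R (I.map (algebraMap A R)) B)
    {S : Type u} [CommRing S] [Algebra A S] [Algebra.FinitePresentation A S]
    {C : Type u} [CommRing C] [Algebra S C] [Algebra A C] [IsScalarTower A S C]
    (hC : Hens2.IsPairHenselization S (I.map (algebraMap A S)) C)
    [Algebra B C] [IsScalarTower A B C] :
    ∃ (T : Type u) (_ : CommRing T) (_ : Algebra B T) (_ : Algebra T C) (_ : IsScalarTower B T C),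
      Algebra.FinitePresentation B T ∧
      Hens2.IsPairHenselization T ((I.map (algebraMap A B)).map (algebraMap B T)) C := by
  classical
  obtain ⟨s, hs⟩ := (Algebra.FiniteType.out : (⊤ : Subalgebra A R).FG)
  obtain ⟨S', _, _, _, hbij, θ, hθ⟩ :=
    exists_etale_stage hC (s.image fun r => algebraMap B C (algebraMap R B r))
  letI : Algebra A S' := ((algebraMap S S').comp (algebraMap A S)).toAlgebra
  haveI : IsScalarTower A S S' := IsScalarTower.of_algebraMap_eq' rfl
  haveI : Algebra.FinitePresentation A S' := Algebra.FinitePresentation.trans A S S'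
  have hθ' : ∀ r : R, r ∈ s → ∃ x : S', θ x = algebraMap B C (algebraMap R B r) :=
    fun r hr => hθ _ (Finset.mem_image_of_mem _ hr)
  choose pre hpre using hθ'
  let k : Finset (B ⊗[A] S') :=
    s.attach.image fun r => algebraMap R B r.1 ⊗ₜ[A] (1 : S') - (1 : B) ⊗ₜ[A] pre r.1 r.2
  let L : B ⊗[A] S' →ₐ[B] C :=
    Algebra.TensorProduct.lift (Algebra.ofId B C) (θ.restrictScalars A) fun _ _ => Commute.all _ _
  have hL : ∀ x ∈ Ideal.span (k : Set (B ⊗[A] S')), L x = 0 := by
    intro x hx
    have : Ideal.span (k : Set (B ⊗[A] S')) ≤ RingHom.ker L := by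
      rw [Ideal.span_le]
      intro y hy
      obtain ⟨z, -, rfl⟩ := Finset.mem_image.1 (Finset.mem_coe.1 hy)
      show L _ = 0
      simp [L, hpre, Algebra.ofId_apply]
    exact this hx
  let j : (B ⊗[A] S' ⧸ Ideal.span (k : Set (B ⊗[A] S'))) →ₐ[B] C :=
    Ideal.Quotient.liftₐ _ L hL
  letI := j.toRingHom.toAlgebra
  haveI : IsScalarTower B (B ⊗[A] S' ⧸ Ideal.span (k : Set (B ⊗[A] S'))) C :=
    IsScalarTower.of_algebraMap_eq' j.comp_algebraMap.symm
  refine ⟨_, inferInstance, inferInstance, inferInstance, inferInstance,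
    Algebra.FinitePresentation.quotient ⟨k, rfl⟩, ?_⟩
  have hCH : HenselianRing C ((I.map (algebraMap A B)).map (algebraMap B C)) := by
    have := hC.1
    rw [Ideal.map_map, ← IsScalarTower.algebraMap_eq] at this
    rwa [Ideal.map_map, ← IsScalarTower.algebraMap_eq]
  refine isPairHenselization_of_algHom (A := B) hCH (fun D _ _ _ f => ?_)
    (fun D _ _ hD g₁ g₂ h => ?_)
  · rename_i hD
    letI : Algebra A D := ((algebraMap B D).comp (algebraMap A B)).toAlgebra
    haveI : IsScalarTower A B D := IsScalarTower.of_algebraMap_eq' rfl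
    haveI : HenselianRing D (I.map (algebraMap A D)) := by
      rwa [Ideal.map_map, ← IsScalarTower.algebraMap_eq] at hD
    let F : B ⊗[A] S' →ₐ[B] D := f.comp (Ideal.Quotient.mkₐ B _)
    let F₀ : S' →ₐ[A] D := (F.restrictScalars A).comp Algebra.TensorProduct.includeRight
    obtain ⟨g, hg⟩ := hfp_exists_algHom hC (F₀.comp (IsScalarTower.toAlgHom A S S'))
    have hstage : g.toRingHom.comp θ.toRingHom = F₀.toRingHom := by
      refine eq_of_etale_stage (J := I.map (algebraMap A D)) hbij.2
        (RingHom.ext fun m => ?_) (le_of_eq ?_)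
      · show g (θ (algebraMap S S' m)) = F₀ (algebraMap S S' m)
        rw [θ.commutes, hg]
        rfl
      · rw [Ideal.map_map, RingHom.comp_assoc, ← IsScalarTower.algebraMap_eq]
        exact congrArg (fun ψ => I.map ψ) (g.comp (θ.restrictScalars A)).comp_algebraMap
    have hgen : ∀ r ∈ s, g (algebraMap B C (algebraMap R B r)) =
        algebraMap B D (algebraMap R B r) := by
      intro r hr
      rw [← hpre r hr]
      refine (RingHom.congr_fun hstage _).trans ?_
      have h0 : F (algebraMap R B r ⊗ₜ[A] (1 : S') - (1 : B) ⊗ₜ[A] pre r hr) = 0 := by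
        show f (Ideal.Quotient.mk _ _) = 0
        rw [Ideal.Quotient.eq_zero_iff_mem.2 (Ideal.subset_span ?_), map_zero]
        exact Finset.mem_coe.2 (Finset.mem_image.2 ⟨⟨r, hr⟩, Finset.mem_attach _ _, rfl⟩)
      rw [map_sub, sub_eq_zero] at h0
      show F ((1 : B) ⊗ₜ[A] pre r hr) = _
      rw [← h0]
      exact F.commutes _
    have hRR : (g.comp (IsScalarTower.toAlgHom A B C)).comp (IsScalarTower.toAlgHom A R B) =
        (IsScalarTower.toAlgHom A B D).comp (IsScalarTower.toAlgHom A R B) :=
      AlgHom.ext_of_adjoin_eq_top hs hgen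
    have hBmap := hfp_algHom_ext hB (g₁ := g.comp (IsScalarTower.toAlgHom A B C))
      (g₂ := IsScalarTower.toAlgHom A B D) (AlgHom.congr_fun hRR)
    refine ⟨⟨g.toRingHom, fun b => AlgHom.congr_fun hBmap b⟩, fun t => ?_⟩
    obtain ⟨x, rfl⟩ := Ideal.Quotient.mk_surjective t
    show g (L x) = F x
    induction x with
    | zero => simp
    | add x y hx hy => rw [map_add, map_add, map_add, hx, hy]
    | tmul b y =>
      have hb : (b ⊗ₜ[A] y) = algebraMap B (B ⊗[A] S') b * ((1 : B) ⊗ₜ[A] y) := by
        rw [Algebra.TensorProduct.algebraMap_apply, Algebra.TensorProduct.tmul_mul_tmul]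
        simp
      rw [hb, map_mul, map_mul, map_mul, L.commutes, F.commutes]
      congr 1
      · exact AlgHom.congr_fun hBmap b
      · have : L ((1 : B) ⊗ₜ[A] y) = θ y := by simp [L]
        rw [this]
        exact RingHom.congr_fun hstage y
  · letI : Algebra A D := ((algebraMap B D).comp (algebraMap A B)).toAlgebra
    haveI : IsScalarTower A B D := IsScalarTower.of_algebraMap_eq' rfl
    haveI : HenselianRing D (I.map (algebraMap A D)) := by
      rwa [Ideal.map_map, ← IsScalarTower.algebraMap_eq] at hD
    have key := hfp_algHom_ext hC (g₁ := g₁.restrictScalars A) (g₂ := g₂.restrictScalars A)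
      fun x => by
        have := h (Ideal.Quotient.mk _ ((1 : B) ⊗ₜ[A] algebraMap S S' x))
        have e : algebraMap _ C (Ideal.Quotient.mk (Ideal.span (k : Set (B ⊗[A] S')))
            ((1 : B) ⊗ₜ[A] algebraMap S S' x)) = algebraMap S C x := by
          show j (Ideal.Quotient.mk _ ((1 : B) ⊗ₜ[A] algebraMap S S' x)) = _
          show L ((1 : B) ⊗ₜ[A] algebraMap S S' x) = _
          simp [L]
        rwa [e] at this
    exact AlgHom.ext fun x => AlgHom.congr_fun key x

end Groth.Agent.Hens
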