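import Groth.Agent.Hens.Hfp

/-!
# Presentations of Henselian finitely presented maps
-/

set_option linter.style.haveILetI false

universe u

open TensorProduct

namespace Groth.Agent.Hens

/-- A finitely presented quotient of a henselized polynomial ring is the henselization of a
finitely presented algebra. -/
theorem exists_finitePresentation_of_surjective {A : Type u} [CommRing A] {I : Ideal A}
    {B : Type u} [CommRing B] [Algebra A B] [HenselianRing B (I.map (algebraMap A B))]
    (M : Type u) [CommRing M] [Algebra A M] [Algebra.FinitePresentation A M]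
    (P : Type u) [CommRing P] [Algebra M P] [Algebra A P] [IsScalarTower A M P]
    (hP : Hens2.IsPairHenselization M (I.map (algebraMap A M)) P)
    (φ : P →ₐ[A] B) (hφ : Function.Surjective φ) (hfg : (RingHom.ker φ).FG) :
    ∃ (R : Type u) (_ : CommRing R) (_ : Algebra A R) (_ : Algebra R B) (_ : IsScalarTower A R B),
      Algebra.FinitePresentation A R ∧
        Hens2.IsPairHenselization R (I.map (algebraMap A R)) B := by
  classical
  obtain ⟨s, hs⟩ := hfg
  obtain ⟨R', _, _, _, hbij, θ, hθ⟩ := exists_etale_stage hP s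
  letI : Algebra A R' := ((algebraMap M R').comp (algebraMap A M)).toAlgebra
  haveI : IsScalarTower A M R' := IsScalarTower.of_algebraMap_eq' rfl
  choose pre hpre using hθ
  let k : Finset R' := s.attach.image fun x => pre x.1 x.2
  let θA : R' →ₐ[A] P := θ.restrictScalars A
  have hk : ∀ x ∈ (Ideal.span (k : Set R')), (φ.comp θA) x = 0 := by
    intro x hx
    have : Ideal.span (k : Set R') ≤ RingHom.ker (φ.comp θA) := by
      rw [Ideal.span_le]
      intro y hy
      obtain ⟨z, -, rfl⟩ := Finset.mem_image.1 (Finset.mem_coe.1 hy)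
      show φ (θ (pre z.1 z.2)) = 0
      rw [show θ (pre z.1 z.2) = z.1 from hpre z.1 z.2]
      exact (SetLike.le_def.1 hs.le) (Ideal.subset_span z.2)
    exact this hx
  let j : (R' ⧸ Ideal.span (k : Set R')) →ₐ[A] B :=
    Ideal.Quotient.liftₐ _ (φ.comp θA) hk
  letI : Algebra (R' ⧸ Ideal.span (k : Set R')) B := j.toRingHom.toAlgebra
  haveI : IsScalarTower A (R' ⧸ Ideal.span (k : Set R')) B :=
    IsScalarTower.of_algebraMap_eq' j.comp_algebraMap.symm
  haveI : Algebra.FinitePresentation A R' := Algebra.FinitePresentation.trans A M R'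
  refine ⟨_, inferInstance, inferInstance, inferInstance, inferInstance,
    Algebra.FinitePresentation.quotient ⟨k, rfl⟩, ?_⟩
  refine isPairHenselization_of_algHom inferInstance (fun D _ _ _ f => ?_)
    (fun D _ _ _ g₁ g₂ h => ?_)
  · let f' : R' →ₐ[A] D := f.comp (Ideal.Quotient.mkₐ A _)
    obtain ⟨g, hg⟩ := hfp_exists_algHom hP (f'.comp (IsScalarTower.toAlgHom A M R'))
    have hstage : (g.comp θA).toRingHom = f'.toRingHom := by
      refine eq_of_etale_stage (J := I.map (algebraMap A D)) hbij.2
        (RingHom.ext fun m => ?_) (le_of_eq ?_)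
      · show g (θ (algebraMap M R' m)) = f' (algebraMap M R' m)
        rw [θ.commutes, hg]
        rfl
      · rw [Ideal.map_map, RingHom.comp_assoc, ← IsScalarTower.algebraMap_eq]
        exact congrArg (fun ψ => I.map ψ) (g.comp θA).comp_algebraMap
    have hker : RingHom.ker φ ≤ RingHom.ker g := by
      rw [← hs, Ideal.span_le]
      intro x hx
      show g x = 0
      rw [← show θ (pre x hx) = x from hpre x hx]
      refine (RingHom.congr_fun hstage _).trans ?_
      show f (Ideal.Quotient.mk _ (pre x hx)) = 0
      rw [Ideal.Quotient.eq_zero_iff_mem.2 (Ideal.subset_span ?_), map_zero]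
      exact Finset.mem_coe.2 (Finset.mem_image.2 ⟨⟨x, hx⟩, Finset.mem_attach _ _, rfl⟩)
    refine ⟨AlgHom.liftOfSurjective φ hφ g hker, fun t => ?_⟩
    obtain ⟨x, rfl⟩ := Ideal.Quotient.mk_surjective t
    show AlgHom.liftOfSurjective φ hφ g hker (φ (θ x)) = _
    rw [AlgHom.liftOfSurjective_apply]
    exact RingHom.congr_fun hstage x
  · have key : g₁.comp φ = g₂.comp φ := hfp_algHom_ext hP fun m => by
      have := h (Ideal.Quotient.mk _ (algebraMap M R' m))
      have hm : algebraMap (R' ⧸ Ideal.span (k : Set R')) B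
          (Ideal.Quotient.mk _ (algebraMap M R' m)) = φ (algebraMap M P m) := by
        show φ (θ (algebraMap M R' m)) = _
        rw [θ.commutes]
      rw [hm] at this
      exact this
    refine AlgHom.ext fun y => ?_
    obtain ⟨x, rfl⟩ := hφ y
    exact AlgHom.congr_fun key x

/-- The henselization of a finitely presented algebra is a finitely presented quotient of a
henselized polynomial ring. -/
theorem exists_surjective_of_finitePresentation {A : Type u} [CommRing A] {I : Ideal A}
    (R : Type u) [CommRing R] [Algebra A R] [Algebra.FinitePresentation A R]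
    (B : Type u) [CommRing B] [Algebra R B] [Algebra A B] [IsScalarTower A R B]
    (hB : Hens2.IsPairHenselization R (I.map (algebraMap A R)) B) :
    ∃ (n : ℕ) (P : Type u) (_ : CommRing P) (_ : Algebra (MvPolynomial (Fin n) A) P)
      (_ : Algebra A P) (_ : IsScalarTower A (MvPolynomial (Fin n) A) P),
      Hens2.IsPairHenselization (MvPolynomial (Fin n) A)
          (I.map (algebraMap A (MvPolynomial (Fin n) A))) P ∧
        ∃ φ : P →ₐ[A] B, Function.Surjective φ ∧ (RingHom.ker φ).FG := by
  obtain ⟨n, ψ, hψ, hfg⟩ := Algebra.FinitePresentation.out (R := A) (A := R)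
  set P := PairHenselization (MvPolynomial (Fin n) A)
    (I.map (algebraMap A (MvPolynomial (Fin n) A)))
  letI : Algebra A P :=
    ((algebraMap (MvPolynomial (Fin n) A) P).comp (algebraMap A _)).toAlgebra
  haveI : IsScalarTower A (MvPolynomial (Fin n) A) P := IsScalarTower.of_algebraMap_eq' rfl
  have hP : Hens2.IsPairHenselization (MvPolynomial (Fin n) A)
      (I.map (algebraMap A (MvPolynomial (Fin n) A))) P := isPairHenselization_pairHenselization
  set L : Ideal P := (RingHom.ker ψ).map (algebraMap (MvPolynomial (Fin n) A) P)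
  let j : R →ₐ[A] P ⧸ L := AlgHom.liftOfSurjective ψ hψ
    ((Ideal.Quotient.mkₐ A L).comp (IsScalarTower.toAlgHom A (MvPolynomial (Fin n) A) P))
    fun x hx => Ideal.Quotient.eq_zero_iff_mem.2 (Ideal.mem_map_of_mem _ hx)
  letI : Algebra R (P ⧸ L) := j.toRingHom.toAlgebra
  haveI : IsScalarTower A R (P ⧸ L) := IsScalarTower.of_algebraMap_eq' j.comp_algebraMap.symm
  have hQ : Hens2.IsPairHenselization R (I.map (algebraMap A R)) (P ⧸ L) :=
    isPairHenselization_of_quotient hP ψ hψ (Ideal.Quotient.mkₐ A L)
      Ideal.Quotient.mk_surjective (fun m => Eq.symm (show j (ψ m) = _ from AlgHom.liftOfSurjective_apply ψ hψ _ _ m))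
      (fun x hx => Ideal.Quotient.eq_zero_iff_mem.1 hx)
  obtain ⟨E⟩ := nonempty_algEquiv_of_isPairHenselization hQ hB
  refine ⟨n, P, inferInstance, inferInstance, inferInstance, inferInstance, hP,
    (E.restrictScalars A).toAlgHom.comp (Ideal.Quotient.mkₐ A L),
    E.surjective.comp Ideal.Quotient.mk_surjective, ?_⟩
  have : RingHom.ker ((E.restrictScalars A).toAlgHom.comp (Ideal.Quotient.mkₐ A L)) = L := by
    ext x
    show E (Ideal.Quotient.mk L x) = 0 ↔ _
    rw [map_eq_zero_iff _ E.injective, Ideal.Quotient.eq_zero_iff_mem]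
  rw [this]
  exact hfg.map _

end Groth.Agent.Hens
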