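import Groth.Agent.Hens.HfpIff
import Groth.Agent.Hens.DirLimit

/-!
# Henselian finite presentation and direct limits
-/

set_option linter.style.haveILetI false

universe u

namespace Groth.Agent.Hens

variable {A : Type u} [CommRing A] {I : Ideal A}

theorem algHom_directLimit_bijective {R₀ : Type u} [CommRing R₀] [Algebra A R₀]
    [Algebra.FinitePresentation A R₀] {B : Type u} [CommRing B] [Algebra R₀ B] [Algebra A B]
    [IsScalarTower A R₀ B]
    (hB : Hens2.IsPairHenselization R₀ (I.map (algebraMap A R₀)) B)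
    {κ : Type u} [Preorder κ] [IsDirectedOrder κ] [Nonempty κ]
    {G : κ → Type u} [∀ a, CommRing (G a)] [∀ a, Algebra A (G a)]
    [∀ a, HenselianRing (G a) (I.map (algebraMap A (G a)))]
    {t : ∀ a b : κ, a ≤ b → (G a →+* G b)} [DirectedSystem G (fun a b h => t a b h)]
    (ht : ∀ (a b : κ) (h : a ≤ b), (t a b h).comp (algebraMap A (G a)) = algebraMap A (G b))
    [Algebra A (DirectLimit G t)]
    (halg : ∀ (a : κ) (x : A), algebraMap A (DirectLimit G t) x =
      DirectLimit.Ring.of G t a (algebraMap A (G a) x)) :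
    (∀ χ : B →ₐ[A] DirectLimit G t, ∃ (a : κ) (φ : B →ₐ[A] G a),
        ∀ x : B, DirectLimit.Ring.of G t a (φ x) = χ x) ∧
    ∀ (a : κ) (φ ψ : B →ₐ[A] G a),
      (∀ x : B, DirectLimit.Ring.of G t a (φ x) = DirectLimit.Ring.of G t a (ψ x)) →
      ∃ (b : κ) (h : a ≤ b), ∀ x : B, t a b h (φ x) = t a b h (ψ x) := by
  classical
  let ofA : ∀ a, G a →ₐ[A] DirectLimit G t := fun a =>
    ⟨DirectLimit.Ring.of G t a, fun x => (halg a x).symm⟩
  let tA : ∀ a b (h : a ≤ b), G a →ₐ[A] G b := fun a b h =>
    ⟨t a b h, fun x => RingHom.congr_fun (ht a b h) x⟩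
  haveI := henselianRing_directLimit (I := I) ht halg
  have hmm : ∀ {a b c : κ} (h : a ≤ b) (h' : b ≤ c) (x : G a),
      t b c h' (t a b h x) = t a c (h.trans h') x := fun h h' x =>
    DirectedSystem.map_map (f := fun a b h => t a b h) h h' x
  refine ⟨fun χ => ?_, fun a φ ψ heq => ?_⟩
  · obtain ⟨n, π, hπ, s, hs⟩ := Algebra.FinitePresentation.out (R := A) (A := R₀)
    let χ₀ : R₀ →ₐ[A] DirectLimit G t := χ.comp (IsScalarTower.toAlgHom A R₀ B)
    have hpick : ∀ i : Fin n, ∃ (a : κ) (y : G a),
        DirectLimit.Ring.of G t a y = χ₀ (π (MvPolynomial.X i)) := fun i => by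
      generalize χ₀ (π (MvPolynomial.X i)) = z
      induction z using DirectLimit.induction with
      | _ a x => exact ⟨a, x, rfl⟩
    choose ai yi hyi using hpick
    obtain ⟨a, ha⟩ := Finset.exists_le (Finset.univ.image ai)
    let Φ : MvPolynomial (Fin n) A →ₐ[A] G a := MvPolynomial.aeval fun i =>
      t (ai i) a (ha _ (Finset.mem_image_of_mem _ (Finset.mem_univ i))) (yi i)
    have hΦ : (ofA a).comp Φ = χ₀.comp π := by
      refine MvPolynomial.algHom_ext fun i => ?_
      show DirectLimit.Ring.of G t a (Φ (MvPolynomial.X i)) = _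
      rw [MvPolynomial.aeval_X, DirectLimit.Ring.of_f]
      exact hyi i
    have hzero : ∀ p ∈ s, ∃ (b : κ) (h : a ≤ b), t a b h (Φ p) = 0 := fun p hp => by
      have h0 : DirectLimit.Ring.of G t a (Φ p) = DirectLimit.Ring.of G t a 0 := by
        refine (AlgHom.congr_fun hΦ p).trans ?_
        rw [AlgHom.comp_apply, show π p = 0 from hs.le (Ideal.subset_span hp), map_zero, map_zero]
      obtain ⟨b, h, h', e⟩ := of_eq_of_exists h0
      exact ⟨b, h, e.trans (map_zero _)⟩
    choose bp hbp hbp0 using hzero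
    obtain ⟨b, hb⟩ := Finset.exists_le (insert a (s.attach.image fun p : {x // x ∈ s} => bp p.1 p.2))
    have hab : a ≤ b := hb a (Finset.mem_insert_self _ _)
    have hker : RingHom.ker π ≤ RingHom.ker ((tA a b hab).comp Φ) := by
      refine hs.ge.trans ?_
      rw [Ideal.span_le]
      intro p hp
      show t a b hab (Φ p) = 0
      have hpb : bp p hp ≤ b := hb _ (Finset.mem_insert_of_mem
        (Finset.mem_image.2 ⟨⟨p, hp⟩, Finset.mem_attach _ _, rfl⟩))
      rw [← hmm (hbp p hp) hpb, hbp0, map_zero]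
    obtain ⟨φ, hφ⟩ := hfp_exists_algHom hB (AlgHom.liftOfSurjective π hπ _ hker)
    refine ⟨b, φ, AlgHom.congr_fun (hfp_algHom_ext hB (g₁ := (ofA b).comp φ) (g₂ := χ) ?_)⟩
    intro r
    obtain ⟨p, rfl⟩ := hπ r
    rw [AlgHom.comp_apply, hφ, AlgHom.liftOfSurjective_apply]
    show DirectLimit.Ring.of G t b (t a b hab (Φ p)) = _
    rw [DirectLimit.Ring.of_f]
    exact AlgHom.congr_fun hΦ p
  · obtain ⟨s, hs⟩ := (Algebra.FiniteType.out : (⊤ : Subalgebra A R₀).FG)
    have hex : ∀ r ∈ s, ∃ (b : κ) (h : a ≤ b),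
        t a b h (φ (algebraMap R₀ B r)) = t a b h (ψ (algebraMap R₀ B r)) := fun r _ => by
      obtain ⟨b, h, h', e⟩ := of_eq_of_exists (heq (algebraMap R₀ B r))
      exact ⟨b, h, e⟩
    choose bp hbp hbe using hex
    obtain ⟨b, hb⟩ := Finset.exists_le (insert a (s.attach.image fun p : {x // x ∈ s} => bp p.1 p.2))
    have hab : a ≤ b := hb a (Finset.mem_insert_self _ _)
    have hR : ((tA a b hab).comp φ).comp (IsScalarTower.toAlgHom A R₀ B) =
        ((tA a b hab).comp ψ).comp (IsScalarTower.toAlgHom A R₀ B) := by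
      refine AlgHom.ext_of_adjoin_eq_top hs fun r hr => ?_
      show t a b hab (φ (algebraMap R₀ B r)) = t a b hab (ψ (algebraMap R₀ B r))
      have hpb : bp r hr ≤ b := hb _ (Finset.mem_insert_of_mem
        (Finset.mem_image.2 ⟨⟨r, hr⟩, Finset.mem_attach _ _, rfl⟩))
      rw [← hmm (hbp r hr) hpb, hbe, hmm]
    exact ⟨b, hab, AlgHom.congr_fun (hfp_algHom_ext hB (g₁ := (tA a b hab).comp φ)
      (g₂ := (tA a b hab).comp ψ) (AlgHom.congr_fun hR))⟩

/-- The universal hypothesis of `hfp_of_algHom_directLimit_bijective`: liftability only. -/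
def LiftsFromLimits (A : Type u) [CommRing A] (I : Ideal A) (B : Type u) [CommRing B]
    [Algebra A B] : Prop :=
  ∀ (κ : Type u) [Preorder κ] [IsDirectedOrder κ] [Nonempty κ]
    (G : κ → Type u) [∀ a, CommRing (G a)] [∀ a, Algebra A (G a)]
    [∀ a, HenselianRing (G a) (I.map (algebraMap A (G a)))]
    (t : ∀ a b : κ, a ≤ b → (G a →+* G b)) [DirectedSystem G (fun a b h => t a b h)]
    (ht : ∀ (a b : κ) (h : a ≤ b), (t a b h).comp (algebraMap A (G a)) = algebraMap A (G b))
    [Algebra A (DirectLimit G t)]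
    (halg : ∀ (a : κ) (x : A), algebraMap A (DirectLimit G t) x =
      DirectLimit.Ring.of G t a (algebraMap A (G a) x))
    (χ : B →ₐ[A] DirectLimit G t), ∃ (a : κ) (φ : B →ₐ[A] G a),
      ∀ x : B, DirectLimit.Ring.of G t a (φ x) = χ x

variable {B : Type u} [CommRing B] [Algebra A B]

/-- A compatible family that identifies `B` with the direct limit factors through a stage. -/
theorem exists_section_of_limit (h : LiftsFromLimits A I B) {κ : Type u} [Preorder κ]
    [IsDirectedOrder κ] [Nonempty κ] (G : κ → Type u) [∀ a, CommRing (G a)] [∀ a, Algebra A (G a)]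
    [∀ a, HenselianRing (G a) (I.map (algebraMap A (G a)))]
    (t : ∀ a b : κ, a ≤ b → (G a →ₐ[A] G b))
    [DirectedSystem G (fun a b h => (t a b h).toRingHom)]
    (π : ∀ a, G a →ₐ[A] B) (hπ : ∀ a b (h : a ≤ b) (x : G a), π b (t a b h x) = π a x)
    (hsurj : ∀ y : B, ∃ a x, π a x = y)
    (hinj : ∀ (a : κ) (x : G a), π a x = 0 → ∃ (b : κ) (h : a ≤ b), t a b h x = 0) :
    ∃ (a : κ) (φ : B →ₐ[A] G a), (π a).comp φ = AlgHom.id A B := by
  classical
  let tR : ∀ a b : κ, a ≤ b → (G a →+* G b) := fun a b h => (t a b h).toRingHom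
  haveI : DirectedSystem G (fun a b h => tR a b h) := ‹_›
  letI : Algebra A (DirectLimit G tR) :=
    ((DirectLimit.Ring.of G tR (Classical.arbitrary κ)).comp (algebraMap A _)).toAlgebra
  have halg : ∀ (a : κ) (x : A), algebraMap A (DirectLimit G tR) x =
      DirectLimit.Ring.of G tR a (algebraMap A (G a) x) := fun a x => by
    obtain ⟨c, hc, hc'⟩ := exists_ge_ge (Classical.arbitrary κ) a
    show DirectLimit.Ring.of G tR _ (algebraMap A _ x) = _
    rw [← DirectLimit.Ring.of_f hc, ← DirectLimit.Ring.of_f hc']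
    exact congrArg _ (((t _ _ hc).commutes x).trans ((t _ _ hc').commutes x).symm)
  let piL : DirectLimit G tR →+* B :=
    DirectLimit.Ring.lift G tR B (fun a => (π a).toRingHom) (fun a b h x => hπ a b h x)
  let piA : DirectLimit G tR →ₐ[A] B := ⟨piL, fun x => by
    show piL _ = _
    rw [halg (Classical.arbitrary κ), DirectLimit.Ring.lift_of]
    exact (π _).commutes x⟩
  have hbij : Function.Bijective piA := by
    refine ⟨(injective_iff_map_eq_zero piA).2 fun z hz => ?_, fun y => ?_⟩
    · induction z using DirectLimit.induction with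
      | _ a x =>
        obtain ⟨b, hab, hb⟩ := hinj a x hz
        show DirectLimit.Ring.of G tR a x = 0
        rw [← DirectLimit.Ring.of_f hab, show tR a b hab x = 0 from hb, map_zero]
    · obtain ⟨a, x, rfl⟩ := hsurj y
      exact ⟨DirectLimit.Ring.of G tR a x, rfl⟩
  obtain ⟨a, φ, hφ⟩ := h κ G tR (fun a b hab => (t a b hab).comp_algebraMap) halg
    (AlgEquiv.ofBijective piA hbij).symm.toAlgHom
  refine ⟨a, φ, AlgHom.ext fun x => ?_⟩
  show piA (DirectLimit.Ring.of G tR a (φ x)) = x
  rw [hφ]
  exact (AlgEquiv.ofBijective piA hbij).apply_symm_apply x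

/-- An algebra `A`-liftable from direct limits of henselian pairs is Henselian finitely presented. -/
theorem exists_finitePresentation_of_lifts (h : LiftsFromLimits A I B)
    [HenselianRing B (I.map (algebraMap A B))] :
    ∃ (R : Type u) (_ : CommRing R) (_ : Algebra A R) (_ : Algebra R B) (_ : IsScalarTower A R B),
      Algebra.FinitePresentation A R ∧
        Hens2.IsPairHenselization R (I.map (algebraMap A R)) B := by
  classical
  let M : Finset B → Type u := fun s => MvPolynomial s A
  let P : Finset B → Type u := fun s =>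
    PairHenselization (MvPolynomial s A) (I.map (algebraMap A (MvPolynomial s A)))
  let algP : ∀ s, Algebra A (P s) := fun s =>
    ((algebraMap (MvPolynomial s A) (P s)).comp (algebraMap A (MvPolynomial s A))).toAlgebra
  letI := algP
  haveI hT : ∀ s : Finset B, IsScalarTower A (MvPolynomial s A) (P s) := fun s =>
    IsScalarTower.of_algebraMap_eq' rfl
  have hP : ∀ s : Finset B, Hens2.IsPairHenselization (MvPolynomial s A)
      (I.map (algebraMap A (MvPolynomial s A))) (P s) := fun s =>
    isPairHenselization_pairHenselization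
  haveI hPH : ∀ s : Finset B, HenselianRing (P s) (I.map (algebraMap A (P s))) := fun s => by
    have := (hP s).1
    rwa [Ideal.map_map, ← IsScalarTower.algebraMap_eq] at this
  choose π hπ using fun s : Finset B => hfp_exists_algHom (hP s)
    (MvPolynomial.aeval (fun x : s => (x : B)))
  -- first step: some finite set generates
  have hmono : ∀ s s' : Finset B, s ≤ s' → (π s).range ≤ (π s').range := by
    intro s s' hss'
    obtain ⟨g, hg⟩ := hfp_exists_algHom (hP s) ((IsScalarTower.toAlgHom A _ (P s')).comp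
      (MvPolynomial.rename fun x : s => (⟨x.1, hss' x.2⟩ : s')))
    have : (π s').comp g = π s := hfp_algHom_ext (hP s) fun p => by
      rw [AlgHom.comp_apply, hg, hπ s]
      show π s' (algebraMap (MvPolynomial s' A) (P s') _) = _
      rw [hπ s']
      exact MvPolynomial.aeval_rename _ _ _
    rintro _ ⟨x, rfl⟩
    exact ⟨g x, AlgHom.congr_fun this x⟩
  haveI : ∀ s, HenselianRing (π s).range (I.map (algebraMap A (π s).range)) := fun s =>
    henselianRing_of_surjective (π s).rangeRestrict (π s).rangeRestrict_surjective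
  haveI : DirectedSystem (fun s => (π s).range)
      (fun a b hab => (Subalgebra.inclusion (hmono a b hab)).toRingHom) :=
    ⟨fun _ _ => rfl, fun _ _ _ _ _ _ => rfl⟩
  obtain ⟨s, φ, hφ⟩ := exists_section_of_limit h (fun s => (π s).range)
    (fun a b hab => Subalgebra.inclusion (hmono a b hab)) (fun s => (π s).range.val)
    (fun _ _ _ _ => rfl)
    (fun y => ⟨{y}, ⟨π {y} (algebraMap (MvPolynomial ({y} : Finset B) A) _
      (MvPolynomial.X ⟨y, Finset.mem_singleton_self y⟩)), _, rfl⟩, by
        show π {y} _ = y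
        rw [hπ, MvPolynomial.aeval_X]⟩)
    (fun a x hx => ⟨a, le_rfl, Subtype.ext hx⟩)
  have hsurj : Function.Surjective (π s) := fun y => by
    obtain ⟨x, hx⟩ := (φ y).2
    exact ⟨x, hx.trans (AlgHom.congr_fun hφ y)⟩
  -- second step: the kernel is finitely generated
  let K : Finset (RingHom.ker (π s)) → Ideal (P s) := fun F =>
    Ideal.span ((fun x : RingHom.ker (π s) => (x : P s)) '' F)
  have hKle : ∀ F, K F ≤ RingHom.ker (π s) := fun F => by
    rw [Ideal.span_le]
    rintro _ ⟨x, -, rfl⟩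
    exact x.2
  have hKmono : ∀ F F', F ≤ F' → K F ≤ K F' := fun F F' hFF' =>
    Ideal.span_mono (Set.image_mono (Finset.coe_subset.2 hFF'))
  haveI : ∀ F, HenselianRing (P s ⧸ K F) (I.map (algebraMap A (P s ⧸ K F))) := fun F =>
    henselianRing_of_surjective (Ideal.Quotient.mkₐ A (K F)) Ideal.Quotient.mk_surjective
  haveI : DirectedSystem (fun F => P s ⧸ K F)
      (fun a b hab => (Ideal.Quotient.factorₐ A (hKmono a b hab)).toRingHom) :=
    ⟨fun _ x => by obtain ⟨x, rfl⟩ := Ideal.Quotient.mk_surjective x; rfl,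
      fun _ _ _ _ _ x => by obtain ⟨x, rfl⟩ := Ideal.Quotient.mk_surjective x; rfl⟩
  obtain ⟨F, ψ, hψ⟩ := exists_section_of_limit h (fun F => P s ⧸ K F)
    (fun a b hab => Ideal.Quotient.factorₐ A (hKmono a b hab))
    (fun F => Ideal.Quotient.liftₐ (K F) (π s) fun x hx => hKle F hx)
    (fun a b hab x => by obtain ⟨x, rfl⟩ := Ideal.Quotient.mk_surjective x; rfl)
    (fun y => ⟨∅, Ideal.Quotient.mk _ (hsurj y).choose, (hsurj y).choose_spec⟩)
    (fun a x hx => by
      obtain ⟨x, rfl⟩ := Ideal.Quotient.mk_surjective x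
      refine ⟨insert ⟨x, hx⟩ a, Finset.subset_insert _ _, ?_⟩
      show Ideal.Quotient.mk _ x = 0
      exact Ideal.Quotient.eq_zero_iff_mem.2
        (Ideal.subset_span ⟨⟨x, hx⟩, Finset.mem_insert_self _ _, rfl⟩))
  have hdiff : ∀ i : s, ∃ d : RingHom.ker (π s),
      Ideal.Quotient.mk (K F) (d : P s) = Ideal.Quotient.mk (K F)
        (algebraMap (MvPolynomial s A) (P s) (MvPolynomial.X i)) - ψ i.1 := fun i => by
    obtain ⟨z, hz⟩ := Ideal.Quotient.mk_surjective (ψ i.1)
    refine ⟨⟨algebraMap (MvPolynomial s A) (P s) (MvPolynomial.X i) - z, ?_⟩, ?_⟩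
    · have h1 : π s z = i.1 := by
        have := AlgHom.congr_fun hψ i.1
        rwa [AlgHom.comp_apply, ← hz] at this
      show π s _ = 0
      rw [map_sub, h1, hπ, MvPolynomial.aeval_X, sub_self]
    · rw [map_sub, hz]
  choose d hd using hdiff
  let F' := F ∪ Finset.univ.image d
  have hFF' : F ≤ F' := Finset.subset_union_left
  have key : ((Ideal.Quotient.factorₐ A (hKmono F F' hFF')).comp ψ).comp (π s) =
      Ideal.Quotient.mkₐ A (K F') := by
    refine hfp_algHom_ext (hP s) fun p => ?_
    have : (((Ideal.Quotient.factorₐ A (hKmono F F' hFF')).comp ψ).comp (π s)).comp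
        (IsScalarTower.toAlgHom A (MvPolynomial s A) (P s)) =
        (Ideal.Quotient.mkₐ A (K F')).comp (IsScalarTower.toAlgHom A (MvPolynomial s A) (P s)) := by
      refine MvPolynomial.algHom_ext fun i => ?_
      show Ideal.Quotient.factorₐ A (hKmono F F' hFF')
          (ψ (π s (algebraMap (MvPolynomial s A) (P s) (MvPolynomial.X i)))) =
        Ideal.Quotient.mk (K F') (algebraMap (MvPolynomial s A) (P s) (MvPolynomial.X i))
      rw [hπ, MvPolynomial.aeval_X]
      have h0 : Ideal.Quotient.mk (K F') (d i : P s) = 0 :=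
        Ideal.Quotient.eq_zero_iff_mem.2 (Ideal.subset_span
          ⟨d i, Finset.mem_union_right _ (Finset.mem_image_of_mem _ (Finset.mem_univ i)), rfl⟩)
      have h1 : Ideal.Quotient.mk (K F') (d i : P s) = Ideal.Quotient.factorₐ A (hKmono F F' hFF')
          (Ideal.Quotient.mk (K F) (d i : P s)) := rfl
      rw [h1, hd, map_sub, sub_eq_zero] at h0
      exact h0.symm
    exact AlgHom.congr_fun this p
  have hker : RingHom.ker (π s) = K F' := le_antisymm (fun x hx => by
    rw [← Ideal.Quotient.eq_zero_iff_mem, ← Ideal.Quotient.mkₐ_eq_mk A, ← key, AlgHom.comp_apply,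
      show π s x = 0 from hx, map_zero]) (hKle F')
  refine exists_finitePresentation_of_surjective (MvPolynomial s A) (P s) (hP s) (π s) hsurj ?_
  rw [hker]
  exact Submodule.fg_span (F'.finite_toSet.image _)

end Groth.Agent.Hens
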