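import Groth.Agent.Hens.HfpEtale
import Groth.Agent.S6827
import Groth.Agent.S0536

/-!
# Henselian finitely presented algebras with smooth reduction
-/

set_option autoImplicit false
set_option linter.style.haveILetI false
set_option backward.isDefEq.respectTransparency.types false

universe u

namespace Groth.Agent.Hens

variable {A : Type u} [CommRing A] {I : Ideal A}

/-- A Henselian finitely presented algebra with smooth reduction is a quotient of an h-smooth one. -/
theorem exists_smooth_surjection [HenselianRing A I] {R₀ : Type u} [CommRing R₀] [Algebra A R₀]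
    [Algebra.FinitePresentation A R₀] {B : Type u} [CommRing B] [Algebra R₀ B] [Algebra A B]
    [IsScalarTower A R₀ B] (hB : Hens2.IsPairHenselization R₀ (I.map (algebraMap A R₀)) B)
    (het : Algebra.Smooth (A ⧸ I ^ 1) (B ⧸ (I ^ 1).map (algebraMap A B))) :
    ∃ (R : Type u) (_ : CommRing R) (_ : Algebra A R) (H : Type u) (_ : CommRing H) (_ : Algebra R H)
      (_ : Algebra A H) (_ : IsScalarTower A R H),
      Algebra.Smooth A R ∧ Hens2.IsPairHenselization R (I.map (algebraMap A R)) H ∧
      ∃ φ : H →ₐ[A] B, Function.Surjective φ ∧ (RingHom.ker φ).FG ∧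
        ∀ x, φ x ∈ I.map (algebraMap A B) → x ∈ I.map (algebraMap A H) := by
  haveI hBI : HenselianRing B (I.map (algebraMap A B)) := by
    have := hB.1
    rwa [Ideal.map_map, ← IsScalarTower.algebraMap_eq] at this
  haveI := het
  obtain ⟨S, _, _, hS, ⟨e⟩⟩ := S6827.result (R := A) (A₀ := B ⧸ (I ^ 1).map (algebraMap A B)) (I ^ 1)
  haveI := hS
  let σ : S →ₐ[A] B ⧸ (I ^ 1).map (algebraMap A B) :=
    (e.toAlgHom.restrictScalars A).comp (Ideal.Quotient.mkₐ A _)
  have hσs : Function.Surjective σ := e.surjective.comp Ideal.Quotient.mk_surjective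
  have hσk : ∀ s, σ s = 0 → s ∈ (I ^ 1).map (algebraMap A S) := fun s hs =>
    Ideal.Quotient.eq_zero_iff_mem.1 (e.injective (hs.trans (map_zero e).symm))
  haveI : HenselianRing B ((I ^ 1).map (algebraMap A B)) := by rwa [pow_one]
  obtain ⟨θ, hθ'⟩ := S0536.result A S B ((I ^ 1).map (algebraMap A B)) σ
  have hθ : ∀ s, Ideal.Quotient.mk _ (θ s) = σ s := fun s => AlgHom.congr_fun hθ' s
  set H := PairHenselization S (I.map (algebraMap A S))
  letI : Algebra A H := ((algebraMap S H).comp (algebraMap A S)).toAlgebra
  haveI : IsScalarTower A S H := IsScalarTower.of_algebraMap_eq' rfl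
  have hH : Hens2.IsPairHenselization S (I.map (algebraMap A S)) H :=
    isPairHenselization_pairHenselization
  haveI hHI : HenselianRing H (I.map (algebraMap A H)) := by
    have := hH.1
    rwa [Ideal.map_map, ← IsScalarTower.algebraMap_eq] at this
  obtain ⟨Φ, hΦ⟩ := hfp_exists_algHom hH θ
  -- injective modulo `I`
  have hinj : ∀ x, Φ x ∈ I.map (algebraMap A B) → x ∈ I.map (algebraMap A H) := by
    intro x hx
    obtain ⟨y, hy⟩ := (bijective_quotientMap_of_isPairHenselization hH).2 (Ideal.Quotient.mk _ x)
    obtain ⟨s, rfl⟩ := Ideal.Quotient.mk_surjective y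
    rw [Ideal.quotientMap_mk, Ideal.Quotient.eq, Ideal.map_map,
      ← IsScalarTower.algebraMap_eq] at hy
    have h1 : Φ (algebraMap S H s - x) ∈ I.map (algebraMap A B) := by
      have := Ideal.mem_map_of_mem Φ.toRingHom hy
      rwa [Ideal.map_map,
        show Φ.toRingHom.comp (algebraMap A H) = algebraMap A B from Φ.comp_algebraMap] at this
    have h2 : θ s ∈ I.map (algebraMap A B) := by
      rw [← hΦ, show Φ (algebraMap S H s) = Φ (algebraMap S H s - x) + Φ x by
        rw [map_sub, sub_add_cancel]]
      exact Ideal.add_mem _ h1 hx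
    have h3 : σ s = 0 := by
      rw [← hθ, Ideal.Quotient.eq_zero_iff_mem, pow_one]
      exact h2
    have h4 : algebraMap S H s ∈ I.map (algebraMap A H) := by
      have := Ideal.mem_map_of_mem (algebraMap S H) (hσk s h3)
      rwa [pow_one, Ideal.map_map, ← IsScalarTower.algebraMap_eq] at this
    rw [show x = algebraMap S H s - (algebraMap S H s - x) by rw [sub_sub_cancel]]
    exact Ideal.sub_mem _ h4 hy
  letI : Algebra H B := Φ.toRingHom.toAlgebra
  haveI : IsScalarTower A H B := IsScalarTower.of_algebraMap_eq' Φ.comp_algebraMap.symm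
  obtain ⟨T, _, _, _, _, hTfp, hT⟩ := exists_finitePresentation_algHom (A := A) hH hB
  haveI := hTfp
  haveI : IsScalarTower H T B := inferInstance
  have hB1 : ∀ b : B, ∃ h : H, Φ h - b ∈ I.map (algebraMap A B) := fun b => by
    obtain ⟨s, hs⟩ := hσs (Ideal.Quotient.mk _ b)
    refine ⟨algebraMap S H s, ?_⟩
    rw [hΦ]
    rw [← hθ, Ideal.Quotient.eq, pow_one] at hs
    exact hs
  have hIB : ((I.map (algebraMap A H)).map (algebraMap H T)).map (algebraMap T B) =
      I.map (algebraMap A B) := by
    rw [Ideal.map_map, ← IsScalarTower.algebraMap_eq, Ideal.map_map,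
      ← IsScalarTower.algebraMap_eq]
  haveI : Module.Finite H (T ⧸ (I.map (algebraMap A H)).map (algebraMap H T)) := by
    refine Module.Finite.of_surjective (Algebra.linearMap H _) fun z => ?_
    obtain ⟨t, rfl⟩ := Ideal.Quotient.mk_surjective z
    obtain ⟨h, hh⟩ := hB1 (algebraMap T B t)
    refine ⟨h, (bijective_quotientMap_of_isPairHenselization hT).1 ?_⟩
    rw [Algebra.linearMap_apply,
      show algebraMap H (T ⧸ (I.map (algebraMap A H)).map (algebraMap H T)) h =
        Ideal.Quotient.mk _ (algebraMap H T h) from rfl, Ideal.quotientMap_mk,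
      Ideal.quotientMap_mk, Ideal.Quotient.eq, ← IsScalarTower.algebraMap_apply, hIB]
    exact hh
  obtain ⟨E, -, -, hfin, hTE⟩ := exists_finite_isPairHenselization (I := I.map (algebraMap A H)) T
  obtain ⟨e⟩ := nonempty_algEquiv_of_isPairHenselization hTE hT
  haveI := hfin
  haveI : Module.Finite H B := Module.Finite.equiv (e.restrictScalars H).toLinearEquiv
  haveI : Algebra.FinitePresentation H B :=
    (Algebra.FinitePresentation.quotient (R := H) ⟨{1 - E}, by simp⟩).equiv (e.restrictScalars H)
  have hsurj : Function.Surjective Φ := by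
    have hjac : I.map (algebraMap A H) ≤ Ideal.jacobson ⊥ := HenselianRing.jac
    have htop : (⊤ : Submodule H B) ≤ LinearMap.range (Algebra.linearMap H B) := by
      refine Submodule.le_of_le_smul_of_le_jacobson_bot Module.Finite.fg_top hjac ?_
      intro b _
      obtain ⟨h, hh⟩ := hB1 b
      have : b = Φ h + (b - Φ h) := by rw [add_sub_cancel]
      rw [this]
      refine Submodule.add_mem_sup ⟨h, rfl⟩ ?_
      rw [Ideal.smul_top_eq_map, Ideal.map_map, ← IsScalarTower.algebraMap_eq,
        Submodule.restrictScalars_mem, ← neg_sub]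
      exact neg_mem hh
    intro b
    exact htop (Submodule.mem_top (x := b))
  refine ⟨S, inferInstance, inferInstance, H, inferInstance, inferInstance, inferInstance,
    inferInstance, hS, hH, Φ, hsurj, ?_, hinj⟩
  exact Algebra.FinitePresentation.ker_fG_of_surjective (Algebra.ofId H B) hsurj


end Groth.Agent.Hens
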