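import Groth.Agent.Hens.HfpEtale
import Groth.Agent.Hens.PairStage
import Mathlib.RingTheory.Etale.Basic

/-!
# Truncations of Henselian finitely presented maps
-/

set_option linter.style.haveILetI false

universe u

namespace Groth.Agent.Hens

variable {A : Type u} [CommRing A] {I : Ideal A}

theorem finitePresentation_truncation {R₀ : Type u} [CommRing R₀] [Algebra A R₀]
    [Algebra.FinitePresentation A R₀] {B : Type u} [CommRing B] [Algebra R₀ B] [Algebra A B]
    [IsScalarTower A R₀ B] (hB : Hens2.IsPairHenselization R₀ (I.map (algebraMap A R₀)) B)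
    (r : ℕ) : Algebra.FinitePresentation (A ⧸ I ^ r) (B ⧸ (I ^ r).map (algebraMap A B)) := by
  haveI : Algebra.FinitePresentation (A ⧸ I ^ r) (R₀ ⧸ (I ^ r).map (algebraMap A R₀)) :=
    (inferInstance : Algebra.FinitePresentation (A ⧸ I ^ r)
      (TensorProduct A (A ⧸ I ^ r) R₀)).equiv
        (Algebra.TensorProduct.quotIdealMapEquivQuotTensor R₀ (I ^ r)).symm
  haveI : Module.Flat R₀ B := flat_of_isPairHenselization hB
  have hq := bijective_quotientMap_of_isPairHenselization hB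
  have hmap : ((I.map (algebraMap A R₀)) ^ r).map (algebraMap R₀ B) =
      (I ^ r).map (algebraMap A B) := by
    rw [← Ideal.map_pow, Ideal.map_map, ← IsScalarTower.algebraMap_eq]
  let f : (R₀ ⧸ (I ^ r).map (algebraMap A R₀)) →ₐ[A ⧸ I ^ r]
      (B ⧸ (I ^ r).map (algebraMap A B)) :=
    { Ideal.quotientMap _ (algebraMap R₀ B) (by
        rw [Ideal.map_le_iff_le_comap, Ideal.comap_comap, ← IsScalarTower.algebraMap_eq]
        exact Ideal.le_comap_map) with
      commutes' := fun a => by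
        obtain ⟨a, rfl⟩ := Ideal.Quotient.mk_surjective a
        show Ideal.Quotient.mk _ (algebraMap R₀ B (algebraMap A R₀ a)) = _
        rw [← IsScalarTower.algebraMap_apply]
        rfl }
  have hf : Function.Bijective f := by
    refine ⟨(injective_iff_map_eq_zero f).2 fun x hx => ?_, fun y => ?_⟩
    · obtain ⟨x, rfl⟩ := Ideal.Quotient.mk_surjective x
      have hx' : algebraMap R₀ B x ∈ (I ^ r).map (algebraMap A B) :=
        Ideal.Quotient.eq_zero_iff_mem.1 hx
      rw [← hmap] at hx'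
      rw [Ideal.Quotient.eq_zero_iff_mem, Ideal.map_pow]
      exact mem_pow_of_mem_map_pow hq r x hx'
    · obtain ⟨y, rfl⟩ := Ideal.Quotient.mk_surjective y
      obtain ⟨x, hx⟩ := exists_sub_mem_map_pow hq.2 r y
      rw [hmap] at hx
      exact ⟨Ideal.Quotient.mk _ x, (Ideal.Quotient.eq.2 hx).symm⟩
  exact Algebra.FinitePresentation.equiv (AlgEquiv.ofBijective f hf)

section Lifting

variable {B : Type u} [CommRing B] [Algebra A B]

theorem exists_lift_of_formallySmooth_truncation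
    (h : ∀ r : ℕ, 1 ≤ r →
      Algebra.FormallySmooth (A ⧸ I ^ r) (B ⧸ (I ^ r).map (algebraMap A B)))
    {E C : Type u} [CommRing E] [CommRing C] [Algebra A E] [Algebra A C] {N : ℕ} (hN : 1 ≤ N)
    (hE : (I ^ N).map (algebraMap A E) = ⊥)
    (hC : (I ^ N).map (algebraMap A C) = ⊥) (p : E →ₐ[A] C) (hp : Function.Surjective p)
    (hnil : ∃ M : ℕ, 1 ≤ M ∧ RingHom.ker p ^ M = ⊥) (u : B →ₐ[A] C) :
    ∃ v : B →ₐ[A] E, p.comp v = u := by
  haveI := h N hN
  have killE : ∀ a ∈ I ^ N, algebraMap A E a = 0 := fun a ha =>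
    (Submodule.mem_bot E).1 (hE ▸ Ideal.mem_map_of_mem _ ha)
  have killC : ∀ a ∈ I ^ N, algebraMap A C a = 0 := fun a ha =>
    (Submodule.mem_bot C).1 (hC ▸ Ideal.mem_map_of_mem _ ha)
  letI : Algebra (A ⧸ I ^ N) E := (Ideal.Quotient.lift _ (algebraMap A E) killE).toAlgebra
  letI : Algebra (A ⧸ I ^ N) C := (Ideal.Quotient.lift _ (algebraMap A C) killC).toAlgebra
  let p' : E →ₐ[A ⧸ I ^ N] C :=
    { p with
      commutes' := fun a => by
        obtain ⟨a, rfl⟩ := Ideal.Quotient.mk_surjective a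
        exact p.commutes a }
  have hu : ∀ x ∈ (I ^ N).map (algebraMap A B), u x = 0 := fun x hx => by
    have := Ideal.mem_map_of_mem u.toRingHom hx
    rw [Ideal.map_map,
      show u.toRingHom.comp (algebraMap A B) = algebraMap A C from u.comp_algebraMap, hC] at this
    exact this
  let u' : (B ⧸ (I ^ N).map (algebraMap A B)) →ₐ[A ⧸ I ^ N] C :=
    { Ideal.Quotient.lift _ u.toRingHom hu with
      commutes' := fun a => by
        obtain ⟨a, rfl⟩ := Ideal.Quotient.mk_surjective a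
        exact u.commutes a }
  have hn : IsNilpotent (RingHom.ker (p' : E →+* C)) := by
    obtain ⟨M, -, hM⟩ := hnil
    exact ⟨M, hM⟩
  let v := Algebra.FormallySmooth.liftOfSurjective u' p' hp hn
  refine ⟨⟨v.toRingHom.comp (Ideal.Quotient.mk _), fun a => ?_⟩, AlgHom.ext fun x => ?_⟩
  · exact v.commutes (Ideal.Quotient.mk _ a)
  · exact (Algebra.FormallySmooth.liftOfSurjective_apply u' p' hp hn (Ideal.Quotient.mk _ x))

theorem lift_unique_of_formallyUnramified_truncation
    (h : ∀ r : ℕ, 1 ≤ r →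
      Algebra.FormallyUnramified (A ⧸ I ^ r) (B ⧸ (I ^ r).map (algebraMap A B)))
    {E C : Type u} [CommRing E] [CommRing C] [Algebra A E] [Algebra A C] {N : ℕ} (hN : 1 ≤ N)
    (hE : (I ^ N).map (algebraMap A E) = ⊥)
    (p : E →ₐ[A] C) (hnil : ∃ M : ℕ, 1 ≤ M ∧ RingHom.ker p ^ M = ⊥)
    (v₁ v₂ : B →ₐ[A] E) (he : p.comp v₁ = p.comp v₂) : v₁ = v₂ := by
  haveI := h N hN
  have killE : ∀ a ∈ I ^ N, algebraMap A E a = 0 := fun a ha =>
    (Submodule.mem_bot E).1 (hE ▸ Ideal.mem_map_of_mem _ ha)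
  have killC : ∀ a ∈ I ^ N, algebraMap A C a = 0 := fun a ha => by
    rw [← p.commutes, killE a ha, map_zero]
  letI : Algebra (A ⧸ I ^ N) E := (Ideal.Quotient.lift _ (algebraMap A E) killE).toAlgebra
  letI : Algebra (A ⧸ I ^ N) C := (Ideal.Quotient.lift _ (algebraMap A C) killC).toAlgebra
  let p' : E →ₐ[A ⧸ I ^ N] C :=
    { p with
      commutes' := fun a => by
        obtain ⟨a, rfl⟩ := Ideal.Quotient.mk_surjective a
        exact p.commutes a }
  have hv : ∀ (v : B →ₐ[A] E), ∀ x ∈ (I ^ N).map (algebraMap A B), v x = 0 := fun v x hx => by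
    have := Ideal.mem_map_of_mem v.toRingHom hx
    rw [Ideal.map_map,
      show v.toRingHom.comp (algebraMap A B) = algebraMap A E from v.comp_algebraMap, hE] at this
    exact this
  let bar : (B →ₐ[A] E) → ((B ⧸ (I ^ N).map (algebraMap A B)) →ₐ[A ⧸ I ^ N] E) := fun v =>
    { Ideal.Quotient.lift _ v.toRingHom (hv v) with
      commutes' := fun a => by
        obtain ⟨a, rfl⟩ := Ideal.Quotient.mk_surjective a
        exact v.commutes a }
  have hn : IsNilpotent (RingHom.ker (p' : E →+* C)) := by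
    obtain ⟨M, -, hM⟩ := hnil
    exact ⟨M, hM⟩
  have := Algebra.FormallyUnramified.lift_unique' p' hn (bar v₁) (bar v₂) (AlgHom.ext fun z => by
    obtain ⟨z, rfl⟩ := Ideal.Quotient.mk_surjective z
    exact AlgHom.congr_fun he z)
  exact AlgHom.ext fun x => AlgHom.congr_fun this (Ideal.Quotient.mk _ x)

/-- Square-zero lifting for a truncation from the lifting property over `A`. -/
theorem exists_lift_truncation {r : ℕ} {E : Type u} [CommRing E] [Algebra (A ⧸ I ^ r) E]
    (J : Ideal E) (hJ : J ^ 2 = ⊥)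
    (h : ∀ (E C : Type u) [CommRing E] [CommRing C] [Algebra A E] [Algebra A C] (N : ℕ), 1 ≤ N →
        (I ^ N).map (algebraMap A E) = ⊥ → (I ^ N).map (algebraMap A C) = ⊥ →
        ∀ (p : E →ₐ[A] C), Function.Surjective p → (∃ M : ℕ, 1 ≤ M ∧ RingHom.ker p ^ M = ⊥) →
        ∀ u : B →ₐ[A] C, ∃ v : B →ₐ[A] E, p.comp v = u)
    (hr : 1 ≤ r) (u : (B ⧸ (I ^ r).map (algebraMap A B)) →ₐ[A ⧸ I ^ r] E ⧸ J) :
    ∃ v : (B ⧸ (I ^ r).map (algebraMap A B)) →ₐ[A ⧸ I ^ r] E,
      (Ideal.Quotient.mkₐ (A ⧸ I ^ r) J).comp v = u := by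
  letI : Algebra A E := ((algebraMap (A ⧸ I ^ r) E).comp (algebraMap A (A ⧸ I ^ r))).toAlgebra
  have kE : (I ^ r).map (algebraMap A E) = ⊥ := by
    rw [RingHom.algebraMap_toAlgebra, ← Ideal.map_map, Ideal.Quotient.algebraMap_eq,
      Ideal.map_quotient_self, Ideal.map_bot]
  have kC : (I ^ r).map (algebraMap A (E ⧸ J)) = ⊥ := by
    rw [show algebraMap A (E ⧸ J) = (Ideal.Quotient.mk J).comp (algebraMap A E) from rfl,
      ← Ideal.map_map, kE, Ideal.map_bot]
  obtain ⟨v, hv⟩ := h E (E ⧸ J) r hr kE kC (Ideal.Quotient.mkₐ A J) Ideal.Quotient.mk_surjective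
    ⟨2, by norm_num, by
      rw [show RingHom.ker (Ideal.Quotient.mkₐ A J) = J from Ideal.mk_ker]; exact hJ⟩
    { u.toRingHom.comp (Ideal.Quotient.mk _) with
      commutes' := fun a => u.commutes (Ideal.Quotient.mk _ a) }
  have hv0 : ∀ x ∈ (I ^ r).map (algebraMap A B), v x = 0 := fun x hx => by
    have := Ideal.mem_map_of_mem v.toRingHom hx
    rw [Ideal.map_map,
      show v.toRingHom.comp (algebraMap A B) = algebraMap A E from v.comp_algebraMap, kE] at this
    exact this
  refine ⟨{ Ideal.Quotient.lift _ v.toRingHom hv0 with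
    commutes' := fun a => by
      obtain ⟨a, rfl⟩ := Ideal.Quotient.mk_surjective a
      exact v.commutes a }, AlgHom.ext fun z => ?_⟩
  obtain ⟨z, rfl⟩ := Ideal.Quotient.mk_surjective z
  exact AlgHom.congr_fun hv z

end Lifting

end Groth.Agent.Hens
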