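import Groth.Agent.Hens.RigidClopen
import Groth.Agent.Hensel.EssSub
import Groth.Agent.Hens.Local
import Groth.Agent.Hens.Unique
import Groth.Agent.HenGeomInt.DimOneBranch
import Groth.Agent.S9232
import Groth.Agent.Adic.Rig.Hom
import Groth.Agent.Hensel.Local
import Groth.Agent.Hens.GaloisStage
import Mathlib.RingTheory.Unramified.Field
import Mathlib.FieldTheory.IsSepClosed
import Mathlib.RingTheory.AdicCompletion.LocalRing
import Mathlib.RingTheory.Ideal.GoingDown
import Mathlib.RingTheory.Flat.EquationalCriterion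
import Mathlib.RingTheory.TensorProduct.Quotient

/-!
# Immediate étale generizations and completion
-/

set_option autoImplicit false
set_option linter.style.haveILetI false
set_option backward.isDefEq.respectTransparency.types false

universe u

open IsLocalRing TensorProduct

namespace Groth.Agent.Hens.ImmedGen

/-- `B ⧸ Q` has dimension at most one. -/
def DimLEOne {B : Type u} [CommRing B] [IsLocalRing B] (Q : Ideal B) : Prop :=
  ∀ P : Ideal B, P.IsPrime → Q ≤ P → P = Q ∨ P = maximalIdeal B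

theorem comap_eq_of_mem_minimalPrimes {A B : Type u} [CommRing A] [CommRing B] [Algebra A B]
    [Algebra.HasGoingDown A B] (p : Ideal A) [p.IsPrime] {P : Ideal B}
    (hP : P ∈ (p.map (algebraMap A B)).minimalPrimes) : P.comap (algebraMap A B) = p := by
  haveI := hP.1.1
  have hle : p ≤ P.comap (algebraMap A B) := Ideal.map_le_iff_le_comap.1 hP.1.2
  refine le_antisymm ?_ hle
  obtain ⟨Q, hQP, hQ, hlies⟩ := Ideal.exists_ideal_le_liesOver_of_le (R := A) (S := B) (p := p)
    (q := P.comap (algebraMap A B)) P hle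
  have hpQ : p.map (algebraMap A B) ≤ Q := Ideal.map_le_iff_le_comap.2 (le_of_eq hlies.1)
  have hQe : Q = P := le_antisymm hQP (hP.2 ⟨hQ, hpQ⟩ hQP)
  rw [← hQe]
  exact le_of_eq hlies.1.symm

theorem comap_mem_minimalPrimes {A B C : Type u} [CommRing A] [CommRing B] [CommRing C] [Algebra A B]
    [Algebra B C] [Algebra.HasGoingDown B C] (I : Ideal A) {Q : Ideal C}
    (hQ : Q ∈ ((I.map (algebraMap A B)).map (algebraMap B C)).minimalPrimes) :
    Q.comap (algebraMap B C) ∈ (I.map (algebraMap A B)).minimalPrimes ∧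
      Q ∈ ((Q.comap (algebraMap B C)).map (algebraMap B C)).minimalPrimes := by
  haveI := hQ.1.1
  have hle : I.map (algebraMap A B) ≤ Q.comap (algebraMap B C) := Ideal.map_le_iff_le_comap.1 hQ.1.2
  refine ⟨⟨⟨inferInstance, hle⟩, fun q hq hqle => ?_⟩,
    ⟨inferInstance, Ideal.map_le_iff_le_comap.2 le_rfl⟩,
    fun Q' hQ' hQ'le => hQ.2 ⟨hQ'.1, (Ideal.map_mono hle).trans hQ'.2⟩ hQ'le⟩
  haveI := hq.1
  obtain ⟨Q', hQ'Q, hQ', hlies⟩ := Ideal.exists_ideal_le_liesOver_of_le (R := B) (S := C) (p := q)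
    (q := Q.comap (algebraMap B C)) Q hqle
  have h1 : (I.map (algebraMap A B)).map (algebraMap B C) ≤ Q' :=
    (Ideal.map_mono hq.2).trans (Ideal.map_le_iff_le_comap.2 (le_of_eq hlies.1))
  have hQe : Q' = Q := le_antisymm hQ'Q (hQ.2 ⟨hQ', h1⟩ hQ'Q)
  rw [← hQe]
  exact le_of_eq hlies.1.symm

theorem mem_minimalPrimes_comp {A B C : Type u} [CommRing A] [CommRing B] [CommRing C] [Algebra A B]
    [Algebra B C] (I : Ideal A) {q : Ideal B} (hq : q ∈ (I.map (algebraMap A B)).minimalPrimes) {Q : Ideal C}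
    (hQ : Q ∈ (q.map (algebraMap B C)).minimalPrimes) (hQq : Q.comap (algebraMap B C) = q) :
    Q ∈ ((I.map (algebraMap A B)).map (algebraMap B C)).minimalPrimes := by
  haveI := hQ.1.1
  refine ⟨⟨hQ.1.1, (Ideal.map_mono hq.1.2).trans hQ.1.2⟩, fun Q' hQ' hQ'le => hQ.2 ⟨hQ'.1, ?_⟩ hQ'le⟩
  haveI := hQ'.1
  refine Ideal.map_le_iff_le_comap.2 (hq.2 ⟨inferInstance, Ideal.map_le_iff_le_comap.1 hQ'.2⟩ ?_)
  exact (Ideal.comap_mono hQ'le).trans hQq.le

theorem dimLEOne_of_dim {B : Type u} [CommRing B] [IsLocalRing B] {Q : Ideal B} [Q.IsPrime]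
    (h : ringKrullDim (B ⧸ Q) = 1) : DimLEOne Q ∧ Q ≠ maximalIdeal B := by
  haveI : IsLocalRing (B ⧸ Q) := IsLocalRing.of_surjective' (Ideal.Quotient.mk Q) Ideal.Quotient.mk_surjective
  refine ⟨fun P hP hQP => ?_, fun he => ?_⟩
  · haveI := hP
    by_cases hPQ : P = Q
    · exact Or.inl hPQ
    refine Or.inr ?_
    haveI : (P.map (Ideal.Quotient.mk Q)).IsPrime :=
      Ideal.map_isPrime_of_surjective Ideal.Quotient.mk_surjective (by rwa [Ideal.mk_ker])
    have hback : (P.map (Ideal.Quotient.mk Q)).comap (Ideal.Quotient.mk Q) = P := by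
      rw [Ideal.comap_map_of_surjective' _ Ideal.Quotient.mk_surjective, Ideal.mk_ker]
      exact sup_eq_left.2 hQP
    have hne : (⊥ : Ideal (B ⧸ Q)) < P.map (Ideal.Quotient.mk Q) := bot_lt_iff_ne_bot.2 fun h0 => hPQ (by
      rw [← hback, h0, ← RingHom.ker_eq_comap_bot, Ideal.mk_ker])
    have h1 := HenGeomInt.eq_maximalIdeal_of_lt_of_ringKrullDim_le_one h.le (P := (⊥ : Ideal (B ⧸ Q)))
      inferInstance hne
    rw [← hback, h1]
    haveI : ((maximalIdeal (B ⧸ Q)).comap (Ideal.Quotient.mk Q)).IsMaximal :=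
      Ideal.comap_isMaximal_of_surjective _ Ideal.Quotient.mk_surjective
    exact IsLocalRing.eq_maximalIdeal inferInstance
  · have hf : IsField (B ⧸ Q) := (Ideal.Quotient.maximal_ideal_iff_isField_quotient Q).1
      (he ▸ maximalIdeal.isMaximal B)
    rw [ringKrullDim_eq_zero_of_isField hf] at h
    exact zero_ne_one h

theorem dim_of_dimLEOne {B : Type u} [CommRing B] [IsLocalRing B] {Q : Ideal B} [Q.IsPrime]
    (h : DimLEOne Q) (hne : Q ≠ maximalIdeal B) : ringKrullDim (B ⧸ Q) = 1 := by
  haveI : IsLocalRing (B ⧸ Q) := IsLocalRing.of_surjective' (Ideal.Quotient.mk Q) Ideal.Quotient.mk_surjective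
  refine le_antisymm ?_ ?_
  · haveI : Ring.DimensionLEOne (B ⧸ Q) := ⟨fun {p} hp0 hp => by
      haveI := hp
      rcases h (p.comap (Ideal.Quotient.mk Q)) (Ideal.IsPrime.comap _) (fun x hx => by
        rw [Ideal.mem_comap, Ideal.Quotient.eq_zero_iff_mem.2 hx]; exact zero_mem _) with h1 | h1
      · refine absurd ?_ hp0
        rw [← Ideal.map_comap_of_surjective _ Ideal.Quotient.mk_surjective p, h1, Ideal.map_quotient_self]
      · rw [← Ideal.map_comap_of_surjective _ Ideal.Quotient.mk_surjective p, h1]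
        exact Ideal.IsMaximal.map_of_surjective_of_ker_le Ideal.Quotient.mk_surjective
          (by rw [Ideal.mk_ker]; exact le_maximalIdeal ‹Q.IsPrime›.ne_top)⟩
    exact Ring.krullDimLE_iff.1 inferInstance
  · by_contra hlt
    refine hne (IsLocalRing.eq_maximalIdeal (Ideal.Quotient.maximal_of_isField Q ?_))
    haveI : Ring.KrullDimLE 0 (B ⧸ Q) := Ring.krullDimLE_iff.2 (by
      generalize hd : ringKrullDim (B ⧸ Q) = d at hlt
      match d with
      | none => exact bot_le
      | some n =>
        rw [not_le] at hlt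
        have h2 : n < 1 := WithBot.coe_lt_coe.1 hlt
        rw [ENat.lt_one_iff_eq_zero.1 h2]
        exact le_rfl)
    exact Ring.KrullDimLE.isField_of_isDomain

/-- If `Q` and one more element generate an ideal with radical the maximal ideal, `B ⧸ Q` has
dimension at most one. -/
theorem dimLEOne_of_radical {B : Type u} [CommRing B] [IsNoetherianRing B] [IsLocalRing B] {Q : Ideal B}
    [Q.IsPrime] (x : B) (hxB : x ∈ maximalIdeal B) (h : maximalIdeal B ≤ (Q ⊔ Ideal.span {x}).radical) : DimLEOne Q := by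
  intro P hP hQP
  haveI := hP
  by_cases hPQ : P = Q
  · exact Or.inl hPQ
  refine Or.inr (le_antisymm (le_maximalIdeal hP.ne_top) ?_)
  by_cases hxP : x ∈ P
  · exact h.trans (hP.radical_le_iff.2 (sup_le hQP (Ideal.span_le.2 (Set.singleton_subset_iff.2 hxP))))
  exfalso
  haveI : IsLocalRing (B ⧸ Q) := IsLocalRing.of_surjective' (Ideal.Quotient.mk Q) Ideal.Quotient.mk_surjective
  haveI : (P.map (Ideal.Quotient.mk Q)).IsPrime :=
    Ideal.map_isPrime_of_surjective Ideal.Quotient.mk_surjective (by rwa [Ideal.mk_ker])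
  have hback : (P.map (Ideal.Quotient.mk Q)).comap (Ideal.Quotient.mk Q) = P := by
    rw [Ideal.comap_map_of_surjective' _ Ideal.Quotient.mk_surjective, Ideal.mk_ker]
    exact sup_eq_left.2 hQP
  have hne : (⊥ : Ideal (B ⧸ Q)) < P.map (Ideal.Quotient.mk Q) := bot_lt_iff_ne_bot.2 fun h0 => hPQ (by
    rw [← hback, h0, ← RingHom.ker_eq_comap_bot, Ideal.mk_ker])
  let M := maximalIdeal (B ⧸ Q)
  have hM : M ∈ (Ideal.span {Ideal.Quotient.mk Q x}).minimalPrimes := by
    have hxm : x ∈ maximalIdeal B := hxB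
    refine ⟨⟨(maximalIdeal.isMaximal _).isPrime, Ideal.span_le.2 (Set.singleton_subset_iff.2 ?_)⟩, ?_⟩
    · haveI : IsLocalHom (Ideal.Quotient.mk Q) := IsLocalHom.of_surjective _ Ideal.Quotient.mk_surjective
      exact IsLocalRing.map_maximalIdeal_le (Ideal.Quotient.mk Q) (Ideal.mem_map_of_mem _ hxm)
    rintro N ⟨hN, hxN⟩ -
    haveI := hN
    have h1 : maximalIdeal B ≤ N.comap (Ideal.Quotient.mk Q) := h.trans ((Ideal.IsPrime.comap _).radical_le_iff.2
      (sup_le (fun z hz => by rw [Ideal.mem_comap, Ideal.Quotient.eq_zero_iff_mem.2 hz]; exact zero_mem _)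
        (Ideal.span_le.2 (Set.singleton_subset_iff.2 (hxN (Ideal.mem_span_singleton_self _))))))
    intro z hz
    obtain ⟨w, rfl⟩ := Ideal.Quotient.mk_surjective z
    exact h1 (fun hu => (mem_maximalIdeal _).1 hz (hu.map _))
  haveI : IsNoetherianRing (B ⧸ Q) := inferInstance
  have hht : M.height ≤ 1 := Ideal.height_le_one_of_isPrincipal_of_mem_minimalPrimes _ M hM
  have hlt : P.map (Ideal.Quotient.mk Q) < M := by
    refine lt_of_le_of_ne (le_maximalIdeal Ideal.IsPrime.ne_top') fun he => hxP ?_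
    have : Ideal.Quotient.mk Q x ∈ P.map (Ideal.Quotient.mk Q) := he ▸ hM.1.2 (Ideal.mem_span_singleton_self _)
    rw [← hback]
    exact this
  haveI : M.IsPrime := (maximalIdeal.isMaximal _).isPrime
  have h1 := Ideal.height_strict_mono_of_isPrime hlt
  have h2 := Ideal.height_strict_mono_of_isPrime hne
  have h3 : (P.map (Ideal.Quotient.mk Q)).height < 1 := lt_of_lt_of_le h1 hht
  rw [ENat.lt_one_iff_eq_zero.1 h3] at h2
  exact not_lt_zero' h2

/-- A henselian Noetherian local domain with a one-dimensional branch has dimension one. -/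
theorem dimLEOne_bot {R : Type u} [CommRing R] [IsDomain R] [IsNoetherianRing R] [HenselianLocalRing R]
    (W : Type u) [CommRing W] [IsLocalRing W] [IsNoetherianRing W] [Algebra R W] [IsLocalHom (algebraMap R W)]
    [Module.Flat R W] (hm : (maximalIdeal R).map (algebraMap R W) = maximalIdeal W)
    (hk : Function.Bijective (ResidueField.map (algebraMap R W))) {Q : Ideal W} (hQ : Q ∈ minimalPrimes W)
    (h1 : DimLEOne Q) (hne : Q ≠ maximalIdeal W) : DimLEOne (⊥ : Ideal R) := by
  classical
  haveI := hQ.1.1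
  let Rc := AdicCompletion (maximalIdeal R) R
  let Wc := AdicCompletion (maximalIdeal W) W
  haveI : IsNoetherianRing Rc := RegLoc.AdicNoeth.isNoetherianRing_adicCompletion _ (IsNoetherian.noetherian _)
  haveI : IsNoetherianRing Wc := RegLoc.AdicNoeth.isNoetherianRing_adicCompletion _ (IsNoetherian.noetherian _)
  haveI : Module.FaithfullyFlat R Rc := Module.FaithfullyFlat.of_flat_of_isLocalHom
  haveI : Module.FaithfullyFlat W Wc := Module.FaithfullyFlat.of_flat_of_isLocalHom
  have hmWc : maximalIdeal Wc = (maximalIdeal W).map (algebraMap W Wc) :=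
    AdicCompletion.maximalIdeal_eq_map_of_fg (IsNoetherian.noetherian _)
  have hmRc : maximalIdeal Rc = (maximalIdeal R).map (algebraMap R Rc) :=
    AdicCompletion.maximalIdeal_eq_map_of_fg (IsNoetherian.noetherian _)
  obtain ⟨ψ, hψ⟩ := Adic.Rig.exists_lift (J := maximalIdeal R) ((algebraMap W Wc).comp (algebraMap R W))
    (maximalIdeal Wc) (by rw [← Ideal.map_map, hm, hmWc])
  have hψb := S9232.result R W hm hk ψ hψ
  let e : Rc ≃+* Wc := RingEquiv.ofBijective ψ hψb
  -- a one-dimensional minimal prime of the completion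
  obtain ⟨x, hx, hxQ⟩ := SetLike.exists_of_lt (lt_of_le_of_ne (le_maximalIdeal ‹Q.IsPrime›.ne_top) hne)
  obtain ⟨⟨Q₂, hQ₂p⟩, hQ₂Q'⟩ := PrimeSpectrum.comap_surjective_of_faithfullyFlat (A := W) (B := Wc) ⟨Q, ‹Q.IsPrime›⟩
  have hQ₂Q : Q₂.comap (algebraMap W Wc) = Q := congrArg PrimeSpectrum.asIdeal hQ₂Q'
  obtain ⟨Q₁, hQ₁min, hQ₁le⟩ := Ideal.exists_minimalPrimes_le (J := Q₂) (I := Q.map (algebraMap W Wc))
    (Ideal.map_le_iff_le_comap.2 hQ₂Q.ge)
  haveI := hQ₁min.1.1
  have hQ₁Q : Q₁.comap (algebraMap W Wc) = Q := comap_eq_of_mem_minimalPrimes Q hQ₁min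
  have hQ₁ : Q₁ ∈ minimalPrimes Wc := by
    refine ⟨⟨inferInstance, bot_le⟩, fun N hN hNle => hQ₁min.2 ⟨hN.1, ?_⟩ hNle⟩
    haveI := hN.1
    refine Ideal.map_le_iff_le_comap.2 (hQ.2 ⟨inferInstance, bot_le⟩ ?_)
    exact (Ideal.comap_mono hNle).trans hQ₁Q.le
  have hQ₁1 : DimLEOne Q₁ := by
    refine dimLEOne_of_radical (algebraMap W Wc x) (hmWc ▸ Ideal.mem_map_of_mem _ hx) ?_
    rw [hmWc]
    refine (Ideal.map_mono (I := maximalIdeal W) (J := (Q ⊔ Ideal.span {x}).radical) ?_).trans
      ((Ideal.map_radical_le _).trans (Ideal.radical_mono ?_))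
    · rw [Ideal.radical_eq_sInf]
      refine le_sInf fun N ⟨hN, hNp⟩ => ?_
      rcases h1 N hNp (le_sup_left.trans hN) with he | he
      · exact absurd (he ▸ hN (Ideal.mem_sup_right (Ideal.mem_span_singleton_self x))) hxQ
      · exact he.ge
    · rw [Ideal.map_sup, Ideal.map_span, Set.image_singleton]
      exact sup_le_sup_right hQ₁min.1.2 _
  have hQ₁ne : Q₁ ≠ maximalIdeal Wc := fun he => hne (by
    rw [← hQ₁Q, he]
    exact ((local_hom_TFAE (algebraMap W Wc)).out 0 4 rfl rfl).1 inferInstance)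
  let Qc : PrimeSpectrum Rc := ⟨Q₁.comap e.toRingHom, inferInstance⟩
  have hsymm : ∀ N : Ideal Rc, (N.comap e.symm.toRingHom).comap e.toRingHom = N := fun N => by
    rw [Ideal.comap_comap]
    exact (congrArg (fun φ => Ideal.comap φ N) (RingHom.ext fun z => e.symm_apply_apply z)).trans N.comap_id
  have hsymm' : ∀ N : Ideal Wc, (N.comap e.toRingHom).comap e.symm.toRingHom = N := fun N => by
    rw [Ideal.comap_comap]
    exact (congrArg (fun φ => Ideal.comap φ N) (RingHom.ext fun z => e.apply_symm_apply z)).trans N.comap_id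
  have hmaxc : (maximalIdeal Wc).comap e.toRingHom = maximalIdeal Rc := by
    haveI := Ideal.comap_isMaximal_of_surjective e.toRingHom e.surjective (K := maximalIdeal Wc)
    exact IsLocalRing.eq_maximalIdeal inferInstance
  have hQcmin : Qc.asIdeal ∈ minimalPrimes Rc := by
    refine ⟨⟨inferInstance, bot_le⟩, fun N hN hNle => ?_⟩
    haveI := hN.1
    have := hQ₁.2 (y := N.comap e.symm.toRingHom) ⟨inferInstance, bot_le⟩
      ((Ideal.comap_mono hNle).trans (hsymm' Q₁).le)
    exact (Ideal.comap_mono (f := e.toRingHom) this).trans (hsymm N).le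
  have hQc1 : DimLEOne Qc.asIdeal := fun N hN hle => by
    haveI := hN
    rcases hQ₁1 (N.comap e.symm.toRingHom) inferInstance ((hsymm' Q₁).ge.trans (Ideal.comap_mono hle)) with he | he
    · exact Or.inl (by rw [← hsymm N, he])
    · exact Or.inr (by rw [← hsymm N, he, hmaxc])
  have hQcne : Qc.asIdeal ≠ maximalIdeal Rc := fun he => hQ₁ne (by
    rw [← hsymm' Q₁, show Q₁.comap e.toRingHom = maximalIdeal Rc from he, ← hmaxc, hsymm'])
  -- the punctured spectrum of the completion
  let U : Set (PrimeSpectrum R) := (PrimeSpectrum.zeroLocus (maximalIdeal R : Set R))ᶜ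
  have hUmem : ∀ P : PrimeSpectrum Rc,
      P ∈ PrimeSpectrum.comap (algebraMap R Rc) ⁻¹' U ↔ P.asIdeal ≠ maximalIdeal Rc := fun P => by
    show ¬ ((maximalIdeal R : Set R) ⊆ ((P.asIdeal).comap (algebraMap R Rc) : Set R)) ↔ _
    rw [not_iff_not]
    refine ⟨fun h => le_antisymm (le_maximalIdeal P.isPrime.ne_top) ?_, fun h => ?_⟩
    · rw [hmRc]; exact Ideal.map_le_iff_le_comap.2 h
    · intro z hz
      rw [SetLike.mem_coe, Ideal.mem_comap, h, hmRc]
      exact Ideal.mem_map_of_mem _ hz
  let others : Set (Ideal Rc) := minimalPrimes Rc \ {Qc.asIdeal}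
  let F : Set (PrimeSpectrum Rc) :=
    PrimeSpectrum.zeroLocus (maximalIdeal Rc : Set Rc) ∪ ⋃ N ∈ others, PrimeSpectrum.zeroLocus (N : Set Rc)
  have hF : IsClosed F := (PrimeSpectrum.isClosed_zeroLocus _).union
    (((minimalPrimes.finite_of_isNoetherianRing Rc).subset Set.sdiff_subset).isClosed_biUnion
      fun N _ => PrimeSpectrum.isClosed_zeroLocus _)
  have hQcF : Qc ∉ F := by
    rintro (h | h)
    · exact hQcne (le_antisymm (le_maximalIdeal Qc.isPrime.ne_top) h)
    · simp only [Set.mem_iUnion] at h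
      obtain ⟨N, ⟨hN, hNne⟩, hle⟩ := h
      exact hNne (le_antisymm hle (hQcmin.2 hN.1 hle))
  have honly : ∀ P, P ∉ F → P = Qc := fun P hP => by
    obtain ⟨N, hN, hNP⟩ := Ideal.exists_minimalPrimes_le (J := P.asIdeal) (I := (⊥ : Ideal Rc)) bot_le
    by_cases hNQ : N = Qc.asIdeal
    · rcases hQc1 P.asIdeal P.isPrime (hNQ ▸ hNP) with he | he
      · exact PrimeSpectrum.ext he
      · exact absurd (Or.inl (show (maximalIdeal Rc : Set Rc) ⊆ P.asIdeal by rw [he])) hP
    · exact absurd (Or.inr (by simp only [Set.mem_iUnion]; exact ⟨N, ⟨hN, hNQ⟩, hNP⟩)) hP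
  have hGset : (Fᶜ : Set (PrimeSpectrum Rc)) = {Qc} := Set.Subset.antisymm honly (Set.singleton_subset_iff.2 hQcF)
  let G' : Set (PrimeSpectrum Rc) :=
    (PrimeSpectrum.comap (algebraMap R Rc) ⁻¹' U) ∩ (PrimeSpectrum.zeroLocus (Qc.asIdeal : Set Rc))ᶜ
  have hU : IsOpen U := (PrimeSpectrum.isClosed_zeroLocus _).isOpen_compl
  haveI : HenselianRing R (maximalIdeal R) := inferInstance
  obtain ⟨V, V', hV, hV', hVV', hunion, hpre⟩ := RigidClopen.exists_clopen (I := maximalIdeal R)
    (IsNoetherian.noetherian _) hU (fun y hy => not_not.1 hy) (G := Fᶜ) (G' := G') hF.isOpen_compl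
    ((hU.preimage (PrimeSpectrum.continuous_comap (algebraMap R Rc))).inter (PrimeSpectrum.isClosed_zeroLocus _).isOpen_compl)
    (by
      rw [hGset, Set.disjoint_singleton_left]
      exact fun h => h.2 fun z hz => hz)
    (by
      refine Set.Subset.antisymm (Set.union_subset ?_ Set.inter_subset_left) fun P hP => ?_
      · rw [hGset, Set.singleton_subset_iff]
        exact (hUmem Qc).2 hQcne
      · by_cases hPQ : Qc.asIdeal ≤ P.asIdeal
        · rcases hQc1 P.asIdeal P.isPrime hPQ with he | he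
          · exact Or.inl (by rw [hGset]; exact PrimeSpectrum.ext he)
          · exact absurd he ((hUmem P).1 hP)
        · exact Or.inr ⟨hP, hPQ⟩)
  have hQcV : PrimeSpectrum.comap (algebraMap R Rc) Qc ∈ V := by
    have : Qc ∈ PrimeSpectrum.comap (algebraMap R Rc) ⁻¹' V := by rw [hpre]; exact hQcF
    exact this
  let η : PrimeSpectrum R := ⟨⊥, Ideal.isPrime_bot⟩
  have hgen : ∀ {O : Set (PrimeSpectrum R)}, IsOpen O → O.Nonempty → η ∈ O := fun {O} hO ⟨y, hy⟩ =>
    ((PrimeSpectrum.le_iff_specializes η y).1 (show η.asIdeal ≤ y.asIdeal from bot_le)).mem_open hO hy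
  have hV'e : ∀ y, y ∉ V' := fun y hy =>
    Set.disjoint_left.1 hVV' (hgen hV ⟨_, hQcV⟩) (hgen hV' ⟨y, hy⟩)
  have hall : ∀ P : PrimeSpectrum Rc, P.asIdeal ≠ maximalIdeal Rc → P = Qc := fun P hP => by
    have h1' : PrimeSpectrum.comap (algebraMap R Rc) P ∈ V ∪ V' := hunion ▸ (hUmem P).2 hP
    have h2 : P ∈ PrimeSpectrum.comap (algebraMap R Rc) ⁻¹' V := h1'.resolve_right (hV'e _)
    rw [hpre, hGset] at h2
    exact h2
  intro N hN _
  haveI := hN
  by_contra hcon
  push Not at hcon
  obtain ⟨⟨P, hPp⟩, hPN'⟩ := PrimeSpectrum.comap_surjective_of_faithfullyFlat (A := R) (B := Rc) ⟨N, hN⟩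
  have hPN : P.comap (algebraMap R Rc) = N := congrArg PrimeSpectrum.asIdeal hPN'
  haveI := hPp
  obtain ⟨P₀, hP₀P, hP₀, hlies⟩ := Ideal.exists_ideal_le_liesOver_of_le (R := R) (S := Rc) (p := (⊥ : Ideal R))
    (q := P.comap (algebraMap R Rc)) P bot_le
  have hcm : (maximalIdeal Rc).comap (algebraMap R Rc) = maximalIdeal R :=
    ((local_hom_TFAE (algebraMap R Rc)).out 0 4 rfl rfl).1 inferInstance
  have hP : P ≠ maximalIdeal Rc := fun he => hcon.2 (by rw [← hPN, he, hcm])
  have hP₀ne : P₀ ≠ maximalIdeal Rc := fun he =>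
    hP (le_antisymm (le_maximalIdeal hPp.ne_top) (he ▸ hP₀P))
  have e1 := hall ⟨P, hPp⟩ hP
  have e2 := hall ⟨P₀, hP₀⟩ hP₀ne
  have : P₀ = P := congrArg PrimeSpectrum.asIdeal (e2.trans e1.symm)
  exact hcon.1 (by rw [← hPN, ← this]; exact hlies.1.symm)

/-- Flatness of a map of strict henselizations: a local algebra flat over the base is flat over a
local ind-étale algebra mapping to it. -/
theorem flat_of_isEtLike {A S T : Type u} [CommRing A] [IsLocalRing A] [CommRing S] [IsLocalRing S] [Algebra A S]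
    (h : Groth.Agent.Hensel.IsEtLike A S) [CommRing T] [Algebra A T] [Algebra S T] [IsScalarTower A S T]
    [Module.Flat A T] : Module.Flat S T := by
  classical
  refine Module.Flat.of_forall_isTrivialRelation fun {l f x} hfx => ?_
  obtain ⟨E, hE, hs⟩ := h.exists_essSub (Finset.univ.image f)
  haveI := hE.isLocalRing
  haveI := Groth.Agent.Hensel.formallyEtale_of_isEssentiallyEtale hE.essEtale
  haveI := Groth.Agent.Hensel.essFiniteType_of_isEssentiallyEtale hE.essEtale
  haveI : IsScalarTower A E T := .of_algebraMap_eq fun a => IsScalarTower.algebraMap_apply A S T a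
  haveI : Module.Flat E T := Algebra.FormallyUnramified.flat_of_restrictScalars A E T
  let f' : Fin l → E := fun i => ⟨f i, hs (Finset.mem_image_of_mem _ (Finset.mem_univ i))⟩
  obtain ⟨k, a, y, hy, ha⟩ := Module.Flat.isTrivialRelation_of_sum_smul_eq_zero (R := E) (f := f') (x := x) (by
    refine Eq.trans (Finset.sum_congr rfl fun i _ => ?_) hfx
    rfl)
  refine ⟨k, fun i j => (a i j : S), y, fun i => (hy i).trans (Finset.sum_congr rfl fun j _ => rfl), fun j => ?_⟩
  have h2 := congrArg Subtype.val (ha j)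
  simpa [f'] using h2

/-- The quotient of a flat algebra by an extended ideal is flat over the quotient. -/
theorem flat_quotient {S T : Type u} [CommRing S] [CommRing T] [Algebra S T] [Module.Flat S T] (P : Ideal S) :
    Module.Flat (S ⧸ P) (T ⧸ P.map (algebraMap S T)) := by
  let e : ((S ⧸ P) ⊗[S] T) ≃ₐ[S] (T ⧸ P.map (algebraMap S T)) :=
    (Algebra.TensorProduct.quotIdealMapEquivQuotTensor T P).symm.restrictScalars S
  let e' : ((S ⧸ P) ⊗[S] T) ≃ₗ[S ⧸ P] (T ⧸ P.map (algebraMap S T)) :=
    { e.toLinearEquiv.toAddEquiv with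
      map_smul' := fun c z => by
        obtain ⟨c, rfl⟩ := Ideal.Quotient.mk_surjective c
        show e ((Ideal.Quotient.mk P c) • z) = (Ideal.Quotient.mk P c) • e z
        rw [show (Ideal.Quotient.mk P c) • z = c • z from algebraMap_smul (S ⧸ P) c z, map_smul]
        exact (algebraMap_smul (S ⧸ P) c (e z)).symm }
  exact Module.Flat.of_linearEquiv e'.symm

/-- Immediate étale generizations of the closed point correspond under completion. -/
theorem main (A : Type u) [CommRing A] [IsNoetherianRing A] [IsLocalRing A]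
    (S' : Type u) [CommRing S'] [IsLocalRing S'] [Algebra A S'] [IsLocalHom (algebraMap A S')]
    [Hensel.IsStrictHenselization A S']
    (Ah : Type u) [CommRing Ah] [IsLocalRing Ah] [IsNoetherianRing Ah] [Algebra A Ah]
    [IsLocalHom (algebraMap A Ah)] [Module.Flat A Ah]
    (hmax : (maximalIdeal A).map (algebraMap A Ah) = maximalIdeal Ah)
    (hres : Function.Surjective (ResidueField.map (algebraMap A Ah)))
    (T' : Type u) [CommRing T'] [IsLocalRing T'] [Algebra Ah T'] [IsLocalHom (algebraMap Ah T')]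
    [hT : Hensel.IsStrictHenselization Ah T']
    (p : Ideal A) [p.IsPrime] :
    (∃ P ∈ (p.map (algebraMap A S')).minimalPrimes, ringKrullDim (S' ⧸ P) = 1) ↔
    (∃ q ∈ (p.map (algebraMap A Ah)).minimalPrimes,
      ∃ Q ∈ (q.map (algebraMap Ah T')).minimalPrimes, ringKrullDim (T' ⧸ Q) = 1) := by
  classical
  have hS : Hensel.IsStrictHenselization A S' := inferInstance
  haveI : HenselianLocalRing S' := hS.henselian
  haveI : HenselianLocalRing T' := hT.henselian
  have hlS := Groth.Agent.Hensel.isEtLike_of_isStrictHenselization A S'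
  have hlT := Groth.Agent.Hensel.isEtLike_of_isStrictHenselization Ah T'
  haveI := hlS.isNoetherianRing_of_base
  haveI := hlT.isNoetherianRing_of_base
  haveI := hlS.flat
  haveI := hlT.flat
  letI : Algebra A T' := ((algebraMap Ah T').comp (algebraMap A Ah)).toAlgebra
  haveI : IsScalarTower A Ah T' := .of_algebraMap_eq' rfl
  haveI : Module.Flat A T' := Module.Flat.trans A Ah T'
  haveI : IsLocalHom (algebraMap A T') := RingHom.isLocalHom_comp _ _
  -- a map of strict henselizations
  haveI := hS.isSepClosure.sep_closed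
  haveI := hS.isSepClosure.separable
  haveI := hT.isSepClosure.sep_closed
  haveI := hT.isSepClosure.separable
  let τ : ResidueField S' →ₐ[ResidueField A] ResidueField T' := IsSepClosed.lift
  obtain ⟨g, ⟨hg, hgres⟩, -⟩ := hS.universal T' (algebraMap A T') τ.toRingHom (RingHom.ext τ.commutes)
  letI : Algebra S' T' := g.toAlgebra
  haveI : IsScalarTower A S' T' := .of_algebraMap_eq' hg.symm
  haveI : IsLocalHom (algebraMap S' T') := ⟨fun x hx => by
    by_contra hx'
    have h1 : residue S' x = 0 := (residue_eq_zero_iff x).2 hx'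
    have h2 : residue T' (g x) = 0 := by rw [hgres, h1, map_zero]
    exact (hx.map (residue T')).ne_zero h2⟩
  haveI : Module.Flat S' T' := flat_of_isEtLike hlS
  have hmST : (maximalIdeal S').map (algebraMap S' T') = maximalIdeal T' := by
    rw [← map_maximalIdeal_of_isStrictHenselization (R := A) S', Ideal.map_map, ← IsScalarTower.algebraMap_eq,
      IsScalarTower.algebraMap_eq A Ah T', ← Ideal.map_map, hmax,
      map_maximalIdeal_of_isStrictHenselization (R := Ah) T']
  have hτ : Function.Surjective τ := by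
    letI : Algebra (ResidueField S') (ResidueField T') := τ.toRingHom.toAlgebra
    haveI : IsScalarTower (ResidueField A) (ResidueField S') (ResidueField T') :=
      .of_algebraMap_eq fun x => (τ.commutes x).symm
    haveI : IsScalarTower (ResidueField A) (ResidueField Ah) (ResidueField T') := .of_algebraMap_eq fun x => by
      obtain ⟨a, rfl⟩ := residue_surjective x
      rfl
    haveI : Algebra.IsSeparable (ResidueField A) (ResidueField Ah) := by
      refine ⟨fun y => ?_⟩
      obtain ⟨x, rfl⟩ := hres y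
      exact isSeparable_algebraMap x
    haveI : Algebra.IsSeparable (ResidueField A) (ResidueField T') :=
      Algebra.IsSeparable.trans (ResidueField A) (ResidueField Ah) (ResidueField T')
    haveI : Algebra.IsSeparable (ResidueField S') (ResidueField T') :=
      Algebra.isSeparable_tower_top_of_isSeparable (ResidueField A) (ResidueField S') (ResidueField T')
    exact IsSepClosed.algebraMap_surjective (k := ResidueField S') (K := ResidueField T')
  have hassoc : (p.map (algebraMap A S')).map (algebraMap S' T') =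
      (p.map (algebraMap A Ah)).map (algebraMap Ah T') := by
    rw [Ideal.map_map, Ideal.map_map, ← IsScalarTower.algebraMap_eq, ← IsScalarTower.algebraMap_eq]
  constructor
  · rintro ⟨P, hP, hdim⟩
    haveI := hP.1.1
    obtain ⟨hP1, hPne⟩ := dimLEOne_of_dim hdim
    obtain ⟨x, hx, hxP⟩ := SetLike.exists_of_lt (lt_of_le_of_ne (le_maximalIdeal hP.1.1.ne_top) hPne)
    haveI : Module.FaithfullyFlat S' T' := Module.FaithfullyFlat.of_flat_of_isLocalHom
    obtain ⟨⟨Q₂, hQ₂⟩, hQ₂P'⟩ :=
      PrimeSpectrum.comap_surjective_of_faithfullyFlat (A := S') (B := T') ⟨P, hP.1.1⟩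
    have hQ₂P : Q₂.comap (algebraMap S' T') = P := congrArg PrimeSpectrum.asIdeal hQ₂P'
    obtain ⟨Q, hQ, hQle⟩ := Ideal.exists_minimalPrimes_le (J := Q₂) (I := P.map (algebraMap S' T'))
      (Ideal.map_le_iff_le_comap.2 hQ₂P.ge)
    haveI := hQ.1.1
    have hQP : Q.comap (algebraMap S' T') = P := comap_eq_of_mem_minimalPrimes P hQ
    have hQp : Q ∈ ((p.map (algebraMap A Ah)).map (algebraMap Ah T')).minimalPrimes :=
      hassoc ▸ mem_minimalPrimes_comp p hP hQ hQP
    obtain ⟨hq, hQq⟩ := comap_mem_minimalPrimes p hQp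
    refine ⟨_, hq, Q, hQq, dim_of_dimLEOne ?_ fun he => hPne ?_⟩
    · refine dimLEOne_of_radical (algebraMap S' T' x) (hmST ▸ Ideal.mem_map_of_mem _ hx) ?_
      rw [← hmST]
      refine (Ideal.map_mono (I := maximalIdeal S') (J := (P ⊔ Ideal.span {x}).radical) ?_).trans
        ((Ideal.map_radical_le _).trans (Ideal.radical_mono ?_))
      · rw [Ideal.radical_eq_sInf]
        refine le_sInf fun N ⟨hN, hNp⟩ => ?_
        rcases hP1 N hNp (le_sup_left.trans hN) with he | he
        · exact absurd (he ▸ hN (Ideal.mem_sup_right (Ideal.mem_span_singleton_self x))) hxP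
        · exact he.ge
      · rw [Ideal.map_sup, Ideal.map_span, Set.image_singleton]
        exact sup_le_sup_right hQ.1.2 _
    · rw [← hQP, he]
      exact ((local_hom_TFAE (algebraMap S' T')).out 0 4 rfl rfl).1 inferInstance
  · rintro ⟨q, hq, Q, hQ, hdim⟩
    haveI := hq.1.1
    haveI := hQ.1.1
    obtain ⟨hQ1, hQne⟩ := dimLEOne_of_dim hdim
    have hQp : Q ∈ ((p.map (algebraMap A S')).map (algebraMap S' T')).minimalPrimes :=
      hassoc.symm ▸ mem_minimalPrimes_comp p hq hQ (comap_eq_of_mem_minimalPrimes q hQ)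
    obtain ⟨hP, hQP⟩ := comap_mem_minimalPrimes p hQp
    set P := Q.comap (algebraMap S' T') with hPdef
    haveI : P.IsPrime := Ideal.IsPrime.comap _
    refine ⟨P, hP, ?_⟩
    have hPne : P ≠ maximalIdeal S' := fun he => hQne (le_antisymm (le_maximalIdeal hQ.1.1.ne_top) (by
      rw [← hmST, ← he, hPdef]
      exact Ideal.map_comap_le))
    -- pass to the quotients
    let R := S' ⧸ P
    let W := T' ⧸ P.map (algebraMap S' T')
    letI : Algebra R W := Ideal.Quotient.algebraQuotientMapQuotient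
    haveI : Module.Flat R W := flat_quotient (S := S') (T := T') P
    have hne : P.map (algebraMap S' T') ≠ ⊤ := fun h => hQ.1.1.ne_top (top_le_iff.1 (h ▸ hQP.1.2))
    haveI : Nontrivial W := Ideal.Quotient.nontrivial_iff.2 hne
    haveI : Nontrivial R := Ideal.Quotient.nontrivial_iff.2 ‹P.IsPrime›.ne_top
    haveI : IsLocalRing W := IsLocalRing.of_surjective' (Ideal.Quotient.mk _) Ideal.Quotient.mk_surjective
    haveI : IsLocalRing R := IsLocalRing.of_surjective' (Ideal.Quotient.mk P) Ideal.Quotient.mk_surjective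
    haveI hmkW : IsLocalHom (Ideal.Quotient.mk (P.map (algebraMap S' T'))) :=
      IsLocalHom.of_surjective _ Ideal.Quotient.mk_surjective
    haveI hmkR : IsLocalHom (Ideal.Quotient.mk P) := IsLocalHom.of_surjective _ Ideal.Quotient.mk_surjective
    haveI : IsLocalHom (algebraMap R W) := ⟨fun y hy => by
      obtain ⟨s, rfl⟩ := Ideal.Quotient.mk_surjective y
      exact (isUnit_of_map_unit (algebraMap S' T') s
        (isUnit_of_map_unit (Ideal.Quotient.mk (P.map (algebraMap S' T'))) _ hy)).map _⟩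
    haveI : HenselianLocalRing R := henselianLocalRing_of_finite (A := S') R
    have hmR : maximalIdeal R = (maximalIdeal S').map (Ideal.Quotient.mk P) :=
      (IsLocalRing.map_maximalIdeal_of_surjective _ Ideal.Quotient.mk_surjective).symm
    have hmW : maximalIdeal W = (maximalIdeal T').map (Ideal.Quotient.mk _) :=
      (IsLocalRing.map_maximalIdeal_of_surjective _ Ideal.Quotient.mk_surjective).symm
    have hm : (maximalIdeal R).map (algebraMap R W) = maximalIdeal W := by
      rw [hmR, hmW, Ideal.map_map, ← hmST, Ideal.map_map]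
      rfl
    have hk : Function.Bijective (ResidueField.map (algebraMap R W)) := by
      refine ⟨RingHom.injective _, fun y => ?_⟩
      obtain ⟨w, rfl⟩ := residue_surjective y
      obtain ⟨t, rfl⟩ := Ideal.Quotient.mk_surjective w
      obtain ⟨y, hy⟩ := hτ (residue T' t)
      obtain ⟨s, rfl⟩ := residue_surjective y
      refine ⟨residue R (Ideal.Quotient.mk P s), ?_⟩
      rw [ResidueField.map_residue, ← sub_eq_zero, ← map_sub, residue_eq_zero_iff, hmW,
        show algebraMap R W (Ideal.Quotient.mk P s) = Ideal.Quotient.mk _ (algebraMap S' T' s) from rfl, ← map_sub]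
      refine Ideal.mem_map_of_mem _ ?_
      rw [← residue_eq_zero_iff, map_sub, show residue T' (algebraMap S' T' s) = τ (residue S' s) from hgres s, hy,
        sub_self]
    let Qb : Ideal W := Q.map (Ideal.Quotient.mk _)
    haveI : Qb.IsPrime := Ideal.map_isPrime_of_surjective Ideal.Quotient.mk_surjective
      (by rw [Ideal.mk_ker]; exact hQP.1.2)
    have hback : ∀ N : Ideal T', P.map (algebraMap S' T') ≤ N →
        (N.map (Ideal.Quotient.mk (P.map (algebraMap S' T')))).comap (Ideal.Quotient.mk _) = N := fun N hN => by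
      rw [Ideal.comap_map_of_surjective' _ Ideal.Quotient.mk_surjective, Ideal.mk_ker]
      exact sup_eq_left.2 hN
    have hge : ∀ N : Ideal W, P.map (algebraMap S' T') ≤ N.comap (Ideal.Quotient.mk _) := fun N z hz => by
      rw [Ideal.mem_comap, Ideal.Quotient.eq_zero_iff_mem.2 hz]; exact zero_mem _
    have hQb : Qb ∈ minimalPrimes W := by
      refine ⟨⟨inferInstance, bot_le⟩, fun N hN hNle => ?_⟩
      haveI := hN.1
      have h1 : Q ≤ N.comap (Ideal.Quotient.mk _) := hQP.2 ⟨Ideal.IsPrime.comap _, hge N⟩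
        ((Ideal.comap_mono hNle).trans (hback Q hQP.1.2).le)
      exact (Ideal.map_mono h1).trans Ideal.map_comap_le
    have hQbW : DimLEOne Qb := fun N hN hle => by
      haveI := hN
      have hN' := Ideal.map_comap_of_surjective (Ideal.Quotient.mk (P.map (algebraMap S' T')))
        Ideal.Quotient.mk_surjective N
      rcases hQ1 _ (Ideal.IsPrime.comap _) ((hback Q hQP.1.2).ge.trans (Ideal.comap_mono hle)) with he | he
      · exact Or.inl (by rw [← hN', he])
      · exact Or.inr (by rw [← hN', he, ← hmW])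
    have hQbne : Qb ≠ maximalIdeal W := fun he => hQne (by
      rw [← hback Q hQP.1.2, ← hback (maximalIdeal T') (le_maximalIdeal hne), ← hmW, ← he])
    have hbot := dimLEOne_bot W hm hk hQb hQbW hQbne
    refine dim_of_dimLEOne (fun N hN hle => ?_) hPne
    haveI := hN
    have hNmap : (N.map (Ideal.Quotient.mk P)).comap (Ideal.Quotient.mk P) = N := by
      rw [Ideal.comap_map_of_surjective' _ Ideal.Quotient.mk_surjective, Ideal.mk_ker]
      exact sup_eq_left.2 hle
    rcases hbot (N.map (Ideal.Quotient.mk P)) (Ideal.map_isPrime_of_surjective Ideal.Quotient.mk_surjective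
      (by rwa [Ideal.mk_ker])) bot_le with he | he
    · exact Or.inl (by rw [← hNmap, he, ← RingHom.ker_eq_comap_bot, Ideal.mk_ker])
    · refine Or.inr ?_
      rw [← hNmap, he]
      haveI := Ideal.comap_isMaximal_of_surjective (Ideal.Quotient.mk P) Ideal.Quotient.mk_surjective
        (K := maximalIdeal R)
      exact IsLocalRing.eq_maximalIdeal inferInstance

end Groth.Agent.Hens.ImmedGen
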