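import Groth.Agent.Hens.PairApprox
import Groth.Agent.S0600
import Groth.Agent.Nagata.CohenLift
import Groth.Agent.Adic.Rig.Hom
import Groth.Prelude.Def_EGA4b
import Mathlib.RingTheory.UniqueFactorizationDomain.Finite
import Mathlib.RingTheory.AdicCompletion.LocalRing
import Mathlib.RingTheory.EssentialFiniteness
import Mathlib.RingTheory.Filtration

/-!
# Sections through a node realizing a factorization
-/

set_option autoImplicit false
set_option linter.style.haveILetI false
set_option backward.isDefEq.respectTransparency.types false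

universe u

open IsLocalRing MvPowerSeries

namespace Groth.Agent.Hens.NodeSection

/-- A unit multiple of `d` close enough to `t` forces `d` and `t` to be associated. -/
theorem exists_forall_associated {S : Type u} [CommRing S] [IsNoetherianRing S] [IsLocalRing S] [IsDomain S]
    (d t : S) (hd : d ≠ 0) :
    ∃ N : ℕ, ∀ a, Associated d a → a - t ∈ maximalIdeal S ^ N → Associated d t := by
  classical
  by_cases htd : t ∈ Ideal.span {d}
  · obtain ⟨w, rfl⟩ := Ideal.mem_span_singleton.1 htd
    by_cases hw : IsUnit w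
    · exact ⟨0, fun _ _ _ => ⟨hw.unit, rfl⟩⟩
    have hne : ∃ N : ℕ, d ∉ maximalIdeal S ^ N := by
      by_contra hc
      push Not at hc
      refine hd ?_
      have h1 : d ∈ ⨅ n : ℕ, maximalIdeal S ^ n := Ideal.mem_iInf.2 hc
      rwa [Ideal.iInf_pow_eq_bot_of_isLocalRing _ (maximalIdeal.isMaximal S).ne_top] at h1
    obtain ⟨N, hN⟩ := hne
    refine ⟨N, fun a ⟨ε, hε⟩ ha => (hN ?_).elim⟩
    have hu : IsUnit ((ε : S) - w) := by
      by_contra hn
      have : (ε : S) ∈ maximalIdeal S := by
        simpa using Ideal.add_mem _ ((mem_maximalIdeal _).2 hn) ((mem_maximalIdeal _).2 hw)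
      exact (mem_maximalIdeal _).1 this ε.isUnit
    rw [← hε, ← mul_sub] at ha
    exact (Ideal.mul_unit_mem_iff_mem _ hu).1 ha
  · haveI : Nontrivial (S ⧸ Ideal.span {d}) := Ideal.Quotient.nontrivial_iff.2 fun h => htd (h ▸ trivial)
    haveI : IsLocalRing (S ⧸ Ideal.span {d}) :=
      IsLocalRing.of_surjective' (Ideal.Quotient.mk _) Ideal.Quotient.mk_surjective
    have hne : ∃ N : ℕ, Ideal.Quotient.mk (Ideal.span {d}) t ∉ maximalIdeal (S ⧸ Ideal.span {d}) ^ N := by
      by_contra hc
      push Not at hc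
      refine htd (Ideal.Quotient.eq_zero_iff_mem.1 ?_)
      have h1 : Ideal.Quotient.mk (Ideal.span {d}) t ∈ ⨅ n : ℕ, maximalIdeal (S ⧸ Ideal.span {d}) ^ n :=
        Ideal.mem_iInf.2 hc
      rwa [Ideal.iInf_pow_eq_bot_of_isLocalRing _ (maximalIdeal.isMaximal _).ne_top] at h1
    obtain ⟨N, hN⟩ := hne
    refine ⟨N, fun a ⟨ε, hε⟩ ha => (hN ?_).elim⟩
    have h2 := Ideal.mem_map_of_mem (Ideal.Quotient.mk (Ideal.span {d})) ha
    rw [Ideal.map_pow, map_sub, ← hε, map_mul,
      Ideal.Quotient.eq_zero_iff_mem.2 (Ideal.mem_span_singleton_self d), zero_mul, zero_sub, neg_mem_iff] at h2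
    haveI : IsLocalHom (Ideal.Quotient.mk (Ideal.span {d})) :=
      IsLocalHom.of_surjective _ Ideal.Quotient.mk_surjective
    exact Ideal.pow_right_mono (IsLocalRing.map_maximalIdeal_le (Ideal.Quotient.mk (Ideal.span {d}))) N h2

/-- In a factorial local domain, a factor of `Δ` close to `t` is associated to `t`. -/
theorem exists_forall_dvd {S : Type u} [CommRing S] [IsNoetherianRing S] [IsLocalRing S] [IsDomain S]
    [UniqueFactorizationMonoid S] (Δ t : S) (hΔ : Δ ≠ 0) :
    ∃ N : ℕ, ∀ a, a ∣ Δ → a - t ∈ maximalIdeal S ^ N → Associated a t := by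
  classical
  haveI : Fintype (Associates S)ˣ := Fintype.ofSubsingleton 1
  letI := UniqueFactorizationMonoid.fintypeSubtypeDvd (Associates.mk Δ) (Associates.mk_ne_zero.2 hΔ)
  choose N hN using fun D : {x : Associates S // x ∣ Associates.mk Δ} =>
    exists_forall_associated (Quotient.out D.1) t (fun h0 => by
      have h1 : Associates.mk (Quotient.out D.1) = D.1 := Quotient.out_eq D.1
      rw [h0, Associates.mk_zero] at h1
      have h2 := D.2
      rw [← h1, zero_dvd_iff, Associates.mk_eq_zero] at h2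
      exact hΔ h2)
  refine ⟨Finset.univ.sup N, fun a ha hat => ?_⟩
  let D : {x : Associates S // x ∣ Associates.mk Δ} := ⟨Associates.mk a, Associates.mk_dvd_mk.2 ha⟩
  have h1 : Associated (Quotient.out D.1) a := Associates.mk_eq_mk_iff_associated.1 (Quotient.out_eq D.1)
  exact h1.symm.trans (hN D a h1 (Ideal.pow_le_pow_right (Finset.le_sup (Finset.mem_univ D)) hat))

/-- A node with coefficients in a henselian local G-ring with factorial completion has sections
realizing every factorization. -/
theorem main (R : Type u) [CommRing R] [IsNoetherianRing R] [HenselianLocalRing R] (hG : CAlg.IsGRing R)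
    [IsDomain (AdicCompletion (maximalIdeal R) R)] [UniqueFactorizationMonoid (AdicCompletion (maximalIdeal R) R)]
    (Δ t₁ t₂ : R) (hΔ : algebraMap R (AdicCompletion (maximalIdeal R) R) Δ ≠ 0)
    (ht₁ : t₁ ∈ maximalIdeal R) (ht₂ : t₂ ∈ maximalIdeal R) (ht : t₁ * t₂ = Δ)
    (C : Type u) [CommRing C] [IsLocalRing C] [Algebra R C] [IsLocalHom (algebraMap R C)]
    [Algebra.EssFiniteType R C]
    (ψ : AdicCompletion (maximalIdeal C) C ≃+*
      (MvPowerSeries (Fin 2) (AdicCompletion (maximalIdeal R) R) ⧸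
        Ideal.span {(X 0 * X 1 - MvPowerSeries.C (algebraMap R (AdicCompletion (maximalIdeal R) R) Δ) :
          MvPowerSeries (Fin 2) (AdicCompletion (maximalIdeal R) R))}))
    (hψ : ψ.toRingHom.comp ((algebraMap C (AdicCompletion (maximalIdeal C) C)).comp (algebraMap R C)) =
      (Ideal.Quotient.mk _).comp ((MvPowerSeries.C : AdicCompletion (maximalIdeal R) R →+*
        MvPowerSeries (Fin 2) (AdicCompletion (maximalIdeal R) R)).comp
          (algebraMap R (AdicCompletion (maximalIdeal R) R)))) :
    ∃ (g : C →ₐ[R] R) (ĝ : AdicCompletion (maximalIdeal C) C →+* AdicCompletion (maximalIdeal R) R),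
      ĝ.comp (algebraMap C (AdicCompletion (maximalIdeal C) C)) =
        (algebraMap R (AdicCompletion (maximalIdeal R) R)).comp g.toRingHom ∧
      Ideal.span {ĝ (ψ.symm (Ideal.Quotient.mk _ (X 0)))} =
        Ideal.span {algebraMap R (AdicCompletion (maximalIdeal R) R) t₁} ∧
      Ideal.span {ĝ (ψ.symm (Ideal.Quotient.mk _ (X 1)))} =
        Ideal.span {algebraMap R (AdicCompletion (maximalIdeal R) R) t₂} := by
  classical
  haveI : IsNoetherianRing C := Algebra.EssFiniteType.isNoetherianRing R C
  haveI : IsNoetherianRing (AdicCompletion (maximalIdeal R) R) :=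
    RegLoc.AdicNoeth.isNoetherianRing_adicCompletion (maximalIdeal R) (IsNoetherian.noetherian _)
  have hfgR : (maximalIdeal R).FG := IsNoetherian.noetherian _
  have hfgC : (maximalIdeal C).FG := IsNoetherian.noetherian _
  have hmS : maximalIdeal (AdicCompletion (maximalIdeal R) R) = (maximalIdeal R).map (algebraMap R (AdicCompletion (maximalIdeal R) R)) := AdicCompletion.maximalIdeal_eq_map_of_fg hfgR
  have hloc : ∀ r ∈ (maximalIdeal R), (algebraMap R (AdicCompletion (maximalIdeal R) R)) r ∈ maximalIdeal (AdicCompletion (maximalIdeal R) R) := fun r hr => hmS ▸ Ideal.mem_map_of_mem _ hr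
  obtain ⟨ev, hevC, hevX⟩ := Nagata.CohenLift.exists_eval (R := AdicCompletion (maximalIdeal R) R) (AdicCompletion (maximalIdeal R) R)
    (RingHom.id _) ![(algebraMap R (AdicCompletion (maximalIdeal R) R)) t₁, (algebraMap R (AdicCompletion (maximalIdeal R) R)) t₂] (fun i => by fin_cases i <;> simp [hloc _ ht₁, hloc _ ht₂])
  have hev0 : ev (X 0 * X 1 - MvPowerSeries.C ((algebraMap R (AdicCompletion (maximalIdeal R) R)) Δ)) = 0 := by
    rw [map_sub, map_mul, hevX, hevX, hevC, ← ht, map_mul]
    simp
  let ev' := Ideal.Quotient.lift (Ideal.span {(X 0 * X 1 - MvPowerSeries.C ((algebraMap R (AdicCompletion (maximalIdeal R) R)) Δ) :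
    MvPowerSeries (Fin 2) (AdicCompletion (maximalIdeal R) R))}) ev (fun x hx => by
      obtain ⟨c, rfl⟩ := Ideal.mem_span_singleton.1 hx
      rw [map_mul, hev0, zero_mul])
  let F : AdicCompletion (maximalIdeal C) C →+* AdicCompletion (maximalIdeal R) R := ev'.comp ψ.toRingHom
  have hFsurj : Function.Surjective F := fun x =>
    ⟨ψ.symm (Ideal.Quotient.mk _ (MvPowerSeries.C x)), by
      show ev' (ψ (ψ.symm _)) = x
      rw [RingEquiv.apply_symm_apply, Ideal.Quotient.lift_mk, hevC]; rfl⟩
  haveI : IsLocalHom F := IsLocalHom.of_surjective F hFsurj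
  have hmC : maximalIdeal (AdicCompletion (maximalIdeal C) C) =
      (maximalIdeal C).map (algebraMap C (AdicCompletion (maximalIdeal C) C)) :=
    AdicCompletion.maximalIdeal_eq_map_of_fg hfgC
  let f : C →+* AdicCompletion (maximalIdeal R) R := F.comp (algebraMap C (AdicCompletion (maximalIdeal C) C))
  have hfloc : ∀ x ∈ maximalIdeal C, f x ∈ maximalIdeal (AdicCompletion (maximalIdeal R) R) := fun x hx =>
    IsLocalRing.map_maximalIdeal_le F (Ideal.mem_map_of_mem F (hmC ▸ Ideal.mem_map_of_mem _ hx))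
  have hfR : ∀ r, f (algebraMap R C r) = (algebraMap R (AdicCompletion (maximalIdeal R) R)) r := fun r => by
    have h1 := RingHom.congr_fun hψ r
    show ev' (ψ (algebraMap C _ (algebraMap R C r))) = (algebraMap R (AdicCompletion (maximalIdeal R) R)) r
    rw [show ψ (algebraMap C _ (algebraMap R C r)) = _ from h1]
    simp only [RingHom.comp_apply, ev', Ideal.Quotient.lift_mk, hevC]
    rfl
  -- the precision
  obtain ⟨N₁, hN₁⟩ := exists_forall_dvd ((algebraMap R (AdicCompletion (maximalIdeal R) R)) Δ) ((algebraMap R (AdicCompletion (maximalIdeal R) R)) t₁) hΔ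
  set N := N₁ + 1
  -- approximation on a finite type subalgebra
  let E := Algebra.EssFiniteType.subalgebra R C
  haveI : Algebra.FinitePresentation R E := Algebra.FinitePresentation.of_finiteType.1 inferInstance
  let fE : E →ₐ[R] AdicCompletion (maximalIdeal R) R :=
    { toRingHom := f.comp (algebraMap E C), commutes' := fun r => hfR r }
  obtain ⟨g₀, hg₀⟩ := PairApprox.exists_algHom (maximalIdeal R) (S0600.result R hG (maximalIdeal R)) E fE N
  have hclose : ∀ x : E, fE x - (algebraMap R (AdicCompletion (maximalIdeal R) R)) (g₀ x) ∈ ((maximalIdeal R) ^ N).map (algebraMap R (AdicCompletion (maximalIdeal R) R)) := fun x => by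
    rw [Adic.Rig.mem_pow_map_iff hfgR N]
    have h1 := AlgHom.congr_fun hg₀ x
    rw [AlgHom.comp_apply, AlgHom.comp_apply, Ideal.Quotient.mkₐ_eq_mk] at h1
    rw [map_sub, AlgHom.commutes, Ideal.Quotient.algebraMap_eq, ← h1, sub_self]
  have hmapN : ((maximalIdeal R) ^ N).map (algebraMap R (AdicCompletion (maximalIdeal R) R)) = maximalIdeal (AdicCompletion (maximalIdeal R) R) ^ N := by rw [Ideal.map_pow, hmS]
  have hsub : ∀ x : E, fE x - (algebraMap R (AdicCompletion (maximalIdeal R) R)) (g₀ x) ∈ maximalIdeal (AdicCompletion (maximalIdeal R) R) := fun x =>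
    Ideal.pow_le_self (Nat.succ_ne_zero _) (hmapN ▸ hclose x)
  have hunit : ∀ s : Algebra.EssFiniteType.submonoid R C, IsUnit (g₀ s.1) := fun s => by
    by_contra hn
    have h1 : fE s.1 ∈ maximalIdeal (AdicCompletion (maximalIdeal R) R) := by
      simpa using Ideal.add_mem _ (hsub s.1) (hloc _ ((mem_maximalIdeal _).2 hn))
    exact (mem_maximalIdeal _).1 h1 ((show IsUnit (algebraMap E C s.1) from s.2).map f)
  let g : C →ₐ[R] R := IsLocalization.liftAlgHom (M := Algebra.EssFiniteType.submonoid R C) (f := g₀) hunit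
  have hg : ∀ x : E, g (algebraMap E C x) = g₀ x := fun x => IsLocalization.lift_eq _ x
  have hfg : ∀ c : C, f c - (algebraMap R (AdicCompletion (maximalIdeal R) R)) (g c) ∈ maximalIdeal (AdicCompletion (maximalIdeal R) R) ^ N := fun c => by
    obtain ⟨⟨e, s⟩, he⟩ := IsLocalization.surj (Algebra.EssFiniteType.submonoid R C) c
    have hu : IsUnit (algebraMap E C s.1) := s.2
    rw [← Ideal.mul_unit_mem_iff_mem _ (hu.map f)]
    have h1 : f c * f (algebraMap E C s.1) = fE e := by rw [← map_mul, he]; rfl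
    have h2 : (algebraMap R (AdicCompletion (maximalIdeal R) R)) (g c) * (algebraMap R (AdicCompletion (maximalIdeal R) R)) (g₀ s.1) = (algebraMap R (AdicCompletion (maximalIdeal R) R)) (g₀ e) := by rw [← map_mul, ← hg, ← map_mul, he, hg]
    rw [show (f c - (algebraMap R (AdicCompletion (maximalIdeal R) R)) (g c)) * f (algebraMap E C s.1) =
      (fE e - (algebraMap R (AdicCompletion (maximalIdeal R) R)) (g₀ e)) - (algebraMap R (AdicCompletion (maximalIdeal R) R)) (g c) * (fE s.1 - (algebraMap R (AdicCompletion (maximalIdeal R) R)) (g₀ s.1)) by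
        show (f c - (algebraMap R (AdicCompletion (maximalIdeal R) R)) (g c)) * f (algebraMap E C s.1) =
          (fE e - (algebraMap R (AdicCompletion (maximalIdeal R) R)) (g₀ e)) - (algebraMap R (AdicCompletion (maximalIdeal R) R)) (g c) * (f (algebraMap E C s.1) - (algebraMap R (AdicCompletion (maximalIdeal R) R)) (g₀ s.1))
        linear_combination h1 - h2]
    exact Ideal.sub_mem _ (hmapN ▸ hclose e) (Ideal.mul_mem_left _ _ (hmapN ▸ hclose s.1))
  have hgloc : ∀ x ∈ maximalIdeal C, (algebraMap R (AdicCompletion (maximalIdeal R) R)) (g x) ∈ maximalIdeal (AdicCompletion (maximalIdeal R) R) := fun x hx => by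
    simpa using Ideal.sub_mem _ (hfloc x hx) (Ideal.pow_le_self (Nat.succ_ne_zero _) (hfg x))
  obtain ⟨G, hG'⟩ := Adic.Rig.exists_lift (J := maximalIdeal C) ((algebraMap R (AdicCompletion (maximalIdeal R) R)).comp g.toRingHom)
    (maximalIdeal (AdicCompletion (maximalIdeal R) R)) (Ideal.map_le_iff_le_comap.2 hgloc)
  have hFG : ∀ z, G z - F z ∈ maximalIdeal (AdicCompletion (maximalIdeal R) R) ^ N := fun z => by
    obtain ⟨c, hc⟩ := Adic.Rig.exists_sub_mem_pow_map hfgC z N
    have key : ∀ k : AdicCompletion (maximalIdeal C) C →+* AdicCompletion (maximalIdeal R) R,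
        (∀ x ∈ maximalIdeal C, k (algebraMap C _ x) ∈ maximalIdeal (AdicCompletion (maximalIdeal R) R)) →
        k z - k (algebraMap C _ c) ∈ maximalIdeal (AdicCompletion (maximalIdeal R) R) ^ N := fun k hk => by
      have h1 := Ideal.mem_map_of_mem k hc
      rw [Ideal.map_map, map_sub, Ideal.map_pow] at h1
      exact Ideal.pow_right_mono (Ideal.map_le_iff_le_comap.2 hk) N h1
    have h1 := key G fun x hx => by
      rw [← RingHom.comp_apply, hG']
      exact hgloc x hx
    have h2 := key F hfloc
    have h3 : G (algebraMap C _ c) = (algebraMap R (AdicCompletion (maximalIdeal R) R)) (g c) := RingHom.congr_fun hG' c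
    rw [show G z - F z = (G z - G (algebraMap C _ c)) - (F z - F (algebraMap C _ c)) -
      (f c - (algebraMap R (AdicCompletion (maximalIdeal R) R)) (g c)) by rw [h3]; show _ = _ - (f c - (algebraMap R (AdicCompletion (maximalIdeal R) R)) (g c)); simp only [f, RingHom.comp_apply]; ring]
    exact Ideal.sub_mem _ (Ideal.sub_mem _ h1 h2) (hfg c)
  set a := G (ψ.symm (Ideal.Quotient.mk _ (X 0))) with ha
  set b := G (ψ.symm (Ideal.Quotient.mk _ (X 1))) with hb
  have hab : a * b = (algebraMap R (AdicCompletion (maximalIdeal R) R)) Δ := by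
    have h1 : (Ideal.Quotient.mk (Ideal.span {(X 0 * X 1 - MvPowerSeries.C ((algebraMap R (AdicCompletion (maximalIdeal R) R)) Δ) :
        MvPowerSeries (Fin 2) (AdicCompletion (maximalIdeal R) R))})) (X 0 * X 1) = ψ (algebraMap C _ (algebraMap R C Δ)) := by
      refine Eq.trans ?_ (RingHom.congr_fun hψ Δ).symm
      exact Ideal.Quotient.eq.2 (Ideal.mem_span_singleton_self _)
    rw [ha, hb, ← map_mul, ← map_mul, ← map_mul, h1, RingEquiv.symm_apply_apply]
    have h2 : G (algebraMap C _ (algebraMap R C Δ)) = (algebraMap R (AdicCompletion (maximalIdeal R) R)) (g (algebraMap R C Δ)) := RingHom.congr_fun hG' _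
    rw [h2, AlgHom.commutes]
    rfl
  have hFu : F (ψ.symm (Ideal.Quotient.mk _ (X 0))) = (algebraMap R (AdicCompletion (maximalIdeal R) R)) t₁ := by
    show ev' (ψ (ψ.symm _)) = _
    rw [RingEquiv.apply_symm_apply, Ideal.Quotient.lift_mk, hevX]
    rfl
  have hat : Associated a ((algebraMap R (AdicCompletion (maximalIdeal R) R)) t₁) := hN₁ a ⟨b, hab.symm⟩ (by
    have := hFG (ψ.symm (Ideal.Quotient.mk _ (X 0)))
    rw [hFu] at this
    exact Ideal.pow_le_pow_right (Nat.le_succ N₁) this)
  refine ⟨g, G, hG', Ideal.span_singleton_eq_span_singleton.2 hat, Ideal.span_singleton_eq_span_singleton.2 ?_⟩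
  refine Associated.of_mul_left ?_ hat fun h0 => hΔ (by rw [← hab, h0, zero_mul])
  rw [hab, ← ht, map_mul]; exact Associated.refl _

end Groth.Agent.Hens.NodeSection
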