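import Groth.Prelude.Def_Hens2
import Groth.Agent.Hensel.EtaleLift
import Groth.Agent.Hens.Lifting
import Mathlib.RingTheory.Unramified.Finite
import Mathlib.RingTheory.Flat.EquationalCriterion
import Mathlib.RingTheory.Flat.FaithfullyFlat.Algebra
import Mathlib.RingTheory.FinitePresentation

/-!
# The henselization of a pair

`PairHenselization A I` is the localization of the tensor product of all étale `A`-algebras with
a point in `A/I` at the elements which are units at this point.
-/

set_option linter.style.haveILetI false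

universe u

open TensorProduct

namespace Groth.Agent.Hens

variable (A : Type u) [CommRing A] (I : Ideal A)

/-- Étale algebras with a point in `A/I`, by presentations. -/
def PairIdx : Type u :=
  Σ n : ℕ, Σ' (J : Ideal (MvPolynomial (Fin n) A))
    (_ : Algebra.Etale A (MvPolynomial (Fin n) A ⧸ J)),
      ((MvPolynomial (Fin n) A ⧸ J) →ₐ[A] A ⧸ I)

variable {A I}

/-- The algebra of an index. -/
abbrev PairIdx.alg (i : PairIdx A I) : Type u := MvPolynomial (Fin i.1) A ⧸ i.2.1

instance (i : PairIdx A I) : Algebra.Etale A i.alg := i.2.2.1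

variable (A I)

/-- Variables. -/
abbrev PairVar : Type u := Σ i : PairIdx A I, Fin i.1

noncomputable def pairRename {A : Type u} [CommRing A] {I : Ideal A} (i : PairIdx A I) :
    MvPolynomial (Fin i.1) A →ₐ[A] MvPolynomial (PairVar A I) A :=
  MvPolynomial.rename fun k => ⟨i, k⟩

noncomputable def pairRelIdeal : Ideal (MvPolynomial (PairVar A I) A) :=
  ⨆ i : PairIdx A I, i.2.1.map (pairRename i).toRingHom

/-- The tensor product of all pointed étale algebras. -/
abbrev PairPre : Type u := MvPolynomial (PairVar A I) A ⧸ pairRelIdeal A I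

variable {A I}

noncomputable def pairPreLift {C : Type*} [CommRing C] [Algebra A C]
    (η : ∀ i : PairIdx A I, i.alg →ₐ[A] C) : PairPre A I →ₐ[A] C :=
  Ideal.Quotient.liftₐ _
    (MvPolynomial.aeval fun v => η v.1 (Ideal.Quotient.mk _ (MvPolynomial.X v.2))) (by
    intro x hx
    refine (iSup_le fun i => ?_ : pairRelIdeal A I ≤ RingHom.ker _) hx
    rw [Ideal.map_le_iff_le_comap]
    intro y hy
    show MvPolynomial.aeval _ (pairRename i y) = 0
    rw [pairRename]
    rw [MvPolynomial.aeval_rename]
    have : MvPolynomial.aeval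
        (fun k => η i (Ideal.Quotient.mk _ (MvPolynomial.X k))) =
        (η i).comp (Ideal.Quotient.mkₐ A i.2.1) :=
      MvPolynomial.algHom_ext fun k => by simp
    refine (AlgHom.congr_fun this y).trans ?_
    rw [AlgHom.comp_apply, Ideal.Quotient.mkₐ_eq_mk, Ideal.Quotient.eq_zero_iff_mem.2 hy,
      map_zero])

variable (A I)

noncomputable def pairPrePoint : PairPre A I →ₐ[A] A ⧸ I := pairPreLift fun i => i.2.2.2

noncomputable def pairSubmonoid : Submonoid (PairPre A I) :=
  (IsUnit.submonoid (A ⧸ I)).comap (pairPrePoint A I)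

/-- The henselization of the pair `(A, I)`. -/
def PairHenselization : Type u := Localization (pairSubmonoid A I)

noncomputable instance : CommRing (PairHenselization A I) :=
  inferInstanceAs <| CommRing (Localization (pairSubmonoid A I))

noncomputable instance : Algebra (PairPre A I) (PairHenselization A I) :=
  inferInstanceAs <| Algebra _ (Localization (pairSubmonoid A I))

noncomputable instance : Algebra A (PairHenselization A I) :=
  inferInstanceAs <| Algebra _ (Localization (pairSubmonoid A I))

instance : IsScalarTower A (PairPre A I) (PairHenselization A I) :=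
  inferInstanceAs <| IsScalarTower A (PairPre A I) (Localization (pairSubmonoid A I))

instance : IsLocalization (pairSubmonoid A I) (PairHenselization A I) :=
  inferInstanceAs <| IsLocalization (pairSubmonoid A I) (Localization (pairSubmonoid A I))

/-- The map to `A/I`. -/
noncomputable def pairPoint : PairHenselization A I →ₐ[A] A ⧸ I :=
  IsLocalization.liftAlgHom (M := pairSubmonoid A I) (f := pairPrePoint A I) fun y => y.2

theorem pairPoint_algebraMap (x : PairPre A I) :
    pairPoint A I (algebraMap (PairPre A I) _ x) = pairPrePoint A I x :=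
  IsLocalization.lift_eq _ x

theorem isUnit_of_isUnit_pairPoint {z : PairHenselization A I} (h : IsUnit (pairPoint A I z)) :
    IsUnit z := by
  obtain ⟨x, s, rfl⟩ := IsLocalization.exists_mk'_eq (pairSubmonoid A I) z
  have hx : x ∈ pairSubmonoid A I := by
    show IsUnit (pairPrePoint A I x)
    rw [← pairPoint_algebraMap,
      ← IsLocalization.mk'_spec (M := pairSubmonoid A I) (PairHenselization A I) x s, map_mul,
      pairPoint_algebraMap]
    exact h.mul s.2
  have := IsLocalization.map_units (PairHenselization A I) (⟨x, hx⟩ : pairSubmonoid A I)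
  rw [← IsLocalization.mk'_spec (M := pairSubmonoid A I) (PairHenselization A I) x s] at this
  exact (IsUnit.mul_iff.1 this).1

theorem ker_pairPoint_le_jacobson :
    RingHom.ker (pairPoint A I).toRingHom ≤ Ideal.jacobson ⊥ := by
  intro x hx
  rw [Ideal.mem_jacobson_bot]
  intro y
  refine isUnit_of_isUnit_pairPoint A I ?_
  rw [map_add, map_mul, show pairPoint A I x = 0 from hx, zero_mul, zero_add, map_one]
  exact isUnit_one

variable {A I}

noncomputable def pairIncl (i : PairIdx A I) : i.alg →ₐ[A] PairHenselization A I :=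
  (IsScalarTower.toAlgHom A (PairPre A I) _).comp
    (Ideal.Quotient.liftₐ _ ((Ideal.Quotient.mkₐ A _).comp (pairRename i))
      (fun x hx => Ideal.Quotient.eq_zero_iff_mem.2
        (le_iSup (fun i : PairIdx A I => i.2.1.map (pairRename i).toRingHom) i
          (Ideal.mem_map_of_mem _ hx))))

theorem pairIncl_mk (i : PairIdx A I) (k : Fin i.1) :
    pairIncl i (Ideal.Quotient.mk _ (MvPolynomial.X k)) =
      algebraMap (PairPre A I) _ (Ideal.Quotient.mk _ (MvPolynomial.X ⟨i, k⟩)) := by
  show algebraMap (PairPre A I) _ (Ideal.Quotient.mk _ (pairRename i _)) = _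
  rw [pairRename, MvPolynomial.rename_X]

theorem pairPoint_pairIncl (i : PairIdx A I) : (pairPoint A I).comp (pairIncl i) = i.2.2.2 := by
  refine Ideal.Quotient.algHom_ext _ (MvPolynomial.algHom_ext fun k => ?_)
  show pairPoint A I (pairIncl i (Ideal.Quotient.mk _ _)) = _
  rw [pairIncl_mk, pairPoint_algebraMap]
  exact MvPolynomial.aeval_X _ _

theorem pairHenselization_algHom_ext {C : Type*} [CommRing C] [Algebra A C]
    {f g : PairHenselization A I →ₐ[A] C}
    (h : ∀ i : PairIdx A I, f.comp (pairIncl i) = g.comp (pairIncl i)) : f = g :=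
  IsLocalization.algHom_ext (pairSubmonoid A I)
    (Ideal.Quotient.algHom_ext _ (MvPolynomial.algHom_ext fun ⟨i, k⟩ => by
      have := AlgHom.congr_fun (h i) (Ideal.Quotient.mk _ (MvPolynomial.X k))
      rwa [AlgHom.comp_apply, AlgHom.comp_apply, pairIncl_mk] at this))

/-- Maps from étale algebras into the henselization are determined by their points. -/
theorem pair_eq_of_point {S : Type u} [CommRing S] [Algebra A S] [Algebra.Etale A S]
    {θ₁ θ₂ : S →ₐ[A] PairHenselization A I}
    (h : (pairPoint A I).comp θ₁ = (pairPoint A I).comp θ₂) : θ₁ = θ₂ :=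
  Groth.Agent.Hensel.algHom_eq_of_sub_mem (ker_pairPoint_le_jacobson A I) fun s => by
    show pairPoint A I _ = 0
    rw [map_sub, sub_eq_zero]
    exact AlgHom.congr_fun h s

/-- An étale algebra with a point in `A/I` maps to the henselization, uniquely. -/
theorem existsUnique_algHom_pair {S : Type u} [CommRing S] [Algebra A S] [Algebra.Etale A S]
    (σ : S →ₐ[A] A ⧸ I) :
    ∃! θ : S →ₐ[A] PairHenselization A I, (pairPoint A I).comp θ = σ := by
  obtain ⟨n, π, hπ, -⟩ := Algebra.FinitePresentation.out (R := A) (A := S)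
  let e : (MvPolynomial (Fin n) A ⧸ RingHom.ker π.toRingHom) ≃ₐ[A] S :=
    Ideal.quotientKerAlgEquivOfSurjective hπ
  let i : PairIdx A I :=
    ⟨n, RingHom.ker π.toRingHom, Algebra.Etale.of_equiv e.symm, σ.comp e.toAlgHom⟩
  refine ⟨(pairIncl i).comp e.symm.toAlgHom, ?_, fun θ hθ => pair_eq_of_point ?_⟩
  · show (pairPoint A I).comp ((pairIncl i).comp e.symm.toAlgHom) = σ
    rw [← AlgHom.comp_assoc, pairPoint_pairIncl]
    refine AlgHom.ext fun x => ?_
    show σ (e (e.symm x)) = σ x
    rw [e.apply_symm_apply]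
  · rw [hθ, ← AlgHom.comp_assoc, pairPoint_pairIncl]
    refine AlgHom.ext fun x => ?_
    show σ x = σ (e (e.symm x))
    rw [e.apply_symm_apply]

/-- Every element comes from an étale algebra. -/
theorem exists_pairStage (z : PairHenselization A I) :
    ∃ (S : Type u) (_ : CommRing S) (_ : Algebra A S), Algebra.Etale A S ∧
      ∃ (θ : S →ₐ[A] PairHenselization A I) (s : S), θ s = z := by
  have hadd : ∀ x y : PairHenselization A I,
      (∃ (S : Type u) (_ : CommRing S) (_ : Algebra A S), Algebra.Etale A S ∧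
        ∃ (θ : S →ₐ[A] PairHenselization A I) (s : S), θ s = x) →
      (∃ (S : Type u) (_ : CommRing S) (_ : Algebra A S), Algebra.Etale A S ∧
        ∃ (θ : S →ₐ[A] PairHenselization A I) (s : S), θ s = y) →
      ∃ (S : Type u) (_ : CommRing S) (_ : Algebra A S), Algebra.Etale A S ∧
        ∃ (θ : S →ₐ[A] PairHenselization A I) (s t : S), θ s = x ∧ θ t = y := by
    rintro x y ⟨S, _, _, hS, θ, s, rfl⟩ ⟨T, _, _, hT, η, t, rfl⟩
    exact ⟨S ⊗[A] T, _, _, Algebra.Etale.comp A S _,
      Algebra.TensorProduct.lift θ η (fun _ _ => Commute.all _ _), s ⊗ₜ 1, 1 ⊗ₜ t,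
      by simp, by simp⟩
  have hgen : ∀ x : PairPre A I, ∃ (S : Type u) (_ : CommRing S) (_ : Algebra A S),
      Algebra.Etale A S ∧ ∃ (θ : S →ₐ[A] PairHenselization A I) (s : S),
        θ s = algebraMap _ _ x := by
    intro x
    obtain ⟨p, rfl⟩ := Ideal.Quotient.mk_surjective x
    induction p using MvPolynomial.induction_on with
    | C r =>
      refine ⟨A, _, _, inferInstance, Algebra.ofId A _, r, ?_⟩
      show algebraMap A (PairHenselization A I) r = _
      rw [IsScalarTower.algebraMap_apply A (PairPre A I)]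
      rfl
    | add p q hp hq =>
      obtain ⟨S, _, _, hS, θ, s, t, hs, ht⟩ := hadd _ _ hp hq
      exact ⟨S, _, _, hS, θ, s + t, by rw [map_add, hs, ht, map_add, map_add]⟩
    | mul_X p v hp =>
      obtain ⟨i, k⟩ := v
      obtain ⟨S, _, _, hS, θ, s, t, hs, ht⟩ := hadd _ _ hp
        ⟨i.alg, _, _, inferInstance, pairIncl i, _, pairIncl_mk i k⟩
      exact ⟨S, _, _, hS, θ, s * t, by rw [map_mul, hs, ht, map_mul, map_mul]⟩
  obtain ⟨x, d, rfl⟩ := IsLocalization.exists_mk'_eq (pairSubmonoid A I) z
  obtain ⟨S, _, _, hS, θ, s, t, hs, ht⟩ := hadd _ _ (hgen x) (hgen d)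
  have hu : IsUnit (θ t) := ht ▸ IsLocalization.map_units _ d
  obtain ⟨v, hv⟩ := isUnit_iff_exists_inv.1
    (IsLocalization.Away.algebraMap_isUnit (S := Localization.Away t) t)
  refine ⟨Localization.Away t, _, _, inferInstance, awayExt θ t hu,
    algebraMap S _ s * v, ?_⟩
  rw [IsLocalization.eq_mk'_iff_mul_eq, map_mul, awayExt_algebraMap, ← hs, ← ht, mul_assoc]
  have hv' : θ t * awayExt θ t hu v = 1 := by
    rw [← awayExt_algebraMap θ t hu, ← map_mul, hv, map_one]
  rw [mul_comm (awayExt θ t hu v), hv', mul_one]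

theorem exists_pairStage_finset (z : Finset (PairHenselization A I)) :
    ∃ (S : Type u) (_ : CommRing S) (_ : Algebra A S), Algebra.Etale A S ∧
      ∃ θ : S →ₐ[A] PairHenselization A I, ∀ x ∈ z, x ∈ θ.range := by
  classical
  induction z using Finset.induction with
  | empty => exact ⟨A, _, _, inferInstance, Algebra.ofId A _, by simp⟩
  | @insert x z hx ih =>
    obtain ⟨S, _, _, hS, θ, hθ⟩ := ih
    obtain ⟨T, _, _, hT, η, t, rfl⟩ := exists_pairStage x
    refine ⟨S ⊗[A] T, _, _, Algebra.Etale.comp A S _,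
      Algebra.TensorProduct.lift θ η (fun _ _ => Commute.all _ _), fun y hy => ?_⟩
    rcases Finset.mem_insert.1 hy with rfl | hy
    · refine ⟨1 ⊗ₜ t, ?_⟩
      show Algebra.TensorProduct.lift θ η _ _ = η t
      simp
    · obtain ⟨a, ha⟩ := hθ y hy
      refine ⟨a ⊗ₜ 1, ?_⟩
      show Algebra.TensorProduct.lift θ η _ _ = y
      simpa using ha

/-! ### The quotient -/

theorem ker_pairPoint :
    RingHom.ker (pairPoint A I).toRingHom = I.map (algebraMap A (PairHenselization A I)) := by
  refine le_antisymm (fun z hz => ?_) ?_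
  swap
  · rw [Ideal.map_le_iff_le_comap]
    intro a ha
    show pairPoint A I (algebraMap A _ a) = 0
    rw [AlgHom.commutes]
    exact Ideal.Quotient.eq_zero_iff_mem.2 ha
  obtain ⟨S, _, _, hS, θ, s, rfl⟩ := exists_pairStage z
  -- the section of the unramified algebra `S/IS` over `A/I`
  let σ := (pairPoint A I).comp θ
  let σ' : (A ⧸ I) ⊗[A] S →ₐ[A ⧸ I] A ⧸ I :=
    Algebra.TensorProduct.lift (Algebra.ofId (A ⧸ I) (A ⧸ I)) σ (fun _ _ => Commute.all _ _)
  obtain ⟨e, -, he1, he⟩ := Groth.Agent.Hensel.exists_isIdempotentElem_section σ'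
  obtain ⟨e', rfl⟩ : ∃ e' : S, (1 : A ⧸ I) ⊗ₜ[A] e' = e :=
    Algebra.TensorProduct.includeRight_surjective _ Ideal.Quotient.mk_surjective e
  have hσe : σ e' = 1 := by simpa [σ'] using he1
  have hσs : σ s = 0 := hz
  have hmem : s * e' ∈ I.map (algebraMap A S) := by
    have h0 : (1 : A ⧸ I) ⊗ₜ[A] (s * e') = 0 := by
      rw [← mul_one (1 : A ⧸ I), ← Algebra.TensorProduct.tmul_mul_tmul, he]
      simp [σ', hσs]
    have hker : RingHom.ker (Algebra.TensorProduct.includeRight :
        S →ₐ[A] (A ⧸ I) ⊗[A] S).toRingHom = I.map (algebraMap A S) := by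
      ext x
      rw [RingHom.mem_ker]
      show (1 : A ⧸ I) ⊗ₜ[A] x = 0 ↔ _
      rw [← (TensorProduct.quotTensorEquivQuotSMul S I).map_eq_zero_iff,
        TensorProduct.quotTensorEquivQuotSMul_mk_one_tmul, Submodule.Quotient.mk_eq_zero,
        Ideal.smul_top_eq_map]
      rfl
    rw [← hker]
    exact h0
  have hu : IsUnit (θ e') := isUnit_of_isUnit_pairPoint A I (by
    show IsUnit (σ e'); rw [hσe]; exact isUnit_one)
  have := Ideal.mem_map_of_mem θ.toRingHom hmem
  rw [Ideal.map_map, show θ.toRingHom.comp (algebraMap A S) = algebraMap A _ from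
    θ.comp_algebraMap] at this
  change θ (s * e') ∈ _ at this
  rw [map_mul] at this
  exact (Ideal.mul_unit_mem_iff_mem _ hu).1 this

theorem map_le_jacobson_pair :
    I.map (algebraMap A (PairHenselization A I)) ≤ Ideal.jacobson ⊥ :=
  ker_pairPoint.symm.trans_le (ker_pairPoint_le_jacobson A I)

theorem bijective_quotientMap_pairHenselization :
    Function.Bijective (Ideal.quotientMap (I.map (algebraMap A (PairHenselization A I)))
      (algebraMap A (PairHenselization A I)) Ideal.le_comap_map) := by
  let φ := Ideal.quotientMap (I.map (algebraMap A (PairHenselization A I)))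
    (algebraMap A (PairHenselization A I)) Ideal.le_comap_map
  have hφ : ∀ a, pairPoint A I (algebraMap A _ a) = Ideal.Quotient.mk I a := fun a => by
    rw [AlgHom.commutes]; rfl
  refine ⟨(injective_iff_map_eq_zero φ).2 fun x hx => ?_, fun y => ?_⟩
  · obtain ⟨a, rfl⟩ := Ideal.Quotient.mk_surjective x
    rw [Ideal.quotientMap_mk, Ideal.Quotient.eq_zero_iff_mem, ← ker_pairPoint] at hx
    rw [← hφ]
    exact hx
  · obtain ⟨z, rfl⟩ := Ideal.Quotient.mk_surjective y
    obtain ⟨a, ha⟩ := Ideal.Quotient.mk_surjective (pairPoint A I z)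
    refine ⟨Ideal.Quotient.mk I a, ?_⟩
    rw [Ideal.quotientMap_mk, Ideal.Quotient.eq, ← ker_pairPoint]
    show pairPoint A I _ = 0
    rw [map_sub, hφ, ha, sub_self]

/-! ### Henselian -/

instance henselianRing_pairHenselization :
    HenselianRing (PairHenselization A I) (I.map (algebraMap A (PairHenselization A I))) := by
  classical
  refine ⟨map_le_jacobson_pair, fun f hf a₀ h1 h2 => ?_⟩
  rcases subsingleton_or_nontrivial (PairHenselization A I) with hs | hs
  · exact ⟨a₀, Subsingleton.elim _ _, by rw [sub_self]; exact Submodule.zero_mem _⟩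
  obtain ⟨S, _, _, hS, θ, hθ⟩ := exists_pairStage_finset f.coeffs
  have hlift : f ∈ Polynomial.lifts θ.toRingHom := by
    rw [Polynomial.lifts_iff_coeff_lifts]
    intro n
    by_cases hn : f.coeff n = 0
    · exact ⟨0, by simp [hn]⟩
    · exact hθ _ (Polynomial.coeff_mem_coeffs hn)
  obtain ⟨F, hFmap, -, hFm⟩ := Polynomial.lifts_and_degree_eq_and_monic hlift hf
  let P : StandardEtalePair S := ⟨F, hFm, Polynomial.derivative F, 1, 0, 1, by simp⟩
  letI : Algebra A P.Ring := ((algebraMap S P.Ring).comp (algebraMap A S)).toAlgebra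
  haveI : IsScalarTower A S P.Ring := .of_algebraMap_eq' rfl
  haveI : Algebra.Etale A P.Ring := Algebra.Etale.comp A S P.Ring
  letI : Algebra S (A ⧸ I) := ((pairPoint A I).toRingHom.comp θ.toRingHom).toAlgebra
  haveI : IsScalarTower A S (A ⧸ I) :=
    .of_algebraMap_eq' ((pairPoint A I).comp θ).comp_algebraMap.symm
  have hev : ∀ p : Polynomial S, Polynomial.aeval (pairPoint A I a₀) p =
      pairPoint A I ((p.map θ.toRingHom).eval a₀) := fun p => by
    rw [Polynomial.eval_map, Polynomial.aeval_def, RingHom.algebraMap_toAlgebra]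
    exact (Polynomial.hom_eval₂ p θ.toRingHom (pairPoint A I).toRingHom a₀).symm
  have hP : P.HasMap (pairPoint A I a₀) := by
    refine ⟨?_, ?_⟩
    · rw [hev, hFmap]
      rw [← ker_pairPoint] at h1
      exact h1
    · rw [hev, ← Polynomial.derivative_map, hFmap]
      obtain ⟨w, hw⟩ := isUnit_iff_exists_inv.1 h2
      obtain ⟨v, rfl⟩ := Ideal.Quotient.mk_surjective w
      rw [← map_mul, ← map_one (Ideal.Quotient.mk _), Ideal.Quotient.eq, ← ker_pairPoint] at hw
      refine isUnit_iff_exists_inv.2 ⟨pairPoint A I v, ?_⟩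
      change pairPoint A I _ = 0 at hw
      rw [map_sub, map_mul, map_one, sub_eq_zero] at hw
      exact hw
  obtain ⟨ψ, hψ, -⟩ := existsUnique_algHom_pair (I := I) ((P.lift _ hP).restrictScalars A)
  have hψθ : ψ.comp (IsScalarTower.toAlgHom A S P.Ring) = θ := by
    refine pair_eq_of_point ?_
    rw [← AlgHom.comp_assoc, hψ]
    exact AlgHom.ext fun a => (P.lift _ hP).commutes a
  refine ⟨ψ P.X, ?_, ?_⟩
  · have hz : Polynomial.aeval P.X F = 0 := P.hasMap_X.1
    rw [Polynomial.IsRoot, ← hFmap, Polynomial.eval_map]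
    have := congrArg ψ hz
    rw [map_zero, Polynomial.aeval_def] at this
    change ψ.toRingHom (Polynomial.eval₂ (algebraMap S P.Ring) P.X F) = 0 at this
    rw [Polynomial.hom_eval₂] at this
    rw [← this]
    congr 1
    exact congrArg AlgHom.toRingHom hψθ.symm
  · rw [← ker_pairPoint]
    show pairPoint A I _ = 0
    rw [map_sub, sub_eq_zero, ← AlgHom.comp_apply, hψ]
    exact StandardEtalePair.lift_X (P := P) _ hP

/-! ### Universal property -/

theorem isPairHenselization_pairHenselization :
    Hens2.IsPairHenselization A I (PairHenselization A I) := by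
  refine ⟨inferInstance, fun C _ J f hC hIJ => ?_⟩
  letI := f.toAlgebra
  haveI := hC
  let q : (A ⧸ I) →ₐ[A] C ⧸ J := Ideal.Quotient.liftₐ _ (Algebra.ofId A (C ⧸ J)) (fun a ha =>
    show algebraMap A (C ⧸ J) a = 0 from
      Ideal.Quotient.eq_zero_iff_mem.2 (hIJ (Ideal.mem_map_of_mem f ha)))
  -- the map on each stage
  have hex : ∀ i : PairIdx A I, ∃ η : i.alg →ₐ[A] C,
      ∀ s, Ideal.Quotient.mk J (η s) = q (i.2.2.2 s) := by
    intro i
    let σC : C ⊗[A] i.alg →ₐ[C] C ⧸ J :=
      Algebra.TensorProduct.lift (Algebra.ofId C (C ⧸ J)) (q.comp i.2.2.2)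
        (fun _ _ => Commute.all _ _)
    obtain ⟨τ, hτ⟩ := Groth.Agent.Hensel.exists_algHom_lift (C ⊗[A] i.alg) σC
    refine ⟨(τ.restrictScalars A).comp Algebra.TensorProduct.includeRight, fun s => ?_⟩
    show (Ideal.Quotient.mkₐ C J).comp τ (1 ⊗ₜ s) = _
    rw [hτ]
    simp [σC]
  choose η hη using hex
  have hg₀ : (Ideal.Quotient.mkₐ A J).comp (pairPreLift η) = q.comp (pairPrePoint A I) :=
    Ideal.Quotient.algHom_ext _ (MvPolynomial.algHom_ext fun ⟨i, k⟩ => by
      show Ideal.Quotient.mk J (MvPolynomial.aeval _ (MvPolynomial.X _)) =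
        q (MvPolynomial.aeval _ (MvPolynomial.X _))
      rw [MvPolynomial.aeval_X, MvPolynomial.aeval_X]
      exact hη i _)
  let g : PairHenselization A I →ₐ[A] C :=
    IsLocalization.liftAlgHom (M := pairSubmonoid A I) (f := pairPreLift η) fun y =>
      Groth.Agent.Hensel.isUnit_of_mk hC.jac
        (by
          rw [← Ideal.Quotient.mkₐ_eq_mk A, ← AlgHom.comp_apply, hg₀]
          exact (show IsUnit (pairPrePoint A I (y : PairPre A I)) from y.2).map q)
  refine ⟨g.toRingHom, g.comp_algebraMap, fun g' hg' => ?_⟩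
  let G : PairHenselization A I →ₐ[A] C := ⟨g', RingHom.congr_fun hg'⟩
  have key : ∀ (φ : PairHenselization A I →ₐ[A] C) (z),
      Ideal.Quotient.mk J (φ z) = q (pairPoint A I z) := by
    intro φ z
    obtain ⟨a, ha⟩ := Ideal.Quotient.mk_surjective (pairPoint A I z)
    have hmem : z - algebraMap A _ a ∈ RingHom.ker (pairPoint A I).toRingHom := by
      show pairPoint A I _ = 0
      rw [map_sub, AlgHom.commutes, ← ha]
      exact sub_self _
    rw [ker_pairPoint] at hmem
    have := Ideal.mem_map_of_mem φ.toRingHom hmem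
    rw [Ideal.map_map, show φ.toRingHom.comp (algebraMap A _) = f from φ.comp_algebraMap] at this
    have h0 := hIJ this
    change φ (z - algebraMap A _ a) ∈ J at h0
    rw [map_sub, AlgHom.commutes, ← Ideal.Quotient.eq] at h0
    rw [h0, ← ha]
    rfl
  exact congrArg AlgHom.toRingHom (pairHenselization_algHom_ext (f := G) (g := g) fun i =>
    Groth.Agent.Hensel.algHom_eq_of_sub_mem hC.jac fun s => by
      rw [← Ideal.Quotient.eq, AlgHom.comp_apply, AlgHom.comp_apply, key, key])

/-! ### Flatness -/

theorem exists_flat_pairTensor (F : Finset (PairIdx A I)) :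
    ∃ (S : Type u) (_ : CommRing S) (_ : Algebra A S), Module.Flat A S ∧
      ∃ (θ : S →ₐ[A] PairPre A I) (y : PairVar A I → S), ∀ i ∈ F,
        (∀ p ∈ i.2.1, MvPolynomial.aeval (fun k => y ⟨i, k⟩) p = 0) ∧
        ∀ k, θ (y ⟨i, k⟩) = Ideal.Quotient.mk _ (MvPolynomial.X ⟨i, k⟩) := by
  classical
  induction F using Finset.induction with
  | empty => exact ⟨A, _, _, inferInstance, Algebra.ofId A _, fun _ => 0, by simp⟩
  | @insert a F ha ih =>
    obtain ⟨S, _, _, hS, θ, y, hy⟩ := ih
    haveI : Algebra.Etale A a.alg := inferInstance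
    haveI : Module.Flat A a.alg := inferInstance
    let θa : a.alg →ₐ[A] PairPre A I :=
      Ideal.Quotient.liftₐ _ ((Ideal.Quotient.mkₐ A _).comp (pairRename a))
        (fun x hx => Ideal.Quotient.eq_zero_iff_mem.2
          (le_iSup (fun i : PairIdx A I => i.2.1.map (pairRename i).toRingHom) a
            (Ideal.mem_map_of_mem _ hx)))
    refine ⟨S ⊗[A] a.alg, inferInstance, inferInstance, inferInstance,
      Algebra.TensorProduct.lift θ θa (fun _ _ => Commute.all _ _),
      fun v => if h : v.1 = a then 1 ⊗ₜ Ideal.Quotient.mk _ (MvPolynomial.X (h ▸ v.2))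
        else y v ⊗ₜ 1, ?_⟩
    intro i hi
    rcases eq_or_ne i a with rfl | hne
    · simp only [dite_true]
      refine ⟨fun p hp => ?_, fun k => ?_⟩
      · have hh : MvPolynomial.aeval (fun k => (1 : S) ⊗ₜ[A]
            (Ideal.Quotient.mk i.2.1 (MvPolynomial.X k))) =
            (Algebra.TensorProduct.includeRight : _ →ₐ[A] S ⊗[A] i.alg).comp
              (Ideal.Quotient.mkₐ A i.2.1) := MvPolynomial.algHom_ext fun k => by simp
        rw [hh, AlgHom.comp_apply, Ideal.Quotient.mkₐ_eq_mk, Ideal.Quotient.eq_zero_iff_mem.2 hp,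
          map_zero]
      · rw [Algebra.TensorProduct.lift_tmul, map_one, one_mul]
        show Ideal.Quotient.mk _ (pairRename i (MvPolynomial.X k)) = _
        rw [pairRename, MvPolynomial.rename_X]
    · simp only [hne, dite_false]
      obtain ⟨h1, h2⟩ := hy i ((Finset.mem_insert.1 hi).resolve_left hne)
      refine ⟨fun p hp => ?_, fun k => by
        rw [Algebra.TensorProduct.lift_tmul, map_one, mul_one, h2]⟩
      have hh : MvPolynomial.aeval (fun k => y ⟨i, k⟩ ⊗ₜ[A] (1 : a.alg)) =
          (Algebra.TensorProduct.includeLeft : S →ₐ[A] S ⊗[A] a.alg).comp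
            (MvPolynomial.aeval fun k => y ⟨i, k⟩) := MvPolynomial.algHom_ext fun k => by simp
      rw [hh, AlgHom.comp_apply, h1 p hp, map_zero]

instance flat_pairPre : Module.Flat A (PairPre A I) := by
  classical
  refine Module.Flat.of_forall_isTrivialRelation fun {l f x} hfx => ?_
  choose p hp using fun j => Ideal.Quotient.mk_surjective (x j)
  have hmem : ∑ j, f j • p j ∈ pairRelIdeal A I := by
    rw [← Ideal.Quotient.eq_zero_iff_mem, ← Ideal.Quotient.mkₐ_eq_mk A, map_sum]
    rw [← hfx]
    exact Finset.sum_congr rfl fun j _ => by rw [map_smul]; simp [hp]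
  obtain ⟨F, hF⟩ := Submodule.exists_finset_of_mem_iSup _ hmem
  obtain ⟨S, _, _, hS, θ, y, hy⟩ := exists_flat_pairTensor F
  let C := S ⊗[A] MvPolynomial (PairVar A I) A
  let φ : MvPolynomial (PairVar A I) A →ₐ[A] C :=
    MvPolynomial.aeval fun v => if v.1 ∈ F then y v ⊗ₜ 1 else 1 ⊗ₜ MvPolynomial.X v
  let θ' : C →ₐ[A] PairPre A I :=
    Algebra.TensorProduct.lift θ (Ideal.Quotient.mkₐ A _) (fun _ _ => Commute.all _ _)
  have hθφ : θ'.comp φ = Ideal.Quotient.mkₐ A _ := by
    refine MvPolynomial.algHom_ext fun v => ?_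
    simp only [AlgHom.comp_apply, φ, MvPolynomial.aeval_X, Ideal.Quotient.mkₐ_eq_mk]
    split_ifs with hi
    · show Algebra.TensorProduct.lift θ _ _ _ = _
      rw [Algebra.TensorProduct.lift_tmul, map_one, mul_one]
      exact (hy v.1 hi).2 v.2
    · show Algebra.TensorProduct.lift θ _ _ _ = _
      rw [Algebra.TensorProduct.lift_tmul, map_one, one_mul]
      rfl
  have hker : φ (∑ j, f j • p j) = 0 := by
    refine (iSup₂_le fun i hi => ?_ :
      (⨆ i ∈ F, i.2.1.map (pairRename i).toRingHom) ≤ RingHom.ker φ) hF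
    rw [Ideal.map_le_iff_le_comap]
    intro q hq
    show φ (pairRename i q) = 0
    rw [pairRename]
    simp only [φ, MvPolynomial.aeval_rename, Function.comp_def, hi, if_true]
    have hh : MvPolynomial.aeval
        (fun k => y ⟨i, k⟩ ⊗ₜ[A] (1 : MvPolynomial (PairVar A I) A)) =
        (Algebra.TensorProduct.includeLeft : S →ₐ[A] C).comp
          (MvPolynomial.aeval fun k => y ⟨i, k⟩) := MvPolynomial.algHom_ext fun k => by simp
    rw [hh, AlgHom.comp_apply, (hy i hi).1 q hq, map_zero]
  obtain ⟨k, a, z, hz, ha⟩ := Module.Flat.isTrivialRelation_of_sum_smul_eq_zero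
    (M := C) (f := f) (x := fun j => φ (p j)) (by simpa using hker)
  refine ⟨k, a, fun m => θ' (z m), fun j => ?_, ha⟩
  calc x j = θ' (φ (p j)) := by rw [← AlgHom.comp_apply, hθφ]; exact (hp j).symm
    _ = _ := by
      rw [show φ (p j) = _ from hz j, map_sum]
      exact Finset.sum_congr rfl fun m _ => map_smul θ' _ _

instance flat_pairHenselization : Module.Flat A (PairHenselization A I) :=
  haveI : Module.Flat (PairPre A I) (PairHenselization A I) :=
    IsLocalization.flat _ (pairSubmonoid A I)
  Module.Flat.trans A (PairPre A I) _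

/-- An element of a stage vanishing in the henselization is killed by a unit at the point. -/
theorem exists_mul_eq_zero_of_pair {S : Type u} [CommRing S] [Algebra A S] [Algebra.Etale A S]
    (θ : S →ₐ[A] PairHenselization A I) {s : S} (hs : θ s = 0) :
    ∃ t : S, IsUnit (pairPoint A I (θ t)) ∧ t * s = 0 := by
  letI := θ.toRingHom.toAlgebra
  haveI : IsScalarTower A S (PairHenselization A I) := .of_algebraMap_eq' θ.comp_algebraMap.symm
  haveI : Module.Flat S (PairHenselization A I) :=
    Algebra.FormallyUnramified.flat_of_restrictScalars A S (PairHenselization A I)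
  let M : Submonoid S := (IsUnit.submonoid (A ⧸ I)).comap ((pairPoint A I).comp θ)
  have hu : ∀ y : M, IsUnit (algebraMap S (PairHenselization A I) y) := fun y =>
    isUnit_of_isUnit_pairPoint A I y.2
  letI : Algebra (Localization M) (PairHenselization A I) :=
    (IsLocalization.lift (S := Localization M) hu).toAlgebra
  haveI : IsScalarTower S (Localization M) (PairHenselization A I) :=
    .of_algebraMap_eq fun x => (IsLocalization.lift_eq hu x).symm
  haveI : Module.Flat (Localization M) (PairHenselization A I) :=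
    (Module.flat_iff_of_isLocalization (Localization M) M _).2 inferInstance
  haveI : Module.FaithfullyFlat (Localization M) (PairHenselization A I) := by
    refine ⟨fun m hm htop => ?_⟩
    rw [Ideal.smul_top_eq_map] at htop
    have htop' : m.map (algebraMap (Localization M) (PairHenselization A I)) = ⊤ :=
      Submodule.restrictScalars_eq_top_iff _ _ _ |>.1 htop
    have h1 := congrArg (Ideal.map (pairPoint A I).toRingHom) htop'
    rw [Ideal.map_map, Ideal.map_top] at h1
    let ψ := (pairPoint A I).toRingHom.comp (algebraMap (Localization M) (PairHenselization A I))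
    change m.map ψ = ⊤ at h1
    have hψu : ∀ y, IsUnit (ψ y) → IsUnit y := by
      intro y hy
      obtain ⟨x, d, rfl⟩ := IsLocalization.exists_mk'_eq M y
      have hx : x ∈ M := by
        show IsUnit (pairPoint A I (θ x))
        have := hy.mul ((hu d).map (pairPoint A I))
        rw [show ψ (IsLocalization.mk' _ x d) = pairPoint A I
          (algebraMap (Localization M) (PairHenselization A I) (IsLocalization.mk' _ x d)) from rfl,
          ← map_mul, IsScalarTower.algebraMap_apply S (Localization M) (PairHenselization A I),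
          ← map_mul, IsLocalization.mk'_spec, ← IsScalarTower.algebraMap_apply] at this
        exact this
      have := IsLocalization.map_units (Localization M) (⟨x, hx⟩ : M)
      rw [← IsLocalization.mk'_spec (M := M) (Localization M) x d] at this
      exact (IsUnit.mul_iff.1 this).1
    have hsurj : Function.Surjective ψ := by
      intro w
      obtain ⟨a, rfl⟩ := Ideal.Quotient.mk_surjective w
      refine ⟨algebraMap S _ (algebraMap A S a), ?_⟩
      show pairPoint A I (algebraMap (Localization M) _ (algebraMap S _ _)) = _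
      rw [← IsScalarTower.algebraMap_apply]
      exact ((pairPoint A I).comp θ).commutes a
    rw [Ideal.eq_top_iff_one, Ideal.mem_map_iff_of_surjective ψ hsurj] at h1
    obtain ⟨x, hx, hx1⟩ := h1
    exact hm.isPrime.ne_top (Ideal.eq_top_of_isUnit_mem _ hx (hψu x (hx1 ▸ isUnit_one)))
  have h0 : algebraMap S (Localization M) s = 0 := by
    apply FaithfulSMul.algebraMap_injective (Localization M) (PairHenselization A I)
    rw [← IsScalarTower.algebraMap_apply, map_zero]
    exact hs
  obtain ⟨⟨t, ht⟩, h⟩ := (IsLocalization.map_eq_zero_iff M _ s).1 h0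
  exact ⟨t, ht, h⟩

/-! ### Uniqueness -/

/-- Any henselization of the pair is isomorphic to the constructed one. -/
theorem nonempty_pairHenselization_algEquiv {B : Type u} [CommRing B] [Algebra A B]
    (hB : Hens2.IsPairHenselization A I B) :
    Nonempty (PairHenselization A I ≃ₐ[A] B) := by
  obtain ⟨h, hh, -⟩ := hB.2 (PairHenselization A I) _ (algebraMap A _)
    henselianRing_pairHenselization le_rfl
  obtain ⟨g, hg, -⟩ := isPairHenselization_pairHenselization.2 B _ (algebraMap A B) hB.1 le_rfl
  let h' : B →ₐ[A] PairHenselization A I := ⟨h, RingHom.congr_fun hh⟩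
  let g' : PairHenselization A I →ₐ[A] B := ⟨g, RingHom.congr_fun hg⟩
  have h₁ : h'.comp g' = AlgHom.id A _ := by
    obtain ⟨w, -, hw⟩ := (isPairHenselization_pairHenselization (A := A) (I := I)).2
      (PairHenselization A I) _ (algebraMap A _) henselianRing_pairHenselization le_rfl
    ext z
    exact RingHom.congr_fun ((hw _ (h'.comp g').comp_algebraMap).trans
      (hw (AlgHom.id A _).toRingHom (AlgHom.id A _).comp_algebraMap).symm) z
  have h₂ : g'.comp h' = AlgHom.id A _ := by
    obtain ⟨w, -, hw⟩ := hB.2 B _ (algebraMap A B) hB.1 le_rfl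
    ext z
    exact RingHom.congr_fun ((hw _ (g'.comp h').comp_algebraMap).trans
      (hw (AlgHom.id A B).toRingHom (AlgHom.id A _).comp_algebraMap).symm) z
  exact ⟨AlgEquiv.ofAlgHom g' h' h₂ h₁⟩

theorem flat_of_isPairHenselization {B : Type u} [CommRing B] [Algebra A B]
    (hB : Hens2.IsPairHenselization A I B) : Module.Flat A B :=
  have := (nonempty_pairHenselization_algEquiv hB).some.symm.toLinearEquiv
  Module.Flat.of_linearEquiv this

end Groth.Agent.Hens
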