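import Groth.Agent.SmoothingLib.Popescu
import Groth.Agent.S0536
import Groth.Agent.Hensel.Pair
import Groth.Agent.RegLoc.AdicNoeth
import Mathlib.RingTheory.AdicCompletion.Algebra

/-!
# Approximation for henselian pairs with regular completion map
-/

set_option autoImplicit false
set_option linter.style.haveILetI false
set_option backward.isDefEq.respectTransparency.types false

universe u

namespace Groth.Agent.Hens.PairApprox

/-- A point in the completion is congruent modulo `I ^ c` to a point in `A`. -/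
theorem exists_algHom {A : Type u} [CommRing A] [IsNoetherianRing A] (I : Ideal A) [HenselianRing A I]
    (hreg : CAlg.IsRegularHom A (AdicCompletion I A)) (E : Type u) [CommRing E] [Algebra A E]
    [Algebra.FinitePresentation A E] (f : E →ₐ[A] AdicCompletion I A) (c : ℕ) :
    ∃ g : E →ₐ[A] A, (Ideal.Quotient.mkₐ A (I ^ c)).comp g = (AdicCompletion.evalₐ I c).comp f := by
  haveI : IsNoetherianRing (AdicCompletion I A) :=
    RegLoc.AdicNoeth.isNoetherianRing_adicCompletion I (IsNoetherian.noetherian I)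
  obtain ⟨S, _, _, hS, g, h, hgh⟩ := SmoothingLib.Popescu.indSmooth hreg E inferInstance f
  haveI := hS
  rcases Nat.eq_zero_or_pos c with rfl | hc
  · obtain ⟨τ, -⟩ := S0536.result A S A I
      ((Ideal.Quotient.factorₐ A (le_of_eq (pow_one I))).comp ((AdicCompletion.evalₐ I 1).comp h))
    refine ⟨τ.comp g, AlgHom.ext fun x => ?_⟩
    haveI : Subsingleton (A ⧸ I ^ 0) := Ideal.Quotient.subsingleton_iff.2 (by rw [pow_zero, Ideal.one_eq_top])
    exact Subsingleton.elim _ _
  haveI : HenselianRing A (I ^ c) := Hensel.henselianRing_of_le (J := I) (Ideal.pow_le_self hc.ne')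
  obtain ⟨τ, hτ⟩ := S0536.result A S A (I ^ c) ((AdicCompletion.evalₐ I c).comp h)
  exact ⟨τ.comp g, by rw [← AlgHom.comp_assoc, hτ, AlgHom.comp_assoc, hgh]⟩

/-- The same for polynomial systems. -/
theorem exists_zero {A : Type u} [CommRing A] [IsNoetherianRing A] (I : Ideal A) [HenselianRing A I]
    (hreg : CAlg.IsRegularHom A (AdicCompletion I A)) (k l c : ℕ) (f : Fin l → MvPolynomial (Fin k) A)
    (a : Fin k → AdicCompletion I A) (ha : ∀ i, MvPolynomial.aeval a (f i) = 0) :
    ∃ b : Fin k → A, (∀ i, MvPolynomial.eval b (f i) = 0) ∧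
      ∀ j, Ideal.Quotient.mk (I ^ c) (b j) = AdicCompletion.evalₐ I c (a j) := by
  let J : Ideal (MvPolynomial (Fin k) A) := Ideal.span (Set.range f)
  haveI : Algebra.FinitePresentation A (MvPolynomial (Fin k) A ⧸ J) :=
    Algebra.FinitePresentation.quotient ⟨(Set.finite_range f).toFinset, by rw [Set.Finite.coe_toFinset]⟩
  obtain ⟨g, hg⟩ := exists_algHom I hreg _ (Ideal.Quotient.liftₐ J (MvPolynomial.aeval a) (fun x hx => by
    have hle : J ≤ RingHom.ker (MvPolynomial.aeval (R := A) a) := Ideal.span_le.2 fun y hy => by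
      obtain ⟨i, rfl⟩ := hy
      exact ha i
    exact hle hx)) c
  refine ⟨fun j => g (Ideal.Quotient.mk J (MvPolynomial.X j)), fun i => ?_, fun j => ?_⟩
  · have hX : (g.comp (Ideal.Quotient.mkₐ A J)) = MvPolynomial.aeval fun j => g (Ideal.Quotient.mk J (MvPolynomial.X j)) :=
      MvPolynomial.algHom_ext fun j => by simp
    have h0 : g (Ideal.Quotient.mk J (f i)) = 0 := by
      rw [Ideal.Quotient.eq_zero_iff_mem.2 (Ideal.subset_span (Set.mem_range_self i) : f i ∈ J), map_zero]
    have h1 := AlgHom.congr_fun hX (f i)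
    rw [AlgHom.comp_apply, Ideal.Quotient.mkₐ_eq_mk, h0, MvPolynomial.aeval_eq_eval₂Hom] at h1
    exact h1.symm
  · have h1 := AlgHom.congr_fun hg (Ideal.Quotient.mk J (MvPolynomial.X j))
    rw [AlgHom.comp_apply, AlgHom.comp_apply] at h1
    refine h1.trans (congrArg _ ?_)
    exact MvPolynomial.aeval_X a j

end Groth.Agent.Hens.PairApprox
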