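import Groth.Agent.Hens.Pair
import Mathlib.RingTheory.Localization.BaseChange
import Mathlib.RingTheory.Flat.FaithfullyFlat.Algebra
import Mathlib.LinearAlgebra.TensorProduct.RightExactness

/-!
# Étale neighbourhood stages of the henselization of a pair

Finitely many identities holding in `PairHenselization A I` hold in an étale `A`-algebra `A'` with
`A/I = A'/IA'`.
-/

set_option linter.style.haveILetI false

universe u

open TensorProduct

namespace Groth.Agent.Hens.PairEtNhd

variable {A : Type u} [CommRing A] {I : Ideal A}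

/-- An element cutting out the point of an étale algebra over `A/I`. -/
theorem exists_pointElem {S : Type u} [CommRing S] [Algebra A S] [Algebra.Etale A S]
    (σ : S →ₐ[A] A ⧸ I) :
    ∃ e : S, σ e = 1 ∧ ∀ s, σ s = 0 → s * e ∈ I.map (algebraMap A S) := by
  let σ' : (A ⧸ I) ⊗[A] S →ₐ[A ⧸ I] A ⧸ I :=
    Algebra.TensorProduct.lift (Algebra.ofId (A ⧸ I) (A ⧸ I)) σ (fun _ _ => Commute.all _ _)
  obtain ⟨e, -, he1, he⟩ := Groth.Agent.Hensel.exists_isIdempotentElem_section σ'
  obtain ⟨e', rfl⟩ : ∃ e' : S, (1 : A ⧸ I) ⊗ₜ[A] e' = e :=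
    Algebra.TensorProduct.includeRight_surjective _ Ideal.Quotient.mk_surjective e
  refine ⟨e', by simpa [σ'] using he1, fun s hσs => ?_⟩
  have h0 : (1 : A ⧸ I) ⊗ₜ[A] (s * e') = 0 := by
    rw [← mul_one (1 : A ⧸ I), ← Algebra.TensorProduct.tmul_mul_tmul, he]
    simp [σ', hσs]
  have h1 := (TensorProduct.quotTensorEquivQuotSMul S I).map_eq_zero_iff.mpr h0
  rw [show (1 : A ⧸ I) = Ideal.Quotient.mk I 1 from (map_one _).symm] at h1
  rw [TensorProduct.quotTensorEquivQuotSMul_mk_tmul, one_smul, Submodule.Quotient.mk_eq_zero,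
    Ideal.smul_top_eq_map] at h1
  exact h1

/-- Surjective point with kernel `I A'` means `A/I = A'/IA'`. -/
theorem bijective_of_point {S : Type u} [CommRing S] [Algebra A S] (π : S →ₐ[A] A ⧸ I)
    (hπ : ∀ s, π s = 0 → s ∈ I.map (algebraMap A S)) :
    Function.Bijective (algebraMap (A ⧸ I) (S ⧸ I.map (algebraMap A S))) := by
  have hle : I.map (algebraMap A S) ≤ RingHom.ker π.toRingHom :=
    Ideal.map_le_iff_le_comap.mpr fun a ha => by
      show π (algebraMap A S a) = 0
      rw [AlgHom.commutes]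
      exact Ideal.Quotient.eq_zero_iff_mem.mpr ha
  refine ⟨(injective_iff_map_eq_zero _).mpr fun x hx => ?_, fun y => ?_⟩
  · obtain ⟨a, rfl⟩ := Ideal.Quotient.mk_surjective x
    have h : algebraMap A S a ∈ I.map (algebraMap A S) := Ideal.Quotient.eq_zero_iff_mem.mp hx
    have h1 : π (algebraMap A S a) = 0 := hle h
    rwa [AlgHom.commutes] at h1
  · obtain ⟨s, rfl⟩ := Ideal.Quotient.mk_surjective y
    obtain ⟨a, ha⟩ := Ideal.Quotient.mk_surjective (π s)
    refine ⟨Ideal.Quotient.mk I a, Ideal.Quotient.eq.mpr (hπ _ ?_)⟩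
    rw [map_sub, AlgHom.commutes, ← ha]
    exact sub_self _

/-- An étale algebra with a point shrinks to an étale neighbourhood of `V(I)`. -/
theorem exists_etaleNhd {S : Type u} [CommRing S] [Algebra A S] [Algebra.Etale A S]
    (σ : S →ₐ[A] A ⧸ I) (t : S) (ht : IsUnit (σ t)) :
    ∃ (S' : Type u) (_ : CommRing S') (_ : Algebra A S'), Algebra.Etale A S' ∧
      ∃ (φ : S →ₐ[A] S') (π : S' →ₐ[A] A ⧸ I), π.comp φ = σ ∧ IsUnit (φ t) ∧
        ∀ s, π s = 0 → s ∈ I.map (algebraMap A S') := by
  obtain ⟨e, he1, he⟩ := exists_pointElem σ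
  let u := t * e
  let S' := Localization.Away u
  have hu : ∀ y : Submonoid.powers u, IsUnit (σ y) := by
    rintro ⟨_, n, rfl⟩
    rw [map_pow, map_mul, he1, mul_one]
    exact ht.pow n
  let π : S' →ₐ[A] A ⧸ I := IsLocalization.liftAlgHom (M := Submonoid.powers u) (f := σ) hu
  let φ : S →ₐ[A] S' := IsScalarTower.toAlgHom A S S'
  have hπ : ∀ s, π (algebraMap S S' s) = σ s := fun s => IsLocalization.lift_eq _ s
  have hunit : IsUnit (algebraMap S S' u) := IsLocalization.Away.algebraMap_isUnit u
  refine ⟨S', inferInstance, inferInstance, Algebra.Etale.comp A S S', φ, π, AlgHom.ext hπ,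
    isUnit_of_dvd_unit (map_dvd (algebraMap S S') (dvd_mul_right t e)) hunit, fun z hz => ?_⟩
  obtain ⟨s, d, rfl⟩ := IsLocalization.exists_mk'_eq (Submonoid.powers u) z
  have hs : σ s = 0 := by
    rw [← hπ, ← IsLocalization.mk'_spec S' s d, map_mul, hz, zero_mul]
  have h1 : algebraMap S S' (s * e) ∈ I.map (algebraMap A S') := by
    rw [IsScalarTower.algebraMap_eq A S S', ← Ideal.map_map]
    exact Ideal.mem_map_of_mem _ (he s hs)
  have he' : IsUnit (algebraMap S S' e) :=
    isUnit_of_dvd_unit (map_dvd (algebraMap S S') (dvd_mul_left e t)) hunit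
  rw [map_mul, Ideal.mul_unit_mem_iff_mem _ he'] at h1
  rw [← IsLocalization.mk'_spec S' s d,
    Ideal.mul_unit_mem_iff_mem _ (IsLocalization.map_units S' d)] at h1
  exact h1

/-- Elements of a module over a stage dying in the henselization are killed by a unit at the point. -/
theorem exists_smul_eq_zero_of_pair {S : Type u} [CommRing S] [Algebra A S] [Algebra.Etale A S]
    [Algebra S (PairHenselization A I)] [IsScalarTower A S (PairHenselization A I)]
    {N : Type u} [AddCommGroup N] [Module S N] {x : N}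
    (hx : (1 : PairHenselization A I) ⊗ₜ[S] x = 0) :
    ∃ t : S, IsUnit (pairPoint A I (algebraMap S (PairHenselization A I) t)) ∧ t • x = 0 := by
  haveI : Module.Flat S (PairHenselization A I) :=
    Algebra.FormallyUnramified.flat_of_restrictScalars A S (PairHenselization A I)
  let σ : S →ₐ[A] A ⧸ I := (pairPoint A I).comp (IsScalarTower.toAlgHom A S _)
  let M : Submonoid S := (IsUnit.submonoid (A ⧸ I)).comap σ
  have hu : ∀ y : M, IsUnit (algebraMap S (PairHenselization A I) y) := fun y =>
    isUnit_of_isUnit_pairPoint A I y.2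
  let L := Localization M
  letI : Algebra L (PairHenselization A I) := (IsLocalization.lift (S := L) hu).toAlgebra
  haveI : IsScalarTower S L (PairHenselization A I) :=
    .of_algebraMap_eq fun x => (IsLocalization.lift_eq hu x).symm
  haveI : Module.Flat L (PairHenselization A I) :=
    (Module.flat_iff_of_isLocalization L M _).2 inferInstance
  haveI : Module.FaithfullyFlat L (PairHenselization A I) := by
    refine ⟨fun m hm htop => ?_⟩
    rw [Ideal.smul_top_eq_map] at htop
    have htop' : m.map (algebraMap L (PairHenselization A I)) = ⊤ :=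
      Submodule.restrictScalars_eq_top_iff _ _ _ |>.1 htop
    have h1 := congrArg (Ideal.map (pairPoint A I).toRingHom) htop'
    rw [Ideal.map_map, Ideal.map_top] at h1
    let ψ := (pairPoint A I).toRingHom.comp (algebraMap L (PairHenselization A I))
    change m.map ψ = ⊤ at h1
    have hψ : ∀ s, ψ (algebraMap S L s) = σ s := fun s => by
      show pairPoint A I (algebraMap L _ (algebraMap S L s)) = _
      rw [← IsScalarTower.algebraMap_apply]
      rfl
    have hψu : ∀ y, IsUnit (ψ y) → IsUnit y := by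
      intro y hy
      obtain ⟨a, d, rfl⟩ := IsLocalization.exists_mk'_eq M y
      have ha : a ∈ M := by
        show IsUnit (σ a)
        rw [← hψ, ← IsLocalization.mk'_spec L a d, map_mul, hψ]
        exact hy.mul d.2
      have := IsLocalization.map_units L (⟨a, ha⟩ : M)
      rw [← IsLocalization.mk'_spec (M := M) L a d] at this
      exact (IsUnit.mul_iff.1 this).1
    have hsurj : Function.Surjective ψ := by
      intro w
      obtain ⟨a, rfl⟩ := Ideal.Quotient.mk_surjective w
      exact ⟨algebraMap S L (algebraMap A S a), (hψ _).trans (σ.commutes a)⟩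
    rw [Ideal.eq_top_iff_one, Ideal.mem_map_iff_of_surjective ψ hsurj] at h1
    obtain ⟨z, hz, hz1⟩ := h1
    exact hm.isPrime.ne_top (Ideal.eq_top_of_isUnit_mem _ hz (hψu z (hz1 ▸ isUnit_one)))
  have h0 : (1 : L) ⊗ₜ[S] x = 0 := by
    apply Module.FaithfullyFlat.tensorProduct_mk_injective (A := L) (B := PairHenselization A I)
      (L ⊗[S] N)
    rw [TensorProduct.mk_apply, TensorProduct.mk_apply, TensorProduct.tmul_zero]
    apply (TensorProduct.AlgebraTensorModule.cancelBaseChange S L L (PairHenselization A I) N).injective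
    rw [TensorProduct.AlgebraTensorModule.cancelBaseChange_tmul, one_smul, map_zero]
    exact hx
  obtain ⟨⟨t, ht⟩, h⟩ := (IsLocalizedModule.eq_zero_iff M (TensorProduct.mk S L N 1)).1 h0
  exact ⟨t, ht, h⟩

/-- Finitely many identities in a henselization hold in an étale neighbourhood. -/
theorem exists_etaleNhd_of_eq_zero {S : Type u} [CommRing S] [Algebra A S] [Algebra.Etale A S]
    (θ : S →ₐ[A] PairHenselization A I) (Z : Set S) (hZ : Z.Finite) (hZ0 : ∀ z ∈ Z, θ z = 0) :
    ∃ (S' : Type u) (_ : CommRing S') (_ : Algebra A S'), Algebra.Etale A S' ∧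
      ∃ (φ : S →ₐ[A] S') (π : S' →ₐ[A] A ⧸ I),
        (∀ s, π (φ s) = pairPoint A I (θ s)) ∧ (∀ z ∈ Z, φ z = 0) ∧
        (∀ s, π s = 0 → s ∈ I.map (algebraMap A S')) ∧
        Function.Bijective (algebraMap (A ⧸ I) (S' ⧸ I.map (algebraMap A S'))) := by
  classical
  have : ∀ z ∈ Z, ∃ t : S, IsUnit (pairPoint A I (θ t)) ∧ t * z = 0 := fun z hz =>
    exists_mul_eq_zero_of_pair θ (hZ0 z hz)
  choose! t ht htz using this
  obtain ⟨S', _, _, hS', φ, π, hπ, hu, hker⟩ := exists_etaleNhd ((pairPoint A I).comp θ)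
    (∏ z ∈ hZ.toFinset, t z) (by
      rw [map_prod]
      exact IsUnit.prod_iff.mpr fun z hz => ht z (hZ.mem_toFinset.mp hz))
  refine ⟨S', _, _, hS', φ, π, AlgHom.congr_fun hπ, fun z hz => ?_, hker,
    bijective_of_point π hker⟩
  rw [← Finset.mul_prod_erase _ _ (hZ.mem_toFinset.mpr hz), map_mul, IsUnit.mul_iff] at hu
  exact (hu.1.mul_right_eq_zero).1 (by rw [← map_mul, htz z hz, map_zero])

/-- Finitely many elements of a henselization come from one stage. -/
theorem exists_stage_fun {ι : Type*} [Finite ι] (z : ι → PairHenselization A I) :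
    ∃ (S : Type u) (_ : CommRing S) (_ : Algebra A S), Algebra.Etale A S ∧
      ∃ (θ : S →ₐ[A] PairHenselization A I) (s : ι → S), ∀ i, θ (s i) = z i := by
  classical
  cases nonempty_fintype ι
  obtain ⟨S, _, _, hS, θ, hθ⟩ := exists_pairStage_finset (Finset.univ.image z)
  choose s hs using fun i => hθ (z i) (Finset.mem_image_of_mem z (Finset.mem_univ i))
  exact ⟨S, _, _, hS, θ, s, hs⟩

end Groth.Agent.Hens.PairEtNhd
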