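import Groth.Agent.Hens.PairStage
import Mathlib.RingTheory.ZariskisMainTheorem
import Mathlib.RingTheory.Spectrum.Prime.Topology

/-!
# Affine neighbourhoods of the zero locus of an ideal
-/

set_option linter.style.haveILetI false

universe u

namespace Groth.Agent.Hens

/-- An open containing `V(J)` contains an affine neighbourhood `D(u)` with `u ≡ 1` modulo `J`. -/
theorem exists_away_of_zeroLocus_subset {R : Type u} [CommRing R] {J : Ideal R}
    {U : Set (PrimeSpectrum R)} (hU : IsOpen U) (h : PrimeSpectrum.zeroLocus (J : Set R) ⊆ U) :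
    ∃ u : R, ↑(PrimeSpectrum.basicOpen u) ⊆ U ∧ Algebra.Etale R (Localization.Away u) ∧
      Function.Bijective (Ideal.quotientMap (J.map (algebraMap R (Localization.Away u)))
        (algebraMap R (Localization.Away u)) Ideal.le_comap_map) := by
  obtain ⟨K, hK⟩ := (PrimeSpectrum.isClosed_iff_zeroLocus_ideal _).1 hU.isClosed_compl
  have htop : J ⊔ K = ⊤ := by
    rw [← PrimeSpectrum.zeroLocus_empty_iff_eq_top, PrimeSpectrum.zeroLocus_sup, ← hK]
    exact Set.eq_empty_iff_forall_notMem.2 fun x hx => hx.2 (h hx.1)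
  obtain ⟨j, hj, u, hu, hju⟩ := Submodule.mem_sup.1 ((Ideal.eq_top_iff_one _).1 htop)
  have hu1 : Ideal.Quotient.mk J u = 1 := by
    rw [← map_one (Ideal.Quotient.mk J), ← hju, map_add, Ideal.Quotient.eq_zero_iff_mem.2 hj,
      zero_add]
  refine ⟨u, fun x hx => ?_, inferInstance, ?_⟩
  · by_contra hxU
    exact hx ((Set.ext_iff.1 hK x).1 hxU hu)
  let ρ : Localization.Away u →+* R ⧸ J :=
    IsLocalization.Away.lift u (g := Ideal.Quotient.mk J) (hu1 ▸ isUnit_one)
  have hρ : ∀ x, ρ (algebraMap R _ x) = Ideal.Quotient.mk J x := fun x =>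
    IsLocalization.Away.lift_eq u _ x
  refine ⟨(injective_iff_map_eq_zero _).2 fun x hx => ?_, fun y => ?_⟩
  · obtain ⟨a, rfl⟩ := Ideal.Quotient.mk_surjective x
    rw [Ideal.quotientMap_mk, Ideal.Quotient.eq_zero_iff_mem] at hx
    rw [← hρ]
    refine (Ideal.map_le_iff_le_comap (K := RingHom.ker ρ)).2 (fun b hb => ?_) hx
    show ρ (algebraMap R _ b) = 0
    rw [hρ]
    exact Ideal.Quotient.eq_zero_iff_mem.2 hb
  · obtain ⟨z, rfl⟩ := Ideal.Quotient.mk_surjective y
    obtain ⟨a, d, rfl⟩ := IsLocalization.exists_mk'_eq (Submonoid.powers u) z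
    refine ⟨Ideal.Quotient.mk J a, ?_⟩
    rw [Ideal.quotientMap_mk]
    rw [← IsLocalization.mk'_spec (M := Submonoid.powers u) (Localization.Away u) a d, map_mul]
    obtain ⟨_, k, rfl⟩ := d
    have h1 : Ideal.Quotient.mk (J.map (algebraMap R (Localization.Away u)))
        (algebraMap R _ (u ^ k)) = 1 := by
      rw [← Ideal.quotientMap_mk (f := algebraMap R (Localization.Away u))
        (H := Ideal.le_comap_map), map_pow, hu1, one_pow, map_one]
    rw [h1, mul_one]

/-- The quasi-finite locus is open. -/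
theorem exists_away_quasiFinite {A R : Type u} [CommRing A] [CommRing R] [Algebra A R]
    [Algebra.FiniteType A R] (p : Ideal R) [p.IsPrime] [Algebra.QuasiFiniteAt A p] :
    ∃ r ∉ p, Algebra.QuasiFinite A (Localization.Away r) := by
  obtain ⟨S', hS', r, hrp, H⟩ :=
    Algebra.QuasiFiniteAt.exists_fg_and_exists_notMem_and_awayMap_bijective (R := A) p
  haveI : Module.Finite A S' := ⟨(Submodule.fg_top _).mpr hS'⟩
  haveI : Algebra.QuasiFinite A (Localization.Away r) := .trans _ S' _
  exact ⟨r.1, hrp, .of_surjective_algHom (Localization.awayMapₐ S'.val r) H.2⟩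

/-- An algebra of finite type quasi-finite at all primes of `D(u)` is quasi-finite on `D(u)`. -/
theorem quasiFinite_away {A R : Type u} [CommRing A] [CommRing R] [Algebra A R]
    [Algebra.FiniteType A R] (u : R)
    (h : ∀ q : PrimeSpectrum R, q ∈ PrimeSpectrum.basicOpen u →
      Algebra.QuasiFiniteAt A q.asIdeal) :
    Algebra.QuasiFinite A (Localization.Away u) := by
  haveI : Algebra.FiniteType A (Localization.Away u) :=
    .trans (inferInstance : Algebra.FiniteType A R) inferInstance
  choose r hr hqf using fun q : {q : PrimeSpectrum R // q ∈ PrimeSpectrum.basicOpen u} =>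
    letI := h q.1 q.2
    exists_away_quasiFinite (A := A) q.1.asIdeal
  obtain ⟨t, ht⟩ := (PrimeSpectrum.isCompact_basicOpen u).elim_finite_subcover
    (fun q => (PrimeSpectrum.basicOpen (r q) : Set (PrimeSpectrum R)))
    (fun q => (PrimeSpectrum.basicOpen (r q)).isOpen)
    (fun q hq => Set.mem_iUnion.2 ⟨⟨q, hq⟩, hr ⟨q, hq⟩⟩)
  rw [Algebra.QuasiFinite.iff_finite_comap_preimage_singleton]
  intro x
  have key : ∀ q, (PrimeSpectrum.comap (algebraMap R (Localization.Away (r q))) ''
      (PrimeSpectrum.comap (algebraMap A (Localization.Away (r q))) ⁻¹' {x})).Finite := fun q =>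
    haveI := hqf q
    (Algebra.QuasiFinite.finite_comap_preimage_singleton x).image _
  refine Set.Finite.of_finite_image (f := PrimeSpectrum.comap (algebraMap R (Localization.Away u)))
    ((t.finite_toSet.biUnion fun q _ => key q).subset ?_)
    (PrimeSpectrum.localization_comap_injective _ (Submonoid.powers u)).injOn
  rintro _ ⟨Q, hQ, rfl⟩
  have hQu : PrimeSpectrum.comap (algebraMap R (Localization.Away u)) Q ∈
      PrimeSpectrum.basicOpen u := by
    have := PrimeSpectrum.localization_away_comap_range (Localization.Away u) u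
    exact this.le ⟨Q, rfl⟩
  obtain ⟨q, hq, hmem⟩ := Set.mem_iUnion₂.1 (ht hQu)
  obtain ⟨Q', hQ'⟩ :=
    (PrimeSpectrum.localization_away_comap_range (Localization.Away (r q)) (r q)).ge hmem
  refine Set.mem_biUnion hq ⟨Q', ?_, hQ'⟩
  rw [Set.mem_preimage, Set.mem_singleton_iff] at hQ ⊢
  rw [IsScalarTower.algebraMap_eq A R (Localization.Away u), PrimeSpectrum.comap_comp,
    Function.comp_apply] at hQ
  rw [IsScalarTower.algebraMap_eq A R (Localization.Away (r q)), PrimeSpectrum.comap_comp,
    Function.comp_apply, hQ', hQ]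

end Groth.Agent.Hens
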