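import Groth.Agent.Hens.Hfp
import Groth.Agent.Hens.PairHfp
import Groth.Agent.Hens.PairLocus

/-!
# Shrinking the finite type model of a henselian finitely presented algebra
-/

set_option autoImplicit false
set_option linter.style.haveILetI false
set_option backward.isDefEq.respectTransparency.types false

universe u

namespace Groth.Agent.Hens.PairModel

variable {A R₀ B : Type u} [CommRing A] {I : Ideal A} [CommRing R₀] [Algebra A R₀] [CommRing B]
  [Algebra R₀ B] [Algebra A B] [IsScalarTower A R₀ B]

/-- A henselization of a pair is also that of the pair on a basic open containing the zero locus. -/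
theorem exists_isPairHenselization_away
    (hB : Hens2.IsPairHenselization R₀ (I.map (algebraMap A R₀)) B) (u : R₀)
    (hub : Function.Bijective (Ideal.quotientMap ((I.map (algebraMap A R₀)).map (algebraMap R₀ (Localization.Away u)))
      (algebraMap R₀ (Localization.Away u)) Ideal.le_comap_map)) :
    ∃ (_ : Algebra (Localization.Away u) B) (_ : IsScalarTower A (Localization.Away u) B),
      Hens2.IsPairHenselization (Localization.Away u) (I.map (algebraMap A (Localization.Away u))) B := by
  let K := I.map (algebraMap A R₀)
  let S := Localization.Away u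
  haveI : HenselianRing B (K.map (algebraMap R₀ B)) := hB.1
  have hKu : IsUnit (Ideal.Quotient.mk K u) := by
    obtain ⟨w, hw⟩ := hub.2 (Ideal.Quotient.mk _ (IsLocalization.Away.invSelf u))
    refine IsUnit.of_mul_eq_one w (hub.1 ?_)
    rw [map_mul, hw, Ideal.quotientMap_mk, ← map_mul, IsLocalization.Away.mul_invSelf, map_one, map_one]
  have huB : IsUnit (algebraMap R₀ B u) := by
    have h1 : IsUnit (Ideal.Quotient.mk (K.map (algebraMap R₀ B)) (algebraMap R₀ B u)) :=
      hKu.map (Ideal.quotientMap (K.map (algebraMap R₀ B)) (algebraMap R₀ B) Ideal.le_comap_map)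
    haveI : IsLocalHom (Ideal.Quotient.mk (K.map (algebraMap R₀ B))) :=
      isLocalHom_of_le_jacobson_bot _ HenselianRing.jac
    exact isUnit_of_map_unit (Ideal.Quotient.mk (K.map (algebraMap R₀ B))) _ h1
  letI : Algebra S B := (IsLocalization.Away.lift u (g := algebraMap R₀ B) huB).toAlgebra
  haveI : IsScalarTower R₀ S B := .of_algebraMap_eq fun x => (IsLocalization.Away.lift_eq u huB x).symm
  haveI : IsScalarTower A S B := .of_algebraMap_eq fun a => by
    rw [IsScalarTower.algebraMap_apply A R₀ S, ← IsScalarTower.algebraMap_apply R₀ S B,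
      ← IsScalarTower.algebraMap_apply A R₀ B]
  refine ⟨inferInstance, inferInstance, ?_⟩
  refine isPairHenselization_of_algHom (A := A) (I := I) (T := S) (C := B)
    (by simpa only [K, Ideal.map_map, ← IsScalarTower.algebraMap_eq] using hB.1) (fun D _ _ hD f => ?_)
    fun D _ _ hD g₁ g₂ h => ?_
  · obtain ⟨g, hg, -⟩ := hB.2 D _ ((f.comp (IsScalarTower.toAlgHom A R₀ S)).toRingHom) hD (by
      rw [Ideal.map_map, AlgHom.toRingHom_eq_coe, AlgHom.comp_algebraMap])
    refine ⟨⟨g, fun a => ?_⟩, fun t => ?_⟩
    · show g (algebraMap A B a) = _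
      rw [IsScalarTower.algebraMap_apply A R₀ B, ← RingHom.comp_apply, hg]
      exact (f.comp (IsScalarTower.toAlgHom A R₀ S)).commutes a
    · have : g.comp (algebraMap S B) = f.toRingHom := IsLocalization.ringHom_ext (Submonoid.powers u)
        (RingHom.ext fun x => by
          show g (algebraMap S B (algebraMap R₀ S x)) = f (algebraMap R₀ S x)
          rw [← IsScalarTower.algebraMap_apply, ← RingHom.comp_apply, hg]
          rfl)
      exact RingHom.congr_fun this t
  · obtain ⟨g, -, huniq⟩ := hB.2 D _ (g₁.toRingHom.comp (algebraMap R₀ B)) hD (by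
      rw [Ideal.map_map, RingHom.comp_assoc, ← IsScalarTower.algebraMap_eq, AlgHom.toRingHom_eq_coe, AlgHom.comp_algebraMap])
    have h2 := (huniq g₁.toRingHom rfl).trans (huniq g₂.toRingHom (RingHom.ext fun x => by
      show g₂ (algebraMap R₀ B x) = g₁ (algebraMap R₀ B x)
      rw [IsScalarTower.algebraMap_apply R₀ S B]
      exact (h _).symm)).symm
    exact AlgHom.ext fun x => RingHom.congr_fun h2 x

end Groth.Agent.Hens.PairModel
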