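import Groth.Agent.Hens.PunctFormal
import Groth.Agent.ParaFormal.Bridge
import Groth.Agent.ParaFormal.LocCohBridge

/-!
# The Čech hypotheses of the formal functions criterion from local cohomology

For a Noetherian ring `A`, elements `x i` and the open `U = ⋃ D(x i)`: if `f ^ n` kills
`H¹` and `H²` with support in `(x i)`, then `f ^ n` sends `Γ(U, O)` into the image of `A` and
kills Čech `1`-cocycles up to coboundaries.
-/

set_option autoImplicit false
set_option backward.isDefEq.respectTransparency false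
set_option backward.isDefEq.respectTransparency.types false

universe u

open CategoryTheory AlgebraicGeometry TopologicalSpace
open Groth.Agent.QCoh Groth.Agent.ParaFormal
open Groth.Agent.ParaFormal.LocCohBridge
open Groth.Agent.KoszulCech (C cdM aug H1 Caug tp)

noncomputable section

namespace Groth.Agent.Hens.PunctCech

variable {A : Type u} [CommRing A]

/-! ### Killing local cohomology in terms of localizations -/

section Loc

variable {ι : Type u}

theorem smul_loc {g : A} (a : A) (x : Loc g) : a • x = algebraMap A (Loc g) a * x := Algebra.smul_def a x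

theorem tl_zero_dvd_iff {g : A} (x : Loc g) : tl (0 : A) g ∣ x ↔ x = 0 := by
  rw [show tl (0 : A) g = 0 from map_zero _, zero_dvd_iff]

theorem exists_eq_of_caug_kill (x : ι → A) (r : A) (h : ∀ z : Caug x (Q (0 : A)), r • z = 0)
    (d : ∀ i, Loc (x i))
    (hd : ∀ i j, ρ (dvd_mul_right (x i) (x j)) (d i) = ρ (dvd_mul_left (x j) (x i)) (d j)) :
    ∃ a : A, ∀ i, algebraMap A (Loc (x i)) a = algebraMap A (Loc (x i)) r * d i := by
  have hk : Φ₀ 0 x d ∈ LinearMap.ker (cdM x (Q (0 : A)) 0) :=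
    mem_ker_of_mem_Cyc0 0 x fun i j => (tl_zero_dvd_iff _).2 (sub_eq_zero.2 (hd i j))
  let cl : LinearMap.ker (cdM x (Q (0 : A)) 0) := ⟨_, hk⟩
  obtain ⟨q, hq⟩ := (Submodule.Quotient.mk_eq_zero _).1
    ((Submodule.Quotient.mk_smul _ r cl).trans (h (Submodule.Quotient.mk cl)))
  obtain ⟨a, rfl⟩ := Submodule.mkQ_surjective _ q
  refine ⟨a, fun i => ?_⟩
  have h1 : Φ₀ 0 x (fun i => r • d i - algebraMap A (Loc (x i)) a) = 0 := by
    funext y
    rw [Φ₀_apply, map_sub, map_smul, Pi.zero_apply, sub_eq_zero]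
    have h2 : r • R 0 (dvd_tp₀ x y) (d (y 0)) =
        Groth.Agent.KoszulCech.loc (tp x y) (Q (0 : A)) ((Ideal.span {(0 : A)}).mkQ a) := (congrFun hq y).symm
    rw [h2, R, LinearMap.comp_apply, θ_algebraMap, Groth.Agent.KoszulCech.res_loc]
  have h3 := Φ₀_eq_zero 0 x h1 i
  rw [tl_zero_dvd_iff, sub_eq_zero, smul_loc] at h3
  exact h3.symm

theorem exists_eq_of_h1_kill (x : ι → A) (r : A) (h : ∀ z : H1 x (Q (0 : A)) 0, r • z = 0)
    (c : ∀ i j, Loc (x i * x j))
    (hc : ∀ i j k, ρ (dvd_mul_right (x i * x j) (x k)) (c i j) +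
        ρ (show x j * x k ∣ x i * x j * x k from ⟨x i, by ring⟩) (c j k) =
        ρ (show x i * x k ∣ x i * x j * x k from ⟨x j, by ring⟩) (c i k)) :
    ∃ w : ∀ i, Loc (x i), ∀ i j, algebraMap A (Loc (x i * x j)) r * c i j =
      ρ (dvd_mul_left (x j) (x i)) (w j) - ρ (dvd_mul_right (x i) (x j)) (w i) := by
  have hk : Φ₁ 0 x c ∈ LinearMap.ker (cdM x (Q (0 : A)) 1) :=
    mem_ker_of_mem_Cyc1 0 x fun i j k => (tl_zero_dvd_iff _).2 (sub_eq_zero.2 (hc i j k))
  let cl : LinearMap.ker (cdM x (Q (0 : A)) 1) := ⟨_, hk⟩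
  obtain ⟨e, he⟩ := (Submodule.Quotient.mk_eq_zero _).1
    ((Submodule.Quotient.mk_smul _ r cl).trans (h (Submodule.Quotient.mk cl)))
  obtain ⟨w, rfl⟩ := Φ₀_surjective 0 x e
  refine ⟨w, fun i j => ?_⟩
  have h1 : r • R 0 (dvd_tp₁ x ![i, j]) (c i j) = cdM x (Q (0 : A)) 0 (Φ₀ 0 x w) ![i, j] :=
    (congrFun he ![i, j]).symm
  rw [cdM_Φ₀, ← map_smul, ← sub_eq_zero, ← map_sub,
    R_eq_zero_iff 0 (dvd_tp₁ x ![i, j]) (dvd_of_eq (by simp [tp, Fin.prod_univ_two])), tl_zero_dvd_iff] at h1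
  simp only [Matrix.cons_val_zero, Matrix.cons_val_one, Matrix.head_cons, sub_eq_zero, smul_loc] at h1
  exact h1

variable [IsNoetherianRing A] [Fintype ι]

/-- Annihilators of local cohomology act trivially on the augmented Čech cohomology. -/
theorem cech_kill (x : ι → A) (I : Ideal A) (hI : I.radical = (Ideal.span (Set.range x)).radical) (r : A)
    (h₁ : ∀ z : _root_.LocCoh.H I 1 A, r • z = 0) (h₂ : ∀ z : _root_.LocCoh.H I 2 A, r • z = 0) :
    (∀ z : Caug x (Q (0 : A)), r • z = 0) ∧ ∀ z : H1 x (Q (0 : A)) 0, r • z = 0 := by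
  classical
  let fs := (Finset.univ.image x).toList
  have hf : ∀ a, a ∈ fs ↔ ∃ i, x i = a := fun a => by simp [fs]
  have hspan : Ideal.span {a : A | a ∈ fs} = Ideal.span (Set.range x) := by
    congr 1; ext a; exact hf a
  have hH : ∀ i : ℕ, (∀ z : _root_.LocCoh.H I i A, r • z = 0) →
      ∀ z : Groth.Agent.KoszulCech.limH fs (ModuleCat.of A (Q (0 : A))) ((i : ℤ) - fs.length), r • z = 0 := by
    intro i h z
    obtain ⟨e⟩ := nonempty_H_equiv_of_radical_eq (hI.trans (congrArg Ideal.radical hspan).symm) i (Q (0 : A))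
    obtain ⟨e'⟩ := Groth.Agent.LocCoh.nonempty_H_equiv_limH fs i (Q (0 : A))
    let e₀ : _root_.LocCoh.H I i (Q (0 : A)) ≃ₗ[A] _root_.LocCoh.H I i A :=
      ((localCohomology I i).mapIso (Submodule.quotEquivOfEqBot (Ideal.span {(0 : A)}) (by simp)).toModuleIso).toLinearEquiv
    apply ((e'.symm.trans e.symm).trans e₀).injective
    rw [map_smul, h, map_zero]
  obtain ⟨c₁⟩ := Groth.Agent.KoszulCech.nonempty_Caug_equiv x fs (Q (0 : A)) hf
  obtain ⟨c₂⟩ := Groth.Agent.KoszulCech.nonempty_H1_equiv x fs hf 0 (Q (0 : A))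
  exact ⟨fun z => c₁.injective (by rw [map_smul, map_zero]; exact hH 1 h₁ _),
    fun z => c₂.injective (by rw [map_smul, map_zero]; exact hH 2 h₂ _)⟩

end Loc

/-! ### Sections over the open -/

section Sections

variable (U : (Spec (CommRingCat.of A)).Opens)

/-- The global functions of `U` given by elements of `A`. -/
def toΓ : A →+* Γ((U : Scheme.{u}), ⊤) :=
  ((Scheme.ΓSpecIso (CommRingCat.of A)).inv ≫ U.ι.appTop).hom

/-- The trace of `D(g)` on `U`. -/
abbrev Wop (g : A) : (U : Scheme.{u}).Opens := U.ι ⁻¹ᵁ Dop g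

theorem app_algebraMap (g a : A) : (U.ι.app (Dop g)) (algebraMap A Γ(Spec (CommRingCat.of A), Dop g) a) =
    PunctFormal.fn (toΓ U) a (Wop U g) := by
  rw [algebraMap_eq]
  exact congr($(U.ι.naturality (homOfLE (le_top : Dop g ≤ ⊤)).op) ((Scheme.ΓSpecIso (CommRingCat.of A)).inv a))

/-- `A_g → Γ(W)` for `W ⊆ D(g) ∩ U`. -/
def Θ (g : A) {W : (U : Scheme.{u}).Opens} (h : W ≤ Wop U g) : Loc g →+* Γ((U : Scheme.{u}), W) :=
  ((rres h).hom.comp (U.ι.app (Dop g)).hom).comp (psi g le_rfl)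

theorem Θ_algebraMap (g : A) {W : (U : Scheme.{u}).Opens} (h : W ≤ Wop U g) (a : A) :
    Θ U g h (algebraMap A (Loc g) a) = PunctFormal.fn (toΓ U) a W := by
  change rres h (U.ι.app (Dop g) (psi g le_rfl (algebraMap A (Loc g) a))) = _
  rw [psi_algebraMap, app_algebraMap, PunctFormal.rres_fn]

theorem rres_Θ (g : A) {W W' : (U : Scheme.{u}).Opens} (h : W' ≤ W) (hW : W ≤ Wop U g) (z : Loc g) :
    rres h (Θ U g hW z) = Θ U g (h.trans hW) z :=
  rres_rres _ _ _

theorem Θ_ρ {a b : A} (hab : a ∣ b) {W : (U : Scheme.{u}).Opens} (h : W ≤ Wop U b) (h' : W ≤ Wop U a)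
    (z : Loc a) : Θ U b h (ρ hab z) = Θ U a h' z :=
  RingHom.congr_fun (IsLocalization.ringHom_ext (Submonoid.powers a)
    (show ((Θ U b h).comp (ρ hab)).comp (algebraMap A (Loc a)) = (Θ U a h').comp (algebraMap A (Loc a)) from
      RingHom.ext fun r => by simp only [RingHom.comp_apply, ρ_algebraMap, Θ_algebraMap])) z

theorem Θ_bijective (g : A) (hg : Dop g ≤ U) {W : (U : Scheme.{u}).Opens} (h : W ≤ Wop U g)
    (h' : Wop U g ≤ W) : Function.Bijective (Θ U g h) := by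
  obtain rfl : W = Wop U g := le_antisymm h h'
  have h1 : IsIso (U.ι.app (Dop g)) := U.ι.isIso_app (Dop g) (hg.trans U.opensRange_ι.ge)
  have h2 : Function.Bijective (U.ι.app (Dop g)) := (ConcreteCategory.isIso_iff_bijective _).1 h1
  have h3 : Function.Bijective (rres h) := by
    rw [show ⇑(rres h).hom = id from funext fun z => rres_self h z]; exact Function.bijective_id
  exact (h3.comp h2).comp (psi_bijective g le_rfl le_rfl)

theorem Wop_mul (a b : A) : Wop U (a * b) = Wop U a ⊓ Wop U b := by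
  rw [Wop, Dop_mul]; rfl

theorem isAffineOpen_Wop (g : A) (hg : Dop g ≤ U) : IsAffineOpen (Wop U g) :=
  (IsAffineOpen.Spec_basicOpen (R := CommRingCat.of A) g).preimage_of_isOpenImmersion U.ι (hg.trans U.opensRange_ι.ge)

variable [IsNoetherianRing A]

theorem exists_boundedTorsion (f : A) : ∃ c, PunctFormal.BoundedTorsion (toΓ U) f c := by
  obtain ⟨c, hc⟩ := monotone_stabilizes_iff_noetherian.2 (inferInstance : IsNoetherian A A)
    ⟨fun n => LinearMap.ker (LinearMap.lsmul A A (f ^ n)), fun m n hmn z hz => by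
      simp only [LinearMap.mem_ker, LinearMap.lsmul_apply, smul_eq_mul] at hz ⊢
      obtain ⟨t, ht⟩ := pow_dvd_pow f hmn
      rw [ht, mul_right_comm, hz, zero_mul]⟩
  have hA : ∀ n (a : A), f ^ n * a = 0 → f ^ c * a = 0 := fun n a ha => by
    rcases le_total c n with h | h
    · have h1 : a ∈ LinearMap.ker (LinearMap.lsmul A A (f ^ c)) := by
        rw [show LinearMap.ker (LinearMap.lsmul A A (f ^ c)) = LinearMap.ker (LinearMap.lsmul A A (f ^ n)) from hc n h]
        exact ha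
      exact h1
    · obtain ⟨t, ht⟩ := pow_dvd_pow f h
      rw [ht, mul_right_comm, ha, zero_mul]
  refine ⟨c, fun W n z hz => ?_⟩
  refine eq_zero_of_locally_eq_zero (Coh.structureModule _) (ι := {g : A // Dop g ≤ U.ι ''ᵁ W})
    (U := fun g => Wop U g.1) (V := W) (fun g => ?_) (fun y hy => ?_) _ fun g => ?_
  · exact (U.ι.preimage_mono g.2).trans (U.ι.preimage_image_eq W).le
  · obtain ⟨_, ⟨g, rfl⟩, hyg, hgW⟩ := PrimeSpectrum.isTopologicalBasis_basic_opens.exists_subset_of_mem_open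
      (show U.ι.base y ∈ (U.ι ''ᵁ W : Set _) from ⟨y, hy, rfl⟩) (U.ι ''ᵁ W).2
    exact Opens.mem_iSup.2 ⟨⟨g, hgW⟩, hyg⟩
  have hle : Wop U g.1 ≤ W := (U.ι.preimage_mono g.2).trans (U.ι.preimage_image_eq W).le
  have hgU : Dop g.1 ≤ U := g.2.trans ((U.ι.image_le_opensRange W).trans U.opensRange_ι.le)
  change rres hle (PunctFormal.fn (toΓ U) f W ^ c * z) = 0
  obtain ⟨w, hw⟩ := (Θ_bijective U g.1 hgU le_rfl le_rfl).2 (rres hle z)
  have h0 := congrArg (rres hle) hz
  rw [map_zero, map_mul, map_pow, PunctFormal.rres_fn, ← hw, ← Θ_algebraMap U g.1 le_rfl, ← map_pow, ← map_mul] at h0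
  have h1 : algebraMap A (Loc g.1) f ^ n * w = 0 :=
    (Θ_bijective U g.1 hgU le_rfl le_rfl).1 (h0.trans (map_zero _).symm)
  rw [map_mul, map_pow, PunctFormal.rres_fn, ← hw, ← Θ_algebraMap U g.1 le_rfl, ← map_pow, ← map_mul]
  suffices algebraMap A (Loc g.1) f ^ c * w = 0 by rw [this, map_zero]
  obtain ⟨m, a, ha⟩ := exists_num w
  have h2 : algebraMap A (Loc g.1) (f ^ n * a) = 0 := by
    rw [map_mul, map_pow, ← ha, ← mul_assoc, h1, zero_mul]
  obtain ⟨⟨_, l, rfl⟩, hl⟩ := (IsLocalization.map_eq_zero_iff (Submonoid.powers g.1) (Loc g.1) _).1 h2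
  have h3 := hA n (g.1 ^ l * a) (by rw [mul_left_comm]; exact hl)
  refine (isUnit_pow g.1 m).mul_left_eq_zero.1 ?_
  rw [mul_assoc, ha, ← map_pow, ← map_mul]
  exact (IsLocalization.map_eq_zero_iff (Submonoid.powers g.1) (Loc g.1) _).2
    ⟨⟨_, l, rfl⟩, by rw [mul_left_comm]; exact h3⟩

variable {ι : Type u} [Fintype ι]

/-- The formal functions criterion for `U = ⋃ D(x i)` from annihilators of local cohomology. -/
theorem homToFormal_of_kill (x : ι → A) (hxU : ∀ i, Dop (x i) ≤ U) (hU : U ≤ ⨆ i, Dop (x i))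
    (I : Ideal A) (hI : I.radical = (Ideal.span (Set.range x)).radical) (f : A)
    [IsAdicComplete (Ideal.span {f}) A]
    (h₁ : ∃ n : ℕ, ∀ z : _root_.LocCoh.H I 1 A, (f ^ n) • z = 0)
    (h₂ : ∃ n : ℕ, ∀ z : _root_.LocCoh.H I 2 A, (f ^ n) • z = 0)
    (J : (U : Scheme.{u}).IdealSheafData)
    (hJ : ∀ W : (U : Scheme.{u}).affineOpens, J.ideal W = Ideal.span {PunctFormal.fn (toΓ U) f W.1}) :
    _root_.Lef.HomToFormalBijective J (Coh.structureModule (U : Scheme.{u})) := by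
  obtain ⟨n₁, h₁⟩ := h₁
  obtain ⟨n₂, h₂⟩ := h₂
  obtain ⟨k₁, k₂⟩ := cech_kill x I hI (f ^ (n₁ + n₂)) (fun z => by rw [pow_add, mul_comm, mul_smul, h₁, smul_zero])
    (fun z => by rw [pow_add, mul_smul, h₂, smul_zero])
  obtain ⟨c, hT⟩ := exists_boundedTorsion U f
  have hU2 : ∀ i j, Dop (x i * x j) ≤ U := fun i j => (Dop_mul _ _).le.trans (inf_le_left.trans (hxU i))
  have hU3 : ∀ i j k, Dop (x i * x j * x k) ≤ U := fun i j k => (Dop_mul _ _).le.trans (inf_le_left.trans (hU2 i j))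
  have e2 : ∀ i j, Wop U (x i) ⊓ Wop U (x j) = Wop U (x i * x j) := fun i j => (Wop_mul U _ _).symm
  have hcov : (⊤ : (U : Scheme.{u}).Opens) ≤ ⨆ i, Wop U (x i) := fun y _ => by
    have hy : U.ι.base y ∈ U := y.2
    obtain ⟨i, hi⟩ := Opens.mem_iSup.1 (hU hy)
    exact Opens.mem_iSup.2 ⟨i, hi⟩
  refine PunctFormal.homToFormal (toΓ U) J hJ (fun i => isAffineOpen_Wop U _ (hxU i))
    (fun i j => by rw [e2]; exact isAffineOpen_Wop U _ (hU2 i j)) hcov hT (k := n₁ + n₂) (N := n₁ + n₂) ?_ ?_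
  · intro s
    choose d hd using fun i => (Θ_bijective U (x i) (hxU i) le_rfl le_rfl).2 (rres le_top s)
    obtain ⟨a, ha⟩ := exists_eq_of_caug_kill x _ k₁ d fun i j => by
      refine (Θ_bijective U _ (hU2 i j) (e2 i j).le (e2 i j).ge).1 ?_
      rw [Θ_ρ U _ _ inf_le_left, Θ_ρ U _ _ inf_le_right, ← rres_Θ U _ inf_le_left le_rfl, hd,
        ← rres_Θ U _ inf_le_right le_rfl, hd, rres_rres, rres_rres]
    refine ⟨a, PunctFormal.eq_of_rres_eq hcov _ _ fun i => ?_⟩
    rw [map_mul, ← hd]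
    change PunctFormal.fn (toΓ U) a _ = rres le_top (toΓ U f ^ (n₁ + n₂)) * _
    rw [← map_pow (toΓ U), ← Θ_algebraMap U (x i) le_rfl, ha, map_mul, Θ_algebraMap]
    rfl
  · intro u hu
    choose c hc using fun i j => (Θ_bijective U (x i * x j) (hU2 i j) (e2 i j).le (e2 i j).ge).2 (u i j)
    have e3 : ∀ i j k, Wop U (x i) ⊓ Wop U (x j) ⊓ Wop U (x k) = Wop U (x i * x j * x k) := fun i j k => by
      rw [e2, ← Wop_mul]
    obtain ⟨w, hw⟩ := exists_eq_of_h1_kill x _ k₂ c fun i j k => by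
      refine (Θ_bijective U _ (hU3 i j k) (e3 i j k).le (e3 i j k).ge).1 ?_
      rw [map_add, Θ_ρ U _ _ (inf_le_left.trans (e2 i j).le),
        Θ_ρ U _ _ ((le_inf (inf_le_left.trans inf_le_right) inf_le_right).trans (e2 j k).le),
        Θ_ρ U _ _ ((le_inf (inf_le_left.trans inf_le_left) inf_le_right).trans (e2 i k).le)]
      rw [← rres_Θ U _ inf_le_left (e2 i j).le,
        ← rres_Θ U _ (le_inf (inf_le_left.trans inf_le_right) inf_le_right) (e2 j k).le,
        ← rres_Θ U _ (le_inf (inf_le_left.trans inf_le_left) inf_le_right) (e2 i k).le, hc, hc, hc]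
      exact hu i j k
    refine ⟨fun i => Θ U (x i) le_rfl (w i), fun i j => ?_⟩
    rw [← hc, rres_Θ, rres_Θ, ← Θ_ρ U (dvd_mul_left (x j) (x i)) (e2 i j).le,
      ← Θ_ρ U (dvd_mul_right (x i) (x j)) (e2 i j).le, ← map_sub, ← hw, map_mul, map_pow, map_pow, Θ_algebraMap]

end Sections

end Groth.Agent.Hens.PunctCech
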