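import Groth.Agent.BlowUp.ProjRees
import Groth.Agent.BlowUpProper.Basic

/-!
# Points of `Proj` of a Rees algebra
-/

set_option autoImplicit false
set_option backward.isDefEq.respectTransparency.types false

universe u

open CategoryTheory AlgebraicGeometry TopologicalSpace
open Groth.Agent.BlowUp.AffineChart Groth.Agent.BlowUp.ProjRees

namespace Groth.Agent.Hens.RigidBlow

variable {A : Type u} [CommRing A] (K : Ideal A)

/-- The blow-up of `Spec A` in `K`. -/
noncomputable abbrev W : Scheme.{u} := Proj (Rees.deg (reesAlgebra K))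

/-- Its structure morphism. -/
noncomputable abbrev π : W K ⟶ Spec (CommRingCat.of A) :=
  Proj (Rees.deg (reesAlgebra K)) ↘ Spec (CommRingCat.of A)

variable {K}

theorem π_chart {c : A} (hc : c ∈ K) (q : Spec (CommRingCat.of (Chart K c))) :
    π K (chart K hc q) = PrimeSpectrum.comap (algebraMap A (Chart K c)) q := by
  rw [← Scheme.Hom.comp_apply, chart_over K hc]
  rfl

theorem exists_chart (w : W K) :
    ∃ (c : A) (hc : c ∈ K) (q : Spec (CommRingCat.of (Chart K c))), chart K hc q = w := by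
  have : w ∈ (⊤ : (W K).Opens) := trivial
  rw [← iSup_opensRange_chart K, Opens.mem_iSup] at this
  obtain ⟨⟨c, hc⟩, q, hq⟩ := this
  exact ⟨c, hc, q, hq⟩

theorem gen_mem_chart {c x : A} (hc : c ∈ K) (hx : x ∈ K) (q : Spec (CommRingCat.of (Chart K c))) :
    gen K hx ∈ (chart K hc q).asHomogeneousIdeal ↔ div K c hx ∈ q.asIdeal := by
  have h : q ∈ chart K hc ⁻¹ᵁ (chart K hx).opensRange ↔ q ∈ PrimeSpectrum.basicOpen (div K c hx) := by
    rw [chart_preimage_opensRange K hc hx]; exact Iff.rfl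
  rw [opensRange_chart] at h
  exact not_iff_not.1 h

theorem gen_self_notMem {c : A} (hc : c ∈ K) (q : Spec (CommRingCat.of (Chart K c))) :
    gen K hc ∉ (chart K hc q).asHomogeneousIdeal := by
  have : chart K hc q ∈ (chart K hc).opensRange := ⟨q, rfl⟩
  rw [opensRange_chart] at this
  exact this

theorem mem_base_iff (w : W K) (r : A) :
    r ∈ (π K w).asIdeal ↔ mon K 0 (show r ∈ K ^ 0 by simp) ∈ w.asHomogeneousIdeal := by
  obtain ⟨c, hc, q, rfl⟩ := exists_chart w
  rw [π_chart hc q, PrimeSpectrum.comap_asIdeal, Ideal.mem_comap]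
  have e1 : div K c (K.mul_mem_left r hc) = algebraMap A (Chart K c) r := by
    refine (mul_cancel_left_mem_nonZeroDivisors (algebraMap_mem_nonZeroDivisors K c)).1 ?_
    rw [algebraMap_mul_div, ← map_mul, mul_comm]
  have e2 : mon K 0 (show r ∈ K ^ 0 by simp) * gen K hc = gen K (K.mul_mem_left r hc) :=
    Subtype.ext (Polynomial.monomial_mul_monomial 0 1 r c)
  rw [← e1, ← gen_mem_chart hc (K.mul_mem_left r hc) q, ← e2]
  exact ⟨fun h => ((chart K hc q).isPrime.mem_or_mem h).resolve_right (gen_self_notMem hc q),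
    fun h => Ideal.mul_mem_right _ _ h⟩

theorem mem_zeroLocus_iff (I : Ideal A) (w : W K) :
    w ∈ π K ⁻¹' PrimeSpectrum.zeroLocus (I : Set A) ↔ I ≤ (π K w).asIdeal := by
  exact Iff.rfl

/-- Not all degree one elements vanish at a point. -/
theorem exists_gen_notMem (w : W K) {T : Set A} (hT : Ideal.span T = K) :
    ∃ (y : A) (hy : y ∈ T), gen K (hT.le (Ideal.subset_span hy)) ∉ w.asHomogeneousIdeal := by
  by_contra! hall
  obtain ⟨c, hc, q, rfl⟩ := exists_chart w
  refine gen_self_notMem hc q ?_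
  let M : Ideal A :=
    { carrier := {y | ∃ hy : y ∈ K, gen K hy ∈ (chart K hc q).asHomogeneousIdeal}
      add_mem' := by
        rintro a b ⟨ha, ha'⟩ ⟨hb, hb'⟩
        refine ⟨add_mem ha hb, ?_⟩
        have e : gen K (add_mem ha hb) = gen K ha + gen K hb :=
          Subtype.ext (map_add (Polynomial.monomial 1) a b)
        rw [e]
        exact Ideal.add_mem _ ha' hb'
      zero_mem' := ⟨zero_mem K, by
        have e : gen K (zero_mem K) = 0 := Subtype.ext (map_zero (Polynomial.monomial 1))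
        rw [e]
        exact Ideal.zero_mem _⟩
      smul_mem' := by
        rintro r a ⟨ha, ha'⟩
        refine ⟨K.mul_mem_left r ha, ?_⟩
        have e : mon K 0 (show r ∈ K ^ 0 by simp) * gen K ha = gen K (K.mul_mem_left r ha) :=
          Subtype.ext (Polynomial.monomial_mul_monomial 0 1 r a)
        rw [← e]
        exact Ideal.mul_mem_left _ _ ha' }
  have : Ideal.span T ≤ M := Ideal.span_le.2 fun y hy => ⟨hT.le (Ideal.subset_span hy), hall y hy⟩
  obtain ⟨_, h⟩ := this (hT.ge hc)
  exact h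

/-- Degree two monomials with coefficient in `I * K²` vanish over `V(I)`. -/
theorem mon_two_mem (w : W K) (I : Ideal A) (hI : I ≤ (π K w).asIdeal) {r : A} (hr : r ∈ I * K ^ 2) :
    ∃ h : r ∈ K ^ 2, mon K 2 h ∈ w.asHomogeneousIdeal := by
  refine Submodule.mul_induction_on hr (fun i hi k hk => ?_) fun a b ha hb => ?_
  · refine ⟨(K ^ 2).mul_mem_left i hk, ?_⟩
    have e : mon K 0 (show i ∈ K ^ 0 by simp) * mon K 2 hk = mon K 2 ((K ^ 2).mul_mem_left i hk) :=
      Subtype.ext (Polynomial.monomial_mul_monomial 0 2 i k)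
    rw [← e]
    exact Ideal.mul_mem_right _ _ ((mem_base_iff w i).1 (hI hi))
  · obtain ⟨ha, ha'⟩ := ha
    obtain ⟨hb, hb'⟩ := hb
    refine ⟨add_mem ha hb, ?_⟩
    have e : mon K 2 (add_mem ha hb) = mon K 2 ha + mon K 2 hb :=
      Subtype.ext (map_add (Polynomial.monomial 2) a b)
    rw [e]
    exact Ideal.add_mem _ ha' hb'

theorem isClosed_setOf_gen_mem {x : A} (hx : x ∈ K) :
    IsClosed {w : W K | gen K hx ∈ w.asHomogeneousIdeal} := by
  have : IsClosed ((Proj.basicOpen (Rees.deg (reesAlgebra K)) (gen K hx) : Set (W K))ᶜ) :=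
    (Proj.basicOpen (Rees.deg (reesAlgebra K)) (gen K hx)).isOpen.isClosed_compl
  convert this using 1
  ext w
  exact ⟨fun h h' => h' h, fun h => by_contra h⟩

/-- A point outside `V(c)` lies in the chart of `c`, uniquely. -/
theorem eq_of_notMem {c : A} (hc : c ∈ K) {w w' : W K} (hw : c ∉ (π K w).asIdeal)
    (h : π K w = π K w') : w = w' := by
  have key : ∀ w : W K, c ∉ (π K w).asIdeal → ∃ q, chart K hc q = w := by
    intro w hw
    have : w ∈ (chart K hc).opensRange := by
      rw [opensRange_chart]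
      intro hmem
      obtain ⟨d, hd, q, rfl⟩ := exists_chart w
      rw [π_chart hd q, PrimeSpectrum.comap_asIdeal, Ideal.mem_comap, ← algebraMap_mul_div K d hc] at hw
      exact hw (Ideal.mul_mem_left _ _ ((gen_mem_chart hd hc q).1 hmem))
    exact this
  obtain ⟨q, rfl⟩ := key w hw
  obtain ⟨q', rfl⟩ := key w' (h ▸ hw)
  rw [π_chart hc, π_chart hc] at h
  rw [π_chart hc] at hw
  congr 1
  have h' : q.asIdeal.comap (algebraMap A (Chart K c)) = q'.asIdeal.comap (algebraMap A (Chart K c)) :=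
    congrArg PrimeSpectrum.asIdeal h
  refine PrimeSpectrum.ext (Ideal.ext fun x => ?_)
  obtain ⟨n, b, hb⟩ := exists_pow_mul_eq K c x
  have key2 : ∀ p : PrimeSpectrum (Chart K c), c ∉ p.asIdeal.comap (algebraMap A (Chart K c)) →
      (x ∈ p.asIdeal ↔ b ∈ p.asIdeal.comap (algebraMap A (Chart K c))) := by
    intro p hp
    rw [Ideal.mem_comap, ← hb]
    exact ⟨fun hx => Ideal.mul_mem_left _ _ hx,
      fun hx => (p.isPrime.mem_or_mem hx).resolve_left fun hx => hp (p.isPrime.mem_of_pow_mem n hx)⟩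
  rw [key2 q hw, key2 q' (h' ▸ hw), h']

/-- Points outside `V(c)` lift. -/
theorem exists_of_notMem {c : A} (hc : c ∈ K) (p : PrimeSpectrum A) (hp : c ∉ p.asIdeal) :
    ∃ w : W K, π K w = p := by
  have : p ∈ Set.range (PrimeSpectrum.comap (algebraMap A (Localization.Away c))) := by
    rw [PrimeSpectrum.localization_away_comap_range (Localization.Away c) c]
    exact hp
  obtain ⟨p', rfl⟩ := this
  refine ⟨chart K hc (PrimeSpectrum.comap (BlowUp.affineAlgebra A K c).val.toRingHom p'), ?_⟩
  rw [π_chart hc]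
  rfl

end Groth.Agent.Hens.RigidBlow
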