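import Groth.Agent.Hens.RigidAdic
import Groth.Agent.Hens.RigidBlow
import Groth.Agent.Hens.ProperClopenGen

/-!
# Rigidity for clopen subsets outside `V(I)` of a henselian pair
-/

set_option autoImplicit false
set_option linter.style.haveILetI false
set_option backward.isDefEq.respectTransparency.types false

universe u

open CategoryTheory AlgebraicGeometry IsLocalRing
open Groth.Agent.BlowUp.AffineChart Groth.Agent.BlowUp.ProjRees

namespace Groth.Agent.Hens.RigidClopen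

/-- A clopen of `D(a)` is given by a numerator squaring to itself up to a power of `a`. -/
theorem exists_numerator {R : Type u} [CommRing R] (a : R) {G G' : Set (PrimeSpectrum R)}
    (hG : IsOpen G) (hG' : IsOpen G') (hcov : ∀ P : PrimeSpectrum R, a ∉ P.asIdeal → P ∈ G ∨ P ∈ G')
    (hdisj : ∀ P : PrimeSpectrum R, a ∉ P.asIdeal → P ∈ G → P ∉ G') :
    ∃ (m : ℕ) (g : R), g * g = a ^ m * g ∧ ∀ P : PrimeSpectrum R, a ∉ P.asIdeal → (P ∈ G ↔ g ∉ P.asIdeal) := by
  let L := Localization.Away a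
  let c := PrimeSpectrum.comap (algebraMap R L)
  have hc : ∀ p : PrimeSpectrum L, a ∉ (c p).asIdeal := fun p => by
    have := (PrimeSpectrum.localization_away_comap_range L a).le ⟨p, rfl⟩
    exact this
  have hcl : IsClopen (c ⁻¹' G) := by
    refine ⟨⟨?_⟩, hG.preimage (PrimeSpectrum.continuous_comap _)⟩
    have : (c ⁻¹' G)ᶜ = c ⁻¹' G' := Set.ext fun p =>
      ⟨fun h => (hcov _ (hc p)).resolve_left h, fun h h' => hdisj _ (hc p) h' h⟩
    rw [this]
    exact hG'.preimage (PrimeSpectrum.continuous_comap _)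
  obtain ⟨e, f, hef, hef1, he⟩ := PrimeSpectrum.isClopen_iff_mul_add.1 hcl
  have hee : IsIdempotentElem e := (IsIdempotentElem.of_mul_add hef hef1).1
  obtain ⟨m, g, hg⟩ := IsLocalization.Away.surj a e
  have hrel : algebraMap R L (g * g) = algebraMap R L (a ^ m * g) := by
    rw [map_mul, map_mul, map_pow, ← hg]
    linear_combination (algebraMap R L a ^ m) * (algebraMap R L a ^ m) * hee.eq
  obtain ⟨⟨_, j, rfl⟩, hj⟩ := (IsLocalization.eq_iff_exists (Submonoid.powers a) L).1 hrel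
  refine ⟨m + j, a ^ j * g, ?_, fun P hP => ?_⟩
  · linear_combination (a ^ j) * hj
  · obtain ⟨p, rfl⟩ : P ∈ Set.range c := by
      rw [PrimeSpectrum.localization_away_comap_range L a]; exact hP
    rw [← Set.mem_preimage, he]
    show e ∉ p.asIdeal ↔ algebraMap R L (a ^ j * g) ∉ p.asIdeal
    have hu : ∀ n, IsUnit (algebraMap R L a ^ n) := fun n =>
      (IsLocalization.Away.algebraMap_isUnit a).pow n
    rw [map_mul, ← hg, map_pow, Ideal.unit_mul_mem_iff_mem _ (hu j),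
      Ideal.mul_unit_mem_iff_mem _ (hu m)]

/-- Compatible numerators for a clopen of `D(s)`. -/
theorem exists_numerators {R : Type u} [CommRing R] {ι : Type*} [Fintype ι] (a : ι → R)
    {G G' : Set (PrimeSpectrum R)}
    (hG : IsOpen G) (hG' : IsOpen G') (hcov : ∀ i, ∀ P : PrimeSpectrum R, a i ∉ P.asIdeal → P ∈ G ∨ P ∈ G')
    (hdisj : ∀ i, ∀ P : PrimeSpectrum R, a i ∉ P.asIdeal → P ∈ G → P ∉ G') :
    ∃ (m : ℕ) (g : ι → R), (∀ i, g i * g i = a i ^ m * g i) ∧
      (∀ i j, g i * a j ^ m = g j * a i ^ m) ∧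
      ∀ i, ∀ P : PrimeSpectrum R, a i ∉ P.asIdeal → (P ∈ G ↔ g i ∉ P.asIdeal) := by
  classical
  choose m g hg hgG using fun i => exists_numerator (a i) hG hG' (hcov i) (hdisj i)
  let M := Finset.univ.sup m + 1
  let g1 : ι → R := fun i => a i ^ (M - m i) * g i
  have hmM : ∀ i, m i ≤ M := fun i => (Finset.le_sup (Finset.mem_univ i)).trans (Nat.le_succ _)
  have hg1 : ∀ i, g1 i * g1 i = a i ^ M * g1 i := fun i => by
    have h2 : a i ^ (M - m i) * a i ^ (m i) = a i ^ M := by rw [← pow_add, Nat.sub_add_cancel (hmM i)]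
    simp only [g1]
    linear_combination (a i ^ (M - m i) * a i ^ (M - m i)) * hg i + (a i ^ (M - m i) * g i) * h2
  have hg1G : ∀ i, ∀ P : PrimeSpectrum R, a i ∉ P.asIdeal → (P ∈ G ↔ g1 i ∉ P.asIdeal) := by
    intro i P hP
    rw [hgG i P hP]
    exact not_congr ⟨fun h => Ideal.mul_mem_left _ _ h,
      fun h => (P.isPrime.mem_or_mem h).resolve_left fun h => hP (P.isPrime.mem_of_pow_mem _ h)⟩
  let u : ι → ι → R := fun i j => g1 i * (a j ^ M - g1 j)
  have hu : ∀ i j, ∃ k, (a i * a j) ^ k * u i j = 0 := by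
    intro i j
    have hP : ∀ P : Ideal R, P.IsPrime → a i * a j * u i j ∈ P := by
      intro P hP
      by_contra hc
      have hi : a i ∉ P := fun h => hc (P.mul_mem_right _ (P.mul_mem_right _ h))
      have hj : a j ∉ P := fun h => hc (P.mul_mem_right _ (P.mul_mem_left _ h))
      have h1 : g1 i ∉ P := fun h => hc (P.mul_mem_left _ (P.mul_mem_right _ h))
      have h2 : g1 j ∉ P := (hg1G j ⟨P, hP⟩ hj).1 ((hg1G i ⟨P, hP⟩ hi).2 h1)
      have h3 : g1 j * (a j ^ M - g1 j) = 0 := by linear_combination -(hg1 j)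
      have h4 : a j ^ M - g1 j ∈ P := (hP.mem_or_mem (h3.symm ▸ P.zero_mem)).resolve_left h2
      exact hc (P.mul_mem_left _ (P.mul_mem_left _ h4))
    obtain ⟨k, hk⟩ : IsNilpotent (a i * a j * u i j) := by
      rw [← mem_nilradical, nilradical_eq_sInf]
      exact Ideal.mem_sInf.2 fun {P} hP' => hP P hP'
    have hsq : u i j * u i j = (a i * a j) ^ M * u i j := by
      simp only [u]
      linear_combination ((a j ^ M - g1 j) * (a j ^ M - g1 j)) * hg1 i + (a i ^ M * g1 i) * hg1 j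
    have hpow : ∀ n, u i j ^ (n + 1) = (a i * a j) ^ (M * n) * u i j := by
      intro n
      induction n with
      | zero => simp
      | succ n ih =>
        rw [pow_succ, ih, mul_assoc, hsq, ← mul_assoc, ← pow_add]
        congr 2
    refine ⟨k + 1 + M * k, ?_⟩
    have h5 : (a i * a j * u i j) ^ (k + 1) = 0 := by rw [pow_succ, hk, zero_mul]
    rw [mul_pow, hpow, ← mul_assoc, ← pow_add] at h5
    exact h5
  choose k hk using hu
  let N := Finset.univ.sup fun p : ι × ι => k p.1 p.2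
  have hN : ∀ i j, (a i * a j) ^ N * u i j = 0 := fun i j => by
    have hle : k i j ≤ N := Finset.le_sup (f := fun p : ι × ι => k p.1 p.2) (Finset.mem_univ (i, j))
    rw [← Nat.sub_add_cancel hle, pow_add, mul_assoc, hk, mul_zero]
  refine ⟨M + N, fun i => a i ^ N * g1 i, fun i => ?_, fun i j => ?_, fun i P hP => ?_⟩
  · linear_combination (a i ^ N * a i ^ N) * hg1 i
  · have h1 := hN i j
    have h2 := hN j i
    simp only [u] at h1 h2
    linear_combination h1 - h2
  · rw [hg1G i P hP]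
    exact not_congr ⟨fun h => Ideal.mul_mem_left _ _ h,
      fun h => (P.isPrime.mem_or_mem h).resolve_left fun h => hP (P.isPrime.mem_of_pow_mem _ h)⟩

variable {A : Type u} [CommRing A] {I : Ideal A}

/-- Every point of the complement of `V(I)` generises, inside that complement, to a point with
an adically separated valuation. -/
theorem exists_le_lift (hI : I.FG) (p x : PrimeSpectrum A) (hpx : p.asIdeal ≤ x.asIdeal)
    (hIx : I ≤ x.asIdeal) (hIp : ¬ I ≤ p.asIdeal) (Q : PrimeSpectrum (AdicCompletion I A))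
    (hQ : PrimeSpectrum.comap (algebraMap A _) Q = x) :
    ∃ P : PrimeSpectrum (AdicCompletion I A), P.asIdeal ≤ Q.asIdeal ∧
      p.asIdeal ≤ (PrimeSpectrum.comap (algebraMap A _) P).asIdeal ∧
      ¬ I ≤ (PrimeSpectrum.comap (algebraMap A _) P).asIdeal := by
  obtain ⟨s, rfl⟩ := hI
  obtain ⟨V, i1, i2, i3, φ, a, ha, ha0, hdvd, hpk, hmax, hsep⟩ :=
    RigidAdic.exists_adic_point A s p.asIdeal x.asIdeal hpx hIx hIp
  subst hQ
  obtain ⟨P, hPQ, hP⟩ := RigidAdic.exists_lift ⟨s, rfl⟩ φ a hdvd hsep Q hmax.symm hIx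
  refine ⟨P, hPQ, ?_, fun h => ?_⟩
  · rw [PrimeSpectrum.comap_asIdeal, hP]; exact hpk
  · rw [PrimeSpectrum.comap_asIdeal, hP] at h
    exact ha0 (h (Ideal.subset_span ha))

theorem jac_completion (hI : I.FG) :
    I.map (algebraMap A (AdicCompletion I A)) ≤ (⊥ : Ideal (AdicCompletion I A)).jacobson := by
  haveI := AdicCompletion.isAdicComplete_self I hI
  exact IsAdicComplete.le_jacobson_bot _

theorem exists_maximal_above {R : Type*} [CommRing R] {J : Ideal R} (hJ : J ≤ (⊥ : Ideal R).jacobson)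
    (p : PrimeSpectrum R) : ∃ M : PrimeSpectrum R, p.asIdeal ≤ M.asIdeal ∧ J ≤ M.asIdeal := by
  obtain ⟨M, hM, hpM⟩ := Ideal.exists_le_maximal _ p.isPrime.ne_top
  exact ⟨⟨M, hM.isPrime⟩, hpM, hJ.trans (sInf_le ⟨bot_le, hM⟩)⟩

/-- A point in the closure of a quasi-compact open is a specialisation of one of its points. -/
theorem exists_specializes_of_mem_closure {R : Type*} [CommRing R] {W : Set (PrimeSpectrum R)}
    (hW : IsOpen W) (hWc : IsCompact W) {x : PrimeSpectrum R} (hx : x ∈ closure W) :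
    ∃ p ∈ W, p ⤳ x := by
  obtain ⟨S, hS⟩ := (PrimeSpectrum.isCompact_isOpen_iff_ideal).1 ⟨hWc, hW⟩
  obtain ⟨hSfg, rfl⟩ := hS
  by_contra! hall
  obtain ⟨t, rfl⟩ := hSfg
  have hnil : ∀ f ∈ t, ∃ r ∉ x.asIdeal, IsNilpotent (r * f) := by
    intro f hf
    by_contra! hc
    have hdisj : Disjoint ((⊥ : Ideal R) : Set R) (x.asIdeal.primeCompl ⊔ Submonoid.powers f : Submonoid R) := by
      rw [Set.disjoint_left]
      intro z hz hz'
      obtain ⟨r, hr, _, ⟨n, rfl⟩, hrn⟩ := Submonoid.mem_sup.1 hz'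
      refine hc r hr ⟨n + 1, ?_⟩
      have h0 : r * f ^ n = 0 := by
        show r * f ^ n ∈ ((⊥ : Ideal R) : Set R)
        exact (show r * f ^ n = z from hrn) ▸ hz
      rw [mul_pow, pow_succ r, pow_succ f]
      linear_combination (r ^ n * f) * h0
    obtain ⟨q, hq, -, hqd⟩ := Ideal.exists_le_prime_disjoint _ _ hdisj
    refine hall ⟨q, hq⟩ (fun h => Set.disjoint_left.1 hqd (h (Ideal.subset_span hf))
      (Submonoid.mem_sup_right (Submonoid.mem_powers f))) ?_
    refine (PrimeSpectrum.le_iff_specializes _ _).1 fun z hz => ?_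
    by_contra hzx
    exact Set.disjoint_left.1 hqd hz (Submonoid.mem_sup_left hzx)
  choose! r hr hrn using hnil
  have hprod : ∏ f ∈ t, r f ∉ x.asIdeal := fun h => by
    obtain ⟨f, hf, hf'⟩ := (Ideal.IsPrime.prod_mem_iff (p := x.asIdeal)).1 h
    exact hr f hf hf'
  obtain ⟨y, hy, hyW⟩ := mem_closure_iff.1 hx _ (PrimeSpectrum.basicOpen (∏ f ∈ t, r f)).isOpen hprod
  refine hyW (Ideal.span_le.2 fun f hf => ?_)
  by_contra hc
  refine hy (Ideal.mem_of_dvd _ (Finset.dvd_prod_of_mem r hf) ?_)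
  exact (y.isPrime.mem_or_mem (nilpotent_iff_mem_prime.1 (hrn f hf) _ y.isPrime)).resolve_right hc

/-- Primes of the completion over `V(I)` are determined by their contraction. -/
theorem eq_of_comap_eq (hI : I.FG) {P Q : PrimeSpectrum (AdicCompletion I A)}
    (hP : I ≤ (PrimeSpectrum.comap (algebraMap A _) P).asIdeal)
    (h : PrimeSpectrum.comap (algebraMap A _) Q = PrimeSpectrum.comap (algebraMap A _) P) : Q = P := by
  refine PrimeSpectrum.ext (Ideal.ext fun f => ?_)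
  obtain ⟨r, hr⟩ := RigidAdic.exists_sub_mem hI 1 f
  rw [pow_one] at hr
  have key : ∀ R : PrimeSpectrum (AdicCompletion I A),
      I ≤ (PrimeSpectrum.comap (algebraMap A _) R).asIdeal →
      (f ∈ R.asIdeal ↔ r ∈ (PrimeSpectrum.comap (algebraMap A _) R).asIdeal) := by
    intro R hR
    have h1 : f - algebraMap A _ r ∈ R.asIdeal := Ideal.map_le_iff_le_comap.2 hR hr
    constructor
    · intro h3; have := Ideal.sub_mem _ h3 h1; rwa [sub_sub_cancel] at this
    · intro h3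
      have := Ideal.add_mem _ h1 (show algebraMap A _ r ∈ R.asIdeal from h3)
      rwa [sub_add_cancel] at this
  rw [key Q (h ▸ hP), key P hP, h]

/-- The complement of `V(I)`: clopens of the completion descend. -/
theorem exists_clopen_compl [HenselianRing A I] (hI : I.FG)
    {G G' : Set (PrimeSpectrum (AdicCompletion I A))} (hG : IsOpen G) (hG' : IsOpen G')
    (hcov : ∀ P, ¬ I ≤ (PrimeSpectrum.comap (algebraMap A _) P).asIdeal → P ∈ G ∨ P ∈ G')
    (hdisj : ∀ P, ¬ I ≤ (PrimeSpectrum.comap (algebraMap A _) P).asIdeal → P ∈ G → P ∉ G') :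
    ∃ V V' : Set (PrimeSpectrum A), IsOpen V ∧ IsOpen V' ∧ Disjoint V V' ∧
      V ∪ V' = (PrimeSpectrum.zeroLocus (I : Set A))ᶜ ∧
      ∀ P, ¬ I ≤ (PrimeSpectrum.comap (algebraMap A _) P).asIdeal →
        (P ∈ G ↔ PrimeSpectrum.comap (algebraMap A _) P ∈ V) := by
  classical
  obtain ⟨s, hs⟩ := id hI
  have hIfg : I.FG := hI
  have hIle : ∀ J : Ideal A, (∀ a ∈ s, a ∈ J) → I ≤ J := fun J h => hs.ge.trans (Ideal.span_le.2 h)
  set ψ := algebraMap A (AdicCompletion I A)
  have haI : ∀ i : s, (i : A) ∈ I := fun i => hs.le (Ideal.subset_span i.2)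
  have hnot : ∀ (i : s) (P : PrimeSpectrum (AdicCompletion I A)), ψ i ∉ P.asIdeal →
      ¬ I ≤ (PrimeSpectrum.comap ψ P).asIdeal := fun i P hP h => hP (h (haI i))
  obtain ⟨m, g, hgg, hgcomp, hgG⟩ := exists_numerators (fun i : s => ψ i) hG hG'
    (fun i P hP => hcov P (hnot i P hP)) (fun i P hP => hdisj P (hnot i P hP))
  obtain ⟨N0, hN0⟩ : ∃ N0, I ^ N0 ≤ Ideal.span (Set.range fun i : s => (i : A) ^ (2 * m)) := by
    refine Ideal.exists_pow_le_of_le_radical_of_fg ?_ hIfg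
    exact hIle _ fun x hx => ⟨2 * m, Ideal.subset_span ⟨⟨x, hx⟩, rfl⟩⟩
  set N := N0 + m + 1 with hNdef
  have happ : ∀ i : s, ∃ x : A, Ideal.Quotient.mk (I ^ N) x = AdicCompletion.evalₐ I N (g i) :=
    fun i => Ideal.Quotient.mk_surjective _
  choose x hx using happ
  let T : Set A := Set.range (fun i : s => (i : A) ^ m) ∪ Set.range x
  let K : Ideal A := Ideal.span T
  have hKfg : K.FG := Submodule.fg_span ((Set.finite_range _).union (Set.finite_range _))
  have ham : ∀ i : s, (i : A) ^ m ∈ K := fun i => Ideal.subset_span (Or.inl ⟨i, rfl⟩)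
  have hxK : ∀ i : s, x i ∈ K := fun i => Ideal.subset_span (Or.inr ⟨i, rfl⟩)
  have hdK : ∀ i : s, x i - (i : A) ^ m ∈ K := fun i => sub_mem (hxK i) (ham i)
  have hNle : I ^ N ≤ I * K ^ 2 := by
    calc I ^ N ≤ I ^ (N0 + 1) := Ideal.pow_le_pow_right (by omega)
      _ = I * I ^ N0 := pow_succ' I N0
      _ ≤ I * K ^ 2 := Ideal.mul_mono le_rfl (hN0.trans (Ideal.span_le.2 ?_))
    rintro _ ⟨i, rfl⟩
    show (i : A) ^ (2 * m) ∈ K ^ 2
    rw [mul_comm, pow_mul]
    exact Ideal.pow_mem_pow (ham i) 2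
  have hrel1 : ∀ i : s, x i * (x i - (i : A) ^ m) ∈ I ^ N := fun i => by
    rw [← Ideal.Quotient.eq_zero_iff_mem, map_mul, map_sub, map_pow, hx,
      ← Ideal.Quotient.algebraMap_eq, ← AlgHom.commutes (AdicCompletion.evalₐ I N), ← map_pow,
      ← map_sub, ← map_mul]
    have : g i * (g i - algebraMap A _ (i : A) ^ m) = 0 := by linear_combination hgg i
    rw [this, map_zero]
  have hev : ∀ y : A, Ideal.Quotient.mk (I ^ N) y = AdicCompletion.evalₐ I N (algebraMap A _ y) :=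
    fun y => ((AdicCompletion.evalₐ I N).commutes y).symm
  have hrel2 : ∀ i j : s, x i * (j : A) ^ m - x j * (i : A) ^ m ∈ I ^ N := fun i j => by
    rw [← Ideal.Quotient.eq_zero_iff_mem, map_sub, map_mul, map_mul, hx, hx, hev, hev, ← map_mul,
      ← map_mul, ← map_sub, map_pow, map_pow,
      show g i * algebraMap A _ (j : A) ^ m - g j * algebraMap A _ (i : A) ^ m = 0 from
        sub_eq_zero.2 (hgcomp i j), map_zero]
  -- the blow-up
  haveI : IsProper (RigidBlow.π K) := BlowUpProper.Basic.isProper_proj hKfg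
  let W := RigidBlow.W K
  let π := RigidBlow.π K
  let E : Set W := π ⁻¹' PrimeSpectrum.zeroLocus (I : Set A)
  let C1 : Set W := {w | ∀ i : s, gen K (hdK i) ∈ w.asHomogeneousIdeal}
  let C0 : Set W := {w | ∀ i : s, gen K (hxK i) ∈ w.asHomogeneousIdeal}
  have hC1 : IsClosed C1 := by
    simp only [C1, Set.ofPred_forall]
    exact isClosed_iInter fun i => RigidBlow.isClosed_setOf_gen_mem (hdK i)
  have hC0 : IsClosed C0 := by
    simp only [C0, Set.ofPred_forall]
    exact isClosed_iInter fun i => RigidBlow.isClosed_setOf_gen_mem (hxK i)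
  have hC10 : ∀ w, w ∈ C1 → w ∉ C0 := by
    intro w h1 h0
    obtain ⟨y, hy, hyw⟩ := RigidBlow.exists_gen_notMem w (T := T) rfl
    rcases hy with ⟨i, rfl⟩ | ⟨i, rfl⟩
    · refine hyw ?_
      have e : gen K (hxK i) - gen K (hdK i) = gen K (ham i) := by
        refine Subtype.ext ?_
        show Polynomial.monomial 1 (x i) - Polynomial.monomial 1 (x i - (i : A) ^ m) = _
        rw [← map_sub, sub_sub_cancel]
        rfl
      rw [← e]
      exact Ideal.sub_mem _ (h0 i) (h1 i)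
    · exact hyw (h0 i)
  have hEC : ∀ w ∈ E, w ∈ C1 ∨ w ∈ C0 := by
    intro w hw
    have hwI : I ≤ (π w).asIdeal := hw
    by_contra! hc
    obtain ⟨hc1, hc0⟩ := hc
    simp only [C1, C0, Set.mem_ofPred_eq, not_forall] at hc1 hc0
    obtain ⟨j, hj⟩ := hc1
    obtain ⟨i, hi⟩ := hc0
    have hmul : ∀ {a b : A} (ha : a ∈ K) (hb : b ∈ K) (hab : a * b ∈ K ^ 2),
        gen K ha * gen K hb = mon K 2 hab := fun ha hb hab =>
      Subtype.ext (Polynomial.monomial_mul_monomial 1 1 _ _)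
    -- `x i - i ^ m` vanishes, `x j` vanishes
    have hK2 : ∀ {a b : A}, a ∈ K → b ∈ K → a * b ∈ K ^ 2 := fun ha hb => by
      rw [pow_two]; exact Ideal.mul_mem_mul ha hb
    have hmix : ∀ k : s, gen K (hxK k) ∈ w.asHomogeneousIdeal ∨ gen K (hdK k) ∈ w.asHomogeneousIdeal := by
      intro k
      refine w.isPrime.mem_or_mem ?_
      rw [hmul (hxK k) (hdK k) (hK2 (hxK k) (hdK k))]
      obtain ⟨h, h'⟩ := RigidBlow.mon_two_mem w I hwI (hNle (hrel1 k))
      exact h'
    have hid : gen K (hdK i) ∈ w.asHomogeneousIdeal := (hmix i).resolve_left hi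
    have hjx : gen K (hxK j) ∈ w.asHomogeneousIdeal := (hmix j).resolve_right hj
    obtain ⟨h2, h2'⟩ := RigidBlow.mon_two_mem w I hwI (hNle (hrel2 i j))
    have esub : gen K (hxK i) * gen K (ham j) - gen K (hxK j) * gen K (ham i) = mon K 2 h2 := by
      rw [hmul (hxK i) (ham j) (hK2 (hxK i) (ham j)), hmul (hxK j) (ham i) (hK2 (hxK j) (ham i))]
      exact Subtype.ext (map_sub (Polynomial.monomial 2) (x i * (j : A) ^ m) (x j * (i : A) ^ m)).symm
    have h3 : gen K (hxK i) * gen K (ham j) ∈ w.asHomogeneousIdeal := by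
      have := Ideal.add_mem _ (esub ▸ h2' : gen K (hxK i) * gen K (ham j) -
        gen K (hxK j) * gen K (ham i) ∈ w.asHomogeneousIdeal.toIdeal)
        (Ideal.mul_mem_right (gen K (ham i)) _ hjx)
      rwa [sub_add_cancel] at this
    have h4 : gen K (ham j) ∈ w.asHomogeneousIdeal := (w.isPrime.mem_or_mem h3).resolve_left hi
    refine hj ?_
    have e : gen K (hxK j) - gen K (ham j) = gen K (hdK j) :=
      Subtype.ext (map_sub (Polynomial.monomial 1) (x j) ((j : A) ^ m)).symm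
    rw [← e]
    exact Ideal.sub_mem _ hjx h4
  obtain ⟨W1, ⟨hW1, hW1E⟩, -⟩ := ProperClopenGen.existsUnique_clopen I π
    (V := E ∩ C1) Set.inter_subset_left (by
      have h1 : (Subtype.val ⁻¹' (E ∩ C1) : Set E) = Subtype.val ⁻¹' C1 := by
        ext ⟨w, hw⟩; exact ⟨fun h => h.2, fun h => ⟨hw, h⟩⟩
      rw [h1]
      refine ⟨hC1.preimage continuous_subtype_val, ?_⟩
      have h2 : (Subtype.val ⁻¹' C1 : Set E) = (Subtype.val ⁻¹' C0)ᶜ := by
        ext ⟨w, hw⟩
        exact ⟨fun h => hC10 w h, fun h => (hEC w hw).resolve_right h⟩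
      rw [h2]
      exact (hC0.preimage continuous_subtype_val).isOpen_compl)
  -- the sets
  have hlift : ∀ p : PrimeSpectrum A, p ∈ (PrimeSpectrum.zeroLocus (I : Set A))ᶜ →
      ∃ i : s, (i : A) ^ m ∉ p.asIdeal := by
    intro p hp
    by_contra! hall
    exact hp (show I ≤ p.asIdeal from hIle _ fun a ha =>
      p.isPrime.mem_of_pow_mem m (hall ⟨a, ha⟩))
  let O : (PrimeSpectrum A) → Prop := fun p => ∃ w, π w = p ∧ w ∈ W1
  let D : Set (PrimeSpectrum A) := (PrimeSpectrum.zeroLocus (I : Set A))ᶜ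
  have huniq : ∀ w w' : W, π w ∈ D → π w = π w' → w = w' := by
    intro w w' hw h
    obtain ⟨i, hi⟩ := hlift _ hw
    exact RigidBlow.eq_of_notMem (ham i) hi h
  have hcl : IsClosedMap π := π.isClosedMap
  have hDimg : ∀ S : Set W, IsOpen S → IsOpen {p | p ∈ D ∧ ∃ w, π w = p ∧ w ∈ S} := by
    intro S hS
    have : {p | p ∈ D ∧ ∃ w, π w = p ∧ w ∈ S} = D ∩ (π '' Sᶜ)ᶜ := by
      ext p
      constructor
      · rintro ⟨hp, w, rfl, hw⟩
        refine ⟨hp, ?_⟩
        rintro ⟨w', hw', h⟩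
        exact hw' (huniq w w' hp h.symm ▸ hw)
      · rintro ⟨hp, hn⟩
        obtain ⟨i, hi⟩ := hlift p hp
        obtain ⟨w, hw⟩ := RigidBlow.exists_of_notMem (ham i) p hi
        exact ⟨hp, w, hw, by_contra fun h => hn ⟨w, h, hw⟩⟩
    rw [this]
    exact (PrimeSpectrum.isClosed_zeroLocus _).isOpen_compl.inter
      (hcl _ hS.isClosed_compl).isOpen_compl
  refine ⟨{p | p ∈ D ∧ ∃ w, π w = p ∧ w ∈ W1}, {p | p ∈ D ∧ ∃ w, π w = p ∧ w ∈ W1ᶜ},
    hDimg _ hW1.2, hDimg _ hW1.1.isOpen_compl, Set.disjoint_left.2 ?_, ?_, ?_⟩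
  · rintro p ⟨hp, w, rfl, hw⟩ ⟨-, w', hw', hw''⟩
    exact hw'' (huniq w w' hp hw'.symm ▸ hw)
  · ext p
    constructor
    · rintro (⟨hp, -⟩ | ⟨hp, -⟩) <;> exact hp
    · intro hp
      obtain ⟨i, hi⟩ := hlift p hp
      obtain ⟨w, hw⟩ := RigidBlow.exists_of_notMem (ham i) p hi
      by_cases h : w ∈ W1
      exacts [Or.inl ⟨hp, w, hw, h⟩, Or.inr ⟨hp, w, hw, h⟩]
  -- comparison at a point of the completion
  intro P hP
  obtain ⟨M, hPM, hIM⟩ := exists_maximal_above (jac_completion hIfg) P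
  let sh : Finset (AdicCompletion I A) := s.image ψ
  have hsh : Ideal.span (sh : Set (AdicCompletion I A)) = I.map ψ := by
    rw [Finset.coe_image, ← Ideal.map_span]
    exact congrArg (Ideal.map ψ) hs
  obtain ⟨V, i1, i2, i3, φ, b, hb, hb0, hdvd, hpk, hmax, hsep⟩ :=
    RigidAdic.exists_adic_point (AdicCompletion I A) sh P.asIdeal M.asIdeal hPM (hsh.le.trans hIM)
      (fun h => hP (Ideal.map_le_iff_le_comap.1 (hsh.ge.trans h)))
  obtain ⟨a, has, rfl⟩ := Finset.mem_image.1 hb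
  let i : s := ⟨a, has⟩
  -- the generisation
  let P' : PrimeSpectrum (AdicCompletion I A) := ⟨RingHom.ker φ, RingHom.ker_isPrime φ⟩
  have hP' : ψ (i : A) ∉ P'.asIdeal := hb0
  have hp'D : PrimeSpectrum.comap ψ P' ∈ D := hnot i P' hP'
  have hpD : PrimeSpectrum.comap ψ P ∈ D := hP
  -- the map from the chart
  let φA : A →+* V := φ.comp ψ
  have hφI : ∀ y ∈ I, φA a ∣ φA y := fun y hy => hdvd _ (hsh.ge (Ideal.mem_map_of_mem ψ hy))
  have hφIN : ∀ n, ∀ y ∈ I ^ n, φA a ^ n ∣ φA y := by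
    intro n y hy
    have : (I ^ n).map φA ≤ Ideal.span {φA a ^ n} := by
      rw [Ideal.map_pow, ← Ideal.span_singleton_pow]
      refine Ideal.pow_right_mono ?_ n
      rw [Ideal.map_le_iff_le_comap]
      exact fun b hb => Ideal.mem_span_singleton.2 (hφI b hb)
    exact Ideal.mem_span_singleton.1 (this (Ideal.mem_map_of_mem φA hy))
  have hε : ∀ j : s, ∃ ε : V, (ε = 0 ∨ ε = 1) ∧ φ (g j) = φA j ^ m * ε := by
    intro j
    have h := congrArg φ (hgg j)
    simp only [map_mul, map_pow] at h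
    by_cases h0 : φ (g j) = 0
    · exact ⟨0, Or.inl rfl, by rw [h0, mul_zero]⟩
    · exact ⟨1, Or.inr rfl, by rw [mul_one]; exact mul_right_cancel₀ h0 h⟩
  have hxg : ∀ j : s, φA a ^ N ∣ φA (x j) - φ (g j) := by
    intro j
    have h1 : algebraMap A _ (x j) - g j ∈ (I ^ N).map ψ := (RigidAdic.mem_map_pow_iff hIfg N _).2
      (by rw [map_sub, AlgHom.commutes, Ideal.Quotient.algebraMap_eq, hx, sub_self])
    have h2 : ((I ^ N).map ψ).map φ ≤ Ideal.span {φA a ^ N} := by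
      rw [Ideal.map_map, Ideal.map_le_iff_le_comap]
      exact fun y hy => Ideal.mem_span_singleton.2 (hφIN N y hy)
    have h3 := Ideal.mem_span_singleton.1 (h2 (Ideal.mem_map_of_mem φ h1))
    rwa [map_sub] at h3
  have haV : φA a ≠ 0 := hb0
  have hamV : φA (i : A) ^ m ∈ nonZeroDivisors V := mem_nonZeroDivisors_of_ne_zero (pow_ne_zero _ haV)
  obtain ⟨χ, hχ⟩ : ∃ χ : Chart K ((i : A) ^ m) →+* V,
      χ.comp (algebraMap A (Chart K ((i : A) ^ m))) = φA := by
    refine exists_lift K ((i : A) ^ m) φA (by rw [map_pow]; exact hamV) ?_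
    rw [map_pow, Ideal.map_span, Ideal.span_le]
    rintro _ ⟨y, hy, rfl⟩
    rw [SetLike.mem_coe, Ideal.mem_span_singleton]
    rcases hy with ⟨j, rfl⟩ | ⟨j, rfl⟩
    · rw [map_pow]; exact pow_dvd_pow_of_dvd (hφI _ (haI j)) m
    · obtain ⟨ε, -, hε'⟩ := hε j
      have h1 : φA a ^ m ∣ φ (g j) := by
        rw [hε']
        exact (pow_dvd_pow_of_dvd (hφI _ (haI j)) m).mul_right ε
      have h2 : φA a ^ m ∣ φA (x j) - φ (g j) := (pow_dvd_pow _ (by omega)).trans (hxg j)
      have := dvd_add h2 h1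
      rwa [sub_add_cancel] at this
  let q0 : PrimeSpectrum (Chart K ((i : A) ^ m)) := ⟨RingHom.ker χ, RingHom.ker_isPrime χ⟩
  let q1 : PrimeSpectrum (Chart K ((i : A) ^ m)) := PrimeSpectrum.comap χ (IsLocalRing.closedPoint V)
  let w0 : W := chart K (ham i) q0
  let w1 : W := chart K (ham i) q1
  have hspec : w0 ⤳ w1 := by
    refine Specializes.map ?_ (chart K (ham i)).continuous
    refine (PrimeSpectrum.le_iff_specializes q0 q1).1 ?_
    show RingHom.ker χ ≤ (maximalIdeal V).comap χ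
    exact Ideal.comap_mono bot_le
  have hπw0 : π w0 = PrimeSpectrum.comap ψ P' := by
    rw [RigidBlow.π_chart]
    refine PrimeSpectrum.ext ?_
    show (RingHom.ker χ).comap _ = (RingHom.ker φ).comap ψ
    rw [RingHom.comap_ker, RingHom.comap_ker, hχ]
  have hπw1 : w1 ∈ E := by
    show I ≤ (π w1).asIdeal
    rw [RigidBlow.π_chart]
    show I ≤ ((maximalIdeal V).comap χ).comap _
    rw [Ideal.comap_comap, hχ]
    show I ≤ (maximalIdeal V).comap (φ.comp ψ)
    rw [← Ideal.comap_comap, hmax]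
    exact Ideal.map_le_iff_le_comap.1 hIM
  obtain ⟨ε, hε01, hε'⟩ := hε i
  -- membership of the closed point
  have hz : ∀ (y : A) (hy : y ∈ K), gen K hy ∈ w1.asHomogeneousIdeal ↔
      χ (div K _ hy) ∈ maximalIdeal V := fun y hy => RigidBlow.gen_mem_chart (ham i) hy q1
  have hmul : ∀ (y : A) (hy : y ∈ K), φA (i : A) ^ m * χ (div K _ hy) = φA y := by
    intro y hy
    have h := congrArg χ (algebraMap_mul_div K ((i : A) ^ m) hy)
    rw [map_mul, ← RingHom.comp_apply, ← RingHom.comp_apply, hχ, map_pow] at h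
    exact h
  have hxz : χ (div K _ (hxK i)) - ε ∈ maximalIdeal V := by
    have hdiv : φA a ∣ χ (div K _ (hxK i)) - ε := by
      obtain ⟨c, hc⟩ := (pow_dvd_pow (φA a) (show m + 1 ≤ N by omega)).trans (hxg i)
      refine ⟨c, mul_left_cancel₀ (pow_ne_zero m haV) ?_⟩
      rw [mul_sub, hmul, ← hε', hc, pow_succ, mul_assoc]
    have hamax : φA a ∈ maximalIdeal V := by
      show a ∈ (maximalIdeal V).comap (φ.comp ψ)
      rw [← Ideal.comap_comap, hmax]
      exact Ideal.map_le_iff_le_comap.1 hIM (haI i)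
    exact Ideal.mem_of_dvd _ hdiv hamax
  have hw1C : w1 ∈ C1 ↔ ε = 1 := by
    rcases hε01 with rfl | rfl
    · refine iff_of_false (fun h => ?_) zero_ne_one
      rw [sub_zero] at hxz
      have h2 : χ (div K _ (hdK i)) ∈ maximalIdeal V := (hz _ (hdK i)).1 (h i)
      have h3 : χ (div K _ (hdK i)) = χ (div K _ (hxK i)) - 1 := by
        refine mul_left_cancel₀ (pow_ne_zero m haV) ?_
        rw [mul_sub, hmul, hmul, map_sub, map_pow, mul_one]
      rw [h3] at h2
      have := Ideal.sub_mem _ hxz h2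
      rw [sub_sub_cancel] at this
      exact (maximalIdeal.isMaximal V).ne_top ((Ideal.eq_top_iff_one _).2 this)
    · refine iff_of_true ((hEC w1 hπw1).resolve_right fun h => ?_) rfl
      have h2 : χ (div K _ (hxK i)) ∈ maximalIdeal V := (hz _ (hxK i)).1 (h i)
      have := Ideal.sub_mem _ h2 hxz
      rw [sub_sub_cancel] at this
      exact (maximalIdeal.isMaximal V).ne_top ((Ideal.eq_top_iff_one _).2 this)
  have hgP' : P' ∈ G ↔ ε = 1 := by
    rw [hgG i P' hP']
    show ¬ φ (g i) = 0 ↔ _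
    rw [hε']
    rcases hε01 with rfl | rfl
    · simp
    · simp only [mul_one, iff_true]
      exact pow_ne_zero m haV
  have hPP' : P ⤳ P' := (PrimeSpectrum.le_iff_specializes P P').1 hpk
  have hGP : P ∈ G ↔ P' ∈ G := by
    refine ⟨fun h => ?_, fun h => hPP'.mem_open hG h⟩
    rcases hcov P' hp'D with h' | h'
    · exact h'
    · exact absurd (hPP'.mem_open hG' h') (hdisj P hP h)
  rw [hGP, hgP', ← hw1C]
  obtain ⟨j, hj⟩ := hlift _ hpD
  obtain ⟨w, hw⟩ := RigidBlow.exists_of_notMem (ham j) _ hj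
  have hw01 : w0 ∈ W1 ↔ w1 ∈ W1 :=
    ⟨fun h => hspec.mem_closed hW1.1 h, fun h => hspec.mem_open hW1.2 h⟩
  have hww0 : π w ⤳ π w0 := by
    rw [hπw0, hw]
    exact hPP'.map (PrimeSpectrum.continuous_comap ψ)
  have hw0 : w ∈ W1 ↔ w0 ∈ W1 := by
    constructor
    · intro h
      by_contra hc
      have hmem : π w0 ∈ {p | p ∈ D ∧ ∃ w, π w = p ∧ w ∈ W1ᶜ} :=
        ⟨hπw0 ▸ hp'D, w0, rfl, hc⟩
      obtain ⟨-, w', hw', hw''⟩ := hww0.mem_open (hDimg _ hW1.1.isOpen_compl) hmem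
      exact hw'' (huniq w w' (hw ▸ hpD) hw'.symm ▸ h)
    · intro h
      have hmem : π w0 ∈ {p | p ∈ D ∧ ∃ w, π w = p ∧ w ∈ W1} := ⟨hπw0 ▸ hp'D, w0, rfl, h⟩
      obtain ⟨-, w', hw', hw''⟩ := hww0.mem_open (hDimg _ hW1.2) hmem
      exact huniq w' w (hw' ▸ (hw ▸ hpD)) hw' ▸ hw''
  have hW1C : w1 ∈ W1 ↔ w1 ∈ C1 :=
    ⟨fun h => (hW1E.le ⟨h, hπw1⟩).2, fun h => (hW1E.ge ⟨hπw1, h⟩).1⟩
  rw [← hW1C, ← hw01, ← hw0]
  exact ⟨fun h => ⟨hpD, w, hw, h⟩, fun ⟨_, w', hw', h⟩ =>
    huniq w' w (hw' ▸ hpD) (hw'.trans hw.symm) ▸ h⟩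

/-- Gabber rigidity for clopen subsets: existence. -/
theorem exists_clopen [HenselianRing A I] (hI : I.FG) {U : Set (PrimeSpectrum A)} (hU : IsOpen U)
    (hUI : ∀ x : PrimeSpectrum A, x ∉ U → I ≤ x.asIdeal)
    {G G' : Set (PrimeSpectrum (AdicCompletion I A))} (hG : IsOpen G) (hG' : IsOpen G')
    (hGG' : Disjoint G G')
    (hcov : G ∪ G' = PrimeSpectrum.comap (algebraMap A (AdicCompletion I A)) ⁻¹' U) :
    ∃ V V' : Set (PrimeSpectrum A), IsOpen V ∧ IsOpen V' ∧ Disjoint V V' ∧ V ∪ V' = U ∧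
      PrimeSpectrum.comap (algebraMap A (AdicCompletion I A)) ⁻¹' V = G := by
  set ψ := algebraMap A (AdicCompletion I A)
  set c := PrimeSpectrum.comap ψ
  have hsub : ∀ P, ¬ I ≤ (c P).asIdeal → P ∈ G ∨ P ∈ G' := fun P hP =>
    hcov.ge (show c P ∈ U from by_contra fun h => hP (hUI _ h))
  obtain ⟨V₁, V₁', hV₁, hV₁', hd₁, hc₁, hiff⟩ := exists_clopen_compl hI hG hG' hsub
    (fun P _ h h' => Set.disjoint_left.1 hGG' h h')
  choose Q hQ using fun x : {x : PrimeSpectrum A // I ≤ x.asIdeal} =>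
    RigidAdic.exists_lift_closed x.1 x.2
  -- the two candidate sets
  let S : Set (PrimeSpectrum (AdicCompletion I A)) → Set (PrimeSpectrum A) → Set (PrimeSpectrum A) :=
    fun H W => W ∪ {x | x ∈ U ∧ ∃ h : I ≤ x.asIdeal, Q ⟨x, h⟩ ∈ H}
  have hopen : ∀ (H H' : Set (PrimeSpectrum (AdicCompletion I A))) (W W' : Set (PrimeSpectrum A)),
      IsOpen H → IsOpen H' → Disjoint H H' → H ∪ H' = c ⁻¹' U → IsOpen W → IsOpen W' →
      W ∪ W' = (PrimeSpectrum.zeroLocus (I : Set A))ᶜ → Disjoint W W' →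
      (∀ P, ¬ I ≤ (c P).asIdeal → (P ∈ H ↔ c P ∈ W)) → IsOpen (S H W) := by
    intro H H' W W' hH hH' hHH' hHc hW hW' hWc hWd hHW
    rw [isOpen_iff_mem_nhds]
    rintro x (hxW | ⟨hxU, hxI, hxH⟩)
    · exact Filter.mem_of_superset (hW.mem_nhds hxW) Set.subset_union_left
    -- `x` is not in the closure of `W'`
    have hnotcl : x ∉ closure W' := by
      intro hcl
      obtain ⟨p, hpW', hpx⟩ : ∃ p ∈ W', p ⤳ x := by
        have hWcomp : IsCompact W' := by
          have hD : IsCompact ((PrimeSpectrum.zeroLocus (I : Set A))ᶜ) := by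
            obtain ⟨t, rfl⟩ := hI
            exact ((PrimeSpectrum.isCompact_isOpen_iff_ideal).2 ⟨Ideal.span (t : Set A), ⟨t, rfl⟩,
              rfl⟩).1
          have : W' = (PrimeSpectrum.zeroLocus (I : Set A))ᶜ ∩ Wᶜ := by
            rw [← hWc]; ext y
            exact ⟨fun h => ⟨Or.inr h, fun hy => Set.disjoint_left.1 hWd hy h⟩,
              fun ⟨h, hy⟩ => h.resolve_left hy⟩
          rw [this]
          exact hD.inter_right hW.isClosed_compl
        exact exists_specializes_of_mem_closure hW' hWcomp hcl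
      have hIp : ¬ I ≤ p.asIdeal := fun h => (hWc.le (Or.inr hpW')) h
      obtain ⟨P, hPQ, hpP, hIP⟩ := exists_le_lift hI p x ((PrimeSpectrum.le_iff_specializes p x).2 hpx)
        hxI hIp (Q ⟨x, hxI⟩) (hQ ⟨x, hxI⟩)
      have h1 : c P ∈ W' := by
        rcases hWc.ge (show c P ∈ (PrimeSpectrum.zeroLocus (I : Set A))ᶜ from hIP) with h | h
        · exact absurd (((PrimeSpectrum.le_iff_specializes p (c P)).1 hpP).mem_open hW h)
            (fun h2 => Set.disjoint_left.1 hWd h2 hpW')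
        · exact h
      have h2 : P ∈ H := ((PrimeSpectrum.le_iff_specializes P (Q ⟨x, hxI⟩)).1 hPQ).mem_open hH hxH
      exact Set.disjoint_left.1 hWd ((hHW P hIP).1 h2) h1
    -- a neighbourhood of `x` in `V(I)` inside `H`
    obtain ⟨r, hxr, hr⟩ : ∃ r : A, r ∉ x.asIdeal ∧ ∀ y : PrimeSpectrum A, r ∉ y.asIdeal →
        ∀ h : I ≤ y.asIdeal, Q ⟨y, h⟩ ∈ H := by
      obtain ⟨_, ⟨f, rfl⟩, hf, hfH⟩ :=
        PrimeSpectrum.isTopologicalBasis_basic_opens.exists_subset_of_mem_open hxH hH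
      obtain ⟨r, hr⟩ := RigidAdic.exists_sub_mem hI 1 f
      have key : ∀ (y : PrimeSpectrum A) (h : I ≤ y.asIdeal),
          (r ∈ y.asIdeal ↔ f ∈ (Q ⟨y, h⟩).asIdeal) := by
        intro y h
        have h1 : f - ψ r ∈ (Q ⟨y, h⟩).asIdeal := by
          refine Ideal.map_le_iff_le_comap.2 ?_ hr
          rw [pow_one, ← PrimeSpectrum.comap_asIdeal, hQ]
          exact h
        have h2 : r ∈ y.asIdeal ↔ ψ r ∈ (Q ⟨y, h⟩).asIdeal :=
          (SetLike.ext_iff.1 (congrArg PrimeSpectrum.asIdeal (hQ ⟨y, h⟩)) r).symm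
        rw [h2]
        constructor
        · intro h3; have := Ideal.add_mem _ h1 h3; rwa [sub_add_cancel] at this
        · intro h3; have := Ideal.sub_mem _ h3 h1; rwa [sub_sub_cancel] at this
      exact ⟨r, fun h => hf ((key x hxI).1 h), fun y hy h => hfH fun h' => hy ((key y h).2 h')⟩
    refine Filter.mem_of_superset (((hU.inter (PrimeSpectrum.basicOpen r).isOpen).inter
      isClosed_closure.isOpen_compl).mem_nhds ⟨⟨hxU, hxr⟩, hnotcl⟩) ?_
    rintro y ⟨⟨hyU, hyr⟩, hyW'⟩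
    by_cases hy : I ≤ y.asIdeal
    · exact Or.inr ⟨hyU, hy, hr y hyr hy⟩
    · rcases hWc.ge (show y ∈ (PrimeSpectrum.zeroLocus (I : Set A))ᶜ from hy) with h | h
      exacts [Or.inl h, absurd (subset_closure h) hyW']
  have hiff' : ∀ P, ¬ I ≤ (c P).asIdeal → (P ∈ G' ↔ c P ∈ V₁') := by
    intro P hP
    constructor
    · intro h
      exact (hc₁.ge (show c P ∈ (PrimeSpectrum.zeroLocus (I : Set A))ᶜ from hP)).resolve_left
        fun h' => Set.disjoint_left.1 hGG' ((hiff P hP).2 h') h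
    · intro h
      exact (hsub P hP).resolve_left fun h' => Set.disjoint_left.1 hd₁ ((hiff P hP).1 h') h
  refine ⟨S G V₁, S G' V₁', hopen G G' V₁ V₁' hG hG' hGG' hcov hV₁ hV₁' hc₁ hd₁ hiff,
    hopen G' G V₁' V₁ hG' hG hGG'.symm (by rw [Set.union_comm]; exact hcov) hV₁' hV₁
      (by rw [Set.union_comm]; exact hc₁) hd₁.symm hiff', ?_, ?_, ?_⟩
  · rw [Set.disjoint_left]
    rintro x (h | ⟨-, h, hx⟩) (h' | ⟨-, h', hx'⟩)
    · exact Set.disjoint_left.1 hd₁ h h'
    · exact hc₁.le (Or.inl h) h'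
    · exact hc₁.le (Or.inr h') h
    · exact Set.disjoint_left.1 hGG' hx hx'
  · ext x
    constructor
    · rintro ((h | ⟨hxU, -⟩) | (h | ⟨hxU, -⟩))
      · exact by_contra fun h' => hc₁.le (Or.inl h) (hUI x h')
      · exact hxU
      · exact by_contra fun h' => hc₁.le (Or.inr h) (hUI x h')
      · exact hxU
    · intro hxU
      by_cases hx : I ≤ x.asIdeal
      · rcases hcov.ge (show c (Q ⟨x, hx⟩) ∈ U from Set.mem_of_eq_of_mem (hQ ⟨x, hx⟩) hxU) with h | h
        exacts [Or.inl (Or.inr ⟨hxU, hx, h⟩), Or.inr (Or.inr ⟨hxU, hx, h⟩)]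
      · rcases hc₁.ge (show x ∈ (PrimeSpectrum.zeroLocus (I : Set A))ᶜ from hx) with h | h
        exacts [Or.inl (Or.inl h), Or.inr (Or.inl h)]
  · ext P
    by_cases hP : I ≤ (c P).asIdeal
    · have hQP : Q ⟨c P, hP⟩ = P := eq_of_comap_eq hI hP (hQ ⟨c P, hP⟩)
      constructor
      · rintro (h | ⟨-, h, hh⟩)
        · exact absurd hP (hc₁.le (Or.inl h))
        · rwa [hQP] at hh
      · intro h
        exact Or.inr ⟨hcov.le (Or.inl h), hP, by rwa [hQP]⟩
    · rw [hiff P hP]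
      exact ⟨fun h => h.resolve_right fun ⟨_, h, _⟩ => hP h, fun h => Or.inl h⟩

/-- Gabber rigidity for clopen subsets: uniqueness. -/
theorem subset_of_preimage_subset [HenselianRing A I] (hI : I.FG) {U V W : Set (PrimeSpectrum A)}
    (hUI : ∀ x : PrimeSpectrum A, x ∉ U → I ≤ x.asIdeal) (_hVU : V ⊆ U)
    (hV : IsOpen (U \ V)) (hW : IsOpen W)
    (h : PrimeSpectrum.comap (algebraMap A (AdicCompletion I A)) ⁻¹' V ⊆
      PrimeSpectrum.comap (algebraMap A (AdicCompletion I A)) ⁻¹' W) : V ⊆ W := by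
  intro p hp
  by_cases hIp : I ≤ p.asIdeal
  · obtain ⟨Q, hQ⟩ := RigidAdic.exists_lift_closed p hIp
    rw [← hQ] at hp ⊢
    exact h hp
  · obtain ⟨x, hpx, hIx⟩ := exists_maximal_above (J := I) HenselianRing.jac p
    obtain ⟨Q, hQ⟩ := RigidAdic.exists_lift_closed x hIx
    obtain ⟨P, -, hpP, hIP⟩ := exists_le_lift hI p x hpx hIx hIp Q hQ
    have hs : p ⤳ PrimeSpectrum.comap (algebraMap A (AdicCompletion I A)) P :=
      (PrimeSpectrum.le_iff_specializes _ _).1 hpP
    have hPU : PrimeSpectrum.comap (algebraMap A (AdicCompletion I A)) P ∈ U :=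
      by_contra fun h => hIP (hUI _ h)
    have hPV : PrimeSpectrum.comap (algebraMap A (AdicCompletion I A)) P ∈ V := by
      by_contra hc
      exact (hs.mem_open hV ⟨hPU, hc⟩).2 hp
    exact hs.mem_open hW (h hPV)

end Groth.Agent.Hens.RigidClopen
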