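import Groth.Agent.Hens.RigidDescent
import Groth.Agent.Hens.RigidClopen
import Groth.Agent.FEtCat.Full
import Groth.Agent.Adic.Basic
import Groth.Agent.RegLoc.AdicNoeth
import Groth.Agent.S16574

/-!
# Base change to the completion of a Noetherian henselian pair is fully faithful on finite étale covers

For a Noetherian henselian pair `(A, I)` and an open `U ⊇ Spec A ∖ V(I)` the clopen subsets of a
finite étale cover of `U` and of its base change to the preimage in `Spec Â` correspond.
-/

set_option autoImplicit false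
set_option backward.isDefEq.respectTransparency.types false
set_option linter.style.haveILetI false

universe u

open CategoryTheory CategoryTheory.Limits AlgebraicGeometry TensorProduct

noncomputable section

namespace Groth.Agent.Hens.PunctRigid

section Retraction

variable {A : Type u} [CommRing A] [IsNoetherianRing A] (I : Ideal A) (B : Type u) [CommRing B] [Algebra A B]
  [Module.Finite A B]

/-- `Â → B̂`. -/
def leftMap : AdicCompletion I A →+* AdicCompletion (I.map (algebraMap A B)) B :=
  RigidAIC.cmap (algebraMap A B) Ideal.le_comap_map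

theorem exists_retraction :
    ∃ ω : AdicCompletion (I.map (algebraMap A B)) B →+* (AdicCompletion I A ⊗[A] B),
      ω.comp (algebraMap B _) = Algebra.TensorProduct.includeRight.toRingHom ∧
      ω.comp (leftMap I B) = Algebra.TensorProduct.includeLeftRingHom := by
  have hI : I.FG := IsNoetherian.noetherian I
  have := RegLoc.AdicNoeth.isNoetherianRing_adicCompletion I hI
  have hAc := AdicCompletion.isAdicComplete_self I hI
  have hCm := Adic.isAdicComplete_of_finite (I.map (algebraMap A (AdicCompletion I A)))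
    (M := AdicCompletion I A ⊗[A] B)
  let J : Ideal (AdicCompletion I A ⊗[A] B) := I.map (algebraMap A _)
  have hC : IsAdicComplete J (AdicCompletion I A ⊗[A] B) := by
    have h := (IsAdicComplete.map_algebraMap_iff (S := AdicCompletion I A ⊗[A] B) (M := AdicCompletion I A ⊗[A] B)
      (I := I.map (algebraMap A (AdicCompletion I A)))).mpr hCm
    rwa [Ideal.map_map, ← IsScalarTower.algebraMap_eq] at h
  let g : B →+* AdicCompletion I A ⊗[A] B := Algebra.TensorProduct.includeRight.toRingHom
  have hgK : I.map (algebraMap A B) ≤ J.comap g := by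
    refine Ideal.map_le_iff_le_comap.2 fun x hx => ?_
    change g (algebraMap A B x) ∈ J
    rw [show g (algebraMap A B x) = algebraMap A _ x from
      (Algebra.TensorProduct.includeRight (R := A) (A := AdicCompletion I A) (B := B)).commutes x]
    exact Ideal.mem_map_of_mem _ hx
  let ω : AdicCompletion (I.map (algebraMap A B)) B →+* AdicCompletion I A ⊗[A] B :=
    ((AdicCompletion.ofAlgEquiv J).symm : _ →+* _).comp (RigidAIC.cmap g hgK)
  have hright : ∀ b, ω (algebraMap B _ b) = g b := fun b => by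
    change (AdicCompletion.ofAlgEquiv J).symm (RigidAIC.cmap g hgK (algebraMap B _ b)) = g b
    rw [RigidAIC.cmap_algebraMap]
    exact ((AdicCompletion.ofAlgEquiv J).symm.commutes (g b))
  refine ⟨ω, RingHom.ext hright, RingHom.ext fun x => sub_eq_zero.1 ?_⟩
  have hhom : ∀ r : A, ω (leftMap I B (algebraMap A _ r)) =
      Algebra.TensorProduct.includeLeftRingHom (algebraMap A (AdicCompletion I A) r) := fun r => by
    rw [leftMap, RigidAIC.cmap_algebraMap, hright]
    exact ((Algebra.TensorProduct.includeRight (R := A) (A := AdicCompletion I A) (B := B)).commutes r).trans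
      ((Algebra.TensorProduct.includeLeft (R := A) (S := A) (A := AdicCompletion I A) (B := B)).commutes r).symm
  let f₁ := ω.comp (leftMap I B)
  let f₂ : AdicCompletion I A →+* AdicCompletion I A ⊗[A] B := Algebra.TensorProduct.includeLeftRingHom
  refine IsHausdorff.haus hC.toIsHausdorff _ fun n => SModEq.zero.2 ?_
  rw [smul_eq_mul, Ideal.mul_top]
  obtain ⟨r, hr⟩ := RigidAdic.exists_sub_mem hI n x
  have key : ∀ f : AdicCompletion I A →+* AdicCompletion I A ⊗[A] B,
      (∀ a, f (algebraMap A _ a) = algebraMap A _ a) → f x - algebraMap A _ r ∈ J ^ n := fun f hf => by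
    rw [← hf r, ← map_sub]
    have h1 : (I ^ n).map (algebraMap A (AdicCompletion I A)) ≤ (J ^ n).comap f := by
      refine Ideal.map_le_iff_le_comap.2 fun a ha => ?_
      change f (algebraMap A _ a) ∈ J ^ n
      rw [hf, ← Ideal.map_pow]
      exact Ideal.mem_map_of_mem _ ha
    refine h1 ?_
    exact hr
  have h2 : ∀ a, f₂ (algebraMap A _ a) = algebraMap A _ a := fun a =>
    (Algebra.TensorProduct.includeLeft (R := A) (S := A) (A := AdicCompletion I A) (B := B)).commutes a
  have h1 : ∀ a, f₁ (algebraMap A _ a) = algebraMap A _ a := fun a => (hhom a).trans (h2 a)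
  have := Ideal.sub_mem _ (key f₁ h1) (key f₂ h2)
  rwa [sub_sub_sub_cancel_right] at this

end Retraction

variable {A : Type u} [CommRing A] [IsNoetherianRing A] (I : Ideal A) [HenselianRing A I]
  (U : (Spec (CommRingCat.of A)).Opens)
  (hUI : ∀ x : Spec (CommRingCat.of A), x ∉ U → I ≤ x.asIdeal)

/-- The completion morphism. -/
abbrev πc : Spec (CommRingCat.of (AdicCompletion I A)) ⟶ Spec (CommRingCat.of A) :=
  Spec.map (CommRingCat.ofHom (algebraMap A (AdicCompletion I A)))

include hUI in
theorem clopen_bijective (Y : FEt.Cat (U : Scheme.{u})) :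
    (∀ W : Set Y.left, IsClopen W → pullback.fst Y.hom (πc I ∣_ U) ⁻¹' W = ∅ → W = ∅) ∧
    ∀ W' : Set (pullback Y.hom (πc I ∣_ U) : Scheme.{u}), IsClopen W' →
      ∃ W : Set Y.left, IsClopen W ∧ pullback.fst Y.hom (πc I ∣_ U) ⁻¹' W = W' := by
  have : IsFinite Y.hom := Y.prop.1
  obtain ⟨B, _, _, i, _, hsq⟩ := S16574.result A U (TopologicalSpace.NoetherianSpace.isCompact _) Y.left Y.hom
  have hIfg : I.FG := IsNoetherian.noetherian I
  set K := I.map (algebraMap A B) with hK
  have : HenselianRing B K := RigidLabel.henselianRing_integral B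
  let qB := Spec.map (CommRingCat.ofHom (algebraMap A B))
  have hiO : IsOpenImmersion i := MorphismProperty.of_isPullback (P := @IsOpenImmersion) hsq.flip inferInstance
  have hrange : ∀ P : PrimeSpectrum B, P ∈ Set.range i ↔ qB P ∈ U := fun P => by
    constructor
    · rintro ⟨y, rfl⟩
      change (i ≫ qB) y ∈ U
      rw [hsq.w]
      exact (Y.hom y).2
    · intro h
      obtain ⟨z, hz, -⟩ := Scheme.Pullback.exists_preimage_pullback (f := qB) (g := U.ι) P ⟨qB P, h⟩ rfl
      refine ⟨hsq.isoPullback.inv z, ?_⟩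
      rw [← hz, ← hsq.isoPullback_inv_fst]
      rfl
      
  have hUB : ∀ P : PrimeSpectrum B, P ∉ Set.range i → K ≤ P.asIdeal := fun P hP =>
    Ideal.map_le_iff_le_comap.2 (hUI (qB P) fun h => hP ((hrange P).2 h))
  let β : Spec (CommRingCat.of (AdicCompletion K B)) ⟶ Spec (CommRingCat.of B) :=
    Spec.map (CommRingCat.ofHom (algebraMap B (AdicCompletion K B)))
  let lm : Spec (CommRingCat.of (AdicCompletion K B)) ⟶ Spec (CommRingCat.of (AdicCompletion I A)) :=
    Spec.map (CommRingCat.ofHom (leftMap I B))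
  have hlm : lm ≫ πc I = β ≫ qB := by
    rw [← Spec.map_comp, ← Spec.map_comp, ← CommRingCat.ofHom_comp, ← CommRingCat.ofHom_comp]
    congr 2
  let T : (Spec (CommRingCat.of (AdicCompletion K B))).Opens := β ⁻¹ᵁ i.opensRange
  let a : (T : Scheme.{u}) ⟶ Y.left := IsOpenImmersion.lift i (T.ι ≫ β) (by
    rintro _ ⟨t, rfl⟩; exact t.2)
  have ha : a ≫ i = T.ι ≫ β := IsOpenImmersion.lift_fac _ _ _
  let b : (T : Scheme.{u}) ⟶ (πc I ⁻¹ᵁ U : Scheme.{u}) := IsOpenImmersion.lift (πc I ⁻¹ᵁ U).ι (T.ι ≫ lm) (by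
    rintro _ ⟨t, rfl⟩
    rw [Scheme.Opens.range_ι]
    change (lm ≫ πc I) (T.ι t) ∈ U
    rw [hlm]
    exact (hrange _).1 t.2)
  have hb : b ≫ (πc I ⁻¹ᵁ U).ι = T.ι ≫ lm := IsOpenImmersion.lift_fac _ _ _
  have hab : a ≫ Y.hom = b ≫ πc I ∣_ U := by
    rw [← cancel_mono U.ι, Category.assoc, Category.assoc, morphismRestrict_ι, ← hsq.w, reassoc_of% ha,
      reassoc_of% hb, hlm]
  let j : (T : Scheme.{u}) ⟶ pullback Y.hom (πc I ∣_ U) := pullback.lift a b hab
  constructor
  · intro W hW hempty
    refine Set.eq_empty_of_forall_notMem fun y hy => ?_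
    have hV : IsOpen (Set.range i \ i '' W) := by
      rw [← Set.image_univ, ← Set.image_sdiff i.isOpenEmbedding.injective]
      exact i.isOpenEmbedding.isOpenMap _ (isOpen_univ.sdiff hW.1)
    refine RigidClopen.subset_of_preimage_subset (hIfg.map _) hUB (Set.image_subset_range _ _) hV isOpen_empty
      (fun P hP => ?_) ⟨y, hy, rfl⟩
    obtain ⟨w, hw, hwP⟩ := hP
    have hPT : P ∈ T := ⟨w, hwP⟩
    have h1 : i (a ⟨P, hPT⟩) = i w := by
      rw [hwP]
      exact congr($ha ⟨P, hPT⟩)
    have h2 : pullback.fst Y.hom (πc I ∣_ U) (j ⟨P, hPT⟩) = w :=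
      i.isOpenEmbedding.injective (by
        rw [← h1]
        exact congrArg i (congr($(pullback.lift_fst a b hab) ⟨P, hPT⟩)))
    exact (hempty.le (show j ⟨P, hPT⟩ ∈ pullback.fst Y.hom (πc I ∣_ U) ⁻¹' W by rw [Set.mem_preimage, h2]; exact hw)).elim
  · intro W' hW'
    obtain ⟨ω, hω1, hω2⟩ := exists_retraction I B
    let Yh := pullback Y.hom (πc I ∣_ U)
    let e : Yh ⟶ Spec (CommRingCat.of (AdicCompletion I A ⊗[A] B)) :=
      pullback.lift (f := πc I) (g := qB) (pullback.snd _ _ ≫ (πc I ⁻¹ᵁ U).ι) (pullback.fst _ _ ≫ i) (by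
        rw [Category.assoc, Category.assoc, hsq.w, ← morphismRestrict_ι, ← reassoc_of% pullback.condition]) ≫
        (pullbackSpecIso A (AdicCompletion I A) B).hom
    have heL : e ≫ Spec.map (CommRingCat.ofHom Algebra.TensorProduct.includeLeftRingHom) =
        pullback.snd _ _ ≫ (πc I ⁻¹ᵁ U).ι := by
      simp only [e, Category.assoc, pullbackSpecIso_hom_fst]
      exact pullback.lift_fst _ _ _
    have heR : e ≫ Spec.map (CommRingCat.ofHom Algebra.TensorProduct.includeRight.toRingHom) =
        pullback.fst _ _ ≫ i := by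
      simp only [e, Category.assoc, AlgHom.toRingHom_eq_coe, pullbackSpecIso_hom_snd]
      exact pullback.lift_snd _ _ _
    let ρ : Yh ⟶ Spec (CommRingCat.of (AdicCompletion K B)) := e ≫ Spec.map (CommRingCat.ofHom ω)
    have hρβ : ρ ≫ β = pullback.fst _ _ ≫ i := by
      rw [Category.assoc, ← Spec.map_comp, ← CommRingCat.ofHom_comp, hω1, heR]
    have hρl : ρ ≫ lm = pullback.snd _ _ ≫ (πc I ⁻¹ᵁ U).ι := by
      rw [Category.assoc, ← Spec.map_comp, ← CommRingCat.ofHom_comp, hω2, heL]
    let ρ' : Yh ⟶ (T : Scheme.{u}) := IsOpenImmersion.lift T.ι ρ (by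
      rintro _ ⟨z, rfl⟩
      rw [Scheme.Opens.range_ι]
      exact ⟨pullback.fst Y.hom (πc I ∣_ U) z, (congr($hρβ z)).symm⟩)
    have hρ' : ρ' ≫ T.ι = ρ := IsOpenImmersion.lift_fac _ _ _
    have hsplit : ρ' ≫ j = 𝟙 Yh := by
      apply pullback.hom_ext
      · rw [Category.assoc, pullback.lift_fst, Category.id_comp, ← cancel_mono i, Category.assoc, ha,
          reassoc_of% hρ', hρβ]
      · rw [Category.assoc, pullback.lift_snd, Category.id_comp, ← cancel_mono (πc I ⁻¹ᵁ U).ι, Category.assoc,
          hb, reassoc_of% hρ', hρl]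
    have hcl := hW'.preimage j.continuous
    obtain ⟨V, V', hV, hV', hVV', hVU, hVG⟩ := RigidClopen.exists_clopen (I := K) (hIfg.map _)
      i.isOpenEmbedding.isOpen_range hUB
      (T.ι.isOpenEmbedding.isOpenMap _ hcl.2) (T.ι.isOpenEmbedding.isOpenMap _ hcl.1.isOpen_compl)
      ((Set.disjoint_image_iff T.ι.isOpenEmbedding.injective).2 disjoint_compl_right)
      ((Set.image_union _ _ _).symm.trans ((congrArg (T.ι '' ·) (Set.union_compl_self _)).trans
        (Set.image_univ.trans T.range_ι)))
    refine ⟨i ⁻¹' V, ⟨?_, hV.preimage i.continuous⟩, Set.ext fun z => ?_⟩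
    · have e1 : (i ⁻¹' V)ᶜ = i ⁻¹' V' := Set.ext fun y =>
        ⟨fun h => (hVU.ge ⟨y, rfl⟩).resolve_left h, fun h h' => Set.disjoint_left.1 hVV' h' h⟩
      exact ⟨e1 ▸ hV'.preimage i.continuous⟩
    · have hz : j (ρ' z) = z := congr($hsplit z)
      have h1 : β (ρ z) ∈ V ↔ ρ z ∈ T.ι '' (j ⁻¹' W') := Set.ext_iff.1 hVG (ρ z)
      rw [Set.mem_preimage, Set.mem_preimage, show i (pullback.fst Y.hom (πc I ∣_ U) z) = β (ρ z) from (congr($hρβ z)).symm,
        ]
      refine h1.trans ?_
      rw [show ρ z = T.ι (ρ' z) from (congr($hρ' z)).symm, T.ι.isOpenEmbedding.injective.mem_set_image,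
        Set.mem_preimage, hz]

include hUI in
/-- Base change to the completion is fully faithful on finite étale covers. -/
theorem full_faithful :
    (FEt.restrict (πc I ∣_ U)).Full ∧ (FEt.restrict (πc I ∣_ U)).Faithful :=
  FEtCat.Full.full_faithful _ (fun Y W hW h => (clopen_bijective I U hUI Y).1 W hW h)
    (fun Y W' hW' => (clopen_bijective I U hUI Y).2 W' hW')

end Groth.Agent.Hens.PunctRigid
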