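import Groth.Agent.Hens.PunctDescentAlg
import Groth.Agent.Hens.PunctRigid
import Groth.Agent.Hens.Local
import Groth.Agent.Hensel.EtLike
import Groth.Agent.Hensel.Completion
import Groth.Agent.Hensel.FormallyCatenary
import Groth.Agent.S16574
import Groth.Prelude.Def_Pi1

/-!
# Descending full faithfulness on punctured spectra from the completion
-/

set_option autoImplicit false
set_option linter.style.haveILetI false
set_option backward.isDefEq.respectTransparency.types false

universe u

open CategoryTheory CategoryTheory.Limits AlgebraicGeometry IsLocalRing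
open scoped TensorProduct

noncomputable section

namespace Groth.Agent.Hens.PunctDescent

section Converse

variable {X X' : Scheme.{u}} (g : X' ⟶ X)

/-- Full faithfulness gives the clopen properties. -/
theorem clopen_of_full_faithful (h : (FEt.restrict g).Full ∧ (FEt.restrict g).Faithful) :
    FEtCat.Full.ClopenInj g ∧ FEtCat.Full.ClopenSurj g := by
  obtain ⟨hfull, hfaith⟩ := h
  constructor
  · intro T C hC hdis
    let Sb : FEt.Cat X := FEtCat.Basic.sub T ⟨C, hC.2⟩ hC.1
    let ι : Sb ⟶ T := FEtCat.Basic.subι T ⟨C, hC.2⟩ hC.1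
    let a : Sb ⟶ FEtCat.Basic.coprodObj T T := ι ≫ (FEtCat.Basic.coprodCofan T T).inl
    let b : Sb ⟶ FEtCat.Basic.coprodObj T T := ι ≫ (FEtCat.Basic.coprodCofan T T).inr
    have hemp : IsEmpty ((FEt.restrict g).obj Sb).left := by
      refine ⟨fun z => ?_⟩
      let z' : (pullback Sb.hom g : Scheme.{u}) := z
      let v : pullback Sb.hom g ⟶ pullback T.hom g :=
        pullback.lift (pullback.fst Sb.hom g ≫ ι.left) (pullback.snd Sb.hom g) (by
          rw [Category.assoc, MorphismProperty.Over.w ι, pullback.condition])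
      refine Set.notMem_empty (v z') (hdis.le ?_)
      change (v ≫ pullback.fst T.hom g) z' ∈ C
      rw [pullback.lift_fst]
      exact (show (⟨C, hC.2⟩ : T.left.Opens) from pullback.fst Sb.hom g z').2
    have heq : a = b := (FEt.restrict g).map_injective (FEtCat.Basic.hom_ext
      ((isInitialOfIsEmpty (X := _)).hom_ext _ _))
    refine Set.eq_empty_iff_forall_notMem.2 fun x hx => ?_
    have e := congrArg (fun q => q.left.base (⟨x, hx⟩ : (⟨C, hC.2⟩ : T.left.Opens))) heq
    exact (Set.disjoint_iff_forall_ne.mp (isCompl_range_inl_inr T.left T.left).disjoint)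
      ⟨_, rfl⟩ ⟨_, rfl⟩ e
  · intro T D hD
    let P : Scheme.{u} := pullback T.hom g
    let p : P ⟶ T.left := pullback.fst T.hom g
    let A : P.Opens := ⟨D, hD.2⟩
    let B : P.Opens := ⟨Dᶜ, hD.compl.2⟩
    have hAB : IsCompl A.ι.opensRange B.ι.opensRange := by
      rw [Scheme.Opens.opensRange_ι, Scheme.Opens.opensRange_ι]
      exact ⟨disjoint_iff.2 (TopologicalSpace.Opens.ext (Set.inter_compl_self D)),
        codisjoint_iff.2 (TopologicalSpace.Opens.ext (Set.union_compl_self D))⟩
    obtain ⟨hc⟩ := nonempty_isColimit_binaryCofanMk_of_isCompl A.ι B.ι hAB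
    let a : P ⟶ (FEtCat.Basic.coprodObj T T).left := BinaryCofan.IsColimit.desc hc
      (A.ι ≫ p ≫ (coprod.inl : T.left ⟶ T.left ⨿ T.left)) (B.ι ≫ p ≫ coprod.inr)
    have haA : A.ι ≫ a = A.ι ≫ p ≫ coprod.inl := BinaryCofan.IsColimit.inl_desc hc _ _
    have haB : B.ι ≫ a = B.ι ≫ p ≫ coprod.inr := BinaryCofan.IsColimit.inr_desc hc _ _
    have haY : a ≫ (FEtCat.Basic.coprodObj T T).hom = pullback.snd T.hom g ≫ g := by
      rw [← pullback.condition]
      refine BinaryCofan.IsColimit.hom_ext hc ?_ ?_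
      · change A.ι ≫ a ≫ coprod.desc T.hom T.hom = A.ι ≫ p ≫ T.hom
        exact (Category.assoc _ _ _).symm.trans ((congrArg (· ≫ coprod.desc T.hom T.hom) haA).trans ((Category.assoc _ _ _).trans (congrArg (A.ι ≫ ·) ((Category.assoc _ _ _).trans (congrArg (p ≫ ·) (coprod.inl_desc _ _))))))
      · change B.ι ≫ a ≫ coprod.desc T.hom T.hom = B.ι ≫ p ≫ T.hom
        exact (Category.assoc _ _ _).symm.trans ((congrArg (· ≫ coprod.desc T.hom T.hom) haB).trans ((Category.assoc _ _ _).trans (congrArg (B.ι ≫ ·) ((Category.assoc _ _ _).trans (congrArg (p ≫ ·) (coprod.inr_desc _ _))))))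
    let ψ : (FEt.restrict g).obj T ⟶ (FEt.restrict g).obj (FEtCat.Basic.coprodObj T T) :=
      FEtCat.Basic.homMk (pullback.lift a (pullback.snd T.hom g) haY) (pullback.lift_snd _ _ _)
    obtain ⟨φ, hφ⟩ := (FEt.restrict g).map_surjective ψ
    have key : p ≫ φ.left = a := by
      have h1 := congrArg (fun q => q.left ≫ pullback.fst (FEtCat.Basic.coprodObj T T).hom g) hφ
      simp [FEt.restrict] at h1
      refine Eq.trans ?_ (h1.trans (pullback.lift_fst _ _ _))
      exact (pullback.lift_fst _ _ _).symm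
    let f : T.left ⟶ T.left ⨿ T.left := φ.left
    let C : Set T.left := f.base ⁻¹' Set.range (coprod.inl : T.left ⟶ T.left ⨿ T.left)
    have hC : IsClopen C := by
      refine IsClopen.preimage ?_ f.continuous
      refine ⟨?_, (coprod.inl : T.left ⟶ T.left ⨿ T.left).isOpenEmbedding.isOpen_range⟩
      rw [← (isCompl_range_inl_inr T.left T.left).symm.compl_eq]
      exact (coprod.inr : T.left ⟶ T.left ⨿ T.left).isOpenEmbedding.isOpen_range.isClosed_compl
    refine ⟨C, hC, Set.ext fun z => ?_⟩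
    have hz : f.base (p.base z) = a.base z := by rw [← key]; rfl
    refine Iff.trans (b := f.base (p.base z) ∈ Set.range (coprod.inl : T.left ⟶ T.left ⨿ T.left)) Iff.rfl ?_
    rw [hz]
    by_cases hzD : z ∈ D
    · exact iff_of_true ⟨_, (congrArg (fun q => q.base (⟨z, hzD⟩ : A)) haA).symm⟩ hzD
    · refine iff_of_false ?_ hzD
      rintro ⟨w, hw⟩
      exact (Set.disjoint_iff_forall_ne.mp (isCompl_range_inl_inr T.left T.left).disjoint)
        ⟨w, rfl⟩ ⟨_, rfl⟩ (hw.trans (congrArg (fun q => q.base (⟨z, hzD⟩ : B)) haB))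

end Converse

variable (A : Type u) [CommRing A] [IsNoetherianRing A] [IsLocalRing A]

/-- `Spec Â → Spec A`. -/
abbrev πA : Spec (CommRingCat.of (AdicCompletion (maximalIdeal A) A)) ⟶ Spec (CommRingCat.of A) :=
  Spec.map (CommRingCat.ofHom (algebraMap A (AdicCompletion (maximalIdeal A) A)))

/-- `Spec A^h → Spec A`. -/
abbrev πH : Spec (CommRingCat.of (Henselization A)) ⟶ Spec (CommRingCat.of A) :=
  Spec.map (CommRingCat.ofHom (algebraMap A (Henselization A)))

/-- `U' → U`. -/
abbrev π₁ : pullback (FEt.puncturedSpec A).ι (πA A) ⟶ (FEt.puncturedSpec A : Scheme.{u}) := pullback.fst _ _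

theorem surjective_πA : Surjective (πA A) := by
  have : Module.Flat A (AdicCompletion (maximalIdeal A) A) := AdicCompletion.flat_of_isNoetherian _
  have : Module.FaithfullyFlat A (AdicCompletion (maximalIdeal A) A) := Module.FaithfullyFlat.of_flat_of_isLocalHom
  exact ⟨PrimeSpectrum.comap_surjective_of_faithfullyFlat⟩

variable (f : A)

/-- `U₀ → U`. -/
abbrev q₀ : pullback (FEt.puncturedSpec A).ι (Spec.map (CommRingCat.ofHom (Ideal.Quotient.mk (Ideal.span {f})))) ⟶
    (FEt.puncturedSpec A : Scheme.{u}) := pullback.fst _ _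

omit [IsNoetherianRing A] in
theorem isClosedImmersion_q₀ : IsClosedImmersion (q₀ A f) := by
  have : IsClosedImmersion (Spec.map (CommRingCat.ofHom (Ideal.Quotient.mk (Ideal.span {f})))) :=
    IsClosedImmersion.spec_of_surjective _ Ideal.Quotient.mk_surjective
  exact MorphismProperty.pullback_fst (P := @IsClosedImmersion) _ _ this

omit [IsNoetherianRing A] in
theorem mem_range_q₀ (u : (FEt.puncturedSpec A : Scheme.{u})) :
    u ∈ Set.range (q₀ A f) ↔ f ∈ ((FEt.puncturedSpec A).ι u).asIdeal := by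
  rw [Scheme.Pullback.range_fst, Set.mem_preimage]
  change _ ∈ Set.range (PrimeSpectrum.comap (Ideal.Quotient.mk (Ideal.span {f}))) ↔ _
  rw [range_comap_of_surjective _ _ Ideal.Quotient.mk_surjective, Ideal.mk_ker, PrimeSpectrum.mem_zeroLocus]
  exact Set.singleton_subset_iff.symm.trans ⟨fun h => Ideal.span_le.2 h, fun h => Ideal.span_le.1 h⟩ |>.symm

/-- The descent. -/
theorem full_faithful (hf : f ∈ maximalIdeal A) [HenselianRing A (Ideal.span {f})]
    (h : (FEt.restrict (pullback.fst (π₁ A) (q₀ A f))).Full ∧ (FEt.restrict (pullback.fst (π₁ A) (q₀ A f))).Faithful) :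
    (FEt.restrict (q₀ A f)).Full ∧ (FEt.restrict (q₀ A f)).Faithful := by
  obtain ⟨hinj', hsurj'⟩ := clopen_of_full_faithful _ h
  have := isClosedImmersion_q₀ A f
  have : Surjective (π₁ A) := MorphismProperty.pullback_fst (P := @Surjective) _ _ (surjective_πA A)
  set U := FEt.puncturedSpec A with hU
  set q := q₀ A f
  set g := pullback.fst (π₁ A) q
  refine FEtCat.Full.full_faithful _ (fun Y C hC hdis => ?_) fun Y D hD => ?_
  · -- injectivity
    let Y' : FEt.Cat (pullback U.ι (πA A)) := (FEt.restrict (π₁ A)).obj Y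
    let p : Y'.left ⟶ Y.left := pullback.fst Y.hom (π₁ A)
    have he : p ⁻¹' C = ∅ := hinj' Y' _ (hC.preimage p.continuous) (Set.eq_empty_of_forall_notMem fun z hz => by
      have hy : Y.hom (p (pullback.fst Y'.hom g z)) ∈ Set.range q := by
        refine ⟨pullback.snd (π₁ A) q (pullback.snd Y'.hom g z), ?_⟩
        change (pullback.snd Y'.hom g ≫ pullback.snd (π₁ A) q ≫ q) z = (pullback.fst Y'.hom g ≫ p ≫ Y.hom) z
        rw [← pullback.condition, show p ≫ Y.hom = Y'.hom ≫ π₁ A from pullback.condition,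
          ← pullback.condition_assoc]
      obtain ⟨w, hw⟩ := (Scheme.Pullback.range_fst Y.hom q).ge hy
      exact Set.notMem_empty w (hdis.le (show pullback.fst Y.hom q w ∈ C from hw ▸ hz)))
    refine Set.eq_empty_of_forall_notMem fun y hy => ?_
    have : Surjective p := MorphismProperty.pullback_fst (P := @Surjective) _ _ ‹Surjective (π₁ A)›
    obtain ⟨y', rfl⟩ := p.surjective y
    exact Set.notMem_empty y' (he.le hy)
  -- surjectivity
  let T₀ : Set Y.left := pullback.fst Y.hom q '' D
  have hqY : IsClosedImmersion (pullback.fst Y.hom q) := MorphismProperty.pullback_fst (P := @IsClosedImmersion) _ _ ‹_›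
  have hT₀ : ∀ w, pullback.fst Y.hom q w ∈ T₀ ↔ w ∈ D := fun w =>
    (pullback.fst Y.hom q).isClosedEmbedding.injective.mem_set_image
  let Y' : FEt.Cat (pullback U.ι (πA A)) := (FEt.restrict (π₁ A)).obj Y
  let p : Y'.left ⟶ Y.left := pullback.fst Y.hom (π₁ A)
  have hpY : p ≫ Y.hom = Y'.hom ≫ π₁ A := pullback.condition
  let m : pullback Y'.hom g ⟶ pullback Y.hom q :=
    pullback.lift (pullback.fst Y'.hom g ≫ p) (pullback.snd Y'.hom g ≫ pullback.snd (π₁ A) q) (by
      rw [Category.assoc, hpY, pullback.condition_assoc, pullback.condition, Category.assoc])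
  have hm : m ≫ pullback.fst Y.hom q = pullback.fst Y'.hom g ≫ p := pullback.lift_fst _ _ _
  obtain ⟨D', hD', hDtr⟩ := hsurj' Y' (m ⁻¹' D) (hD.preimage m.continuous)
  have hkey : ∀ y' : Y'.left, Y.hom (p y') ∈ Set.range q → (y' ∈ D' ↔ p y' ∈ T₀) := by
    intro y' hy
    have h1 : Y'.hom y' ∈ Set.range g := by
      refine (Scheme.Pullback.range_fst (π₁ A) q).ge ?_
      change π₁ A (Y'.hom y') ∈ Set.range q
      rw [← Scheme.Hom.comp_apply, ← hpY]
      exact hy
    obtain ⟨z, rfl⟩ := (Scheme.Pullback.range_fst Y'.hom g).ge h1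
    refine (Set.ext_iff.1 hDtr z).trans ?_
    rw [Set.mem_preimage, ← hT₀]
    exact Iff.of_eq (congrArg (fun y => y ∈ T₀) (congr($hm z)))
  -- the henselization
  have hEt := Groth.Agent.Hensel.isEtLike_of_isHenselization A (Henselization A)
  have := hEt.isNoetherianRing_of_base
  have := hEt.flat
  let Uh := πH A ⁻¹ᵁ U
  have hUh : ∀ x : Spec (CommRingCat.of (Henselization A)), x ∉ Uh → maximalIdeal (Henselization A) ≤ x.asIdeal := fun x hx => by
    rw [← hEt.map_max, Ideal.map_le_iff_le_comap]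
    exact (congrArg PrimeSpectrum.asIdeal (not_not.1 hx : πH A x = closedPoint A)).ge
  let Yh : FEt.Cat (Uh : Scheme.{u}) := (FEt.restrict (πH A ∣_ U)).obj Y
  let ph : Yh.left ⟶ Y.left := pullback.fst Y.hom (πH A ∣_ U)
  let mH := maximalIdeal (Henselization A)
  let πc := PunctRigid.πc (A := Henselization A) mH
  obtain ⟨e⟩ := Groth.Agent.Hensel.nonempty_completion_equiv_of_residue hEt Groth.Agent.Hensel.exists_residue_of_isHenselization
  let u : (πc ⁻¹ᵁ Uh : Scheme.{u}) ⟶ pullback U.ι (πA A) :=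
    pullback.lift ((πc ∣_ Uh) ≫ πH A ∣_ U) ((πc ⁻¹ᵁ Uh).ι ≫ Spec.map (CommRingCat.ofHom e.toRingEquiv.toRingHom)) (by
      rw [Category.assoc, morphismRestrict_ι, morphismRestrict_ι_assoc, Category.assoc, ← Spec.map_comp, ← Spec.map_comp,
        ← CommRingCat.ofHom_comp, ← CommRingCat.ofHom_comp]
      congr 3
      refine RingHom.ext fun a => ?_
      exact ((e.commutes a).trans (IsScalarTower.algebraMap_apply A (Henselization A) _ a)).symm)
  let κ : pullback Yh.hom (πc ∣_ Uh) ⟶ Y'.left :=
    pullback.lift (f := Y.hom) (g := π₁ A) (pullback.fst Yh.hom (πc ∣_ Uh) ≫ ph) (pullback.snd Yh.hom (πc ∣_ Uh) ≫ u) (by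
      rw [Category.assoc, show ph ≫ Y.hom = Yh.hom ≫ πH A ∣_ U from pullback.condition, pullback.condition_assoc,
        Category.assoc, pullback.lift_fst])
  have hκ : κ ≫ p = pullback.fst Yh.hom (πc ∣_ Uh) ≫ ph := pullback.lift_fst _ _ _
  obtain ⟨Dh, hDh, hDhtr⟩ := (PunctRigid.clopen_bijective mH Uh hUh Yh).2 (κ ⁻¹' D') (hD'.preimage κ.continuous)
  have : Surjective πc := by
    have : Module.Flat (Henselization A) (AdicCompletion mH (Henselization A)) := AdicCompletion.flat_of_isNoetherian _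
    have : Module.FaithfullyFlat (Henselization A) (AdicCompletion mH (Henselization A)) := Module.FaithfullyFlat.of_flat_of_isLocalHom
    exact ⟨PrimeSpectrum.comap_surjective_of_faithfullyFlat⟩
  have : Surjective (πc ∣_ Uh) := IsZariskiLocalAtTarget.restrict ‹Surjective πc› Uh
  have : Surjective (pullback.fst Yh.hom (πc ∣_ Uh)) := MorphismProperty.pullback_fst (P := @Surjective) _ _ ‹_›
  have hkeyh : ∀ yh : Yh.left, Y.hom (ph yh) ∈ Set.range q → (yh ∈ Dh ↔ ph yh ∈ T₀) := by
    intro yh hy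
    obtain ⟨z, rfl⟩ := (pullback.fst Yh.hom (πc ∣_ Uh)).surjective yh
    refine (Set.ext_iff.1 hDhtr z).trans ?_
    have hzy : ph (pullback.fst Yh.hom (πc ∣_ Uh) z) = p (κ z) := congr($hκ z).symm
    rw [hzy] at hy ⊢
    exact hkey (κ z) hy
  -- into `Spec (B ⊗ Aʰ)`
  have : IsFinite Y.hom := Y.prop.1
  obtain ⟨B, _, _, i, _, hsq⟩ := S16574.result A U (TopologicalSpace.NoetherianSpace.isCompact _) Y.left Y.hom
  have hiO : IsOpenImmersion i := MorphismProperty.of_isPullback (P := @IsOpenImmersion) hsq.flip inferInstance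
  let qB := Spec.map (CommRingCat.ofHom (algebraMap A B))
  have hbig : IsPullback ph (Yh.hom ≫ Uh.ι) (i ≫ qB) (πH A) := by
    rw [hsq.w]
    exact (IsPullback.of_hasPullback Y.hom (πH A ∣_ U)).paste_vert (isPullback_morphismRestrict (πH A) U)
  let l : Yh.left ⟶ pullback qB (πH A) := pullback.lift (ph ≫ i) (Yh.hom ≫ Uh.ι) (by rw [Category.assoc]; exact hbig.w)
  have hl : IsPullback ph l i (pullback.fst qB (πH A)) :=
    IsPullback.of_bot (v₂₁ := pullback.snd qB (πH A)) (v₂₂ := qB) (h₃₁ := πH A)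
      (by rw [pullback.lift_snd]; exact hbig) (pullback.lift_fst _ _ _).symm (IsPullback.of_hasPullback qB (πH A))
  have hlO : IsOpenImmersion l := MorphismProperty.of_isPullback (P := @IsOpenImmersion) hl inferInstance
  let ω := (pullbackSpecIso A B (Henselization A)).hom
  let L : Yh.left ⟶ Spec (CommRingCat.of (B ⊗[A] Henselization A)) := l ≫ ω
  have hL : L ≫ Spec.map (CommRingCat.ofHom (algebraMap B (B ⊗[A] Henselization A))) = ph ≫ i := by
    rw [Category.assoc]
    refine (congrArg (l ≫ ·) (pullbackSpecIso_hom_fst A B (Henselization A))).trans ?_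
    exact pullback.lift_fst _ _ _
  have hLpt : ∀ yh, PrimeSpectrum.comap (algebraMap B (B ⊗[A] Henselization A)) (L yh) = i (ph yh) := fun yh =>
    congr($hL yh)
  have hiU : ∀ y, PrimeSpectrum.comap (algebraMap A B) (i y) = U.ι (Y.hom y) := fun y => congr($(hsq.w) y)
  have hrangeL : Set.range L = PunctDescentAlg.punct (Henselization A) B := by
    ext Q
    constructor
    · rintro ⟨yh, rfl⟩ hle
      refine (Y.hom (ph yh)).2 (PrimeSpectrum.ext (le_antisymm (le_maximalIdeal (Ideal.IsPrime.ne_top inferInstance)) ?_))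
      refine hle.trans (le_of_eq ?_)
      rw [IsScalarTower.algebraMap_eq A B (B ⊗[A] Henselization A), ← Ideal.comap_comap]
      exact congrArg PrimeSpectrum.asIdeal ((congrArg _ (hLpt yh)).trans (hiU (ph yh)))
    · intro hQ
      let Q₁ : (pullback qB (πH A) : Scheme.{u}) := (pullbackSpecIso A B (Henselization A)).inv Q
      have h1 : pullback.fst qB (πH A) Q₁ = PrimeSpectrum.comap (algebraMap B (B ⊗[A] Henselization A)) Q :=
        congr($(pullbackSpecIso_inv_fst A B (Henselization A)) Q)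
      obtain ⟨z, hz, -⟩ := Scheme.Pullback.exists_preimage_pullback (f := qB) (g := U.ι) (pullback.fst qB (πH A) Q₁)
        ⟨qB (pullback.fst qB (πH A) Q₁), fun h => hQ (by
          have h2 : PrimeSpectrum.comap (algebraMap A B) (PrimeSpectrum.comap (algebraMap B (B ⊗[A] Henselization A)) Q) = closedPoint A := by
            rw [← h1]; exact h
          rw [IsScalarTower.algebraMap_eq A B (B ⊗[A] Henselization A), ← Ideal.comap_comap]
          exact (congrArg PrimeSpectrum.asIdeal h2).ge)⟩ rfl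
      have hy : i (hsq.isoPullback.inv z) = pullback.fst qB (πH A) Q₁ := by
        rw [← hz, ← hsq.isoPullback_inv_fst]; rfl
      obtain ⟨w, -, hw⟩ := Scheme.Pullback.exists_preimage_pullback (f := i) (g := pullback.fst qB (πH A))
        (hsq.isoPullback.inv z) Q₁ hy
      refine ⟨hl.isoPullback.inv w, ?_⟩
      change (hl.isoPullback.inv ≫ l ≫ ω) w = Q
      rw [hl.isoPullback_inv_snd_assoc, Scheme.Hom.comp_apply, hw]
      exact congr($((pullbackSpecIso A B (Henselization A)).inv_hom_id) Q)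
  have hrange : ∀ yh, (algebraMap A (B ⊗[A] Henselization A) f ∈ (L yh).asIdeal ↔ Y.hom (ph yh) ∈ Set.range q) := fun yh => by
    rw [mem_range_q₀, IsScalarTower.algebraMap_apply A B (B ⊗[A] Henselization A), ← hiU, ← hLpt]
    rfl
  have hLO : IsOpenImmersion L := inferInstance
  have hopen : IsOpen (PunctDescentAlg.punct (Henselization A) B \ L '' Dh) := by
    have h1 : IsOpen (Set.range L \ L '' Dh) := by
      rw [← Set.image_univ, ← Set.image_sdiff L.isOpenEmbedding.injective]
      exact L.isOpenEmbedding.isOpenMap _ (isOpen_univ.sdiff hDh.1)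
    exact hrangeL ▸ h1
  have hconst : ∀ y₁ y₂ : Yh.left, ph y₁ = ph y₂ → y₁ ∈ Dh → y₂ ∈ Dh := by
    intro y₁ y₂ hy hy₁
    have := PunctDescentAlg.fibre_constant (k := ResidueField A) f hf
      (fun t => by
        obtain ⟨r, hr⟩ := Groth.Agent.Hensel.exists_residue_of_isHenselization (R := A) t
        exact ⟨r, hEt.map_max.ge hr⟩)
      hEt.map_max.le B (L '' Dh) (L.isOpenEmbedding.isOpenMap _ hDh.2)
      hopen
      (i '' T₀)
      (fun Q hQ hfQ => by
        obtain ⟨yh, rfl⟩ := hrangeL.ge hQ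
        refine (L.isOpenEmbedding.injective.mem_set_image).trans ?_
        rw [hLpt]
        exact (hkeyh yh ((hrange yh).1 hfQ)).trans (i.isOpenEmbedding.injective.mem_set_image).symm)
      (L y₁) (L y₂) (hrangeL.le ⟨y₁, rfl⟩) (hrangeL.le ⟨y₂, rfl⟩) (by rw [hLpt, hLpt, hy]) ⟨y₁, hy₁, rfl⟩
    exact L.isOpenEmbedding.injective.mem_set_image.1 this
  -- descend
  have : Flat (πH A) := by
    rw [HasRingHomProperty.Spec_iff (P := @Flat)]
    exact RingHom.flat_algebraMap_iff.2 hEt.flat
  have : Surjective (πH A) := by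
    have := hEt.faithfullyFlat
    exact ⟨PrimeSpectrum.comap_surjective_of_faithfullyFlat⟩
  have : Flat (πH A ∣_ U) := IsZariskiLocalAtTarget.restrict ‹Flat (πH A)› U
  have : Surjective (πH A ∣_ U) := IsZariskiLocalAtTarget.restrict ‹Surjective (πH A)› U
  have : QuasiCompact (πH A ∣_ U) := IsZariskiLocalAtTarget.restrict (inferInstance : QuasiCompact (πH A)) U
  have : Flat ph := MorphismProperty.pullback_fst (P := @Flat) _ _ ‹_›
  have : Surjective ph := MorphismProperty.pullback_fst (P := @Surjective) _ _ ‹_›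
  have : QuasiCompact ph := MorphismProperty.pullback_fst (P := @QuasiCompact) _ _ ‹_›
  have hquot : Topology.IsQuotientMap ph := Flat.isQuotientMap_of_surjective ph
  have hsat : ph ⁻¹' (ph '' Dh) = Dh :=
    Set.Subset.antisymm (fun z hz => Exists.elim hz fun z' hz' => hconst z' z hz'.2 hz'.1) (Set.subset_preimage_image _ _)
  refine ⟨ph '' Dh, ⟨?_, ?_⟩, Set.ext fun w => ?_⟩
  · rw [← hquot.isClosed_preimage, hsat]; exact hDh.1
  · rw [← hquot.isOpen_preimage, hsat]; exact hDh.2
  · obtain ⟨yh, hyh⟩ := ph.surjective (pullback.fst Y.hom q w)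
    rw [Set.mem_preimage, ← hyh, ← Set.mem_preimage, hsat, hkeyh yh (by
      rw [hyh, ← Scheme.Hom.comp_apply, pullback.condition, Scheme.Hom.comp_apply]; exact ⟨_, rfl⟩), hyh, hT₀]

end Groth.Agent.Hens.PunctDescent
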