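import Groth.Agent.Hens.RigidConst
import Mathlib.RingTheory.Unramified.Finite
import Mathlib.RingTheory.Ideal.GoingUp
import Mathlib.RingTheory.Ideal.MinimalPrime.Localization

/-!
# Open classes descend from the completion of a henselian pair
-/

set_option autoImplicit false
set_option linter.style.haveILetI false

universe u

open IsLocalRing TensorProduct

namespace Groth.Agent.Hens.RigidLabel

variable {A : Type u} [CommRing A] {I : Ideal A} {ι : Type u} {B : ι → Type u}
  [∀ i, CommRing (B i)] [∀ i, Algebra A (B i)] [∀ i, Algebra.Etale A (B i)]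
  (D : Data A I B)

/-- The residue field at a field point embeds in the field. -/
theorem exists_res_comp {C K : Type u} [CommRing C] [Algebra A C] [Field K] [Algebra A K]
    (Φ : C →ₐ[A] K) : ∃ e : κ (pt Φ.toRingHom) →ₐ[A] K, e.comp (res (pt Φ.toRingHom)) = Φ := by
  set Q := pt Φ.toRingHom
  let k₀ : Localization.AtPrime Q.asIdeal →ₐ[A] K :=
    IsLocalization.liftAlgHom (M := Q.asIdeal.primeCompl) (f := Φ) fun s =>
      IsUnit.mk0 _ fun h0 => s.2 h0
  have hk₀ : ∀ c, k₀ (algebraMap C _ c) = Φ c := fun c => IsLocalization.lift_eq _ c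
  haveI : IsLocalHom k₀.toRingHom := by
    refine ⟨fun x hx => ?_⟩
    obtain ⟨c, s, rfl⟩ := IsLocalization.exists_mk'_eq Q.asIdeal.primeCompl x
    refine (IsLocalization.AtPrime.isUnit_mk'_iff _ _ c s).2 fun hc => ?_
    have h1 := congrArg k₀ (IsLocalization.mk'_spec (Localization.AtPrime Q.asIdeal) c s)
    rw [map_mul, hk₀, hk₀, show Φ c = 0 from hc] at h1
    exact mul_ne_zero hx.ne_zero (fun h0 => s.2 h0) h1
  refine ⟨{ toRingHom := IsLocalRing.ResidueField.lift k₀.toRingHom, commutes' := fun r => ?_ },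
    AlgHom.ext fun c => ?_⟩
  · show IsLocalRing.ResidueField.lift k₀.toRingHom (algebraMap A (κ Q) r) = _
    rw [IsScalarTower.algebraMap_apply A (Localization.AtPrime Q.asIdeal) (κ Q)]
    exact k₀.commutes r
  · show IsLocalRing.ResidueField.lift k₀.toRingHom (algebraMap C (κ Q) c) = _
    rw [IsScalarTower.algebraMap_apply C (Localization.AtPrime Q.asIdeal) (κ Q)]
    exact hk₀ c

/-- Geometric points of an etale algebra lift to strictly henselian local rings. -/
theorem exists_lift_point {L K S : Type u} [CommRing L] [IsLocalRing L] [HenselianLocalRing L]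
    [IsAlgClosed (ResidueField L)] [Algebra A L] [Field K] [Algebra A K] [CommRing S] [Algebra A S]
    [Algebra.Etale A S] (g : L →ₐ[A] K) [IsLocalHom g.toRingHom] (χ : S →ₐ[A] K) :
    ∃ τ : S →ₐ[A] L, g.comp τ = χ := by
  let gres : ResidueField L →+* K := IsLocalRing.ResidueField.lift g.toRingHom
  letI : Algebra (ResidueField L) K := gres.toAlgebra
  haveI : IsScalarTower A (ResidueField L) K := IsScalarTower.of_algebraMap_eq fun r => by
    show _ = gres (algebraMap A _ r)
    rw [IsScalarTower.algebraMap_apply A L (ResidueField L)]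
    exact (g.commutes r).symm
  haveI : Module.Finite (ResidueField L) (ResidueField L ⊗[A] S) :=
    Algebra.FormallyUnramified.finite_of_free (ResidueField L) _
  have hrange : ∀ b, ∃ y : ResidueField L, algebraMap _ K y = χ b := by
    intro b
    let T : ResidueField L ⊗[A] S →ₐ[ResidueField L] K :=
      Algebra.TensorProduct.lift (Algebra.ofId _ K) χ fun _ _ => .all _ _
    have hint : IsIntegral (ResidueField L) (χ b) := by
      have := (Algebra.IsIntegral.isIntegral (R := ResidueField L) ((1 : ResidueField L) ⊗ₜ[A] b)).map T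
      simpa [T] using this
    exact minpoly.degree_eq_one_iff.1
      (IsAlgClosed.degree_eq_one_of_irreducible (ResidueField L) (minpoly.irreducible hint))
  choose σ hσ using hrange
  let σ' : S →ₐ[A] ResidueField L :=
    { toFun := σ
      map_one' := (algebraMap _ K).injective (by rw [hσ, map_one, map_one])
      map_mul' := fun x y => (algebraMap _ K).injective (by rw [hσ, map_mul, map_mul, hσ, hσ])
      map_zero' := (algebraMap _ K).injective (by rw [hσ, map_zero, map_zero])
      map_add' := fun x y => (algebraMap _ K).injective (by rw [hσ, map_add, map_add, hσ, hσ])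
      commutes' := fun r => (algebraMap _ K).injective (by
        rw [hσ, AlgHom.commutes, ← IsScalarTower.algebraMap_apply]) }
  obtain ⟨τ, hτ, -⟩ := Groth.Agent.Hensel.existsUnique_algHom_residue S σ'
  refine ⟨τ, AlgHom.ext fun b => ?_⟩
  rw [← hσ b]
  show gres (residue _ (τ b)) = gres (σ' b)
  rw [hτ]

section Good

variable [HenselianRing A I]

theorem henselianRing_integral (R : Type u) [CommRing R] [Algebra A R] [Algebra.IsIntegral A R] :
    HenselianRing R (I.map (algebraMap A R)) :=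
  Hensel.henselianRing_of_isIntegral R

omit [HenselianRing A I] in
theorem henselianRing_tower {R S : Type u} [CommRing R] [Algebra A R] [CommRing S] [Algebra A S]
    [Algebra R S] [IsScalarTower A R S] [HenselianRing R (I.map (algebraMap A R))]
    [Algebra.IsIntegral R S] : HenselianRing S (I.map (algebraMap A S)) := by
  have := Hensel.henselianRing_of_isIntegral (I := I.map (algebraMap A R)) S
  rwa [Ideal.map_map, ← IsScalarTower.algebraMap_eq] at this

omit [HenselianRing A I] in
theorem henselianRing_completion (hI : I.FG) (R : Type u) [CommRing R] [Algebra A R] :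
    HenselianRing (AdicCompletion (I.map (algebraMap A R)) R)
      (I.map (algebraMap A (AdicCompletion (I.map (algebraMap A R)) R))) := by
  rw [IsScalarTower.algebraMap_eq A R (AdicCompletion (I.map (algebraMap A R)) R), ← Ideal.map_map]
  haveI := AdicCompletion.isAdicComplete_self (I.map (algebraMap A R)) (hI.map _)
  exact IsAdicComplete.henselianRing _ _

open Polynomial in
/-- Absolutely integrally closed rings mapping to a field reach all integral elements. -/
theorem exists_eq_of_isIntegral {R K : Type u} [CommRing R] [Algebra A R] [Field K] [Algebra A K]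
    (hR : RigidAIC.IsAIC R) (ψ : R →ₐ[A] K) {x : K} (hx : IsIntegral A x) : ∃ r, ψ r = x := by
  obtain ⟨f, hf, hfx⟩ := hx
  have key : ∀ (n : ℕ) (g : R[X]), g.Monic → g.natDegree = n → g.eval₂ ψ.toRingHom x = 0 →
      ∃ r, ψ r = x := by
    intro n
    induction n with
    | zero =>
      intro g hg hn hgx
      rw [Polynomial.Monic.natDegree_eq_zero hg |>.1 hn, eval₂_one] at hgx
      exact absurd hgx one_ne_zero
    | succ n ih =>
      intro g hg hn hgx
      obtain ⟨r, hr⟩ := hR g hg (by omega)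
      obtain ⟨g', rfl⟩ := Polynomial.dvd_iff_isRoot.2 hr
      have hg' : g'.Monic := (monic_X_sub_C r).of_mul_monic_left hg
      haveI : Nontrivial R := nontrivial_of_ne (1 : R) 0 fun h => one_ne_zero (α := K) (by
        rw [← map_one ψ, h, map_zero])
      rw [(monic_X_sub_C r).natDegree_mul hg', natDegree_X_sub_C] at hn
      rw [eval₂_mul, eval₂_sub, eval₂_X, eval₂_C] at hgx
      rcases mul_eq_zero.1 hgx with h | h
      · exact ⟨r, (sub_eq_zero.1 h).symm⟩
      · exact ih g' hg' (by omega) h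
  refine key _ (f.map (algebraMap A R)) (hf.map _) rfl ?_
  rw [eval₂_map, AlgHom.toRingHom_eq_coe, ψ.comp_algebraMap]
  exact hfx

/-- A point is good if it is in the class on the integral closure of the base. -/
def Good {K : Type u} [Field K] [Algebra A K] {i : ι} (χ : B i →ₐ[A] K) : Prop :=
  AllIn D (integralClosure A K).val χ

omit [HenselianRing A I] [∀ i, Algebra.Etale A (B i)] in
theorem bot_mem_U {R K : Type u} [CommRing R] [IsDomain R] [Algebra A R] [Field K] [Algebra A K]
    {ψ : R →ₐ[A] K} (hψ : Function.Injective ψ) {i : ι} (χ : B i →ₐ[A] K) :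
    PrimeSpectrum.comap (algebraMap A R) ⟨⊥, Ideal.isPrime_bot⟩ ∈ D.U := by
  convert D.mem_U i (pt χ.toRingHom) using 1
  refine PrimeSpectrum.ext (Ideal.ext fun x => ?_)
  show algebraMap A R x ∈ (⊥ : Ideal R) ↔ χ (algebraMap A (B i) x) = 0
  rw [Ideal.mem_bot, ← map_eq_zero_iff ψ hψ, ψ.commutes, χ.commutes]

variable (hI : I.FG)
include hI

/-- Goodness may be tested on any absolutely integrally closed henselian domain. -/
theorem allIn_comp_iff_good {R K K' : Type u} [CommRing R] [Algebra A R] [IsDomain R]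
    [HenselianRing R (I.map (algebraMap A R))] [Field K] [IsAlgClosed K] [Algebra A K] [Field K']
    [Algebra A K'] (hR : RigidAIC.IsAIC R) {ψ : R →ₐ[A] K'} (hψ : Function.Injective ψ)
    (k : K →ₐ[A] K') {i : ι} (χ : B i →ₐ[A] K) : AllIn D ψ (k.comp χ) ↔ Good D χ := by
  let f : integralClosure A K →ₐ[A] K' := k.comp (integralClosure A K).val
  have hf : ∀ x, f x ∈ ψ.range := fun x =>
    exists_eq_of_isIntegral hR ψ ((Algebra.IsIntegral.isIntegral (R := A) x).map f)
  let g : integralClosure A K →ₐ[A] R :=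
    (AlgEquiv.ofInjective ψ hψ).symm.toAlgHom.comp (f.codRestrict ψ.range hf)
  have hg : ψ.comp g = f := AlgHom.ext fun x => by
    exact congrArg Subtype.val ((AlgEquiv.ofInjective ψ hψ).apply_symm_apply (f.codRestrict ψ.range hf x))
  obtain ⟨Q', hQ', -⟩ := exists_point D hI ⟨⊥, Ideal.isPrime_bot⟩ (bot_mem_U D hψ (k.comp χ))
  have hle : I.map (algebraMap A (integralClosure A K)) ≤
      (I.map (algebraMap A R)).comap g.toRingHom := by
    refine Ideal.map_le_iff_le_comap.2 fun x hx => ?_
    show g (algebraMap A _ x) ∈ I.map (algebraMap A R)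
    rw [g.commutes]
    exact Ideal.mem_map_of_mem _ hx
  let gC : AdicCompletion (I.map (algebraMap A (integralClosure A K))) (integralClosure A K) →ₐ[A]
      AdicCompletion (I.map (algebraMap A R)) R :=
    { toRingHom := RigidAIC.cmap g.toRingHom hle
      commutes' := fun r => by
        show RigidAIC.cmap g.toRingHom hle (algebraMap A _ r) = _
        rw [IsScalarTower.algebraMap_apply A (integralClosure A K)
          (AdicCompletion (I.map (algebraMap A (integralClosure A K))) (integralClosure A K)),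
          RigidAIC.cmap_algebraMap,
          IsScalarTower.algebraMap_apply A R (AdicCompletion (I.map (algebraMap A R)) R)]
        exact congrArg _ (g.commutes r) }
  haveI := henselianRing_integral (I := I) (integralClosure A K)
  haveI := henselianRing_completion (I := I) hI (integralClosure A K)
  haveI := henselianRing_completion (I := I) hI R
  have hic : RigidAIC.IsAIC (integralClosure A K) := RigidAIC.isAIC_integralClosure A K
  have hQ : PrimeSpectrum.comap (algebraMap A _) (PrimeSpectrum.comap gC.toRingHom Q') ∈ D.U := by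
    rw [← PrimeSpectrum.comap_comp_apply, AlgHom.toRingHom_eq_coe, gC.comp_algebraMap]; exact hQ'
  unfold Good
  rw [← in_iff_allIn D hI hR hψ (k.comp χ) (toCompl I R) (IsScalarTower.toAlgHom A R _) Q' hQ',
    ← in_iff_allIn D hI hic Subtype.val_injective χ (toCompl I _) (IsScalarTower.toAlgHom A _ _) _ hQ]
  refine in_congr D g gC k (toCompl_unique hI _ _) (AlgHom.ext fun r => ?_) hg hic χ Q' hQ' ?_
  · exact (RigidAIC.cmap_algebraMap g.toRingHom hle r).symm
  · rw [(RingHom.injective_iff_ker_eq_bot ψ).1 hψ]; exact bot_le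

theorem good_comp_iff {K K' : Type u} [Field K] [IsAlgClosed K] [Algebra A K] [Field K']
    [IsAlgClosed K'] [Algebra A K'] (k : K →ₐ[A] K') {i : ι} (χ : B i →ₐ[A] K) :
    Good D (k.comp χ) ↔ Good D χ := by
  haveI := henselianRing_integral (I := I) (integralClosure A K')
  exact allIn_comp_iff_good D hI (RigidAIC.isAIC_integralClosure A K') Subtype.val_injective k χ

/-- Points of a common label. -/
theorem rel_of_good {K : Type u} [Field K] [IsAlgClosed K] [Algebra A K] {i j : ι}
    {χ : B i →ₐ[A] K} {χ' : B j →ₐ[A] K} (h : Good D χ) (h' : Good D χ') :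
    pt₂ χ χ' ∈ D.Rel i j := by
  haveI := henselianRing_integral (I := I) (integralClosure A K)
  obtain ⟨Q, hQ, -⟩ := exists_point D hI ⟨⊥, Ideal.isPrime_bot⟩
    (bot_mem_U D (ψ := (integralClosure A K).val) Subtype.val_injective χ)
  obtain ⟨hq, k, τ, hτ, hr⟩ := h Q hQ
  exact D.rel_trans K _ _ _ _ _ _ (D.rel_symm K _ _ _ _ hr) ((in_iff hq hτ χ').1 (h' Q hQ))

/-- Every geometric point of `U` has a good lift. -/
theorem exists_good {K : Type u} [Field K] [IsAlgClosed K] [Algebra A K]
    (hp : pt (algebraMap A K) ∈ D.U) : ∃ (i : ι) (χ : B i →ₐ[A] K), Good D χ := by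
  haveI := henselianRing_integral (I := I) (integralClosure A K)
  haveI := henselianRing_completion (I := I) hI (integralClosure A K)
  have hic : RigidAIC.IsAIC (integralClosure A K) := RigidAIC.isAIC_integralClosure A K
  have hb : PrimeSpectrum.comap (algebraMap A (integralClosure A K)) ⟨⊥, Ideal.isPrime_bot⟩ ∈ D.U := by
    convert hp using 1
    refine PrimeSpectrum.ext (Ideal.ext fun x => ?_)
    show algebraMap A _ x ∈ (⊥ : Ideal (integralClosure A K)) ↔ algebraMap A K x = 0
    rw [Ideal.mem_bot, ← map_eq_zero_iff (integralClosure A K).val Subtype.val_injective, AlgHom.commutes]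
  obtain ⟨Q, hQ, -⟩ := exists_point D hI _ hb
  obtain ⟨j, τ, hτ⟩ := exists_memAt D (toCompl I _) (IsScalarTower.toAlgHom A (integralClosure A K) _) hic Q hQ
  have hq : RingHom.ker (integralClosure A K).val ≤
      (below (IsScalarTower.toAlgHom A (integralClosure A K) _) Q).asIdeal := by
    rw [(RingHom.injective_iff_ker_eq_bot _).1 Subtype.val_injective]; exact bot_le
  exact ⟨j, _, (in_iff_allIn D hI hic Subtype.val_injective _ _ _ Q hQ).1
    ⟨hq, j, τ, hτ, rel_of_memAt hq hτ hτ⟩⟩

/-- Goodness recovers membership on the completion. -/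
theorem good_iff_mem {K : Type u} [Field K] [IsAlgClosed K] [Algebra A K]
    (φ : AdicCompletion I A →ₐ[A] K) {i : ι} (χ : B i →ₐ[A] K) :
    Good D χ ↔ pt₂ φ χ ∈ D.Mem i := by
  haveI := henselianRing_integral (I := I) (integralClosure A K)
  let C := AdicCompletion I A ⊗[A] integralClosure A K
  haveI : HenselianRing (AdicCompletion I A) (I.map (algebraMap A (AdicCompletion I A))) := by
    haveI := AdicCompletion.isAdicComplete_self I hI
    exact IsAdicComplete.henselianRing _ _
  haveI : HenselianRing C (I.map (algebraMap A C)) := henselianRing_tower (R := AdicCompletion I A)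
  have hic : RigidAIC.IsAIC (integralClosure A K) := RigidAIC.isAIC_integralClosure A K
  let a : AdicCompletion I A →ₐ[A] C := Algebra.TensorProduct.includeLeft
  let h : integralClosure A K →ₐ[A] C := Algebra.TensorProduct.includeRight
  let ψ := (integralClosure A K).val
  let Φ : C →ₐ[A] K := Algebra.TensorProduct.productMap φ ψ
  let Q : PrimeSpectrum C := pt Φ.toRingHom
  have hQ : PrimeSpectrum.comap (algebraMap A C) Q ∈ D.U := by
    convert D.mem_U i (pt χ.toRingHom) using 1
    refine PrimeSpectrum.ext (Ideal.ext fun x => ?_)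
    show Φ (algebraMap A C x) = 0 ↔ χ (algebraMap A (B i) x) = 0
    rw [Φ.commutes, χ.commutes]
  obtain ⟨e, he⟩ := exists_res_comp Φ
  obtain ⟨j, τ, hτ⟩ := exists_memAt D a h hic Q hQ
  have hq : RingHom.ker ψ ≤ (below h Q).asIdeal := by
    rw [(RingHom.injective_iff_ker_eq_bot _).1 Subtype.val_injective]; exact bot_le
  have e1 : e.comp ((res Q).comp a) = φ := by
    rw [← AlgHom.comp_assoc, he]; exact Algebra.TensorProduct.productMap_left φ ψ
  have e2 : e.comp (locRes h Q) = ext ψ _ hq := by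
    refine IsLocalization.algHom_ext (below h Q).asIdeal.primeCompl (AlgHom.ext fun r => ?_)
    show e (locRes h Q (algebraMap _ _ r)) = ext ψ _ hq (algebraMap _ _ r)
    rw [locRes_algebraMap, ext_algebraMap, ← AlgHom.comp_apply e, he]
    exact Algebra.TensorProduct.productMap_right_apply φ ψ r
  have hj : pt₂ φ ((ext ψ _ hq).comp τ) ∈ D.Mem j := by
    rw [← e2, ← e1, AlgHom.comp_assoc, pt₂_comp]; exact hτ
  rw [Good, ← in_iff_allIn D hI hic Subtype.val_injective χ a h Q hQ, in_iff hq hτ χ]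
  exact ⟨fun hr => D.mem_rel K φ _ _ _ _ hj hr, fun hm => D.mem_mem K φ _ _ _ _ hj hm⟩

end Good

/-! ## Canonical geometric points -/

/-- The canonical geometric field at a point. -/
abbrev Kc {S : Type u} [CommRing S] (w : PrimeSpectrum S) : Type u :=
  AlgebraicClosure w.asIdeal.ResidueField

/-- The canonical geometric point. -/
noncomputable def χc {S : Type u} [CommRing S] [Algebra A S] (w : PrimeSpectrum S) : S →ₐ[A] Kc w :=
  IsScalarTower.toAlgHom A S (Kc w)

theorem χc_eq_zero_iff {S : Type u} [CommRing S] [Algebra A S] (w : PrimeSpectrum S) (x : S) :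
    χc (A := A) w x = 0 ↔ x ∈ w.asIdeal := by
  show algebraMap S (Kc w) x = 0 ↔ _
  rw [IsScalarTower.algebraMap_apply S w.asIdeal.ResidueField (Kc w), map_eq_zero,
    Ideal.algebraMap_residueField_eq_zero]

theorem exists_comp_χc {S K : Type u} [CommRing S] [Algebra A S] [Field K] [IsAlgClosed K] [Algebra A K]
    (χ : S →ₐ[A] K) : ∃ k : Kc (pt χ.toRingHom) →ₐ[A] K, k.comp (χc (pt χ.toRingHom)) = χ := by
  set w := pt χ.toRingHom
  let φ : w.asIdeal.ResidueField →+* K := Ideal.ResidueField.lift w.asIdeal χ.toRingHom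
    (fun x hx => hx) (fun x hx => IsUnit.mk0 _ fun h0 => hx h0)
  letI : Algebra w.asIdeal.ResidueField K := φ.toAlgebra
  let k : Kc w →ₐ[w.asIdeal.ResidueField] K := IsAlgClosed.lift
  have hk : ∀ x, k (algebraMap S (Kc w) x) = χ x := fun x => by
    rw [IsScalarTower.algebraMap_apply S w.asIdeal.ResidueField (Kc w), k.commutes]
    exact Ideal.ResidueField.lift_algebraMap _ _ _ _ _
  refine ⟨{ toRingHom := k.toRingHom, commutes' := fun r => ?_ }, AlgHom.ext hk⟩
  show k (algebraMap A (Kc w) r) = algebraMap A K r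
  rw [IsScalarTower.algebraMap_apply A S (Kc w), hk, χ.commutes]

section Descent

variable [HenselianRing A I] (hI : I.FG)
include hI

theorem good_iff_χc {K : Type u} [Field K] [IsAlgClosed K] [Algebra A K] {i : ι} (χ : B i →ₐ[A] K) :
    Good D χ ↔ Good D (χc (A := A) (pt χ.toRingHom)) := by
  obtain ⟨k, hk⟩ := exists_comp_χc χ
  conv_lhs => rw [← hk]
  exact good_comp_iff D hI k _

theorem good_iff_of_pt_eq {K K' : Type u} [Field K] [IsAlgClosed K] [Algebra A K] [Field K']
    [IsAlgClosed K'] [Algebra A K'] {i : ι} {χ : B i →ₐ[A] K} {χ' : B i →ₐ[A] K'}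
    (h : pt χ.toRingHom = pt χ'.toRingHom) : Good D χ ↔ Good D χ' := by
  rw [good_iff_χc D hI χ, good_iff_χc D hI χ', h]

set_option maxHeartbeats 1600000 in
/-- Goodness is stable under generization. -/
theorem good_of_le {K₀ K₁ : Type u} [Field K₀] [IsAlgClosed K₀] [Algebra A K₀] [Field K₁]
    [IsAlgClosed K₁] [Algebra A K₁] {i : ι} {χ₀ : B i →ₐ[A] K₀} {χ₁ : B i →ₐ[A] K₁}
    (hle : RingHom.ker χ₁ ≤ RingHom.ker χ₀) (h₀ : Good D χ₀) : Good D χ₁ := by
  let R := integralClosure A K₁
  haveI := henselianRing_integral (I := I) R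
  haveI := henselianRing_completion (I := I) hI R
  have hR : RigidAIC.IsAIC R := RigidAIC.isAIC_integralClosure A K₁
  let ψ : R →ₐ[A] K₁ := R.val
  -- a point of `B i ⊗ R` over the closed point
  let Φ₁ : B i ⊗[A] R →ₐ[A] K₁ := Algebra.TensorProduct.productMap χ₁ ψ
  haveI : (RingHom.ker χ₀).IsPrime := RingHom.ker_isPrime _
  haveI : (RingHom.ker Φ₁).IsPrime := RingHom.ker_isPrime _
  obtain ⟨P₀, hP₀, hP₀p, hP₀c⟩ := Ideal.exists_ideal_over_prime_of_isIntegral
    (S := B i ⊗[A] R) (RingHom.ker χ₀) (RingHom.ker Φ₁) (fun x hx => hle (by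
      have h1 : Φ₁ (x ⊗ₜ[A] (1 : R)) = 0 := hx
      rw [RingHom.mem_ker]
      simpa [Φ₁] using h1))
  let P : PrimeSpectrum (B i ⊗[A] R) := ⟨P₀, hP₀p⟩
  let χ₀' : B i →ₐ[A] Kc P := (χc P).comp Algebra.TensorProduct.includeLeft
  let ω₀ : R →ₐ[A] Kc P := (χc P).comp Algebra.TensorProduct.includeRight
  have h₀' : Good D χ₀' := (good_iff_of_pt_eq D hI (PrimeSpectrum.ext (Ideal.ext fun x => by
    show χ₀ x = 0 ↔ χc (A := A) P (x ⊗ₜ[A] (1 : R)) = 0
    rw [χc_eq_zero_iff, ← RingHom.mem_ker (f := χ₀), ← hP₀c]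
    rfl))).1 h₀
  -- the strictly henselian local ring at `q`
  let q : PrimeSpectrum R := pt ω₀.toRingHom
  haveI : HenselianLocalRing (Localization.AtPrime q.asIdeal) :=
    RigidAIC.henselianLocalRing_of_isAIC (RigidAIC.isAIC_localization hR q.asIdeal.primeCompl _)
  haveI : IsAlgClosed (ResidueField (Localization.AtPrime q.asIdeal)) :=
    RigidAIC.isAlgClosed_residueField (RigidAIC.isAIC_localization hR q.asIdeal.primeCompl _)
  have hq₀ : RingHom.ker ω₀ ≤ q.asIdeal := le_rfl
  have hq₁ : RingHom.ker ψ ≤ q.asIdeal := by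
    rw [(RingHom.injective_iff_ker_eq_bot _).1 (Subtype.val_injective : Function.Injective ψ)]
    exact bot_le
  let g₀ := ext ω₀ q hq₀
  let g₁ := ext ψ q hq₁
  have hg₀ : ∀ r, g₀ (algebraMap R _ r) = ω₀ r := fun r => ext_algebraMap _ _ _ r
  have hg₁ : ∀ r, g₁ (algebraMap R _ r) = ψ r := fun r => ext_algebraMap _ _ _ r
  haveI : IsLocalHom g₀.toRingHom := by
    refine ⟨fun x hx => ?_⟩
    obtain ⟨c, s, rfl⟩ := IsLocalization.exists_mk'_eq q.asIdeal.primeCompl x
    refine (IsLocalization.AtPrime.isUnit_mk'_iff _ _ c s).2 fun hc => ?_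
    have h1 := congrArg g₀ (IsLocalization.mk'_spec (Localization.AtPrime q.asIdeal) c s)
    rw [map_mul, hg₀, hg₀, show ω₀ c = 0 from hc] at h1
    exact mul_ne_zero hx.ne_zero (fun h0 => s.2 h0) h1
  haveI : IsLocalHom g₀ := ⟨fun x hx => IsUnit.of_map g₀.toRingHom x hx⟩
  obtain ⟨τ, hτ⟩ := exists_lift_point g₀ χ₀'
  -- the generic point is the generization of the lift
  have hτ₁ : g₁.comp τ = χ₁ := by
    have key : ∀ x : B i ⊗[A] B i, ∃ (y : B i ⊗[A] R) (s : R), s ∉ q.asIdeal ∧
        Φ₁ y = ψ s * Algebra.TensorProduct.productMap χ₁ (g₁.comp τ) x ∧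
        χc (A := A) P y = ω₀ s * Algebra.TensorProduct.productMap χ₀' χ₀' x := by
      intro x
      induction x using TensorProduct.induction_on with
      | zero => exact ⟨0, 1, q.asIdeal.primeCompl.one_mem, by simp, by simp⟩
      | tmul b b' =>
        obtain ⟨d, s, hds⟩ := IsLocalization.exists_mk'_eq q.asIdeal.primeCompl (τ b')
        have hs : algebraMap R _ (s : R) * τ b' = algebraMap R _ d := by
          rw [← hds, mul_comm, IsLocalization.mk'_spec]
        refine ⟨b ⊗ₜ d, s, s.2, ?_, ?_⟩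
        · have h1 := congrArg g₁ hs
          rw [map_mul, hg₁, hg₁] at h1
          simp only [Φ₁, Algebra.TensorProduct.productMap_apply_tmul, AlgHom.comp_apply]
          rw [← h1]
          ring
        · have h1 := congrArg g₀ hs
          rw [map_mul, hg₀, hg₀, ← AlgHom.comp_apply g₀ τ, hτ] at h1
          rw [Algebra.TensorProduct.productMap_apply_tmul]
          rw [show (b ⊗ₜ[A] d : B i ⊗[A] R) = b ⊗ₜ 1 * 1 ⊗ₜ d by simp, map_mul]
          show χ₀' b * ω₀ d = _
          rw [← h1]
          ring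
      | add x₁ x₂ ih₁ ih₂ =>
        obtain ⟨y₁, s₁, hs₁, e₁, e₁'⟩ := ih₁
        obtain ⟨y₂, s₂, hs₂, e₂, e₂'⟩ := ih₂
        refine ⟨y₁ * 1 ⊗ₜ s₂ + y₂ * 1 ⊗ₜ s₁, s₁ * s₂, q.asIdeal.primeCompl.mul_mem hs₁ hs₂, ?_, ?_⟩
        · have h1 : ∀ s, Φ₁ ((1 : B i) ⊗ₜ[A] s) = ψ s := fun s => by simp [Φ₁]
          rw [map_add, map_mul, map_mul, h1, h1, e₁, e₂, map_add, map_mul]
          ring
        · have h1 : ∀ s, χc (A := A) P ((1 : B i) ⊗ₜ[A] s) = ω₀ s := fun s => rfl
          rw [map_add, map_mul, map_mul, h1, h1, e₁', e₂', map_add, map_mul]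
          ring
    obtain ⟨y, s, hs, ey, ey'⟩ := key (Algebra.FormallyUnramified.elem A (B i))
    have hμ : Algebra.TensorProduct.productMap χ₀' χ₀' (Algebra.FormallyUnramified.elem A (B i)) = 1 := by
      have : Algebra.TensorProduct.productMap χ₀' χ₀' = χ₀'.comp (Algebra.TensorProduct.lmul' A) :=
        Algebra.TensorProduct.ext' fun _ _ => by simp
      rw [this, AlgHom.comp_apply, Algebra.FormallyUnramified.lmul_elem, map_one]
    have hne : Algebra.TensorProduct.productMap χ₁ (g₁.comp τ)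
        (Algebra.FormallyUnramified.elem A (B i)) ≠ 0 := by
      intro h0
      rw [h0, mul_zero] at ey
      rw [hμ, mul_one, (χc_eq_zero_iff P y).2 (hP₀ ey)] at ey'
      exact hs ey'.symm
    refine AlgHom.ext fun b => sub_eq_zero.1 ((mul_eq_zero.1 ?_).resolve_right hne)
    have h1 := congrArg (Algebra.TensorProduct.productMap χ₁ (g₁.comp τ))
      (Algebra.FormallyUnramified.one_tmul_sub_tmul_one_mul_elem (R := A) b)
    rw [map_mul, map_sub, map_zero] at h1
    simpa using h1
  -- compare the labels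
  let R₀ := integralClosure A (Kc P)
  let g : R →ₐ[A] R₀ :=
    ω₀.codRestrict R₀ fun x => (Algebra.IsIntegral.isIntegral (R := A) x).map ω₀
  haveI := henselianRing_integral (I := I) R₀
  haveI := henselianRing_completion (I := I) hI R₀
  obtain ⟨Q₀, hQ₀, -⟩ := exists_point D hI ⟨⊥, Ideal.isPrime_bot⟩
    (bot_mem_U D (ψ := R₀.val) Subtype.val_injective χ₀')
  have hgle : I.map (algebraMap A R) ≤ (I.map (algebraMap A R₀)).comap g.toRingHom := by
    refine Ideal.map_le_iff_le_comap.2 fun x hx => ?_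
    show g (algebraMap A _ x) ∈ I.map (algebraMap A R₀)
    rw [g.commutes]
    exact Ideal.mem_map_of_mem _ hx
  let gC : AdicCompletion (I.map (algebraMap A R)) R →ₐ[A]
      AdicCompletion (I.map (algebraMap A R₀)) R₀ :=
    { toRingHom := RigidAIC.cmap g.toRingHom hgle
      commutes' := fun r => by
        show RigidAIC.cmap g.toRingHom hgle (algebraMap A _ r) = _
        rw [IsScalarTower.algebraMap_apply A R (AdicCompletion (I.map (algebraMap A R)) R),
          RigidAIC.cmap_algebraMap,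
          IsScalarTower.algebraMap_apply A R₀ (AdicCompletion (I.map (algebraMap A R₀)) R₀)]
        exact congrArg _ (g.commutes r) }
  let Q := PrimeSpectrum.comap gC.toRingHom Q₀
  have hQ : PrimeSpectrum.comap (algebraMap A _) Q ∈ D.U := by
    rw [← PrimeSpectrum.comap_comp_apply, AlgHom.toRingHom_eq_coe, gC.comp_algebraMap]; exact hQ₀
  have hin : In D (toCompl I R) (IsScalarTower.toAlgHom A R _) ω₀ χ₀' Q := by
    refine (in_congr D g gC (AlgHom.id A (Kc P)) (a := toCompl I R)
      (h := IsScalarTower.toAlgHom A R _) (a' := toCompl I R₀) (h' := IsScalarTower.toAlgHom A R₀ _)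
      (toCompl_unique hI _ _)
      (AlgHom.ext fun r => (RigidAIC.cmap_algebraMap g.toRingHom hgle r).symm)
      (ψ := ω₀) (ψ' := R₀.val) (AlgHom.ext fun _ => rfl) hR χ₀' Q₀ hQ₀ ?_).1 (h₀' Q₀ hQ₀)
    rw [(RingHom.injective_iff_ker_eq_bot _).1 (Subtype.val_injective : Function.Injective R₀.val)]
    exact bot_le
  obtain ⟨hq', j, τj, hτj, hrel⟩ := hin
  refine (in_iff_allIn D hI hR Subtype.val_injective χ₁ (toCompl I R) (IsScalarTower.toAlgHom A R _) Q hQ).1 ?_
  have hq'₁ : RingHom.ker ψ ≤ (below (IsScalarTower.toAlgHom A R _) Q).asIdeal := by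
    rw [(RingHom.injective_iff_ker_eq_bot _).1 (Subtype.val_injective : Function.Injective ψ)]
    exact bot_le
  let q' := below (IsScalarTower.toAlgHom A R _) Q
  let l : Localization.AtPrime q'.asIdeal →ₐ[A] Localization.AtPrime q.asIdeal :=
    IsLocalization.liftAlgHom (M := q'.asIdeal.primeCompl) (f := IsScalarTower.toAlgHom A R _) fun s =>
      IsLocalization.map_units (Localization.AtPrime q.asIdeal)
        (⟨s, fun hs => s.2 (hq' hs)⟩ : q.asIdeal.primeCompl)
  have hl : ∀ r, l (algebraMap R _ r) = algebraMap R _ r := fun r => IsLocalization.lift_eq _ r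
  have e₀ : ext ω₀ q' hq' = g₀.comp l := by
    refine IsLocalization.algHom_ext q'.asIdeal.primeCompl (AlgHom.ext fun r => ?_)
    show ext ω₀ q' hq' (algebraMap R _ r) = g₀ (l (algebraMap R _ r))
    rw [hl, hg₀, ext_algebraMap]
  have e₁ : ext ψ q' hq'₁ = g₁.comp l := by
    refine IsLocalization.algHom_ext q'.asIdeal.primeCompl (AlgHom.ext fun r => ?_)
    show ext ψ q' hq'₁ (algebraMap R _ r) = g₁ (l (algebraMap R _ r))
    rw [hl, hg₁, ext_algebraMap]
  refine ⟨hq'₁, j, τj, hτj, ?_⟩
  rw [e₁, AlgHom.comp_assoc, ← hτ₁]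
  refine pt₂_mem_of_closed g₁ g₀ _ _ (D.isOpen_Rel j i) ?_
  rw [hτ, ← AlgHom.comp_assoc, ← e₀]
  exact hrel

set_option maxHeartbeats 1600000 in
/-- The good points form an open set. -/
theorem isOpen_good (i : ι) : IsOpen {w : PrimeSpectrum (B i) | Good D (χc (A := A) w)} := by
  classical
  set T := {w : PrimeSpectrum (B i) | Good D (χc (A := A) w)}
  rw [← isClosed_compl_iff, ← closure_subset_iff_isClosed]
  intro w₀ hw₀ (hgood : Good D (χc (A := A) w₀))
  let W := {w : PrimeSpectrum (B i) // w ∉ T}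
  let R := ∀ w : W, integralClosure A (Kc w.1)
  let G := ∀ w : W, Kc w.1
  let ρ : R →ₐ[A] G :=
    AlgHom.pi (R := A) fun w => (integralClosure A (Kc w.1)).val.comp (Pi.evalAlgHom A _ w)
  let σ : B i →ₐ[A] G := AlgHom.pi (R := A) fun w => χc w.1
  haveI : ∀ w : W, HenselianRing (integralClosure A (Kc w.1))
      (I.map (algebraMap A (integralClosure A (Kc w.1)))) := fun w => henselianRing_integral _
  haveI : HenselianRing R (I.map (algebraMap A R)) := RigidAIC.henselianRing_pi hI _
  have hR : RigidAIC.IsAIC R := RigidAIC.isAIC_pi fun w => RigidAIC.isAIC_integralClosure A _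
  let Rh := AdicCompletion (I.map (algebraMap A R)) R
  haveI : HenselianRing Rh (I.map (algebraMap A Rh)) := henselianRing_completion hI R
  let aR : AdicCompletion I A →ₐ[A] Rh := toCompl I R
  let hR' : R →ₐ[A] Rh := IsScalarTower.toAlgHom A R _
  -- geometric points of `G`
  let θ : ∀ g : PrimeSpectrum G, G →ₐ[A] Kc g := fun g => χc g
  let ψ : ∀ g : PrimeSpectrum G, R →ₐ[A] Kc g := fun g => (θ g).comp ρ
  let χ : ∀ g : PrimeSpectrum G, B i →ₐ[A] Kc g := fun g => (θ g).comp σ
  -- labels at points of the completion of `R`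
  have hlabel : ∀ (g : PrimeSpectrum G) (Q : PrimeSpectrum Rh),
      PrimeSpectrum.comap (algebraMap A Rh) Q ∈ D.U → RingHom.ker (ψ g) ≤ (below hR' Q).asIdeal →
        (In D aR hR' (ψ g) (χ g) Q ↔ Good D (χ g)) := by
    intro g Q hQ hle
    let J := RingHom.ker (ψ g)
    haveI : J.IsPrime := RingHom.ker_isPrime _
    let Rg := R ⧸ J
    haveI : HenselianRing Rg (I.map (algebraMap A Rg)) := henselianRing_tower (R := R)
    have hRg : RigidAIC.IsAIC Rg :=
      RigidAIC.isAIC_of_surjective hR (Ideal.Quotient.mk J) Ideal.Quotient.mk_surjective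
    let ψ' : Rg →ₐ[A] Kc g := Ideal.Quotient.liftₐ J (ψ g) fun x hx => hx
    have hψ' : Function.Injective ψ' := by
      rw [injective_iff_map_eq_zero]
      intro x hx
      obtain ⟨r, rfl⟩ := Ideal.Quotient.mk_surjective x
      exact Ideal.Quotient.eq_zero_iff_mem.2 hx
    let J' := J.map hR'.toRingHom
    let C := Rh ⧸ J'
    haveI : HenselianRing C (I.map (algebraMap A C)) := henselianRing_tower (R := Rh)
    let gC : Rh →ₐ[A] C := Ideal.Quotient.mkₐ A J'
    let h' : Rg →ₐ[A] C := Ideal.Quotient.liftₐ J (gC.comp hR') fun x hx =>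
      Ideal.Quotient.eq_zero_iff_mem.2 (Ideal.mem_map_of_mem _ hx)
    have hJQ : J' ≤ Q.asIdeal := Ideal.map_le_iff_le_comap.2 hle
    obtain ⟨Q'', hQ''⟩ : ∃ Q'', PrimeSpectrum.comap gC.toRingHom Q'' = Q := by
      have : Q ∈ PrimeSpectrum.zeroLocus (RingHom.ker (Ideal.Quotient.mk J') : Set Rh) := by
        rw [Ideal.mk_ker]; exact hJQ
      rw [← range_comap_of_surjective _ _ Ideal.Quotient.mk_surjective] at this
      exact this
    have hU : PrimeSpectrum.comap (algebraMap A C) Q'' ∈ D.U := by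
      rw [← hQ'', ← PrimeSpectrum.comap_comp_apply, AlgHom.toRingHom_eq_coe, gC.comp_algebraMap] at hQ
      exact hQ
    rw [← allIn_comp_iff_good D hI hRg hψ' (AlgHom.id A (Kc g)) (χ g),
      ← in_iff_allIn D hI hRg hψ' _ (gC.comp aR) h' Q'' hU, ← hQ'']
    refine (in_congr D (Ideal.Quotient.mkₐ A J) gC (AlgHom.id A (Kc g)) rfl
      (AlgHom.ext fun _ => rfl) (AlgHom.ext fun _ => rfl) hR (χ g) Q'' hU ?_).symm
    rw [(RingHom.injective_iff_ker_eq_bot _).1 hψ']
    exact bot_le
  -- `G` is absolutely flat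
  have hV : ∀ x : G, IsOpen {g : PrimeSpectrum G | x ∈ g.asIdeal} := by
    intro x
    have hx : x * (1 - x * x⁻¹) = 0 := funext fun w => by
      show x w * (1 - x w * (x w)⁻¹) = 0
      rw [mul_sub, mul_one, ← mul_assoc, mul_self_mul_inv, sub_self]
    convert (PrimeSpectrum.basicOpen (1 - x * x⁻¹)).isOpen using 1
    ext g
    show x ∈ g.asIdeal ↔ 1 - x * x⁻¹ ∉ g.asIdeal
    refine ⟨fun h h' => g.2.ne_top ((Ideal.eq_top_iff_one _).2 ?_), fun h =>
      ((g.2.mem_or_mem (hx ▸ zero_mem _)).resolve_right h)⟩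
    simpa using add_mem h' (g.asIdeal.mul_mem_right x⁻¹ h)
  -- a good point of `G` over a generization of `w₀`
  have hker : RingHom.ker σ ≤ w₀.asIdeal := by
    intro x hx
    rw [← PrimeSpectrum.zeroLocus_vanishingIdeal_eq_closure] at hw₀
    refine hw₀ ((PrimeSpectrum.mem_vanishingIdeal _ _).2 fun w hw => ?_)
    exact (χc_eq_zero_iff (A := A) w x).1 (congrFun hx ⟨w, hw⟩)
  obtain ⟨p, hp, hpw⟩ := Ideal.exists_minimalPrimes_le hker
  obtain ⟨g, hgp, -, hgc⟩ := Ideal.exists_comap_eq_of_mem_minimalPrimes σ.toRingHom p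
    (I := ⊥) (by rwa [← RingHom.ker_eq_comap_bot])
  let g₀ : PrimeSpectrum G := ⟨g, hgp⟩
  have hg₀ : Good D (χ g₀) := by
    refine good_of_le D hI (fun x hx => ?_) hgood
    rw [RingHom.mem_ker, χc_eq_zero_iff]
    refine hpw (hgc ▸ ?_)
    exact (χc_eq_zero_iff (A := A) g₀ (σ x)).1 hx
  -- the tube
  let UR : Set (PrimeSpectrum Rh) := PrimeSpectrum.comap (algebraMap A Rh) ⁻¹' D.U
  have hUR : IsCompact UR := by
    obtain ⟨K, hK, hKU⟩ := PrimeSpectrum.isCompact_isOpen_iff_ideal.1 ⟨D.isCompact_U, D.isOpen_U⟩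
    refine (PrimeSpectrum.isCompact_isOpen_iff_ideal.2 ⟨K.map (algebraMap A Rh), hK.map _, ?_⟩).1
    show _ = PrimeSpectrum.comap (algebraMap A Rh) ⁻¹' D.U
    rw [← hKU, Set.preimage_compl, PrimeSpectrum.preimage_comap_zeroLocus]
    exact congrArg compl (PrimeSpectrum.zeroLocus_span _)
  have htube : ∀ Q ∈ UR, ∃ N : Set (PrimeSpectrum Rh), IsOpen N ∧ Q ∈ N ∧
      ∃ O : Set (PrimeSpectrum G), IsOpen O ∧ g₀ ∈ O ∧ ∀ g ∈ O, ∀ Q' ∈ N,
        RingHom.ker (ψ g) ≤ (below hR' Q').asIdeal → In D aR hR' (ψ g) (χ g) Q' := by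
    intro Q hQ
    by_cases hle : RingHom.ker (ψ g₀) ≤ (below hR' Q).asIdeal
    · obtain ⟨j, r, τr, N, hN, hQN, hN'⟩ := exists_spread D aR hR' hR Q hQ
      let Gr := Localization.Away (ρ r)
      let θG : Localization.Away r →ₐ[A] Gr :=
        IsLocalization.liftAlgHom (M := Submonoid.powers r) (f := (IsScalarTower.toAlgHom A G Gr).comp ρ) (by
          rintro ⟨_, n, rfl⟩
          show IsUnit (algebraMap G Gr (ρ (r ^ n)))
          rw [map_pow, map_pow]
          exact (IsLocalization.Away.algebraMap_isUnit (ρ r)).pow n)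
      have hθG : ∀ x, θG (algebraMap R _ x) = algebraMap G Gr (ρ x) := fun x => IsLocalization.lift_eq _ x
      let Φ : B j ⊗[A] B i →ₐ[A] Gr :=
        Algebra.TensorProduct.productMap (θG.comp τr) ((IsScalarTower.toAlgHom A G Gr).comp σ)
      let c := PrimeSpectrum.comap (algebraMap G Gr)
      have key : ∀ (g'' : PrimeSpectrum Gr) (Q' : PrimeSpectrum Rh), Q' ∈ N →
          RingHom.ker (ψ (c g'')) ≤ (below hR' Q').asIdeal →
          (In D aR hR' (ψ (c g'')) (χ (c g'')) Q' ↔ PrimeSpectrum.comap Φ.toRingHom g'' ∈ D.Rel j i) := by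
        intro g'' Q' hQ' hle'
        obtain ⟨hr, -, hmem⟩ := hN' Q' hQ'
        set g := c g''
        have hrg : ρ r ∉ g.asIdeal := fun h => g''.2.ne_top
          (Ideal.eq_top_of_isUnit_mem _ h (IsLocalization.Away.algebraMap_isUnit (ρ r)))
        let k : Gr →ₐ[A] Kc g :=
          IsLocalization.liftAlgHom (M := Submonoid.powers (ρ r)) (f := θ g) (by
            rintro ⟨_, n, rfl⟩
            show IsUnit (θ g (ρ r ^ n))
            rw [map_pow]
            exact (IsUnit.mk0 _ fun h0 => hrg ((χc_eq_zero_iff (A := A) g _).1 h0)).pow n)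
        have hk : ∀ x, k (algebraMap G Gr x) = θ g x := fun x => IsLocalization.lift_eq _ x
        let ρl : Localization.Away r →ₐ[A] Localization.AtPrime (below hR' Q').asIdeal :=
          IsLocalization.liftAlgHom (M := Submonoid.powers r) (f := IsScalarTower.toAlgHom A R _) (by
            rintro ⟨_, n, rfl⟩
            exact IsLocalization.map_units (Localization.AtPrime (below hR' Q').asIdeal)
              (⟨r ^ n, (below hR' Q').asIdeal.primeCompl.pow_mem hr n⟩ : (below hR' Q').asIdeal.primeCompl))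
        have hρl : ∀ x, ρl (algebraMap R _ x) = algebraMap R _ x := fun x => IsLocalization.lift_eq _ x
        rw [in_iff hle' (hmem ρl hρl)]
        have e1 : (ext (ψ g) _ hle').comp ρl = k.comp θG := by
          refine IsLocalization.algHom_ext (Submonoid.powers r) (AlgHom.ext fun x => ?_)
          show ext (ψ g) _ hle' (ρl (algebraMap R _ x)) = k (θG (algebraMap R _ x))
          rw [hρl, ext_algebraMap, hθG, hk]
          rfl
        have e2 : k.comp ((IsScalarTower.toAlgHom A G Gr).comp σ) = χ g := AlgHom.ext fun x => hk _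
        have e3 : g'' = pt k.toRingHom := by
          refine PrimeSpectrum.localization_comap_injective Gr (Submonoid.powers (ρ r)) ?_
          refine PrimeSpectrum.ext (Ideal.ext fun x => ?_)
          show x ∈ g.asIdeal ↔ k (algebraMap G Gr x) = 0
          rw [hk]
          exact (χc_eq_zero_iff (A := A) g x).symm
        rw [← AlgHom.comp_assoc, e1, AlgHom.comp_assoc, ← e2, e3, pt₂, productMap_comp]
        rfl
      refine ⟨N, hN, hQN, c '' (PrimeSpectrum.comap Φ.toRingHom ⁻¹' D.Rel j i),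
        (PrimeSpectrum.localization_away_isOpenEmbedding Gr (ρ r)).isOpenMap _
          ((D.isOpen_Rel j i).preimage (PrimeSpectrum.continuous_comap _)), ?_, ?_⟩
      · obtain ⟨g'', hg''⟩ : g₀ ∈ Set.range c := by
          rw [PrimeSpectrum.localization_away_comap_range Gr (ρ r)]
          show ρ r ∉ g₀.asIdeal
          exact fun h => (hN' Q hQN).1 (hle ((χc_eq_zero_iff (A := A) g₀ (ρ r)).2 h))
        refine ⟨g'', (key g'' Q hQN (by rw [hg'']; exact hle)).1 ?_, hg''⟩
        rw [hg'']
        exact (hlabel g₀ Q hQ hle).2 hg₀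
      · rintro _ ⟨g'', hg'', rfl⟩ Q' hQ' hle'
        exact (key g'' Q' hQ' hle').2 hg''
    · obtain ⟨f, hf, hfQ⟩ := SetLike.not_le_iff_exists.1 hle
      refine ⟨_, (PrimeSpectrum.basicOpen (hR' f)).isOpen, hfQ, {g | ρ f ∈ g.asIdeal}, hV _,
        (χc_eq_zero_iff (A := A) g₀ _).1 hf, fun g hg Q' hQ' hle' => absurd (hle' ((χc_eq_zero_iff (A := A) g _).2 hg)) hQ'⟩
  choose! N hN hQN O hO hg₀O hOin using htube
  obtain ⟨s, hs, hcov⟩ := hUR.elim_nhds_subcover N fun Q hQ => (hN Q hQ).mem_nhds (hQN Q hQ)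
  have hmem : (⋂ Q ∈ s, O Q) ∈ nhds g₀ :=
    (Filter.biInter_finset_mem s).2 fun Q hQ => (hO Q (hs Q hQ)).mem_nhds (hg₀O Q (hs Q hQ))
  obtain ⟨_, ⟨e, rfl⟩, he₀, heO⟩ :=
    PrimeSpectrum.isTopologicalBasis_basic_opens.mem_nhds_iff.1 hmem
  obtain ⟨w, hw⟩ : ∃ w : W, e w ≠ 0 := by
    by_contra hc
    push Not at hc
    exact he₀ ((show e = 0 from funext hc) ▸ zero_mem _)
  let gw : PrimeSpectrum G := pt (Pi.evalRingHom (fun w : W => Kc w.1) w)
  have hgw : gw ∈ ⋂ Q ∈ s, O Q := heO hw
  -- contradiction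
  have hgw' : Good D (χ gw) := by
    have hU : PrimeSpectrum.comap (algebraMap A R) (pt (ψ gw).toRingHom) ∈ D.U := by
      convert D.mem_U i (pt (χ gw).toRingHom) using 1
      refine PrimeSpectrum.ext (Ideal.ext fun x => ?_)
      show ψ gw (algebraMap A R x) = 0 ↔ χ gw (algebraMap A (B i) x) = 0
      rw [(ψ gw).commutes, (χ gw).commutes]
    obtain ⟨Q', hQ', hle'⟩ := exists_point D hI _ hU
    obtain ⟨Q, hQs, hQ'N⟩ := Set.mem_iUnion₂.1 (hcov hQ')
    exact (hlabel gw Q' hQ' hle').1 (hOin Q (hs Q hQs) gw (Set.mem_iInter₂.1 hgw Q hQs) Q' hQ'N hle')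
  refine w.2 ((good_iff_of_pt_eq D hI (PrimeSpectrum.ext (Ideal.ext fun x => ?_))).1 hgw')
  show χ gw x = 0 ↔ χc (A := A) w.1 x = 0
  exact χc_eq_zero_iff (A := A) gw (σ x)

/-- Open classes on the completion descend. -/
theorem exists_descent : ∃ T : ∀ i, Set (PrimeSpectrum (B i)),
    (∀ i, IsOpen (T i)) ∧
    (∀ (i : ι) (z : PrimeSpectrum (AdicCompletion I A ⊗[A] B i)),
      z ∈ D.Mem i ↔ PrimeSpectrum.comap (Algebra.TensorProduct.includeRight (R := A)).toRingHom z ∈ T i) ∧
    (∀ (i j : ι) (z : PrimeSpectrum (B i ⊗[A] B j)),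
      PrimeSpectrum.comap Algebra.TensorProduct.includeLeftRingHom z ∈ T i →
      PrimeSpectrum.comap Algebra.TensorProduct.includeRight.toRingHom z ∈ T j → z ∈ D.Rel i j) ∧
    ∀ p ∈ D.U, ∃ (i : ι) (w : PrimeSpectrum (B i)),
      w ∈ T i ∧ PrimeSpectrum.comap (algebraMap A (B i)) w = p := by
  refine ⟨fun i => {w | Good D (χc (A := A) w)}, isOpen_good D hI, fun i z => ?_, fun i j z hi hj => ?_,
    fun p hp => ?_⟩
  · let φ : AdicCompletion I A →ₐ[A] Kc z := (χc (A := A) z).comp Algebra.TensorProduct.includeLeft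
    let χ : B i →ₐ[A] Kc z := (χc (A := A) z).comp Algebra.TensorProduct.includeRight
    have hz : pt₂ φ χ = z := PrimeSpectrum.ext (Ideal.ext fun x => by
      show Algebra.TensorProduct.productMap φ χ x = 0 ↔ _
      rw [show Algebra.TensorProduct.productMap φ χ = χc z from
        Algebra.TensorProduct.ext' fun a b => by
          show χc (A := A) z (a ⊗ₜ[A] 1) * χc (A := A) z (1 ⊗ₜ[A] b) = _
          rw [← map_mul]; simp]
      exact χc_eq_zero_iff (A := A) z x)
    show z ∈ D.Mem i ↔ Good D (χc (A := A) _)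
    rw [← good_iff_of_pt_eq D hI (χ := χ) (PrimeSpectrum.ext (Ideal.ext fun x => by
      show χc (A := A) z ((1 : AdicCompletion I A) ⊗ₜ[A] x) = 0 ↔ χc (A := A) _ x = 0
      rw [χc_eq_zero_iff, χc_eq_zero_iff]
      rfl)), good_iff_mem D hI φ χ, hz]
  · let χ₁ : B i →ₐ[A] Kc z := (χc (A := A) z).comp Algebra.TensorProduct.includeLeft
    let χ₂ : B j →ₐ[A] Kc z := (χc (A := A) z).comp Algebra.TensorProduct.includeRight
    have h₁ : Good D χ₁ := (good_iff_of_pt_eq D hI (PrimeSpectrum.ext (Ideal.ext fun x => by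
      show χc (A := A) _ x = 0 ↔ χc (A := A) z (x ⊗ₜ[A] (1 : B j)) = 0
      rw [χc_eq_zero_iff, χc_eq_zero_iff]
      rfl))).1 hi
    have h₂ : Good D χ₂ := (good_iff_of_pt_eq D hI (PrimeSpectrum.ext (Ideal.ext fun x => by
      show χc (A := A) _ x = 0 ↔ χc (A := A) z ((1 : B i) ⊗ₜ[A] x) = 0
      rw [χc_eq_zero_iff, χc_eq_zero_iff]
      rfl))).1 hj
    convert rel_of_good D hI h₁ h₂ using 1
    refine PrimeSpectrum.ext (Ideal.ext fun x => ?_)
    show x ∈ z.asIdeal ↔ Algebra.TensorProduct.productMap χ₁ χ₂ x = 0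
    rw [show Algebra.TensorProduct.productMap χ₁ χ₂ = χc z from
      Algebra.TensorProduct.ext' fun a b => by
        show χc (A := A) z (a ⊗ₜ[A] 1) * χc (A := A) z (1 ⊗ₜ[A] b) = _
        rw [← map_mul]; simp]
    exact (χc_eq_zero_iff (A := A) z x).symm
  · have hp' : pt (algebraMap A (Kc p)) ∈ D.U := by
      convert hp using 1
      exact PrimeSpectrum.ext (Ideal.ext fun x => χc_eq_zero_iff (A := A) p x)
    obtain ⟨i, χ, hχ⟩ := exists_good D hI hp'
    refine ⟨i, pt χ.toRingHom, (good_iff_χc D hI χ).1 hχ, PrimeSpectrum.ext (Ideal.ext fun x => ?_)⟩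
    show χ (algebraMap A (B i) x) = 0 ↔ x ∈ p.asIdeal
    rw [χ.commutes]
    exact χc_eq_zero_iff (A := A) p x

end Descent

end Groth.Agent.Hens.RigidLabel
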