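import Groth.Agent.Hens.Local
import Mathlib.RingTheory.LocalRing.ResidueField.Ideal
import Mathlib.RingTheory.FinitePresentation

/-!
# Pointed étale algebras

Étale algebras with a prime over `p` with trivial residue field extension are étale algebras with
a point in `κ(p)`; equalizing them and factoring finitely presented algebras through them.
-/

set_option linter.style.haveILetI false

universe u

open IsLocalRing

namespace Groth.Agent.Hens

variable {R : Type u} [CommRing R] (p : Ideal R) [p.IsPrime]

/-- A prime over `p` with trivial residue extension gives a point in `κ(p)`. -/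
theorem exists_point_of_bijective {S : Type*} [CommRing S] [Algebra R S] (q : Ideal S) [q.IsPrime]
    (hq : p = q.comap (algebraMap R S))
    (h : Function.Bijective (Ideal.ResidueField.map p q (algebraMap R S) hq)) :
    ∃ τ : S →ₐ[R] p.ResidueField, RingHom.ker τ.toRingHom = q := by
  let e := RingEquiv.ofBijective _ h
  refine ⟨⟨e.symm.toRingHom.comp (algebraMap S q.ResidueField), fun r => ?_⟩, ?_⟩
  · show e.symm (algebraMap S q.ResidueField (algebraMap R S r)) = algebraMap R p.ResidueField r
    apply e.injective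
    rw [RingEquiv.apply_symm_apply]
    exact (Ideal.ResidueField.map_algebraMap p q _ hq r).symm
  · ext x
    show e.symm (algebraMap S q.ResidueField x) = 0 ↔ x ∈ q
    rw [map_eq_zero_iff e.symm e.symm.injective]
    exact Ideal.algebraMap_residueField_eq_zero

variable {p}

theorem comap_ker_point {S : Type*} [CommRing S] [Algebra R S] (τ : S →ₐ[R] p.ResidueField) :
    p = (RingHom.ker τ.toRingHom).comap (algebraMap R S) := by
  ext r
  simp only [Ideal.mem_comap, RingHom.mem_ker, AlgHom.toRingHom_eq_coe, RingHom.coe_coe,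
    AlgHom.commutes, Ideal.algebraMap_residueField_eq_zero]

theorem bijective_residueFieldMap_of_point {S : Type*} [CommRing S] [Algebra R S]
    (τ : S →ₐ[R] p.ResidueField) (q : Ideal S) [q.IsPrime] (hker : RingHom.ker τ.toRingHom = q)
    (hq : p = q.comap (algebraMap R S)) :
    Function.Bijective (Ideal.ResidueField.map p q (algebraMap R S) hq) := by
  subst hker
  refine ⟨RingHom.injective _, ?_⟩
  let ψ : (RingHom.ker τ.toRingHom).ResidueField →+* p.ResidueField :=
    Ideal.ResidueField.lift _ τ.toRingHom le_rfl (fun x hx => IsUnit.mk0 _ hx)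
  have hψ : ψ.comp (Ideal.ResidueField.map p _ (algebraMap R S) hq) = RingHom.id _ :=
    Ideal.ResidueField.ringHom_ext (RingHom.ext fun r => by
      show ψ (Ideal.ResidueField.map p _ (algebraMap R S) hq (algebraMap R _ r)) = _
      rw [Ideal.ResidueField.map_algebraMap]
      show ψ (algebraMap S _ (algebraMap R S r)) = _
      rw [Ideal.ResidueField.lift_algebraMap]
      exact τ.commutes r)
  intro y
  exact ⟨ψ y, ψ.injective (RingHom.congr_fun hψ (ψ y))⟩

/-- Points in `κ(p)` are determined by their kernel. -/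
theorem point_ext {S : Type*} [CommRing S] [Algebra R S] {τ₁ τ₂ : S →ₐ[R] p.ResidueField}
    (h : RingHom.ker τ₁.toRingHom = RingHom.ker τ₂.toRingHom) : τ₁ = τ₂ := by
  refine AlgHom.ext fun x => ?_
  obtain ⟨r, s, hs, hx⟩ : ∃ r s : R, s ∉ p ∧
      τ₁ x * algebraMap R p.ResidueField s = algebraMap R _ r := by
    obtain ⟨y, hy⟩ := IsLocalRing.residue_surjective (R := Localization.AtPrime p) (τ₁ x)
    obtain ⟨r, s, rfl⟩ := IsLocalization.exists_mk'_eq p.primeCompl y
    refine ⟨r, (s : R), s.2, ?_⟩
    rw [← hy]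
    show residue _ _ * residue _ (algebraMap R (Localization.AtPrime p) (s : R)) = _
    rw [← map_mul, IsLocalization.mk'_spec]
    rfl
  have hne : algebraMap R p.ResidueField s ≠ 0 := fun h0 =>
    hs (Ideal.algebraMap_residueField_eq_zero.1 h0)
  have hmem : x * algebraMap R S s - algebraMap R S r ∈ RingHom.ker τ₁.toRingHom := by
    simp [RingHom.mem_ker, hx]
  rw [h] at hmem
  simp only [RingHom.mem_ker, AlgHom.toRingHom_eq_coe, RingHom.coe_coe, map_sub, map_mul,
    AlgHom.commutes, sub_eq_zero] at hmem
  exact mul_right_cancel₀ hne (hx.trans hmem.symm)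

section Equalize

variable {K : Type u} [Field K] [Algebra R K]

/-- Two maps into an étale stage which agree in `EtLoc R K` agree after a localization away from an
element nonzero at the point. -/
theorem exists_away_comp_eq {A B : Type u} [CommRing A] [Algebra R A] [Algebra.FiniteType R A]
    [CommRing B] [Algebra R B] [Algebra.Etale R B] (θ : B →ₐ[R] EtLoc R K) (φ ψ : A →ₐ[R] B)
    (h : θ.comp φ = θ.comp ψ) :
    ∃ s : B, point R K (θ s) ≠ 0 ∧
      (IsScalarTower.toAlgHom R B (Localization.Away s)).comp φ =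
        (IsScalarTower.toAlgHom R B (Localization.Away s)).comp ψ := by
  obtain ⟨G, hG⟩ := Algebra.FiniteType.out (R := R) (A := A)
  choose s hs hs' using fun a : G => exists_mul_eq_of_map_eq θ (AlgHom.congr_fun h (a : A))
  refine ⟨∏ a : G, s a, ?_, AlgHom.ext_of_adjoin_eq_top hG fun a ha => ?_⟩
  · simp only [map_prod]
    exact Finset.prod_ne_zero_iff.2 fun a _ => hs a
  · show algebraMap B (Localization.Away (∏ a : G, s a)) (φ a) = algebraMap B _ (ψ a)
    obtain ⟨c, hc⟩ := Finset.dvd_prod_of_mem s (Finset.mem_univ (⟨a, ha⟩ : G))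
    have hu := IsLocalization.Away.algebraMap_isUnit
      (S := Localization.Away (∏ a : G, s a)) (∏ a : G, s a)
    have hs'' : s ⟨a, ha⟩ * φ a = s ⟨a, ha⟩ * ψ a := hs' ⟨a, ha⟩
    refine hu.mul_left_cancel ?_
    rw [← map_mul, ← map_mul]
    congr 1
    rw [hc, mul_assoc, mul_left_comm, hs'', mul_left_comm, ← mul_assoc]

/-- Every map from a finitely presented algebra to `EtLoc R K` factors through an étale
algebra. -/
theorem exists_factor_etale {P : Type u} [CommRing P] [Algebra R P]
    [Algebra.FinitePresentation R P] (h : P →ₐ[R] EtLoc R K) :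
    ∃ (A : Type u) (_ : CommRing A) (_ : Algebra R A),
      Algebra.Etale R A ∧ ∃ (f : P →ₐ[R] A) (θ : A →ₐ[R] EtLoc R K), θ.comp f = h := by
  classical
  obtain ⟨n, π, hπ, hfg⟩ := Algebra.FinitePresentation.out (R := R) (A := P)
  obtain ⟨A, _, _, hA, θ, hθ⟩ :=
    exists_stage_finset (Finset.univ.image fun i => h (π (MvPolynomial.X i)))
  choose a ha using fun i => hθ _ (Finset.mem_image.2 ⟨i, Finset.mem_univ _, rfl⟩)
  let φ : MvPolynomial (Fin n) R →ₐ[R] A := MvPolynomial.aeval a
  have hφ : θ.comp φ = h.comp π :=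
    MvPolynomial.algHom_ext fun i => by simpa [φ] using ha i
  obtain ⟨E, hE⟩ := hfg
  have hEm : ∀ e : E, θ (φ e) = θ 0 := fun e => by
    have : π e = 0 := (hE ▸ Ideal.subset_span e.2 : (e : MvPolynomial (Fin n) R) ∈ _)
    rw [← AlgHom.comp_apply, hφ, AlgHom.comp_apply, this, map_zero, map_zero]
  choose s hs hs' using fun e : E => exists_mul_eq_of_map_eq θ (hEm e)
  let S := ∏ e : E, s e
  have hS : point R K (θ S) ≠ 0 := by
    simp only [S, map_prod]
    exact Finset.prod_ne_zero_iff.2 fun e _ => hs e
  have hu : IsUnit (θ S) := isUnit_of_map_unit (point R K).toRingHom _ (IsUnit.mk0 _ hS)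
  let φ' := (IsScalarTower.toAlgHom R A (Localization.Away S)).comp φ
  have hker : RingHom.ker π.toRingHom ≤ RingHom.ker φ'.toRingHom := by
    rw [← hE, Ideal.span_le]
    intro e he
    show algebraMap A (Localization.Away S) (φ e) = 0
    obtain ⟨c, hc⟩ := Finset.dvd_prod_of_mem s (Finset.mem_univ (⟨e, he⟩ : E))
    have h0 : s ⟨e, he⟩ * φ e = 0 := by simpa using hs' ⟨e, he⟩
    refine (IsLocalization.Away.algebraMap_isUnit
      (S := Localization.Away S) S).mul_left_cancel ?_
    rw [mul_zero, ← map_mul, show S = s ⟨e, he⟩ * c from hc, mul_right_comm, h0, zero_mul,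
      map_zero]
  refine ⟨Localization.Away S, _, _, inferInstance,
    AlgHom.liftOfSurjective π hπ φ' hker, awayExt θ S hu, ?_⟩
  refine AlgHom.ext fun x => ?_
  obtain ⟨y, rfl⟩ := hπ x
  rw [AlgHom.comp_apply, AlgHom.liftOfSurjective_apply]
  show awayExt θ S hu (algebraMap A _ (φ y)) = _
  rw [awayExt_algebraMap, ← AlgHom.comp_apply, hφ, AlgHom.comp_apply]

end Equalize

end Groth.Agent.Hens
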