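import Groth.Agent.Hens.Local
import Groth.Agent.Hens.Stage
import Mathlib.RingTheory.Smooth.IntegralClosure
import Mathlib.RingTheory.Etale.Basic
import Mathlib.RingTheory.Ideal.GoingDown
import Mathlib.RingTheory.Henselian
import Groth.Agent.Hens.RigidDescent

/-!
# Idempotents of `K ⊗ A^h`, and constancy along fibres of a clopen of a punctured `Spec (B ⊗ A^h)`
-/

set_option autoImplicit false
set_option linter.style.haveILetI false
set_option backward.isDefEq.respectTransparency.types false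

universe u

open TensorProduct IsLocalRing

noncomputable section

namespace Groth.Agent.Hens.PunctDescentAlg

section Idempotent

variable {A : Type u} [CommRing A] {k : Type u} [Field k] [Algebra A k] {K : Type u} [CommRing K] [Algebra A K]

theorem exists_stage_tensor (x : EtLoc A k ⊗[A] K) :
    ∃ (S : Type u) (_ : CommRing S) (_ : Algebra A S),
      Algebra.Etale A S ∧ ∃ (θ : S →ₐ[A] EtLoc A k) (y : S ⊗[A] K),
        Algebra.TensorProduct.map θ (AlgHom.id A K) y = x := by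
  induction x using TensorProduct.induction_on with
  | zero => exact ⟨A, _, _, inferInstance, Algebra.ofId A _, 0, map_zero _⟩
  | tmul h r =>
    obtain ⟨S, _, _, hS, θ, a, rfl⟩ := exists_stage h
    exact ⟨S, _, _, hS, θ, a ⊗ₜ r, rfl⟩
  | add x y hx hy =>
    obtain ⟨S₁, _, _, hS₁, θ₁, y₁, rfl⟩ := hx
    obtain ⟨S₂, _, _, hS₂, θ₂, y₂, rfl⟩ := hy
    haveI : Algebra.Etale S₁ (S₁ ⊗[A] S₂) := inferInstance
    haveI : Algebra.Etale A (S₁ ⊗[A] S₂) := Algebra.Etale.comp A S₁ (S₁ ⊗[A] S₂)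
    refine ⟨S₁ ⊗[A] S₂, inferInstance, inferInstance, inferInstance, Algebra.TensorProduct.productMap θ₁ θ₂,
      Algebra.TensorProduct.map (Algebra.TensorProduct.includeLeft : S₁ →ₐ[A] S₁ ⊗[A] S₂) (AlgHom.id A K) y₁ +
      Algebra.TensorProduct.map (Algebra.TensorProduct.includeRight : S₂ →ₐ[A] S₁ ⊗[A] S₂) (AlgHom.id A K) y₂, ?_⟩
    rw [map_add, ← AlgHom.comp_apply, ← AlgHom.comp_apply, ← Algebra.TensorProduct.map_comp,
      ← Algebra.TensorProduct.map_comp, Algebra.TensorProduct.productMap_left,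
      Algebra.TensorProduct.productMap_right, AlgHom.comp_id]

/-- An element of a stage killed in the henselization is killed by an element invertible there. -/
theorem exists_isUnit_smul_eq_zero {S : Type u} [CommRing S] [Algebra A S] [Algebra.Etale A S]
    (θ : S →ₐ[A] EtLoc A k) (z : S ⊗[A] K) (hz : Algebra.TensorProduct.map θ (AlgHom.id A K) z = 0) :
    ∃ s : S, IsUnit (θ s) ∧ s • z = 0 := by
  letI := θ.toRingHom.toAlgebra
  haveI : IsScalarTower A S (EtLoc A k) := .of_algebraMap_eq' θ.comp_algebraMap.symm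
  haveI : Module.Flat S (EtLoc A k) :=
    Algebra.FormallyUnramified.flat_of_restrictScalars A S (EtLoc A k)
  let I : Ideal S := LinearMap.ker (LinearMap.toSpanSingleton S (S ⊗[A] K) z)
  let L : (S ⧸ I) →ₗ[S] S ⊗[A] K := Submodule.liftQ I (LinearMap.toSpanSingleton S (S ⊗[A] K) z) le_rfl
  have hL : Function.Injective L := by
    rw [← LinearMap.ker_eq_bot]
    exact Submodule.ker_liftQ_eq_bot _ _ _ le_rfl
  have h1 : ((1 : EtLoc A k) ⊗ₜ[S] (Submodule.Quotient.mk 1 : S ⧸ I)) = 0 := by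
    apply Module.Flat.lTensor_preserves_injective_linearMap (M := EtLoc A k) L hL
    rw [map_zero, LinearMap.lTensor_tmul]
    apply (TensorProduct.AlgebraTensorModule.cancelBaseChange A S (EtLoc A k) (EtLoc A k) K).injective
    rw [map_zero]
    have hLz : L (Submodule.Quotient.mk 1) = z := one_smul S z
    rw [hLz]
    refine Eq.trans ?_ hz
    clear hLz L hL I hz
    generalize z = w
    induction w using TensorProduct.induction_on with
    | zero => simp
    | tmul a b =>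
      rw [TensorProduct.AlgebraTensorModule.cancelBaseChange_tmul, Algebra.TensorProduct.map_tmul,
        Algebra.smul_def, mul_one]
      rfl
    | add a b ha hb => rw [TensorProduct.tmul_add, map_add, map_add, ha, hb]
  obtain ⟨s, hsI, hsu⟩ : ∃ s ∈ I, IsUnit (θ s) := by
    by_contra hcon
    push Not at hcon
    have hle : I.map θ.toRingHom ≤ maximalIdeal (EtLoc A k) :=
      Ideal.map_le_iff_le_comap.2 fun s hs => hcon s hs
    have h2 := congrArg (TensorProduct.tensorQuotEquivQuotSMul (EtLoc A k) I) h1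
    rw [map_zero] at h2
    have h3 : (1 : EtLoc A k) ∈ I • (⊤ : Submodule S (EtLoc A k)) := by
      rw [← Submodule.Quotient.mk_eq_zero]
      refine Eq.trans ?_ h2
      exact ((TensorProduct.tensorQuotEquivQuotSMul_tmul_mk (M := EtLoc A k) I 1 1).trans (by rw [one_smul])).symm
    refine (maximalIdeal (EtLoc A k)).ne_top_iff_one.1 (maximalIdeal.isMaximal _).ne_top (hle ?_)
    rw [Ideal.smul_top_eq_map] at h3
    exact h3
  exact ⟨s, hsu, hsI⟩

theorem exists_lift_awayHom {S T : Type u} [CommRing S] [CommRing T] (φ : S →+* T) (S' : Type u) [CommRing S']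
    [Algebra S S'] (s : S) [IsLocalization.Away s S'] (h : IsUnit (φ s)) :
    ∃ φ' : S' →+* T, ∀ a, φ' (algebraMap S S' a) = φ a :=
  ⟨IsLocalization.Away.lift s h, fun a => IsLocalization.Away.lift_eq s h a⟩

/-- An idempotent `x'` over an étale algebra is a tensor with integral second factors. -/
theorem exists_integral_of_idempotent {S : Type u} [CommRing S] [Algebra A S] [Algebra.Etale A S]
    (x : S ⊗[A] K) (hx : IsIdempotentElem x) :
    ∃ w : S ⊗[A] integralClosure A K,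
      Algebra.TensorProduct.map (AlgHom.id A S) (integralClosure A K).val w = x := by
  have hint : IsIntegral S x :=
    ⟨Polynomial.X ^ 2 - Polynomial.X,
      Polynomial.monic_X_pow_sub (Polynomial.degree_X_le.trans_lt (by norm_num)), by simp [pow_two, hx.eq]⟩
  obtain ⟨w, hw⟩ := (TensorProduct.toIntegralClosure_bijective_of_smooth (R := A) (S := S) (B := K)).2 ⟨x, hint⟩
  refine ⟨w, ?_⟩
  have h := congrArg (integralClosure S (S ⊗[A] K)).val hw
  refine Eq.trans ?_ h
  clear hw h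
  induction w using TensorProduct.induction_on with
  | zero => simp
  | tmul a b => simp [TensorProduct.toIntegralClosure]
  | add a b ha hb => rw [map_add, map_add, map_add, ha, hb]

theorem map_smul_toAlgHom {S S' : Type u} [CommRing S] [Algebra A S] [CommRing S'] [Algebra A S'] [Algebra S S']
    [IsScalarTower A S S'] (a : S) (w : S ⊗[A] K) :
    Algebra.TensorProduct.map (IsScalarTower.toAlgHom A S S') (AlgHom.id A K) (a • w) =
      algebraMap S S' a • Algebra.TensorProduct.map (IsScalarTower.toAlgHom A S S') (AlgHom.id A K) w := by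
  induction w using TensorProduct.induction_on with
  | zero => simp
  | tmul b c => simp [TensorProduct.smul_tmul', Algebra.smul_def]
  | add b c hb hc => rw [smul_add, map_add, map_add, smul_add, hb, hc]

theorem lift_away {S : Type u} [CommRing S] [Algebra A S] [Algebra.Etale A S]
    (θ : S →ₐ[A] EtLoc A k) (x : S ⊗[A] K) (s : S) (hsu : IsUnit (θ s)) (hsz : s • (x * x - x) = 0) :
    Algebra.TensorProduct.map θ (AlgHom.id A K) x ∈
      (Algebra.TensorProduct.map (AlgHom.id A (EtLoc A k)) (integralClosure A K).val).range := by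
  haveI : Algebra.Etale A (Localization.Away s) := Algebra.Etale.comp A S (Localization.Away s)
  obtain ⟨θ', hθ'⟩ := exists_lift_awayHom θ.toRingHom (Localization.Away s) s hsu
  let θ' : Localization.Away s →ₐ[A] EtLoc A k :=
    ⟨θ', fun r => by rw [IsScalarTower.algebraMap_apply A S (Localization.Away s)]; exact (hθ' _).trans (θ.commutes r)⟩
  have hθ' : θ'.comp (IsScalarTower.toAlgHom A S (Localization.Away s)) = θ := AlgHom.ext hθ'
  have hx' : IsIdempotentElem (Algebra.TensorProduct.map (IsScalarTower.toAlgHom A S (Localization.Away s)) (AlgHom.id A K) x) := by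
    rw [IsIdempotentElem, ← map_mul, ← sub_eq_zero, ← map_sub]
    apply (IsUnit.smul_eq_zero (IsLocalization.Away.algebraMap_isUnit (S := Localization.Away s) s)).1
    rw [← map_smul_toAlgHom, hsz]
    exact map_zero _
  obtain ⟨w, hw⟩ := exists_integral_of_idempotent _ hx'
  refine ⟨Algebra.TensorProduct.map θ' (AlgHom.id A (integralClosure A K)) w, ?_⟩
  have e1 : (Algebra.TensorProduct.map (AlgHom.id A (EtLoc A k)) (integralClosure A K).val).comp
      (Algebra.TensorProduct.map θ' (AlgHom.id A (integralClosure A K))) =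
      (Algebra.TensorProduct.map θ' (AlgHom.id A K)).comp
        (Algebra.TensorProduct.map (AlgHom.id A (Localization.Away s)) (integralClosure A K).val) := by
    rw [← Algebra.TensorProduct.map_comp, ← Algebra.TensorProduct.map_comp, AlgHom.id_comp, AlgHom.comp_id,
      AlgHom.comp_id, AlgHom.id_comp]
  have e2 : (Algebra.TensorProduct.map θ' (AlgHom.id A K)).comp
      (Algebra.TensorProduct.map (IsScalarTower.toAlgHom A S (Localization.Away s)) (AlgHom.id A K)) =
      Algebra.TensorProduct.map θ (AlgHom.id A K) := by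
    rw [← Algebra.TensorProduct.map_comp, hθ', AlgHom.id_comp]
  refine (DFunLike.congr_fun e1 w).trans ?_
  rw [AlgHom.comp_apply, hw]
  exact DFunLike.congr_fun e2 x

/-- An idempotent of `A^h ⊗ K` comes from `A^h ⊗ (integral closure)`. -/
theorem idempotent_mem_range (e : EtLoc A k ⊗[A] K) (he : IsIdempotentElem e) :
    e ∈ (Algebra.TensorProduct.map (AlgHom.id A (EtLoc A k)) (integralClosure A K).val).range := by
  obtain ⟨S, _, _, hS, θ, x, rfl⟩ := exists_stage_tensor e
  obtain ⟨s, hsu, hsz⟩ := exists_isUnit_smul_eq_zero θ (x * x - x) (by rw [map_sub, map_mul, he, sub_self])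
  exact lift_away θ x s hsu hsz

/-- ... from `A^h ⊗ R` with `R` a finite subalgebra containing given integral elements. -/
theorem exists_finite_subalgebra (e : EtLoc A k ⊗[A] K) (he : IsIdempotentElem e) (s : Finset K)
    (hs : ∀ a ∈ s, IsIntegral A a) :
    ∃ R : Subalgebra A K, Module.Finite A R ∧ (s : Set K) ⊆ R ∧
      e ∈ (Algebra.TensorProduct.map (AlgHom.id A (EtLoc A k)) R.val).range := by
  classical
  obtain ⟨w, hw⟩ := idempotent_mem_range e he
  obtain ⟨T, hT⟩ := TensorProduct.exists_finset w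
  let t : Finset K := s ∪ T.image fun i => (i.2 : K)
  have ht : ∀ a ∈ t, IsIntegral A a := by
    intro a ha
    rcases Finset.mem_union.1 ha with ha | ha
    · exact hs a ha
    · obtain ⟨i, -, rfl⟩ := Finset.mem_image.1 ha
      exact i.2.2
  let R := Algebra.adjoin A (t : Set K)
  refine ⟨R, Module.Finite.iff_fg.2 (fg_adjoin_of_finite t.finite_toSet ht), fun a ha =>
    Algebra.subset_adjoin (Finset.mem_union_left _ ha), ?_⟩
  rw [← hw, hT]
  change Algebra.TensorProduct.map (AlgHom.id A (EtLoc A k)) (integralClosure A K).val _ ∈ _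
  rw [map_sum]
  refine sum_mem fun i hi => ⟨i.1 ⊗ₜ ⟨(i.2 : K), Algebra.subset_adjoin
    (Finset.mem_union_right _ (Finset.mem_image_of_mem _ hi))⟩, rfl⟩

end Idempotent

section Fibre

variable {A : Type u} [CommRing A] [IsNoetherianRing A] [IsLocalRing A]

/-- A domain finite over a henselian pair: a dichotomy on maximal ideals which is locally constant
along `V(f)` is constant. -/
theorem constant_on_maximal (f : A) (hf : f ∈ maximalIdeal A) [HenselianRing A (Ideal.span {f})]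
    {R : Type u} [CommRing R] [IsDomain R] [Algebra A R] [Module.Finite A R]
    (ε : PrimeSpectrum R → Prop)
    (hε : ∀ (r M M' : PrimeSpectrum R), algebraMap A R f ∈ r.asIdeal → M.asIdeal.IsMaximal →
      M'.asIdeal.IsMaximal → r ≤ M → r ≤ M' → (ε M ↔ ε M'))
    (M M' : PrimeSpectrum R) (hM : M.asIdeal.IsMaximal) (hM' : M'.asIdeal.IsMaximal) (h : ε M) : ε M' := by
  classical
  set g := algebraMap A R f
  have hNR : IsNoetherianRing R := isNoetherian_of_tower A inferInstance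
  have hg : ∀ N : PrimeSpectrum R, N.asIdeal.IsMaximal → g ∈ N.asIdeal := fun N hN => by
    have : (N.asIdeal.comap (algebraMap A R)).IsMaximal := Ideal.isMaximal_comap_of_isIntegral_of_isMaximal N.asIdeal
    have := IsLocalRing.eq_maximalIdeal this
    exact this.ge hf
  let P := (Ideal.span {g}).minimalPrimes
  let hP : P.Finite := Ideal.finite_minimalPrimes_of_isNoetherianRing R _
  let good : Ideal R → Prop := fun p => ∃ N : PrimeSpectrum R, N.asIdeal.IsMaximal ∧ p ≤ N.asIdeal ∧ ε N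
  let a : Ideal R := (hP.toFinset.filter good).inf id
  let b : Ideal R := (hP.toFinset.filter fun p => ¬ good p).inf id
  have hmem : ∀ N : PrimeSpectrum R, N.asIdeal.IsMaximal →
      (a ≤ N.asIdeal → ε N) ∧ (b ≤ N.asIdeal → ¬ ε N) := by
    intro N hN
    constructor
    · intro hle
      obtain ⟨p, hp, hpN⟩ := (N.isPrime.inf_le').1 hle
      obtain ⟨hp, N', hN', hpN', hε'⟩ := Finset.mem_filter.1 hp
      have hp' := hP.mem_toFinset.1 hp
      exact (hε ⟨p, hp'.1.1⟩ N' N (hp'.1.2 (Ideal.mem_span_singleton_self g)) hN' hN hpN' hpN).1 hε'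
    · intro hle hεN
      obtain ⟨p, hp, hpN⟩ := (N.isPrime.inf_le').1 hle
      exact (Finset.mem_filter.1 hp).2 ⟨N, hN, hpN, hεN⟩
  have hsup : a ⊔ b = ⊤ := by
    by_contra hne
    obtain ⟨N, hN, hle⟩ := Ideal.exists_le_maximal _ hne
    exact (hmem ⟨N, hN.isPrime⟩ hN).2 (le_sup_right.trans hle) ((hmem ⟨N, hN.isPrime⟩ hN).1 (le_sup_left.trans hle))
  obtain ⟨x, hx, y, hy, hxy⟩ := Submodule.mem_sup.1 (hsup.ge (Submodule.mem_top (x := (1 : R))))
  have hrad : x * y ∈ (Ideal.span {g}).radical := by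
    rw [← Ideal.sInf_minimalPrimes, Submodule.mem_sInf]
    intro p hp
    have hp' : p ∈ hP.toFinset := hP.mem_toFinset.2 hp
    by_cases hgood : good p
    · exact Ideal.mul_mem_right _ _ (Finset.inf_le (f := id) (Finset.mem_filter.2 ⟨hp', hgood⟩) hx)
    · exact Ideal.mul_mem_left _ _ (Finset.inf_le (f := id) (Finset.mem_filter.2 ⟨hp', hgood⟩) hy)
  obtain ⟨n, hn⟩ := hrad
  have hco : IsCoprime (x ^ (n + 1)) (y ^ (n + 1)) := IsCoprime.pow ⟨1, 1, by rw [one_mul, one_mul, hxy]⟩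
  obtain ⟨c, d, hcd⟩ := hco
  set X' := c * x ^ (n + 1) with hX'
  have hprod : X' * (1 - X') ∈ Ideal.span {g} := by
    have : X' * (1 - X') = c * d * (x * y) * ((x * y) ^ n) := by
      rw [show 1 - X' = d * y ^ (n + 1) from by rw [← hcd]; ring, hX']; ring
    rw [this]
    exact Ideal.mul_mem_left _ _ hn
  haveI : HenselianRing R (Ideal.span {g}) := by
    have := Groth.Agent.Hens.RigidLabel.henselianRing_integral (A := A) (I := Ideal.span {f}) R
    rwa [Ideal.map_span, Set.image_singleton] at this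
  obtain ⟨e, he, hex⟩ := HenselianRing.is_henselian (I := Ideal.span {g}) (Polynomial.X ^ 2 - Polynomial.X)
    (Polynomial.monic_X_pow_sub (Polynomial.degree_X_le.trans_lt (by norm_num))) X'
    (by
      have : Polynomial.eval X' (Polynomial.X ^ 2 - Polynomial.X : Polynomial R) = - (X' * (1 - X')) := by
        simp only [Polynomial.eval_sub, Polynomial.eval_pow, Polynomial.eval_X]; ring
      rw [this]; exact neg_mem hprod)
    (by
      refine isUnit_of_dvd_one ⟨Ideal.Quotient.mk _ (2 * X' - 1), ?_⟩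
      rw [← map_mul, ← map_one (Ideal.Quotient.mk (Ideal.span {g})), Ideal.Quotient.eq]
      have : Polynomial.eval X' (Polynomial.derivative (Polynomial.X ^ 2 - Polynomial.X : Polynomial R)) = 2 * X' - 1 := by
        simp only [Polynomial.derivative_sub, Polynomial.derivative_X_pow, Polynomial.derivative_X, Polynomial.eval_sub,
          Polynomial.eval_mul, Polynomial.eval_C, Polynomial.eval_pow, Polynomial.eval_X, Polynomial.eval_one]
        push_cast; ring
      rw [this, show (1 : R) - (2 * X' - 1) * (2 * X' - 1) = 4 * (X' * (1 - X')) from by ring]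
      exact Ideal.mul_mem_left _ _ hprod)
  have he' : e = 0 ∨ e = 1 := by
    have : Polynomial.eval e (Polynomial.X ^ 2 - Polynomial.X : Polynomial R) = 0 := he
    simp only [Polynomial.eval_sub, Polynomial.eval_pow, Polynomial.eval_X] at this
    rcases mul_eq_zero.1 (show e * (e - 1) = 0 from by rw [← this]; ring) with h0 | h1
    · exact Or.inl h0
    · exact Or.inr (sub_eq_zero.1 h1)
  have hXa : X' ∈ a := Ideal.mul_mem_left _ _ (Ideal.pow_mem_of_mem _ hx _ n.succ_pos)
  have hXb : 1 - X' ∈ b := by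
    rw [show 1 - X' = d * y ^ (n + 1) from by rw [← hcd]; ring]
    exact Ideal.mul_mem_left _ _ (Ideal.pow_mem_of_mem _ hy _ n.succ_pos)
  have hcong : ∀ N : PrimeSpectrum R, N.asIdeal.IsMaximal → X' - e ∈ N.asIdeal := fun N hN => by
    obtain ⟨t, ht⟩ := Ideal.mem_span_singleton'.1 hex
    rw [show X' - e = -(e - X') from by ring, ← ht]
    exact neg_mem (Ideal.mul_mem_left _ _ (hg N hN))
  have hone : ∀ N : PrimeSpectrum R, (1 : R) ∉ N.asIdeal := fun N h => N.isPrime.ne_top (N.asIdeal.eq_top_iff_one.2 h)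
  have hcase : ∀ N : PrimeSpectrum R, N.asIdeal.IsMaximal → a ≤ N.asIdeal ∨ b ≤ N.asIdeal := fun N hN => by
    obtain ⟨p, hp, hpN⟩ := Ideal.exists_minimalPrimes_le ((Ideal.span_singleton_le_iff_mem _).2 (hg N hN))
    have hp' : p ∈ hP.toFinset := hP.mem_toFinset.2 hp
    by_cases hgood : good p
    · exact Or.inl ((Finset.inf_le (f := id) (Finset.mem_filter.2 ⟨hp', hgood⟩)).trans hpN)
    · exact Or.inr ((Finset.inf_le (f := id) (Finset.mem_filter.2 ⟨hp', hgood⟩)).trans hpN)
  rcases he' with rfl | rfl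
  · refine (hcase M' hM').elim (hmem M' hM').1 fun hb => absurd ?_ (hone M')
    simpa using add_mem (hcong M' hM') (hb hXb)
  · refine absurd ?_ (hone M)
    rcases hcase M hM with ha | hb
    · simpa using sub_mem (ha hXa) (hcong M hM)
    · exact absurd h ((hmem M hM).2 hb)

/-- Lift a prime of `T ⊗ R` along a map `B → R → K` into a field. -/
theorem exists_prime_over {A T R K : Type u} [CommRing A] [CommRing T] [Algebra A T] [CommRing R] [Algebra A R]
    [Field K] [Algebra A K] (j : R →ₐ[A] K) (Q : PrimeSpectrum (R ⊗[A] T))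
    (φ : K →ₐ[A] Q.asIdeal.ResidueField)
    (hφ : ∀ r, φ (j r) = algebraMap (R ⊗[A] T) Q.asIdeal.ResidueField (r ⊗ₜ 1)) :
    ∃ Qt : PrimeSpectrum (T ⊗[A] K), ∀ z : R ⊗[A] T,
      z ∈ Q.asIdeal ↔ Algebra.TensorProduct.map (AlgHom.id A T) j (Algebra.TensorProduct.comm A R T z) ∈ Qt.asIdeal := by
  let L := Q.asIdeal.ResidueField
  let ψ : T →ₐ[A] L := (IsScalarTower.toAlgHom A (R ⊗[A] T) L).comp Algebra.TensorProduct.includeRight
  let π := Algebra.TensorProduct.productMap ψ φ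
  refine ⟨⟨RingHom.ker π.toRingHom, RingHom.ker_isPrime _⟩, fun z => ?_⟩
  have e : π (Algebra.TensorProduct.map (AlgHom.id A T) j (Algebra.TensorProduct.comm A R T z)) =
      algebraMap (R ⊗[A] T) L z := by
    induction z using TensorProduct.induction_on with
    | zero => simp
    | tmul r t =>
      rw [Algebra.TensorProduct.comm_tmul, Algebra.TensorProduct.map_tmul, Algebra.TensorProduct.productMap_apply_tmul,
        hφ]
      change algebraMap (R ⊗[A] T) L ((1 : R) ⊗ₜ t) * algebraMap (R ⊗[A] T) L (r ⊗ₜ 1) = _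
      rw [← map_mul, Algebra.TensorProduct.tmul_mul_tmul, one_mul, mul_one]
    | add a b ha hb => simp only [map_add, ha, hb]
  rw [RingHom.mem_ker]
  change z ∈ Q.asIdeal ↔ π _ = 0
  rw [e, Ideal.algebraMap_residueField_eq_zero]

/-- Membership in a prime over a maximal `M` is decided modulo `M`. -/
theorem prime_over_maximal_unique {A T R : Type u} [CommRing A] [IsLocalRing A] [CommRing T] [Algebra A T]
    [CommRing R] [Algebra A R]
    (hres : ∀ t : T, ∃ a : A, t - algebraMap A T a ∈ (maximalIdeal A).map (algebraMap A T))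
    (Q Q' : PrimeSpectrum (R ⊗[A] T))
    (hQ : ∀ r : R, r ⊗ₜ[A] (1 : T) ∈ Q.asIdeal ↔ r ⊗ₜ[A] (1 : T) ∈ Q'.asIdeal)
    (hm : ∀ a ∈ maximalIdeal A, algebraMap A R a ⊗ₜ[A] (1 : T) ∈ Q.asIdeal)
    (x : R ⊗[A] T) (hx : x ∈ Q.asIdeal) : x ∈ Q'.asIdeal := by
  have key : ∀ y : R ⊗[A] T, ∃ r : R, y - r ⊗ₜ (1 : T) ∈ Q.asIdeal ∧ y - r ⊗ₜ (1 : T) ∈ Q'.asIdeal := by
    intro y
    induction y using TensorProduct.induction_on with
    | zero => exact ⟨0, by simp⟩
    | tmul r t =>
      obtain ⟨a, ha⟩ := hres t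
      refine ⟨a • r, ?_⟩
      rw [TensorProduct.smul_tmul, ← Algebra.algebraMap_eq_smul_one, ← TensorProduct.tmul_sub]
      have : ∀ P : PrimeSpectrum (R ⊗[A] T), (∀ a ∈ maximalIdeal A, algebraMap A R a ⊗ₜ[A] (1 : T) ∈ P.asIdeal) →
          r ⊗ₜ[A] (t - algebraMap A T a) ∈ P.asIdeal := fun P hP => by
        have h1 : (Algebra.TensorProduct.includeRight : T →ₐ[A] R ⊗[A] T) (t - algebraMap A T a) ∈ P.asIdeal := by
          refine (Ideal.map_le_iff_le_comap (f := algebraMap A T) (K := P.asIdeal.comap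
            (Algebra.TensorProduct.includeRight : T →ₐ[A] R ⊗[A] T))).2 (fun b hb => ?_) ha
          rw [Ideal.mem_comap, Ideal.mem_comap, AlgHom.commutes, Algebra.TensorProduct.algebraMap_apply]
          exact hP b hb
        rw [show r ⊗ₜ[A] (t - algebraMap A T a) = r ⊗ₜ[A] (1 : T) * (1 : R) ⊗ₜ[A] (t - algebraMap A T a) from by
          rw [Algebra.TensorProduct.tmul_mul_tmul, mul_one, one_mul]]
        exact Ideal.mul_mem_left _ _ h1
      exact ⟨this Q hm, this Q' fun a ha => (hQ _).1 (hm a ha)⟩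
    | add a b ha hb =>
      obtain ⟨r, h1, h2⟩ := ha
      obtain ⟨s, h3, h4⟩ := hb
      refine ⟨r + s, ?_⟩
      rw [TensorProduct.add_tmul, show a + b - (r ⊗ₜ[A] (1 : T) + s ⊗ₜ[A] 1) = (a - r ⊗ₜ 1) + (b - s ⊗ₜ 1) from by ring]
      exact ⟨add_mem h1 h3, add_mem h2 h4⟩
  obtain ⟨r, h1, h2⟩ := key x
  have : r ⊗ₜ[A] (1 : T) ∈ Q.asIdeal := by simpa using sub_mem hx h1
  simpa using add_mem h2 ((hQ r).1 this)

/-- The points of `Spec (B ⊗ A^h)` off the closed fibre. -/
def punct (T B : Type u) [CommRing T] [Algebra A T] [CommRing B] [Algebra A B] : Set (PrimeSpectrum (B ⊗[A] T)) :=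
  {Q | ¬ maximalIdeal A ≤ Q.asIdeal.comap (algebraMap A (B ⊗[A] T))}

/-- A unit second factor is in no prime. -/
theorem one_tmul_not_mem {A T K : Type u} [CommRing A] [CommRing T] [Algebra A T] [Field K] [Algebra A K]
    (Qt : PrimeSpectrum (T ⊗[A] K)) {x : K} (hx : x ≠ 0) : (1 : T) ⊗ₜ[A] x ∉ Qt.asIdeal := fun h =>
  Qt.isPrime.ne_top (Ideal.eq_top_of_isUnit_mem _ h
    ((IsUnit.mk0 _ hx).map (Algebra.TensorProduct.includeRight : K →ₐ[A] T ⊗[A] K)))

theorem map_comm_map {A T B R K : Type u} [CommRing A] [CommRing T] [Algebra A T] [CommRing B] [Algebra A B]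
    [CommRing R] [Algebra A R] [CommRing K] [Algebra A K] (j₀ : B →ₐ[A] R) (i : R →ₐ[A] K) (j : B →ₐ[A] K)
    (h : i.comp j₀ = j) (z : B ⊗[A] T) :
    Algebra.TensorProduct.map (AlgHom.id A T) i (Algebra.TensorProduct.comm A R T
        (Algebra.TensorProduct.map j₀ (AlgHom.id A T) z)) =
      Algebra.TensorProduct.map (AlgHom.id A T) j (Algebra.TensorProduct.comm A B T z) := by
  subst h
  induction z using TensorProduct.induction_on with
  | zero => simp
  | tmul b t => simp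
  | add a b ha hb => simp only [map_add, ha, hb]

theorem mapₐ_apply_algebraMap {A B C : Type u} [CommRing A] [CommRing B] [Algebra A B] [CommRing C] [Algebra A C]
    (I : Ideal B) [I.IsPrime] (J : Ideal C) [J.IsPrime] (g : B →ₐ[A] C) (h : I = J.comap g) (b : B) :
    Ideal.ResidueField.mapₐ I J g h (algebraMap B I.ResidueField b) = algebraMap C J.ResidueField (g b) := by
  simp

variable {T B : Type u} [CommRing T] [Algebra A T] [CommRing B] [Algebra A B]

theorem exists_fraction {B : Type u} [CommRing B] (I : Ideal B) [I.IsPrime] (x : I.ResidueField) :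
    ∃ b c : B, algebraMap B I.ResidueField c ≠ 0 ∧ x * algebraMap B I.ResidueField c = algebraMap B I.ResidueField b := by
  obtain ⟨⟨b, c, hc⟩, hbc⟩ := IsLocalization.surj (nonZeroDivisors (B ⧸ I)) x
  obtain ⟨b, rfl⟩ := Ideal.Quotient.mk_surjective b
  obtain ⟨c, rfl⟩ := Ideal.Quotient.mk_surjective c
  exact ⟨b, c, fun h0 => nonZeroDivisors.ne_zero hc
    (Ideal.Quotient.eq_zero_iff_mem.2 (Ideal.algebraMap_residueField_eq_zero.1 h0)), hbc⟩

theorem agree_of_fraction {R K L : Type u} [CommRing R] [Field K] [Field L] (ψ : K →+* L) (χ : R →+* L) (i : R →+* K)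
    (r b c : R) (hc : i c ≠ 0) (hbc : i r * i c = i b) (hb : ψ (i b) = χ b) (hc' : ψ (i c) = χ c)
    (hi : Function.Injective i := by exact Subtype.val_injective) : ψ (i r) = χ r := by
  have hr : r * c = b := hi (by rw [map_mul, hbc])
  apply mul_right_cancel₀ (b := ψ (i c)) (fun h => hc ((map_eq_zero ψ).1 h))
  rw [← map_mul, hbc, hb, hc', ← map_mul, hr]

/-- A point over the generic point of `R` comes from the fibre over `P`. -/
theorem exists_fibre_prime (P : PrimeSpectrum B) (R : Subalgebra A P.asIdeal.ResidueField) (j₀ : B →ₐ[A] R)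
    (hj₀ : R.val.comp j₀ = IsScalarTower.toAlgHom A B P.asIdeal.ResidueField)
    (Q : PrimeSpectrum (R ⊗[A] T))
    (hQ : (PrimeSpectrum.comap (algebraMap R (R ⊗[A] T)) Q).asIdeal = ⊥) :
    ∃ Qt : PrimeSpectrum (T ⊗[A] P.asIdeal.ResidueField), ∀ z : R ⊗[A] T,
      z ∈ Q.asIdeal ↔ Algebra.TensorProduct.map (AlgHom.id A T) R.val (Algebra.TensorProduct.comm A R T z) ∈ Qt.asIdeal := by
  have hjker : ∀ b, j₀ b = 0 ↔ b ∈ P.asIdeal := fun b => by
    rw [← Ideal.algebraMap_residueField_eq_zero (I := P.asIdeal), ← Subalgebra.coe_eq_zero]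
    exact Eq.congr_left (DFunLike.congr_fun hj₀ b)
  have hinj : ∀ r : R, algebraMap (R ⊗[A] T) Q.asIdeal.ResidueField (r ⊗ₜ 1) = 0 ↔ r = 0 := fun r => by
    rw [Ideal.algebraMap_residueField_eq_zero, ← Ideal.mem_bot, ← hQ]; rfl
  let g : B →ₐ[A] R ⊗[A] T := (Algebra.TensorProduct.includeLeft : R →ₐ[A] R ⊗[A] T).comp j₀
  have hg : P.asIdeal = Q.asIdeal.comap g := Ideal.ext fun b => by
    rw [Ideal.mem_comap, ← Ideal.algebraMap_residueField_eq_zero (I := Q.asIdeal)]
    exact (hjker b).symm.trans (hinj (j₀ b)).symm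
  let ψ := Ideal.ResidueField.mapₐ P.asIdeal Q.asIdeal g hg
  have hψB : ∀ b, ψ (algebraMap B P.asIdeal.ResidueField b) =
      algebraMap (R ⊗[A] T) Q.asIdeal.ResidueField (j₀ b ⊗ₜ 1) := fun b =>
    mapₐ_apply_algebraMap _ _ g hg b
  refine exists_prime_over R.val Q ψ fun r => ?_
  obtain ⟨b, c, hc', hbc⟩ := exists_fraction P.asIdeal (R.val r)
  refine agree_of_fraction ψ.toRingHom ((algebraMap (R ⊗[A] T) Q.asIdeal.ResidueField).comp
    (Algebra.TensorProduct.includeLeft : R →ₐ[A] R ⊗[A] T).toRingHom) R.val.toRingHom r (j₀ b) (j₀ c) ?_ ?_ ?_ ?_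
  · rwa [show R.val.toRingHom (j₀ c) = algebraMap B P.asIdeal.ResidueField c from DFunLike.congr_fun hj₀ c]
  · rw [show R.val.toRingHom (j₀ b) = algebraMap B P.asIdeal.ResidueField b from DFunLike.congr_fun hj₀ b,
      show R.val.toRingHom (j₀ c) = algebraMap B P.asIdeal.ResidueField c from DFunLike.congr_fun hj₀ c]
    exact hbc
  · exact (congrArg ψ.toRingHom (DFunLike.congr_fun hj₀ b)).trans (hψB b)
  · exact (congrArg ψ.toRingHom (DFunLike.congr_fun hj₀ c)).trans (hψB c)

/-- Every point over `P` comes from a point over the generic point of `R`. -/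
theorem exists_lift_prime (P : PrimeSpectrum B) (R : Subalgebra A P.asIdeal.ResidueField) (j₀ : B →ₐ[A] R)
    (hj₀ : R.val.comp j₀ = IsScalarTower.toAlgHom A B P.asIdeal.ResidueField)
    (Q : PrimeSpectrum (B ⊗[A] T)) (hQ : PrimeSpectrum.comap (algebraMap B (B ⊗[A] T)) Q = P) :
    ∃ Q' : PrimeSpectrum (R ⊗[A] T), (PrimeSpectrum.comap (algebraMap R (R ⊗[A] T)) Q').asIdeal = ⊥ ∧
      PrimeSpectrum.comap (Algebra.TensorProduct.map j₀ (AlgHom.id A T)).toRingHom Q' = Q := by
  let g : B →ₐ[A] B ⊗[A] T := Algebra.TensorProduct.includeLeft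
  let ψ := Ideal.ResidueField.mapₐ P.asIdeal Q.asIdeal g (by rw [← hQ]; rfl)
  obtain ⟨Qt, hQt⟩ := exists_prime_over (IsScalarTower.toAlgHom A B P.asIdeal.ResidueField) Q ψ fun b =>
    mapₐ_apply_algebraMap _ _ g _ b
  let φR : R ⊗[A] T →+* T ⊗[A] P.asIdeal.ResidueField :=
    (Algebra.TensorProduct.map (AlgHom.id A T) R.val).toRingHom.comp (Algebra.TensorProduct.comm A R T).toRingEquiv.toRingHom
  refine ⟨PrimeSpectrum.comap φR Qt, ?_, ?_⟩
  · refine (Submodule.eq_bot_iff _).2 fun r hr => ?_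
    change Algebra.TensorProduct.map (AlgHom.id A T) R.val (Algebra.TensorProduct.comm A R T (r ⊗ₜ 1)) ∈ Qt.asIdeal at hr
    rw [Algebra.TensorProduct.comm_tmul, Algebra.TensorProduct.map_tmul, map_one] at hr
    by_contra hne
    exact one_tmul_not_mem Qt (fun h => hne (Subtype.ext h)) hr
  · refine PrimeSpectrum.ext (Ideal.ext fun z => ?_)
    refine Iff.trans ?_ (hQt z).symm
    change Algebra.TensorProduct.map (AlgHom.id A T) R.val (Algebra.TensorProduct.comm A R T
      (Algebra.TensorProduct.map j₀ (AlgHom.id A T) z)) ∈ Qt.asIdeal ↔ _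
    rw [map_comm_map j₀ R.val _ hj₀]

omit [IsNoetherianRing A] in
/-- Maximal ideals of `R ⊗ T` lie over maximal ideals of `R`. -/
theorem isMaximal_under [IsLocalRing T] (hmax : (maximalIdeal A).map (algebraMap A T) ≤ maximalIdeal T)
    {R : Type u} [CommRing R] [Algebra A R] [Algebra.IsIntegral A R]
    (M' : PrimeSpectrum (R ⊗[A] T)) (hM' : M'.asIdeal.IsMaximal) :
    (PrimeSpectrum.comap (algebraMap R (R ⊗[A] T)) M').asIdeal.IsMaximal := by
  letI : Algebra T (R ⊗[A] T) := Algebra.TensorProduct.rightAlgebra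
  haveI : Algebra.IsIntegral T (R ⊗[A] T) := by
    constructor
    intro x
    induction x using TensorProduct.induction_on with
    | zero => exact isIntegral_zero
    | tmul r h =>
      rw [show r ⊗ₜ[A] h = r ⊗ₜ[A] (1 : T) * algebraMap T (R ⊗[A] T) h from by
        rw [Algebra.TensorProduct.right_algebraMap_apply, Algebra.TensorProduct.tmul_mul_tmul, mul_one, one_mul]]
      refine IsIntegral.mul ?_ isIntegral_algebraMap
      exact ((Algebra.IsIntegral.isIntegral (R := A) r).map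
        (Algebra.TensorProduct.includeLeft : R →ₐ[A] R ⊗[A] T)).tower_top
    | add a b ha hb => exact ha.add hb
  have h1 : (M'.asIdeal.comap (algebraMap T (R ⊗[A] T))).IsMaximal :=
    Ideal.isMaximal_comap_of_isIntegral_of_isMaximal M'.asIdeal
  refine Ideal.isMaximal_of_isIntegral_of_isMaximal_comap (R := A) _ ?_
  rw [show Ideal.comap (algebraMap A R) (PrimeSpectrum.comap (algebraMap R (R ⊗[A] T)) M').asIdeal = maximalIdeal A from ?_]
  · infer_instance
  refine le_antisymm (le_maximalIdeal (Ideal.IsPrime.ne_top inferInstance)) fun a ha => ?_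
  rw [Ideal.mem_comap]
  change algebraMap R (R ⊗[A] T) (algebraMap A R a) ∈ M'.asIdeal
  rw [← IsScalarTower.algebraMap_apply, IsScalarTower.algebraMap_apply A T (R ⊗[A] T)]
  exact (IsLocalRing.eq_maximalIdeal h1).ge (hmax (Ideal.mem_map_of_mem _ ha))

theorem idem_mem_iff {S : Type u} [CommRing S] {ε : S} (hε : IsIdempotentElem ε) (Q M' : PrimeSpectrum S)
    (hle : Q ≤ M') : ε ∉ Q.asIdeal ↔ ε ∉ M'.asIdeal := by
  refine ⟨fun h h' => ?_, fun h h' => h (hle h')⟩
  have h0 : ε * (1 - ε) = 0 := by rw [mul_sub, mul_one, hε.eq, sub_self]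
  have h1 : 1 - ε ∈ Q.asIdeal := (Q.isPrime.mem_or_mem (h0 ▸ Q.asIdeal.zero_mem)).resolve_left h
  exact M'.isPrime.ne_top (M'.asIdeal.eq_top_iff_one.2 (by simpa using add_mem h' (hle h1)))

/-- The chain: at a non-maximal `r ∋ f` below a maximal `N`, some point over `N` reads the trace at `r`. -/
theorem exists_chain [Module.Flat A T] [Nontrivial T] (f : A) {R : Type u} [CommRing R] [IsDomain R] [Algebra A R]
    [Algebra.IsIntegral A R] [Module.FaithfullyFlat R (R ⊗[A] T)] (j₀ : B →ₐ[A] R)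
    (W : Set (PrimeSpectrum (B ⊗[A] T))) (hW : IsOpen W) (hWc : IsOpen (punct T B \ W))
    (W₀ : Set (PrimeSpectrum B))
    (htr : ∀ Q ∈ punct T B, algebraMap A (B ⊗[A] T) f ∈ Q.asIdeal →
      (Q ∈ W ↔ PrimeSpectrum.comap (algebraMap B (B ⊗[A] T)) Q ∈ W₀))
    (r N : PrimeSpectrum R) (hfr : algebraMap A R f ∈ r.asIdeal) (hN : N.asIdeal.IsMaximal) (hrN : r ≤ N)
    (hne : r ≠ N) :
    ∃ Q N' : PrimeSpectrum (R ⊗[A] T), (PrimeSpectrum.comap (algebraMap R (R ⊗[A] T)) Q).asIdeal = ⊥ ∧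
      PrimeSpectrum.comap (algebraMap R (R ⊗[A] T)) N' = N ∧ Q ≤ N' ∧
      (PrimeSpectrum.comap (Algebra.TensorProduct.map j₀ (AlgHom.id A T)).toRingHom Q ∈ W ↔
        PrimeSpectrum.comap j₀.toRingHom r ∈ W₀) := by
  obtain ⟨N', hN'⟩ := PrimeSpectrum.comap_surjective_of_faithfullyFlat (B := R ⊗[A] T) N
  haveI : N'.asIdeal.LiesOver N.asIdeal := ⟨(congrArg PrimeSpectrum.asIdeal hN').symm⟩
  obtain ⟨r', hr'le, hr'p, hr'⟩ := Ideal.exists_ideal_le_liesOver_of_le (p := r.asIdeal) (q := N.asIdeal) N'.asIdeal hrN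
  haveI := hr'
  obtain ⟨Q, hQle, hQp, hQ⟩ := Ideal.exists_ideal_le_liesOver_of_le (p := (⊥ : Ideal R)) (q := r.asIdeal) r' bot_le
  refine ⟨⟨Q, hQp⟩, N', hQ.over.symm, hN', hQle.trans hr'le, ?_⟩
  let π : PrimeSpectrum (R ⊗[A] T) → PrimeSpectrum (B ⊗[A] T) :=
    PrimeSpectrum.comap (Algebra.TensorProduct.map j₀ (AlgHom.id A T)).toRingHom
  have hr0 : PrimeSpectrum.comap (algebraMap R (R ⊗[A] T)) ⟨r', hr'p⟩ = r := PrimeSpectrum.ext hr'.over.symm
  have hπB : PrimeSpectrum.comap (algebraMap B (B ⊗[A] T)) (π ⟨r', hr'p⟩) = PrimeSpectrum.comap j₀.toRingHom r := by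
    rw [← hr0]
    refine PrimeSpectrum.ext (Ideal.ext fun b => ?_)
    change Algebra.TensorProduct.map j₀ (AlgHom.id A T) (b ⊗ₜ 1) ∈ r' ↔ j₀ b ⊗ₜ[A] (1 : T) ∈ r'
    rw [Algebra.TensorProduct.map_tmul, map_one]
  have hpun : π ⟨r', hr'p⟩ ∈ punct T B := fun hle => by
    refine hne (PrimeSpectrum.ext ?_)
    refine Ideal.IsMaximal.eq_of_le ?_ hN.ne_top hrN
    refine Ideal.isMaximal_of_isIntegral_of_isMaximal_comap (R := A) _ ?_
    rw [le_antisymm (le_maximalIdeal (Ideal.IsPrime.ne_top inferInstance)) (fun a ha => ?_ :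
      maximalIdeal A ≤ r.asIdeal.comap (algebraMap A R))]
    · infer_instance
    rw [Ideal.mem_comap, ← hr0]
    have h := hle ha
    rw [Ideal.mem_comap] at h
    change (Algebra.TensorProduct.map j₀ (AlgHom.id A T)) (algebraMap A (B ⊗[A] T) a) ∈ r' at h
    rw [AlgHom.commutes] at h
    change algebraMap R (R ⊗[A] T) (algebraMap A R a) ∈ r'
    rwa [← IsScalarTower.algebraMap_apply]
  have hs : π ⟨Q, hQp⟩ ⤳ π ⟨r', hr'p⟩ :=
    ((PrimeSpectrum.le_iff_specializes ⟨Q, hQp⟩ ⟨r', hr'p⟩).1 hQle).map (PrimeSpectrum.continuous_comap _)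
  refine (show π ⟨Q, hQp⟩ ∈ W ↔ π ⟨r', hr'p⟩ ∈ W from
    ⟨fun h => by_contra fun hn => (hs.mem_open hWc ⟨hpun, hn⟩).2 h, fun h => hs.mem_open hW h⟩).trans ?_
  rw [htr _ hpun ?_, hπB]
  rw [IsScalarTower.algebraMap_apply A B (B ⊗[A] T)]
  change algebraMap A B f ∈ (PrimeSpectrum.comap (algebraMap B (B ⊗[A] T)) (π ⟨r', hr'p⟩)).asIdeal
  rw [hπB]
  change j₀ (algebraMap A B f) ∈ r.asIdeal
  rw [AlgHom.commutes]
  exact hfr

/-- The idempotent cutting out the trace of `W` on the fibre over `P`. -/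
theorem exists_fibre_idempotent (f : A) (hf : f ∈ maximalIdeal A) (P : PrimeSpectrum B)
    (hfP : algebraMap A B f ∉ P.asIdeal) (W : Set (PrimeSpectrum (B ⊗[A] T))) (hW : IsOpen W)
    (hWc : IsOpen (punct T B \ W)) :
    ∃ e : T ⊗[A] P.asIdeal.ResidueField, IsIdempotentElem e ∧
      ∀ (Qt : PrimeSpectrum (T ⊗[A] P.asIdeal.ResidueField)) (Q : PrimeSpectrum (B ⊗[A] T)),
        (∀ z, z ∈ Q.asIdeal ↔ Algebra.TensorProduct.map (AlgHom.id A T)
          (IsScalarTower.toAlgHom A B P.asIdeal.ResidueField) (Algebra.TensorProduct.comm A B T z) ∈ Qt.asIdeal) →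
        (Q ∈ W ↔ e ∉ Qt.asIdeal) := by
  let φ : B ⊗[A] T →+* T ⊗[A] P.asIdeal.ResidueField :=
    (Algebra.TensorProduct.map (AlgHom.id A T) (IsScalarTower.toAlgHom A B P.asIdeal.ResidueField)).toRingHom.comp
      (Algebra.TensorProduct.comm A B T).toRingEquiv.toRingHom
  have hfib : ∀ Qt : PrimeSpectrum (T ⊗[A] P.asIdeal.ResidueField), PrimeSpectrum.comap φ Qt ∈ punct T B := fun Qt hle => by
    have h := hle hf
    rw [Ideal.mem_comap, IsScalarTower.algebraMap_apply A B (B ⊗[A] T)] at h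
    change (Algebra.TensorProduct.map (AlgHom.id A T) (IsScalarTower.toAlgHom A B P.asIdeal.ResidueField))
      (Algebra.TensorProduct.comm A B T (algebraMap A B f ⊗ₜ 1)) ∈ Qt.asIdeal at h
    rw [Algebra.TensorProduct.comm_tmul, Algebra.TensorProduct.map_tmul, map_one] at h
    exact one_tmul_not_mem Qt (fun h0 => hfP (Ideal.algebraMap_residueField_eq_zero.1 h0)) h
  have hclo : IsClopen (PrimeSpectrum.comap φ ⁻¹' W) := by
    refine ⟨⟨?_⟩, hW.preimage (PrimeSpectrum.continuous_comap φ)⟩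
    rw [show (PrimeSpectrum.comap φ ⁻¹' W)ᶜ = PrimeSpectrum.comap φ ⁻¹' (punct T B \ W) from Set.ext fun Qt =>
      ⟨fun h => ⟨hfib Qt, h⟩, fun h => h.2⟩]
    exact hWc.preimage (PrimeSpectrum.continuous_comap φ)
  obtain ⟨e, he, hWe⟩ := PrimeSpectrum.isClopen_iff.1 hclo
  refine ⟨e, he, fun Qt Q hQ => ?_⟩
  rw [show Q = PrimeSpectrum.comap φ Qt from PrimeSpectrum.ext (Ideal.ext hQ)]
  exact Set.ext_iff.1 hWe Qt

variable {k : Type u} [Field k] [Algebra A k]

/-- The main step. -/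
theorem fibre_constant (f : A) (hf : f ∈ maximalIdeal A) [HenselianRing A (Ideal.span {f})]
    [Module.FaithfullyFlat A (EtLoc A k)]
    (hres : ∀ t : EtLoc A k, ∃ a : A, t - algebraMap A _ a ∈ (maximalIdeal A).map (algebraMap A (EtLoc A k)))
    (hmax : ((maximalIdeal A).map (algebraMap A (EtLoc A k))) ≤ maximalIdeal (EtLoc A k))
    (B : Type u) [CommRing B] [Algebra A B] [Module.Finite A B]
    (W : Set (PrimeSpectrum (B ⊗[A] EtLoc A k))) (hW : IsOpen W) (hWc : IsOpen (punct (EtLoc A k) B \ W))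
    (W₀ : Set (PrimeSpectrum B))
    (htr : ∀ Q ∈ punct (EtLoc A k) B, algebraMap A (B ⊗[A] EtLoc A k) f ∈ Q.asIdeal →
      (Q ∈ W ↔ PrimeSpectrum.comap (algebraMap B (B ⊗[A] EtLoc A k)) Q ∈ W₀))
    (Q₁ Q₂ : PrimeSpectrum (B ⊗[A] EtLoc A k)) (h₁ : Q₁ ∈ punct (EtLoc A k) B) (h₂ : Q₂ ∈ punct (EtLoc A k) B)
    (heq : PrimeSpectrum.comap (algebraMap B (B ⊗[A] EtLoc A k)) Q₁ = PrimeSpectrum.comap (algebraMap B (B ⊗[A] EtLoc A k)) Q₂) :
    Q₁ ∈ W → Q₂ ∈ W := by
  classical
  generalize hP : PrimeSpectrum.comap (algebraMap B (B ⊗[A] EtLoc A k)) Q₁ = P at heq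
  have hfmem : ∀ Q : PrimeSpectrum (B ⊗[A] EtLoc A k), algebraMap A (B ⊗[A] EtLoc A k) f ∈ Q.asIdeal ↔
      algebraMap A B f ∈ (PrimeSpectrum.comap (algebraMap B (B ⊗[A] EtLoc A k)) Q).asIdeal := fun Q => by
    rw [IsScalarTower.algebraMap_apply A B (B ⊗[A] EtLoc A k)]; rfl
  by_cases hfP : algebraMap A B f ∈ P.asIdeal
  · intro h
    rw [htr Q₂ h₂ ((hfmem Q₂).2 (by rw [← heq]; exact hfP)), ← heq, ← hP]
    exact (htr Q₁ h₁ ((hfmem Q₁).2 (by rw [hP]; exact hfP))).1 h
  obtain ⟨e, he, hWe⟩ := exists_fibre_idempotent f hf P hfP W hW hWc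
  obtain ⟨s, hs⟩ := (inferInstance : Module.Finite A B).fg_top
  set j : B →ₐ[A] P.asIdeal.ResidueField := IsScalarTower.toAlgHom A B P.asIdeal.ResidueField
  obtain ⟨R, hRfin, hsR, e₁, he₁⟩ := exists_finite_subalgebra e he (s.image j) (fun a ha => by
    obtain ⟨b, -, rfl⟩ := Finset.mem_image.1 ha
    exact (Algebra.IsIntegral.isIntegral b).map j)
  replace he₁ : Algebra.TensorProduct.map (AlgHom.id A (EtLoc A k)) R.val e₁ = e := he₁
  have hjR : ∀ b, j b ∈ R := fun b => by
    have : b ∈ Submodule.span A (s : Set B) := hs.ge Submodule.mem_top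
    induction this using Submodule.span_induction with
    | mem x hx => exact hsR (Finset.mem_image_of_mem j hx)
    | zero => rw [map_zero]; exact zero_mem _
    | add x y _ _ hx hy => rw [map_add]; exact add_mem hx hy
    | smul a x _ hx => rw [map_smul]; exact R.smul_mem hx a
  let j₀ : B →ₐ[A] R := j.codRestrict R hjR
  have hj₀ : R.val.comp j₀ = j := AlgHom.ext fun b => rfl
  have he₁i : IsIdempotentElem e₁ := by
    refine Module.Flat.lTensor_preserves_injective_linearMap (M := EtLoc A k) R.val.toLinearMap Subtype.val_injective ?_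
    change Algebra.TensorProduct.map (AlgHom.id A (EtLoc A k)) R.val (e₁ * e₁) = Algebra.TensorProduct.map (AlgHom.id A (EtLoc A k)) R.val e₁
    rw [map_mul, he₁, he.eq]
  let ε₁ : R ⊗[A] EtLoc A k := (Algebra.TensorProduct.comm A R (EtLoc A k)).symm e₁
  have hε₁ : IsIdempotentElem ε₁ := he₁i.map (Algebra.TensorProduct.comm A R (EtLoc A k)).symm
  have hgen : ∀ Q : PrimeSpectrum (R ⊗[A] EtLoc A k),
      (PrimeSpectrum.comap (algebraMap R (R ⊗[A] EtLoc A k)) Q).asIdeal = ⊥ →
      (PrimeSpectrum.comap (Algebra.TensorProduct.map j₀ (AlgHom.id A (EtLoc A k))).toRingHom Q ∈ W ↔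
        ε₁ ∉ Q.asIdeal) := by
    intro Q hQ
    obtain ⟨Qt, hQt⟩ := exists_fibre_prime P R j₀ hj₀ Q hQ
    rw [hWe Qt _ fun z => (hQt _).trans (Iff.of_eq (congrArg (fun y => y ∈ Qt.asIdeal) (map_comm_map j₀ R.val j hj₀ z))), hQt ε₁,
      show Algebra.TensorProduct.comm A R (EtLoc A k) ε₁ = e₁ from AlgEquiv.apply_symm_apply _ _, he₁]
  let εp : PrimeSpectrum R → Prop := fun M => ∃ M' : PrimeSpectrum (R ⊗[A] EtLoc A k),
    PrimeSpectrum.comap (algebraMap R (R ⊗[A] EtLoc A k)) M' = M ∧ ε₁ ∉ M'.asIdeal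
  have huniq : ∀ (M' : PrimeSpectrum (R ⊗[A] EtLoc A k)) (M : PrimeSpectrum R), M.asIdeal.IsMaximal →
      PrimeSpectrum.comap (algebraMap R (R ⊗[A] EtLoc A k)) M' = M → (εp M ↔ ε₁ ∉ M'.asIdeal) := by
    intro M' M hM hMM'
    refine ⟨?_, fun h => ⟨M', hMM', h⟩⟩
    rintro ⟨N, hN, hεN⟩ hmem
    exact hεN (prime_over_maximal_unique hres M' N
      (fun r => by
        change r ∈ (PrimeSpectrum.comap (algebraMap R (R ⊗[A] EtLoc A k)) M').asIdeal ↔ r ∈ (PrimeSpectrum.comap (algebraMap R (R ⊗[A] EtLoc A k)) N).asIdeal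
        rw [hMM', hN])
      (fun a ha => by
        change algebraMap A R a ∈ (PrimeSpectrum.comap (algebraMap R (R ⊗[A] EtLoc A k)) M').asIdeal
        rw [hMM']
        have : (M.asIdeal.comap (algebraMap A R)).IsMaximal := Ideal.isMaximal_comap_of_isIntegral_of_isMaximal M.asIdeal
        exact (IsLocalRing.eq_maximalIdeal this).ge ha) ε₁ hmem)
  have hconst := constant_on_maximal f hf (R := R) εp (fun r M M' hfr hM hM' hrM hrM' => by
    have hsuff : ∀ N : PrimeSpectrum R, N.asIdeal.IsMaximal → r ≤ N → r ≠ N →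
        (εp N ↔ PrimeSpectrum.comap j₀.toRingHom r ∈ W₀) := fun N hN hrN hne => by
      obtain ⟨Q, N', hQ0, hN', hle, hQW⟩ := exists_chain f j₀ W hW hWc W₀ htr r N hfr hN hrN hne
      rw [huniq N' N hN hN', ← idem_mem_iff hε₁ Q N' hle, ← hgen Q hQ0, hQW]
    by_cases hrmax : r.asIdeal.IsMaximal
    · rw [← PrimeSpectrum.ext (hrmax.eq_of_le hM.ne_top hrM), ← PrimeSpectrum.ext (hrmax.eq_of_le hM'.ne_top hrM')]
    · rw [hsuff M hM hrM (fun h => hrmax (h ▸ hM)), hsuff M' hM' hrM' (fun h => hrmax (h ▸ hM'))])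
  obtain ⟨Q₁', h10, rfl⟩ := exists_lift_prime P R j₀ hj₀ Q₁ hP
  obtain ⟨Q₂', h20, rfl⟩ := exists_lift_prime P R j₀ hj₀ Q₂ heq.symm
  obtain ⟨M₁, hM₁, hle₁⟩ := Ideal.exists_le_maximal _ Q₁'.isPrime.ne_top
  obtain ⟨M₂, hM₂, hle₂⟩ := Ideal.exists_le_maximal _ Q₂'.isPrime.ne_top
  have hm₁ := isMaximal_under hmax ⟨M₁, hM₁.isPrime⟩ hM₁
  have hm₂ := isMaximal_under hmax ⟨M₂, hM₂.isPrime⟩ hM₂
  intro h
  rw [hgen Q₂' h20, idem_mem_iff hε₁ Q₂' ⟨M₂, hM₂.isPrime⟩ hle₂, ← huniq ⟨M₂, hM₂.isPrime⟩ _ hm₂ rfl]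
  refine hconst _ _ hm₁ hm₂ ?_
  rw [huniq ⟨M₁, hM₁.isPrime⟩ _ hm₁ rfl, ← idem_mem_iff hε₁ Q₁' ⟨M₁, hM₁.isPrime⟩ hle₁, ← hgen Q₁' h10]
  exact h

end Fibre

end Groth.Agent.Hens.PunctDescentAlg
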