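import Groth.Agent.LocCoh.SuppHm
import Groth.Agent.LocCoh.AnnModule
import Groth.Agent.Depth.CM
import Groth.Agent.FormalSupp.Punct
import Groth.Agent.HartogsAffine.Basic

/-!
# Annihilation of `H¹_m`, `H²_m` by a power of `f` from a dualizing complex and depth conditions
-/

set_option autoImplicit false
set_option linter.style.haveILetI false

universe u

open CategoryTheory IsLocalRing

attribute [local instance] HasDerivedCategory.standard

noncomputable section

namespace Groth.Agent.Hens.PunctDual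

open Groth.Agent.DualCx.Dimfun (deg)
open Groth.Agent.LocCoh

variable {A : Type u} [CommRing A]

/-- depth is unchanged by a linear isomorphism -/
theorem depth_congr {R : Type u} [CommRing R] [IsLocalRing R] {M N : Type u} [AddCommGroup M] [Module R M]
    [AddCommGroup N] [Module R N] (e : M ≃ₗ[R] N) : _root_.LocCoh.depth R M = _root_.LocCoh.depth R N :=
  FormalSupp.Punct.depth_congr_semilinear (RingEquiv.refl R) e.toAddEquiv fun r x => e.map_smul r x

/-- `(A_f)` satisfies `S₂` gives the depth of `A_p` for `f ∉ p` -/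
theorem depth_of_hasSk_away [IsNoetherianRing A] (f : A)
    (h : _root_.LocCoh.HasSk 2 (Localization.Away f) (Localization.Away f)) (p : Ideal A) [p.IsPrime] (hfp : f ∉ p) :
    min (2 : WithBot ℕ∞) (ringKrullDim (Localization.AtPrime p)) ≤
      ((_root_.LocCoh.depth (Localization.AtPrime p) (Localization.AtPrime p) : ℕ∞) : WithBot ℕ∞) := by
  have hd : Disjoint (Submonoid.powers f : Set A) (p : Set A) :=
    Set.disjoint_left.mpr fun x hx hxp => by
      obtain ⟨n, rfl⟩ := hx
      exact hfp (‹p.IsPrime›.mem_of_pow_mem n hxp)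
  let P : Ideal (Localization.Away f) := p.map (algebraMap A (Localization.Away f))
  have hP : P.IsPrime := IsLocalization.isPrime_of_isPrime_disjoint (Submonoid.powers f) _ p ‹_› hd
  have hcomap : P.comap (algebraMap A (Localization.Away f)) = p :=
    IsLocalization.comap_map_of_isPrime_disjoint (Submonoid.powers f) _ ‹p.IsPrime› hd
  have hloc : IsLocalization.AtPrime (Localization.AtPrime P) p := by
    have := IsLocalization.isLocalization_isLocalization_atPrime_isLocalization (Submonoid.powers f)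
      (Localization.AtPrime P) P
    simpa [hcomap] using this
  let e : Localization.AtPrime p ≃+* Localization.AtPrime P :=
    (IsLocalization.algEquiv p.primeCompl (Localization.AtPrime p) (Localization.AtPrime P)).toRingEquiv
  have := h P
  rw [depth_congr (Depth.localizedModuleSelfEquiv _), Module.supportDim_eq_of_equiv (Depth.localizedModuleSelfEquiv _),
    Module.supportDim_self_eq_ringKrullDim, ← ringKrullDim_eq_of_ringEquiv e] at this
  rw [← HartogsAffine.depth_congr_ringEquiv e]
  exact this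

variable [IsNoetherianRing A] [IsLocalRing A]

/-- the closed point -/
abbrev cl : PrimeSpectrum A := closedPoint A

theorem le_cl (p : PrimeSpectrum A) : p ≤ cl := le_maximalIdeal p.2.ne_top

theorem ringKrullDim_quotient_eq_Icc (p : PrimeSpectrum A) :
    ringKrullDim (A ⧸ p.asIdeal) = Order.krullDim (Set.Icc p cl) := by
  rw [ringKrullDim_quotient]
  refine Order.krullDim_eq_of_orderIso (OrderIso.setCongr _ _ ?_)
  ext q
  exact ⟨fun h => ⟨(PrimeSpectrum.mem_zeroLocus q _).mp h, le_cl q⟩,
    fun h => (PrimeSpectrum.mem_zeroLocus q _).mpr h.1⟩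

theorem krullDim_Icc_eq_deg {ω : Dual.D A} (hω : Dual.IsDualizing A ω) {p q : PrimeSpectrum A} (hpq : p ≤ q) :
    Order.krullDim (Set.Icc p q) = (((deg hω q - deg hω p).toNat : ℕ∞) : WithBot ℕ∞) := by
  rw [AnnModule.krullDim_Icc hpq, AnnThm.height_Ici hω hpq]

/-- The depth condition, from either alternative. -/
theorem depth_add_dim (f : A) (hf : f ∈ maximalIdeal A) (hd : ∃ ω : Dual.D A, Dual.IsDualizing A ω)
    (hc : ((_root_.LocCoh.HasSk 2 (Localization.Away f) (Localization.Away f) ∧
        ∀ p : Ideal A, p ∈ minimalPrimes A → f ∉ p → (3 : WithBot ℕ∞) ≤ ringKrullDim (A ⧸ p)) ∨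
      (∀ p : Ideal A, ∀ _ : p.IsPrime, f ∉ p →
        (2 : WithBot ℕ∞) < (_root_.LocCoh.depth (Localization.AtPrime p) (Localization.AtPrime p) : WithBot ℕ∞) + ringKrullDim (A ⧸ p))))
    (p : Ideal A) [hp : p.IsPrime] (hfp : f ∉ p) :
    (2 : WithBot ℕ∞) < (_root_.LocCoh.depth (Localization.AtPrime p) (Localization.AtPrime p) : WithBot ℕ∞) + ringKrullDim (A ⧸ p) := by
  rcases hc with ⟨hS, hmin⟩ | h
  swap
  · exact h p hp hfp
  obtain ⟨ω, hω⟩ := hd
  obtain ⟨q, hq, hqp⟩ := Ideal.exists_minimalPrimes_le (bot_le : (⊥ : Ideal A) ≤ p)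
  have hq3 := hmin q hq fun h => hfp (hqp h)
  let P : PrimeSpectrum A := ⟨p, hp⟩
  let Q : PrimeSpectrum A := ⟨q, hq.1.1⟩
  have hS2 := depth_of_hasSk_away f hS p hfp
  rw [IsLocalization.AtPrime.ringKrullDim_eq_height p (Localization.AtPrime p)] at hS2
  have hQP : Q ≤ P := hqp
  rw [ringKrullDim_quotient_eq_Icc P, krullDim_Icc_eq_deg hω (le_cl P)]
  rw [ringKrullDim_quotient_eq_Icc Q, krullDim_Icc_eq_deg hω (le_cl Q)] at hq3
  have hht : ((deg hω P - deg hω Q).toNat : ℕ∞) ≤ p.height := by
    rw [← WithBot.coe_le_coe, ← krullDim_Icc_eq_deg hω hQP, show p.height = P.asIdeal.height from rfl, PrimeSpectrum.height_eq_orderHeight P]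
    change _ ≤ ((Order.height P : ℕ∞) : WithBot ℕ∞)
    rw [Order.height_eq_krullDim_Iic]
    exact Order.krullDim_le_of_strictMono (fun r => ⟨r.1, r.2.2⟩) fun _ _ h => h
  have hlt : deg hω P < deg hω (cl : PrimeSpectrum A) :=
    DualCx.Dimfun.deg_lt hω (lt_of_le_of_ne (le_cl P) fun h => hfp (by rw [show p = maximalIdeal A from congrArg PrimeSpectrum.asIdeal h]; exact hf))
  generalize (deg hω (cl : PrimeSpectrum A)) = c at *
  generalize (deg hω P) = a at *
  generalize (deg hω Q) = b at *
  generalize (_root_.LocCoh.depth (Localization.AtPrime p) (Localization.AtPrime p)) = d at *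
  generalize p.height = h at *
  induction d with
  | top => 
    rw [show ((⊤ : ℕ∞) : WithBot ℕ∞) + (((c - a).toNat : ℕ∞) : WithBot ℕ∞) = ((⊤ : ℕ∞) : WithBot ℕ∞) from by
      rw [← WithBot.coe_add, top_add]]
    exact WithBot.coe_lt_coe.mpr (ENat.natCast_lt_top 2)
  | coe d =>
    have h3 : 3 ≤ (c - b).toNat := by
      have h' : (3 : ℕ∞) ≤ ((c - b).toNat : ℕ∞) := WithBot.coe_le_coe.mp hq3
      exact_mod_cast h'
    have h2 : 2 < d + (c - a).toNat := by
      induction h with
      | top =>
        have h' : min (2 : ℕ∞) ⊤ ≤ (d : ℕ∞) := WithBot.coe_le_coe.mp hS2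
        rw [min_eq_left le_top] at h'
        have : 2 ≤ d := by exact_mod_cast h'
        omega
      | coe h =>
        have hh : (a - b).toNat ≤ h := by exact_mod_cast hht
        have h' : min (2 : ℕ∞) (h : ℕ∞) ≤ (d : ℕ∞) := WithBot.coe_le_coe.mp hS2
        rcases le_total (2 : ℕ∞) (h : ℕ∞) with hle | hle
        · rw [min_eq_left hle] at h'
          have : 2 ≤ d := by exact_mod_cast h'
          omega
        · rw [min_eq_right hle] at h'
          have : h ≤ d := by exact_mod_cast h'
          omega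
    rw [← WithBot.coe_add]
    exact WithBot.coe_lt_coe.mpr (show (2 : ℕ∞) < (d : ℕ∞) + ((c - a).toNat : ℕ∞) by exact_mod_cast h2)

/-- A power of `f` kills `H^i_m(A)` for `i ≤ 2`. -/
theorem exists_pow_smul_eq_zero (f : A) (hf : f ∈ maximalIdeal A) (hd : ∃ ω : Dual.D A, Dual.IsDualizing A ω)
    (hc : ∀ p : Ideal A, ∀ _ : p.IsPrime, f ∉ p →
        (2 : WithBot ℕ∞) < (_root_.LocCoh.depth (Localization.AtPrime p) (Localization.AtPrime p) : WithBot ℕ∞) + ringKrullDim (A ⧸ p))
    (i : ℕ) (hi : i ≤ 2) :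
    ∃ n : ℕ, ∀ x : _root_.LocCoh.H (maximalIdeal A) i A, (f ^ n) • x = 0 := by
  obtain ⟨ω, hω⟩ := hd
  have hT : StableUnderSpecialization (PrimeSpectrum.zeroLocus (maximalIdeal A : Set A)) :=
    (PrimeSpectrum.isClosed_zeroLocus _).stableUnderSpecialization
  have hT' : StableUnderSpecialization (PrimeSpectrum.zeroLocus ({f} : Set A)) :=
    (PrimeSpectrum.isClosed_zeroLocus _).stableUnderSpecialization
  have hmem : ∀ q : PrimeSpectrum A, q ∈ PrimeSpectrum.zeroLocus (maximalIdeal A : Set A) ↔ q = cl := fun q =>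
    ⟨fun h => le_antisymm (le_cl q) ((PrimeSpectrum.mem_zeroLocus q _).mp h),
      fun h => (PrimeSpectrum.mem_zeroLocus q _).mpr (h ▸ le_rfl)⟩
  obtain ⟨J, hJ, hk⟩ := (AnnModule.annihilator_iff (M := A) hω hT hT' 2).2 (fun p q hp hq hpq => by
    obtain rfl := (hmem q).mp hq
    rw [depth_congr (Depth.localizedModuleSelfEquiv _), ← ringKrullDim_quotient_eq_Icc]
    exact hc p.asIdeal p.2 fun h => hp ((PrimeSpectrum.mem_zeroLocus p _).mpr (Set.singleton_subset_iff.mpr h)))
  have hfJ : f ∈ J.radical := by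
    rw [← PrimeSpectrum.vanishingIdeal_zeroLocus_eq_radical]
    rw [PrimeSpectrum.mem_vanishingIdeal]
    intro q hq
    exact Set.singleton_subset_iff.mp ((PrimeSpectrum.mem_zeroLocus q _).mp (hJ hq))
  obtain ⟨n, hn⟩ := hfJ
  refine ⟨n, fun x => (SuppHm.bijective_toLT (maximalIdeal A) i).injective ?_⟩
  obtain ⟨y, hy⟩ := (HTBridge.equiv (PrimeSpectrum.zeroLocus (maximalIdeal A : Set A)) i A).surjective
    (SuppHm.toLT (maximalIdeal A) i A x)
  rw [map_smul, map_zero, ← hy, ← map_smul, hk i hi _ hn y, map_zero]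

end Groth.Agent.Hens.PunctDual
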