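import Groth.Agent.Hens.PunctGlueAlg
import Groth.Agent.QCoh.Basic
import Groth.Agent.ParaFormal.Bridge
import Groth.Prelude.Def_FEt
import Mathlib.AlgebraicGeometry.Morphisms.Finite
import Mathlib.AlgebraicGeometry.Morphisms.Flat
import Mathlib.RingTheory.AdicCompletion.LocalRing
import Mathlib.RingTheory.AdicCompletion.AsTensorProduct
import Mathlib.RingTheory.Finiteness.Descent
import Mathlib.RingTheory.RingHom.FaithfullyFlat

/-!
# Formal glueing of finite schemes over a local ring

A finite scheme over the punctured spectrum of a Noetherian local ring `A` and a finite scheme over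
`Spec Â` which agree over the punctured part glue to a finite scheme over `Spec A`.
-/

set_option autoImplicit false
set_option backward.isDefEq.respectTransparency false
set_option backward.isDefEq.respectTransparency.types false
set_option linter.style.haveILetI false

universe u

open CategoryTheory CategoryTheory.Limits AlgebraicGeometry TensorProduct IsLocalRing TopologicalSpace
open Groth.Agent.QCoh

noncomputable section

namespace Groth.Agent.Hens.PunctGlue

/-- A morphism of affine schemes is an isomorphism if it is one on global sections. -/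
theorem isIso_of_appTop {X Y : Scheme.{u}} [IsAffine X] [IsAffine Y] (g : X ⟶ Y) [IsIso g.appTop] : IsIso g := by
  rw [show g = X.isoSpec.hom ≫ Spec.map g.appTop ≫ Y.isoSpec.inv by simp [Scheme.isoSpec_hom_naturality_assoc]]
  infer_instance

/-- Sections of an open immersion into an affine scheme, away from a basic open inside the range. -/
theorem torsion_of_openImmersion {X Y : Scheme.{u}} [IsAffine Y] [CompactSpace X] [QuasiSeparatedSpace X]
    (j : X ⟶ Y) [IsOpenImmersion j] (t : Γ(Y, ⊤)) (ht : Y.basicOpen t ≤ j.opensRange) :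
    (∀ x, j.appTop x = 0 → ∃ n, t ^ n * x = 0) ∧ ∀ y, ∃ n x, j.appTop x = j.appTop t ^ n * y := by
  let D := Y.basicOpen t
  let := (Y.presheaf.map (homOfLE (le_top : D ≤ ⊤)).op).hom.toAlgebra
  have hY : IsLocalization.Away t Γ(Y, D) := (isAffineOpen_top Y).isLocalization_basicOpen t
  have hb : Function.Bijective (j.app D) :=
    have := j.isIso_app D ht
    (ConcreteCategory.isIso_iff_bijective _).1 this
  have hnat : ∀ z, j.app D (rres (le_top : D ≤ ⊤) z) = rres (le_top : j ⁻¹ᵁ D ≤ ⊤) (j.appTop z) := fun z =>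
    congr($(j.naturality (homOfLE (le_top : D ≤ ⊤)).op) z)
  have hW : j ⁻¹ᵁ D = X.basicOpen (j.appTop t) := Scheme.preimage_basicOpen_top j t
  have hXloc : ∀ z : Γ(X, ⊤), rres (le_top : j ⁻¹ᵁ D ≤ ⊤) z = 0 → ∃ n, j.appTop t ^ n * z = 0 := fun z hz => by
    let := (X.presheaf.map (homOfLE (le_top : X.basicOpen (j.appTop t) ≤ ⊤)).op).hom.toAlgebra
    have hX : IsLocalization.Away (j.appTop t) Γ(X, X.basicOpen (j.appTop t)) :=
      isLocalization_basicOpen_of_qcqs CompactSpace.isCompact_univ isQuasiSeparated_univ _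
    have h2 : rres (le_top : X.basicOpen (j.appTop t) ≤ ⊤) z = 0 := by
      rw [← rres_rres (le_top : j ⁻¹ᵁ D ≤ ⊤) hW.ge, hz, map_zero]
    obtain ⟨⟨_, n, rfl⟩, hn⟩ := (IsLocalization.map_eq_zero_iff (Submonoid.powers (j.appTop t))
      Γ(X, X.basicOpen (j.appTop t)) z).1 h2
    exact ⟨n, hn⟩
  refine ⟨fun x hx => ?_, fun y => ?_⟩
  · have h1 : rres (le_top : D ≤ ⊤) x = 0 := hb.1 (by rw [hnat, hx, map_zero, map_zero])
    obtain ⟨⟨_, n, rfl⟩, hn⟩ := (IsLocalization.map_eq_zero_iff (Submonoid.powers t) Γ(Y, D) x).1 h1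
    exact ⟨n, hn⟩
  · obtain ⟨w, hw⟩ := hb.2 (rres (le_top : j ⁻¹ᵁ D ≤ ⊤) y)
    obtain ⟨n, x, hx⟩ := IsLocalization.Away.surj t w
    change w * rres (le_top : D ≤ ⊤) t ^ n = rres (le_top : D ≤ ⊤) x at hx
    obtain ⟨m, hm⟩ := hXloc (j.appTop t ^ n * y - j.appTop x) (by
      rw [map_sub, map_mul, map_pow, ← hnat, ← hnat, ← hx, map_mul, map_pow, hw, sub_eq_zero, mul_comm])
    refine ⟨m + n, t ^ m * x, ?_⟩
    rw [map_mul, map_pow]
    rw [mul_sub, sub_eq_zero, ← mul_assoc, ← pow_add] at hm
    exact hm.symm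

variable {A : Type u} [CommRing A] [IsNoetherianRing A] [IsLocalRing A]

variable (A) in
/-- The completion. -/
abbrev Comp : Type u := AdicCompletion (IsLocalRing.maximalIdeal A) A

theorem quotientMap_bijective :
    Function.Bijective (Ideal.quotientMap ((maximalIdeal A).map (algebraMap A (Comp A))) (algebraMap A (Comp A)) Ideal.le_comap_map) := by
  have hI : (maximalIdeal A).FG := IsNoetherian.noetherian _
  have hmem : ∀ y : (Comp A), y ∈ (maximalIdeal A).map (algebraMap A (Comp A)) ↔ AdicCompletion.evalOneₐ (maximalIdeal A) y = 0 := fun y => by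
    change _ ↔ y ∈ RingHom.ker (AdicCompletion.evalOneₐ (maximalIdeal A)).toRingHom
    rw [AdicCompletion.ker_evalOneₐ_eq_map _ hI]
  refine ⟨(injective_iff_map_eq_zero _).2 fun z hz => ?_, fun z => ?_⟩
  · obtain ⟨a, rfl⟩ := Ideal.Quotient.mk_surjective z
    rw [Ideal.quotientMap_mk, Ideal.Quotient.eq_zero_iff_mem, hmem, AlgHom.commutes] at hz
    exact hz
  · obtain ⟨y, rfl⟩ := Ideal.Quotient.mk_surjective z
    obtain ⟨r, hr⟩ := Ideal.Quotient.mk_surjective (AdicCompletion.evalOneₐ (maximalIdeal A) y)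
    refine ⟨Ideal.Quotient.mk _ r, ?_⟩
    rw [Ideal.quotientMap_mk, Ideal.Quotient.eq, hmem, map_sub, AlgHom.commutes, sub_eq_zero]
    exact hr

omit [IsNoetherianRing A] in
theorem Dop_le {t : A} (ht : t ∈ maximalIdeal A) :
    (PrimeSpectrum.basicOpen t : (Spec (CommRingCat.of A)).Opens) ≤ FEt.puncturedSpec A :=
  fun y hy h => hy (by rw [show y = closedPoint A from h]; exact ht)

omit [IsNoetherianRing A] in
theorem exists_notMem {y : Spec (CommRingCat.of A)} (hy : y ∈ FEt.puncturedSpec A) :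
    ∃ t ∈ maximalIdeal A, t ∉ y.asIdeal := by
  by_contra h
  push Not at h
  exact hy (PrimeSpectrum.ext ((maximalIdeal.isMaximal A).eq_of_le y.2.ne_top h).symm)

/-- Torsion at the powers of every element of an ideal gives torsion at a power of the ideal. -/
theorem exists_pow_le_of_forall (J : Ideal A) (h : ∀ t ∈ maximalIdeal A, ∃ n, t ^ n ∈ J) :
    ∃ n, maximalIdeal A ^ n ≤ J :=
  Ideal.exists_pow_le_of_le_radical_of_fg (fun t ht => h t ht) (IsNoetherian.noetherian _)

/-- The natural map `Spec (B) → Spec A`. -/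
abbrev qB (B : Type u) [CommRing B] [Algebra A B] : Spec (CommRingCat.of B) ⟶ Spec (CommRingCat.of A) :=
  Spec.map (CommRingCat.ofHom (algebraMap A B))

/-- Torsion kernel and cokernel: the map is an isomorphism over the punctured spectrum. -/
theorem isPullback_of_torsion {V : Scheme.{u}} (g : V ⟶ (FEt.puncturedSpec A : Scheme.{u})) [IsAffineHom g]
    [Algebra A Γ(V, ⊤)]
    (halg : algebraMap A Γ(V, ⊤) = ((Scheme.ΓSpecIso (CommRingCat.of A)).inv ≫ (g ≫ (FEt.puncturedSpec A).ι).appTop).hom)
    (B : Type u) [CommRing B] [Algebra A B] (ψ : B →ₐ[A] Γ(V, ⊤))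
    (hker : ∀ x : B, ψ x = 0 → ∃ n : ℕ, ∀ a ∈ maximalIdeal A ^ n, a • x = 0)
    (hcok : ∀ y : Γ(V, ⊤), ∃ n : ℕ, ∀ a ∈ maximalIdeal A ^ n, a • y ∈ Set.range ψ) :
    ∃ k : V ⟶ Spec (CommRingCat.of B), IsPullback k g (qB B) (FEt.puncturedSpec A).ι := by
  have : CompactSpace ((FEt.puncturedSpec A) : Scheme.{u}) := isCompact_iff_compactSpace.mp (NoetherianSpace.isCompact _)
  have : CompactSpace V := QuasiCompact.compactSpace_of_compactSpace g
  have : QuasiSeparatedSpace ((FEt.puncturedSpec A) : Scheme.{u}) := quasiSeparatedSpace_of_quasiSeparated (FEt.puncturedSpec A).ι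
  have : QuasiSeparatedSpace V := quasiSeparatedSpace_of_quasiSeparated g
  let k : V ⟶ Spec (CommRingCat.of B) := V.toSpecΓ ≫ Spec.map (CommRingCat.ofHom ψ.toRingHom)
  have hk : k ≫ qB B = g ≫ (FEt.puncturedSpec A).ι := by
    rw [Category.assoc, ← Spec.map_comp, ← CommRingCat.ofHom_comp, AlgHom.toRingHom_eq_coe, ψ.comp_algebraMap, halg,
      CommRingCat.ofHom_hom, Spec.map_comp, ← Scheme.toSpecΓ_naturality_assoc]
    simp
  have hkapp : ∀ b : B, k.appTop ((Scheme.ΓSpecIso (CommRingCat.of B)).inv b) = ψ b := fun b => by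
    have e1 : (Scheme.ΓSpecIso (CommRingCat.of B)).inv ≫ k.appTop = CommRingCat.ofHom ψ.toRingHom := by
      simp [k]
    exact congr($e1 b)
  let W : (Spec (CommRingCat.of B)).Opens := qB B ⁻¹ᵁ (FEt.puncturedSpec A)
  let k' : V ⟶ (W : Scheme.{u}) := IsOpenImmersion.lift W.ι k (by
    rintro _ ⟨v, rfl⟩
    rw [Scheme.Opens.range_ι]
    change (k ≫ qB B) v ∈ (FEt.puncturedSpec A)
    rw [hk]
    exact (g v).2)
  have hk' : k' ≫ W.ι = k := IsOpenImmersion.lift_fac _ _ _
  -- over the basic opens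
  have hiso : ∀ t : maximalIdeal A, IsIso (k ∣_ PrimeSpectrum.basicOpen (algebraMap A B t)) := fun t => by
    let D : (Spec (CommRingCat.of B)).Opens := PrimeSpectrum.basicOpen (algebraMap A B t)
    set τ := algebraMap A Γ(V, ⊤) t
    have hD : k ⁻¹ᵁ D = V.basicOpen τ := by
      have : D = (Spec (CommRingCat.of B)).basicOpen ((Scheme.ΓSpecIso (CommRingCat.of B)).inv (algebraMap A B t)) :=
        (basicOpen_eq_of_affine _).symm
      rw [this, Scheme.preimage_basicOpen_top, hkapp, ψ.commutes]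
    have hDA : k ⁻¹ᵁ D = g ⁻¹ᵁ ((FEt.puncturedSpec A).ι ⁻¹ᵁ PrimeSpectrum.basicOpen (t : A)) := by
      ext v
      change k v ∈ D ↔ (g ≫ (FEt.puncturedSpec A).ι) v ∈ PrimeSpectrum.basicOpen (t : A)
      rw [← hk]
      exact Iff.rfl
    have haff : IsAffineOpen (k ⁻¹ᵁ D) := by
      rw [hDA]
      exact ((IsAffineOpen.Spec_basicOpen (R := CommRingCat.of A) (t : A)).preimage_of_isOpenImmersion (FEt.puncturedSpec A).ι
        ((Dop_le t.2).trans (FEt.puncturedSpec A).opensRange_ι.ge)).preimage g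
    have : IsAffine _ := haff
    have : IsAffine _ := IsAffineOpen.Spec_basicOpen (R := CommRingCat.of B) (algebraMap A B t)
    have hbij : Function.Bijective (k.app D) := by
      let := ParaFormal.algebraSections (R := B) (V := D)
      have hB : IsLocalization.Away (algebraMap A B t) Γ(Spec (CommRingCat.of B), D) :=
        ParaFormal.isLocalizationSections (R := B) (algebraMap A B t)
      let := (V.presheaf.map (homOfLE (le_top : V.basicOpen τ ≤ ⊤)).op).hom.toAlgebra
      have hV : IsLocalization.Away τ Γ(V, V.basicOpen τ) :=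
        isLocalization_basicOpen_of_qcqs CompactSpace.isCompact_univ isQuasiSeparated_univ _
      have hnat : ∀ b : B, rres hD.ge (k.app D (algebraMap B Γ(Spec (CommRingCat.of B), D) b)) =
          algebraMap Γ(V, ⊤) Γ(V, V.basicOpen τ) (ψ b) := fun b => by
        rw [← hkapp b, ParaFormal.algebraMap_eq]
        change rres hD.ge (k.app D (rres (le_top : D ≤ ⊤) ((Scheme.ΓSpecIso (CommRingCat.of B)).inv b))) = _
        rw [show k.app D (rres (le_top : D ≤ ⊤) ((Scheme.ΓSpecIso (CommRingCat.of B)).inv b)) =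
          rres (le_top : k ⁻¹ᵁ D ≤ ⊤) (k.appTop ((Scheme.ΓSpecIso (CommRingCat.of B)).inv b)) from
          congr($(k.naturality (homOfLE (le_top : D ≤ ⊤)).op) _)]
        exact rres_rres _ _ _
      have hrb : Function.Bijective (rres hD.ge : Γ(V, k ⁻¹ᵁ D) → Γ(V, V.basicOpen τ)) :=
        Function.bijective_iff_has_inverse.mpr ⟨rres hD.le, fun z => by rw [rres_rres, rres_self],
          fun z => by rw [rres_rres, rres_self]⟩
      suffices Function.Bijective (rres hD.ge ∘ k.app D) from (Function.Bijective.of_comp_iff' hrb _).1 this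
      let F : Γ(Spec (CommRingCat.of B), D) →+* Γ(V, V.basicOpen τ) := (rres hD.ge).hom.comp (k.app D).hom
      change Function.Bijective F
      have hFu : ∀ b, F (algebraMap B _ b) = algebraMap Γ(V, ⊤) _ (ψ b) := hnat
      refine ⟨(injective_iff_map_eq_zero F).2 fun w hw => ?_, fun z => ?_⟩
      · obtain ⟨n, b, hb⟩ := IsLocalization.Away.surj (algebraMap A B t) w
        have h1 : algebraMap Γ(V, ⊤) Γ(V, V.basicOpen τ) (ψ b) = 0 := by
          rw [← hFu, ← hb, map_mul, hw, zero_mul]
        obtain ⟨⟨_, m, rfl⟩, hm⟩ := (IsLocalization.map_eq_zero_iff (Submonoid.powers τ) _ _).1 h1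
        obtain ⟨l, hl⟩ := hker ((t : A) ^ m • b) (by rw [map_smul, Algebra.smul_def, map_pow]; exact hm)
        have h2 : algebraMap B Γ(Spec (CommRingCat.of B), D) (algebraMap A B t) ^ (l + m + n) * w = 0 := by
          have h3 := hl ((t : A) ^ l) (Ideal.pow_mem_pow t.2 l)
          rw [smul_smul, ← pow_add, Algebra.smul_def, map_pow] at h3
          have h4 := congrArg (algebraMap B Γ(Spec (CommRingCat.of B), D)) h3
          rw [map_zero, map_mul, map_pow, ← hb] at h4
          rw [← h4]; ring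
        exact (((IsLocalization.Away.algebraMap_isUnit (algebraMap A B t)).pow _).mul_right_eq_zero).1 h2
      · obtain ⟨n, y, hy⟩ := IsLocalization.Away.surj τ z
        obtain ⟨l, hl⟩ := hcok y
        obtain ⟨b, hb⟩ := hl ((t : A) ^ l) (Ideal.pow_mem_pow t.2 l)
        obtain ⟨v, hv⟩ := ((IsLocalization.Away.algebraMap_isUnit (S := Γ(Spec (CommRingCat.of B), D)) (algebraMap A B t)).pow (n + l)).exists_right_inv
        refine ⟨algebraMap B _ b * v, ?_⟩
        have hv' := congrArg F hv
        rw [map_mul, map_pow, hFu, ψ.commutes, map_one] at hv'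
        rw [map_mul, hFu, hb, Algebra.smul_def, map_pow, map_mul, map_pow, ← hy]
        linear_combination z * hv'
    have : IsIso (k.app D) := (ConcreteCategory.isIso_iff_bijective _).2 hbij
    have : IsIso (k ∣_ D).appTop := by
      have hk2 : ∀ D' : (Spec (CommRingCat.of B)).Opens, D' = D → IsIso (k.app D') := fun D' h => h ▸ this
      have := hk2 _ D.ι_image_top
      rw [Scheme.Hom.appTop, morphismRestrict_app]
      infer_instance
    exact isIso_of_appTop _
  have hW : IsIso k' := by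
    let T : maximalIdeal A → (W : Scheme.{u}).Opens := fun t => W.ι ⁻¹ᵁ PrimeSpectrum.basicOpen (algebraMap A B t)
    have hT : iSup T = ⊤ := eq_top_iff.mpr fun w _ => by
      obtain ⟨t, ht, ht'⟩ := exists_notMem (show qB B (W.ι w) ∈ (FEt.puncturedSpec A) from w.2)
      exact Opens.mem_iSup.2 ⟨⟨t, ht⟩, ht'⟩
    refine (IsZariskiLocalAtTarget.iff_of_iSup_eq_top (P := MorphismProperty.isomorphisms Scheme.{u}) T hT).2 fun t => ?_
    have hTle : (PrimeSpectrum.basicOpen (algebraMap A B t) : (Spec (CommRingCat.of B)).Opens) ≤ W :=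
      fun w hw => Dop_le t.2 (show qB B w ∈ PrimeSpectrum.basicOpen (t : A) from hw)
    have h1 := hiso t
    have e1 : (k' ∣_ T t) ≫ (W.ι ∣_ PrimeSpectrum.basicOpen (algebraMap A B t)) =
        (Scheme.isoOfEq V (show k' ⁻¹ᵁ T t = k ⁻¹ᵁ PrimeSpectrum.basicOpen (algebraMap A B t) by rw [← hk']; rfl)).hom ≫
          k ∣_ PrimeSpectrum.basicOpen (algebraMap A B t) := by
      rw [← cancel_mono (Scheme.Opens.ι _)]
      simp only [Category.assoc, morphismRestrict_ι, Scheme.isoOfEq_hom_ι_assoc]
      refine (Category.assoc _ _ _).symm.trans ?_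
      exact (congrArg (· ≫ W.ι) (morphismRestrict_ι k' (T t))).trans ((Category.assoc _ _ _).trans (congrArg _ hk'))
    have h2 : IsIso (W.ι ∣_ PrimeSpectrum.basicOpen (algebraMap A B t)) :=
      (isIso_iff_isOpenImmersion_and_surjective _).2
        ⟨inferInstance, ⟨fun z => ⟨⟨⟨z.1, hTle z.2⟩, z.2⟩, Subtype.ext
          congr($(morphismRestrict_ι W.ι (PrimeSpectrum.basicOpen (algebraMap A B t))) ⟨⟨z.1, hTle z.2⟩, z.2⟩)⟩⟩⟩
    change IsIso (k' ∣_ T t)
    have : IsIso ((k' ∣_ T t) ≫ (W.ι ∣_ PrimeSpectrum.basicOpen (algebraMap A B t))) := by rw [e1]; infer_instance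
    exact IsIso.of_isIso_comp_right _ (W.ι ∣_ PrimeSpectrum.basicOpen (algebraMap A B t))
  refine ⟨k, IsPullback.of_iso (isPullback_morphismRestrict (qB B) (FEt.puncturedSpec A)).flip (asIso k').symm (Iso.refl _) (Iso.refl _)
    (Iso.refl _) ?_ ?_ (by simp) (by simp)⟩
  · simp [← hk']
    rfl
  · simp only [Iso.symm_hom, asIso_inv, Iso.refl_hom, Category.comp_id]
    rw [← cancel_mono (FEt.puncturedSpec A).ι]
    simp only [Category.assoc, morphismRestrict_ι]
    rw [IsIso.eq_inv_comp, ← hk, ← hk', Category.assoc]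

variable (V : Over (FEt.puncturedSpec A : Scheme.{u})) [IsFinite V.hom]
  (Y' : Over (Spec (CommRingCat.of (Comp A)))) [IsFinite Y'.hom]

/-- The completion morphism. -/
abbrev πm : Spec (CommRingCat.of (Comp A)) ⟶ Spec (CommRingCat.of A) :=
  Spec.map (CommRingCat.ofHom (algebraMap A (Comp A)))

/-- Formal glueing. -/
theorem exists_glue
    (e : (Over.pullback (pullback.fst (FEt.puncturedSpec A).ι (πm (A := A)))).obj V ≅
      (Over.pullback (pullback.snd (FEt.puncturedSpec A).ι (πm (A := A)))).obj Y') :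
    ∃ (B : Type u) (_ : CommRing B) (_ : Algebra A B), Module.Finite A B ∧
      (∃ k, IsPullback k V.hom (qB B) (FEt.puncturedSpec A).ι) ∧
      ∃ c, IsPullback c Y'.hom (qB (A := A) B) (πm (A := A)) := by
  set π := πm (A := A)
  have : CompactSpace ((FEt.puncturedSpec A) : Scheme.{u}) := isCompact_iff_compactSpace.mp (NoetherianSpace.isCompact _)
  have : CompactSpace V.left := QuasiCompact.compactSpace_of_compactSpace V.hom
  have : QuasiSeparatedSpace ((FEt.puncturedSpec A) : Scheme.{u}) := quasiSeparatedSpace_of_quasiSeparated (FEt.puncturedSpec A).ι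
  have : QuasiSeparatedSpace V.left := quasiSeparatedSpace_of_quasiSeparated V.hom
  have : Module.Flat A (Comp A) := AdicCompletion.flat_of_isNoetherian _
  have : Module.FaithfullyFlat A (Comp A) := Module.FaithfullyFlat.of_flat_of_isLocalHom
  have hπflat : Flat π := (HasRingHomProperty.Spec_iff (P := @Flat)).2 (RingHom.flat_algebraMap_iff.2 inferInstance)
  have : IsAffineHom π := inferInstance
  have : IsAffine Y'.left := isAffine_of_isAffineHom Y'.hom
  let f := V.hom ≫ (FEt.puncturedSpec A).ι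
  let c₀ := (pullbackRightPullbackFstIso (FEt.puncturedSpec A).ι π V.hom).inv
  let j : pullback f π ⟶ Y'.left := c₀ ≫ e.hom.left ≫ pullback.fst Y'.hom (pullback.snd (FEt.puncturedSpec A).ι π)
  have hjY : j ≫ Y'.hom = pullback.snd f π := by
    have hw : e.hom.left ≫ pullback.snd Y'.hom (pullback.snd (FEt.puncturedSpec A).ι π) = pullback.snd V.hom (pullback.fst (FEt.puncturedSpec A).ι π) :=
      Over.w e.hom
    rw [Category.assoc, Category.assoc, pullback.condition, reassoc_of% hw,
      pullbackRightPullbackFstIso_inv_snd_snd]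
  have hel : IsIso e.hom.left := inferInstanceAs (IsIso ((Over.forget _).map e.hom))
  have : IsOpenImmersion j := inferInstance
  have hrange : ∀ y : Y'.left, π (Y'.hom y) ∈ (FEt.puncturedSpec A) → y ∈ j.opensRange := fun y hy => by
    obtain ⟨p, -, hp⟩ := Scheme.Pullback.exists_preimage_pullback (f := (FEt.puncturedSpec A).ι) (g := π) ⟨_, hy⟩ (Y'.hom y) rfl
    obtain ⟨q, hq, -⟩ := Scheme.Pullback.exists_preimage_pullback (f := Y'.hom) (g := pullback.snd (FEt.puncturedSpec A).ι π) y p hp.symm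
    refine ⟨inv (c₀ ≫ e.hom.left) q, ?_⟩
    change (inv (c₀ ≫ e.hom.left) ≫ j) q = y
    rw [show inv (c₀ ≫ e.hom.left) ≫ j = pullback.fst Y'.hom (pullback.snd (FEt.puncturedSpec A).ι π) by simp [j]]
    exact hq
  let : Algebra A Γ(V.left, ⊤) := ((Scheme.ΓSpecIso (CommRingCat.of A)).inv ≫ f.appTop).hom.toAlgebra
  let : Algebra (Comp A) Γ(Y'.left, ⊤) := ((Scheme.ΓSpecIso (CommRingCat.of (Comp A))).inv ≫ Y'.hom.appTop).hom.toAlgebra
  let : Algebra A Γ(Y'.left, ⊤) := ((algebraMap (Comp A) Γ(Y'.left, ⊤)).comp (algebraMap A (Comp A))).toAlgebra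
  have : IsScalarTower A (Comp A) Γ(Y'.left, ⊤) := IsScalarTower.of_algebraMap_eq fun _ => rfl
  let : Algebra (Comp A) Γ(pullback f π, ⊤) :=
    ((Scheme.ΓSpecIso (CommRingCat.of (Comp A))).inv ≫ (pullback.snd f π).appTop).hom.toAlgebra
  let : Algebra A Γ(pullback f π, ⊤) := ((algebraMap (Comp A) Γ(pullback f π, ⊤)).comp (algebraMap A (Comp A))).toAlgebra
  have : IsScalarTower A (Comp A) Γ(pullback f π, ⊤) := IsScalarTower.of_algebraMap_eq fun _ => rfl
  let gN : Γ(V.left, ⊤) →ₐ[A] Γ(pullback f π, ⊤) :=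
    { toRingHom := (pullback.fst f π).appTop.hom
      commutes' := fun a => by
        change ((Scheme.ΓSpecIso (CommRingCat.of A)).inv ≫ f.appTop ≫ (pullback.fst f π).appTop) a =
          (CommRingCat.ofHom (algebraMap A (Comp A)) ≫ (Scheme.ΓSpecIso (CommRingCat.of (Comp A))).inv ≫ (pullback.snd f π).appTop) a
        rw [← Scheme.Hom.comp_appTop, pullback.condition, Scheme.Hom.comp_appTop,
          Scheme.ΓSpecIso_inv_naturality_assoc] }
  let θ : (Comp A) ⊗[A] Γ(V.left, ⊤) →ₐ[(Comp A)] Γ(pullback f π, ⊤) := AlgHom.liftEquiv A (Comp A) _ _ gN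
  have hθ : Function.Bijective θ := by
    have hiso := isIso_pushoutSection_of_isQuasiSeparated_of_flat_right
      (IsPullback.of_hasPullback f π) (US := ⊤) (UT := ⊤) (UX := ⊤) (UY := ⊤) le_top le_top (by simp)
      (isAffineOpen_top _) (isAffineOpen_top _) CompactSpace.isCompact_univ isQuasiSeparated_univ
    have hpo := (isIso_pushoutSection_iff ..).1 hiso
    have hpo' : IsPushout (CommRingCat.ofHom (algebraMap A (Comp A))) (CommRingCat.ofHom (algebraMap A Γ(V.left, ⊤)))
        (CommRingCat.ofHom (algebraMap (Comp A) Γ(pullback f π, ⊤))) (CommRingCat.ofHom gN.toRingHom) := by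
      refine hpo.flip.of_iso (Scheme.ΓSpecIso (CommRingCat.of A)) (Scheme.ΓSpecIso (CommRingCat.of (Comp A)))
        (Iso.refl _) (Iso.refl _) ?_ ?_ ?_ ?_
      · simp only [Scheme.Hom.appLE]
        simp
        exact Scheme.ΓSpecIso_naturality (CommRingCat.ofHom (algebraMap A (Comp A)))
      · rw [Iso.refl_hom, Category.comp_id, ← Iso.inv_comp_eq]
        simp [Scheme.Hom.appLE]
        rfl
      · rw [Iso.refl_hom, Category.comp_id, ← Iso.inv_comp_eq]
        simp [Scheme.Hom.appLE]
        rfl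
      · simp [Scheme.Hom.appLE]
        rfl
    let i := (CommRingCat.isPushout_tensorProduct A (Comp A) Γ(V.left, ⊤)).isoIsPushout _ _ hpo'
    have hi : i.hom = CommRingCat.ofHom θ.toRingHom := by
      apply (CommRingCat.isPushout_tensorProduct A (Comp A) Γ(V.left, ⊤)).hom_ext
      · rw [IsPushout.inl_isoIsPushout_hom]
        ext x
        exact (θ.commutes x).symm
      · rw [IsPushout.inr_isoIsPushout_hom]
        ext x
        change gN x = θ (1 ⊗ₜ x)
        simp [θ, AlgHom.liftEquiv]
    have : IsIso (CommRingCat.ofHom θ.toRingHom) := hi ▸ inferInstance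
    exact (ConcreteCategory.isIso_iff_bijective _).1 this
  let θe := AlgEquiv.ofBijective θ hθ
  let jA : Γ(Y'.left, ⊤) →ₐ[(Comp A)] Γ(pullback f π, ⊤) :=
    { toRingHom := j.appTop.hom
      commutes' := fun a => by
        change ((Scheme.ΓSpecIso (CommRingCat.of (Comp A))).inv ≫ Y'.hom.appTop ≫ j.appTop) a = _
        rw [← Scheme.Hom.comp_appTop, hjY]
        rfl }
  let φ : Γ(Y'.left, ⊤) →ₐ[(Comp A)] (Comp A) ⊗[A] Γ(V.left, ⊤) := θe.symm.toAlgHom.comp jA
  have : QuasiSeparatedSpace (pullback f π : Scheme.{u}) := quasiSeparatedSpace_of_quasiSeparated (pullback.fst f π)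
  have : CompactSpace (pullback f π : Scheme.{u}) := QuasiCompact.compactSpace_of_compactSpace (pullback.fst f π)
  have htor : ∀ t ∈ maximalIdeal A,
      (∀ x, j.appTop x = 0 → ∃ n, algebraMap (Comp A) Γ(Y'.left, ⊤) (algebraMap A (Comp A) t) ^ n * x = 0) ∧
      ∀ y, ∃ n x, j.appTop x = j.appTop (algebraMap (Comp A) Γ(Y'.left, ⊤) (algebraMap A (Comp A) t)) ^ n * y := fun t ht => by
    refine torsion_of_openImmersion j _ fun y hy => hrange y ?_
    refine Dop_le ht ?_
    change t ∉ (π (Y'.hom y)).asIdeal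
    rw [RingHom.algebraMap_toAlgebra] at hy
    change y ∈ Y'.left.basicOpen (Y'.hom.appTop ((Scheme.ΓSpecIso (CommRingCat.of (Comp A))).inv (algebraMap A (Comp A) t))) at hy
    rw [← Scheme.preimage_basicOpen_top, basicOpen_eq_of_affine] at hy
    exact hy
  obtain ⟨B, _, _, ψ, ε, hψε, hker, hcok⟩ := PunctGlueAlg.exists_glue_algebra (maximalIdeal A) quotientMap_bijective
    Γ(V.left, ⊤) Γ(Y'.left, ⊤) φ (fun x hx => by
      have hx' : j.appTop x = 0 := by
        have := congrArg θe hx
        rwa [map_zero, show θe (φ x) = jA x from θe.apply_symm_apply _] at this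
      let J : Ideal A := (⊥ : Submodule A Γ(Y'.left, ⊤)).colon {x}
      obtain ⟨n, hn⟩ := exists_pow_le_of_forall J fun t ht => by
        obtain ⟨n, hn⟩ := (htor t ht).1 x hx'
        refine ⟨n, ?_⟩
        rw [Submodule.mem_colon_singleton, Submodule.mem_bot, Algebra.smul_def, IsScalarTower.algebraMap_apply A (Comp A),
          map_pow, map_pow]
        exact hn
      refine ⟨n, fun a ha => ?_⟩
      rw [algebraMap_smul]
      exact (Submodule.mem_bot A).1 (Submodule.mem_colon_singleton.1 (hn ha))) (fun y => by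
      let J : Ideal A := (LinearMap.range ((φ.restrictScalars A).toLinearMap)).colon {y}
      obtain ⟨n, hn⟩ := exists_pow_le_of_forall J fun t ht => by
        obtain ⟨n, x, hx⟩ := (htor t ht).2 (θe y)
        refine ⟨n, ?_⟩
        rw [Submodule.mem_colon_singleton]
        refine ⟨x, θe.injective ?_⟩
        change θe (φ x) = θe (t ^ n • y)
        rw [show θe (φ x) = jA x from θe.apply_symm_apply _, ← algebraMap_smul (Comp A) (t ^ n) y, map_smul,
          Algebra.smul_def, map_pow, map_pow]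
        change j.appTop x = _
        rw [hx, show j.appTop (algebraMap (Comp A) Γ(Y'.left, ⊤) (algebraMap A (Comp A) t)) =
          algebraMap (Comp A) Γ(pullback f π, ⊤) (algebraMap A (Comp A) t) from jA.commutes _]
      refine ⟨n, fun a ha => ?_⟩
      rw [algebraMap_smul]
      exact Submodule.mem_colon_singleton.1 (hn ha))
  refine ⟨B, inferInstance, inferInstance, ?_, isPullback_of_torsion V.hom rfl B ψ hker hcok, ?_⟩
  · have hfin : RingHom.Finite (algebraMap (Comp A) Γ(Y'.left, ⊤)) :=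
      (Y'.hom.finite_appTop).comp (RingHom.Finite.of_surjective _
        (Scheme.ΓSpecIso (CommRingCat.of (Comp A))).commRingCatIsoToRingEquiv.symm.surjective)
    have : Module.Finite (Comp A) Γ(Y'.left, ⊤) := RingHom.finite_algebraMap.1 hfin
    have : Module.Finite (Comp A) ((Comp A) ⊗[A] B) := Module.Finite.equiv ε.symm.toLinearEquiv
    exact Module.Finite.of_finite_tensorProduct_of_faithfullyFlat (Comp A)
  · let iY : Y'.left ≅ Spec (CommRingCat.of ((Comp A) ⊗[A] B)) :=
      Y'.left.isoSpec ≪≫ Scheme.Spec.mapIso ε.toRingEquiv.toCommRingCatIso.op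
    refine ⟨iY.hom ≫ Spec.map (CommRingCat.ofHom Algebra.TensorProduct.includeRight.toRingHom),
      IsPullback.of_iso (isPullback_SpecMap_of_isPushout _ _ _ _
      (CommRingCat.isPushout_tensorProduct A (Comp A) B)).flip iY.symm (Iso.refl _) (Iso.refl _) (Iso.refl _) ?_ ?_ ?_ ?_⟩
    · simp
    · rw [Iso.refl_hom, Category.comp_id, Iso.symm_hom, ← Iso.cancel_iso_hom_left iY, Iso.hom_inv_id_assoc]
      have h1 : (iY.hom ≫ Spec.map (CommRingCat.ofHom Algebra.TensorProduct.includeLeftRingHom)) =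
          Y'.left.toSpecΓ ≫ Spec.map (CommRingCat.ofHom (algebraMap (Comp A) Γ(Y'.left, ⊤))) := by
        rw [show iY.hom = Y'.left.toSpecΓ ≫ Spec.map (CommRingCat.ofHom ε.toAlgHom.toRingHom) from rfl,
          Category.assoc, ← Spec.map_comp, ← CommRingCat.ofHom_comp]
        congr 3
        exact RingHom.ext fun a => ε.commutes a
      refine h1.trans ?_
      rw [RingHom.algebraMap_toAlgebra, CommRingCat.ofHom_hom, Spec.map_comp, ← Scheme.toSpecΓ_naturality_assoc]
      simp
    · simp
    · simp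
      rfl

end Groth.Agent.Hens.PunctGlue
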