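import Groth.Agent.Hens.PunctFF
import Groth.Agent.Hens.PunctGlue
import Groth.Agent.Hensel.Pair
import Groth.Agent.S0239
import Groth.Agent.S0262

/-!
# Extending finite étale covers of a punctured spectrum from the hypersurface

If `f ^ n` kills `H¹_m` and `H²_m` of a Noetherian local ring, a finite étale cover of the punctured
spectrum extends as soon as its restriction to the punctured hypersurface does.
-/

set_option autoImplicit false
set_option backward.isDefEq.respectTransparency false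
set_option backward.isDefEq.respectTransparency.types false
set_option linter.style.haveILetI false

universe u

open CategoryTheory CategoryTheory.Limits AlgebraicGeometry TensorProduct IsLocalRing

noncomputable section

namespace Groth.Agent.Hens.PunctExtend

/-- Restriction along a commutative square. -/
def squareIso {X₁ X₂ X₃ X₄ : Scheme.{u}} {a : X₁ ⟶ X₂} {b : X₂ ⟶ X₄} {c : X₁ ⟶ X₃} {d : X₃ ⟶ X₄}
    (h : a ≫ b = c ≫ d) : FEt.restrict b ⋙ FEt.restrict a ≅ FEt.restrict d ⋙ FEt.restrict c :=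
  (MorphismProperty.Over.pullbackComp a b _ rfl).symm ≪≫
    MorphismProperty.Over.pullbackCongr h ≪≫ MorphismProperty.Over.pullbackComp _ _ _ rfl

variable {A : Type u} [CommRing A] [IsNoetherianRing A]

/-- Annihilators of local cohomology pass to flat base change. -/
theorem kill_baseChange (B : Type u) [CommRing B] [IsNoetherianRing B] [Algebra A B] [Module.Flat A B]
    (I : Ideal A) (J : Ideal B) (hJ : J = I.map (algebraMap A B)) (r : A) (i : ℕ)
    (h : ∀ x : _root_.LocCoh.H I i A, r • x = 0) :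
    ∀ x : _root_.LocCoh.H J i B, algebraMap A B r • x = 0 := by
  subst hJ
  obtain ⟨φ⟩ := LocCoh.BaseChangeIso.nonempty_H_tensor (A := A) (B := B) I i (ModuleCat.of A A)
  let ψ := φ.trans ((localCohomology (I.map (algebraMap A B)) i).mapIso
    (TensorProduct.AlgebraTensorModule.rid A B B).toModuleIso).toLinearEquiv
  intro x
  obtain ⟨z, rfl⟩ := ψ.surjective x
  rw [← map_smul]
  refine (congrArg ψ ?_).trans (map_zero ψ)
  induction z using TensorProduct.induction_on with
  | zero => exact smul_zero _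
  | tmul b z => rw [TensorProduct.smul_tmul', algebraMap_smul, TensorProduct.smul_tmul, h, TensorProduct.tmul_zero]
  | add a b ha hb => rw [smul_add, ha, hb, add_zero]

variable [IsLocalRing A] {f : A}

open PunctGlue (Comp πm)

/-- The extension criterion. -/
theorem exists_extension (hf : f ∈ maximalIdeal A)
    (h₁ : ∃ n : ℕ, ∀ x : _root_.LocCoh.H (maximalIdeal A) 1 A, (f ^ n) • x = 0)
    (h₂ : ∃ n : ℕ, ∀ x : _root_.LocCoh.H (maximalIdeal A) 2 A, (f ^ n) • x = 0)
    (V : FEt.Cat (FEt.puncturedSpec A : Scheme.{u}))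
    (hV : ∃ Y₀ : FEt.Cat (Spec (CommRingCat.of (A ⧸ Ideal.span {f}))),
      Nonempty ((FEt.restrict (pullback.snd (FEt.puncturedSpec A).ι
        (Spec.map (CommRingCat.ofHom (Ideal.Quotient.mk (Ideal.span {f})))))).obj Y₀ ≅
        (FEt.restrict (pullback.fst (FEt.puncturedSpec A).ι
        (Spec.map (CommRingCat.ofHom (Ideal.Quotient.mk (Ideal.span {f})))))).obj V)) :
    ∃ Y : FEt.Cat (Spec (CommRingCat.of A)),
      Nonempty ((FEt.restrict (FEt.puncturedSpec A).ι).obj Y ≅ V) := by
  obtain ⟨Y₀, ⟨ψ₀⟩⟩ := hV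
  refine (S0262.result A V).2 ?_
  have : Module.Flat A (Comp A) := AdicCompletion.flat_of_isNoetherian _
  have : IsNoetherianRing (Comp A) := RegLoc.AdicNoeth.isNoetherianRing_adicCompletion _ (IsNoetherian.noetherian _)
  have hm : maximalIdeal (Comp A) = (maximalIdeal A).map (algebraMap A (Comp A)) := AdicCompletion.maximalIdeal_eq_map
  set fh := algebraMap A (Comp A) f
  have hfh : fh ∈ maximalIdeal (Comp A) := hm ▸ Ideal.mem_map_of_mem _ hf
  have hkill : ∀ i, (∃ n : ℕ, ∀ x : _root_.LocCoh.H (maximalIdeal A) i A, (f ^ n) • x = 0) →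
      ∃ n : ℕ, ∀ x : _root_.LocCoh.H (maximalIdeal (Comp A)) i (Comp A), (fh ^ n) • x = 0 := fun i ⟨n, hn⟩ =>
    ⟨n, by rw [← map_pow]; exact kill_baseChange (Comp A) _ _ hm _ i hn⟩
  have : IsAdicComplete (maximalIdeal (Comp A)) (Comp A) := inferInstance
  have : HenselianRing (Comp A) (Ideal.span {fh}) :=
    Hensel.henselianRing_of_le (I := Ideal.span {fh}) (J := maximalIdeal (Comp A))
      ((Ideal.span_singleton_le_iff_mem _).2 hfh)
  obtain ⟨hF, hF'⟩ := PunctFF.full_faithful hfh (hkill 1 h₁) (hkill 2 h₂)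
  let qA := Spec.map (CommRingCat.ofHom (Ideal.Quotient.mk (Ideal.span {f})))
  let qH := Spec.map (CommRingCat.ofHom (Ideal.Quotient.mk (Ideal.span {fh})))
  let U := FEt.puncturedSpec A
  let Uh := FEt.puncturedSpec (Comp A)
  let π := πm (A := A)
  have hpt : ∀ y, π y ∈ U ↔ y ∈ Uh := fun y => by
    change ¬ (π y = closedPoint A) ↔ ¬ (y = closedPoint (Comp A))
    refine not_congr ⟨fun h => PrimeSpectrum.ext ?_, fun h => ?_⟩
    · refine ((maximalIdeal.isMaximal (Comp A)).eq_of_le y.2.ne_top ?_).symm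
      rw [hm]
      exact Ideal.map_le_iff_le_comap.2 (congrArg PrimeSpectrum.asIdeal h).ge
    · rw [h]
      exact IsLocalRing.comap_closedPoint (algebraMap A (Comp A))
  let π' : (Uh : Scheme.{u}) ⟶ (U : Scheme.{u}) := IsOpenImmersion.lift U.ι (Uh.ι ≫ π) (by
    rintro _ ⟨z, rfl⟩
    rw [Scheme.Opens.range_ι]
    exact (hpt _).2 z.2)
  have hπ' : π' ≫ U.ι = Uh.ι ≫ π := IsOpenImmersion.lift_fac _ _ _
  have hle : Ideal.span {f} ≤ (Ideal.span {fh}).comap (algebraMap A (Comp A)) :=
    (Ideal.span_singleton_le_iff_mem _).2 (Ideal.mem_comap.2 (Ideal.mem_span_singleton_self _))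
  let κ := Spec.map (CommRingCat.ofHom (Ideal.quotientMap (Ideal.span {fh}) (algebraMap A (Comp A)) hle))
  have hκ : qH ≫ π = κ ≫ qA := by
    rw [← Spec.map_comp, ← Spec.map_comp, ← CommRingCat.ofHom_comp, ← CommRingCat.ofHom_comp]
    congr 2
  let t : pullback Uh.ι qH ⟶ pullback U.ι qA :=
    pullback.lift (pullback.fst _ _ ≫ π') (pullback.snd _ _ ≫ κ) (by
      rw [Category.assoc, hπ', pullback.condition_assoc, hκ, Category.assoc])
  have := S0239.result (Comp A) (Ideal.span {fh})
  obtain ⟨Y', ⟨e'⟩⟩ := (inferInstance : (FEt.restrict qH).EssSurj).mem_essImage ((FEt.restrict κ).obj Y₀)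
  let χ : (FEt.restrict (PunctFF.rmap fh)).obj ((FEt.restrict Uh.ι).obj Y') ≅
      (FEt.restrict (PunctFF.rmap fh)).obj ((FEt.restrict π').obj V) :=
    (squareIso (pullback.condition (f := Uh.ι) (g := qH))).app Y' ≪≫
      (FEt.restrict (pullback.snd Uh.ι qH)).mapIso e' ≪≫
      (squareIso (show pullback.snd Uh.ι qH ≫ κ = t ≫ pullback.snd U.ι qA from (pullback.lift_snd _ _ _).symm)).app Y₀ ≪≫
      (FEt.restrict t).mapIso ψ₀ ≪≫
      (squareIso (show t ≫ pullback.fst U.ι qA = pullback.fst Uh.ι qH ≫ π' from pullback.lift_fst _ _ _)).app V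
  let ω := (FEt.restrict (PunctFF.rmap fh)).preimageIso χ
  let w : pullback U.ι π ⟶ (Uh : Scheme.{u}) := IsOpenImmersion.lift Uh.ι (pullback.snd U.ι π) (by
    rintro _ ⟨z, rfl⟩
    rw [Scheme.Opens.range_ι]
    refine (hpt _).1 ?_
    change (pullback.snd U.ι π ≫ π) z ∈ U
    rw [← pullback.condition]
    exact (pullback.fst U.ι π z).2)
  have hw : w ≫ Uh.ι = pullback.snd U.ι π := IsOpenImmersion.lift_fac _ _ _
  have hw' : w ≫ π' = pullback.fst U.ι π := by
    rw [← cancel_mono U.ι, Category.assoc, hπ', reassoc_of% hw, pullback.condition]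
  exact ⟨Y', ⟨(MorphismProperty.Over.pullbackCongr hw.symm).app Y' ≪≫
    (MorphismProperty.Over.pullbackComp w Uh.ι _ rfl).app Y' ≪≫ (FEt.restrict w).mapIso ω ≪≫
    (MorphismProperty.Over.pullbackComp w π' _ rfl).symm.app V ≪≫ (MorphismProperty.Over.pullbackCongr hw').app V⟩⟩

end Groth.Agent.Hens.PunctExtend
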