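import Groth.Agent.Hens.PunctCech
import Groth.Agent.Hens.PunctRigid
import Groth.Agent.S9489
import Groth.Agent.LocCoh.BaseChangeIso
import Groth.Agent.LocCoh.DepthVanishing

/-!
# Restriction from a punctured spectrum to that of a hypersurface: full faithfulness

`full_faithful_complete`: `A` Noetherian local, `f`-adically complete, `f ^ n` kills `H¹_m` and `H²_m`.
`full_faithful`: the same for a henselian pair `(A, (f))`.
-/

set_option autoImplicit false
set_option backward.isDefEq.respectTransparency false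
set_option backward.isDefEq.respectTransparency.types false
set_option linter.style.haveILetI false

universe u

open CategoryTheory CategoryTheory.Limits AlgebraicGeometry TensorProduct IsLocalRing
open Groth.Agent.QCoh

noncomputable section

namespace Groth.Agent.Hens.PunctFF

section Restrict

variable {X Y Z : Scheme.{u}}

/-- Base change along a composite with an isomorphism. -/
theorem full_faithful_of_iso_comp (e : X ⟶ Y) [IsIso e] (i : Y ⟶ Z)
    (h : (FEt.restrict i).Full ∧ (FEt.restrict i).Faithful) :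
    (FEt.restrict (e ≫ i)).Full ∧ (FEt.restrict (e ≫ i)).Faithful := by
  obtain ⟨h1, h2⟩ := h
  obtain ⟨h3, h4⟩ := FEtCat.Full.full_faithful e
    (fun W V _ hV => by
      have hs : Function.Surjective (pullback.fst W.hom e) := (pullback.fst W.hom e).homeomorph.surjective
      rw [← Set.image_preimage_eq V hs, hV, Set.image_empty])
    (fun W V hV => ⟨(inv (pullback.fst W.hom e)) ⁻¹' V, hV.preimage (inv (pullback.fst W.hom e)).continuous, by
      ext z
      change (pullback.fst W.hom e ≫ inv (pullback.fst W.hom e)) z ∈ V ↔ z ∈ V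
      rw [IsIso.hom_inv_id]; rfl⟩)
  let sq : FEt.restrict (e ≫ i) ≅ FEt.restrict i ⋙ FEt.restrict e :=
    MorphismProperty.Over.pullbackComp e i _ rfl
  exact ⟨Functor.Full.of_iso sq.symm, Functor.Faithful.of_iso sq.symm⟩

theorem isIso_comp_full_faithful (g g' : X ⟶ Z) (h : g = g')
    (hg : (FEt.restrict g').Full ∧ (FEt.restrict g').Faithful) :
    (FEt.restrict g).Full ∧ (FEt.restrict g).Faithful := h ▸ hg

end Restrict

variable {A : Type u} [CommRing A] [IsNoetherianRing A] [IsLocalRing A] (f : A)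

/-- The restriction map from the punctured spectrum. -/
abbrev rmap : pullback (FEt.puncturedSpec A).ι (Spec.map (CommRingCat.ofHom (Ideal.Quotient.mk (Ideal.span {f})))) ⟶
    (FEt.puncturedSpec A : Scheme.{u}) :=
  pullback.fst _ _

omit [IsNoetherianRing A] in
theorem ideal_comap_ker (W : (FEt.puncturedSpec A : Scheme.{u}).affineOpens) :
    ((Spec.map (CommRingCat.ofHom (Ideal.Quotient.mk (Ideal.span {f})))).ker.comap (FEt.puncturedSpec A).ι).ideal W =
      Ideal.span {PunctFormal.fn (PunctCech.toΓ (FEt.puncturedSpec A)) f W.1} := by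
  set q := Spec.map (CommRingCat.ofHom (Ideal.Quotient.mk (Ideal.span {f})))
  set ι := (FEt.puncturedSpec A).ι
  have htop : RingHom.ker q.appTop.hom = Ideal.span {(Scheme.ΓSpecIso (CommRingCat.of A)).inv f} := by
    have hn := Scheme.ΓSpecIso_inv_naturality (CommRingCat.ofHom (Ideal.Quotient.mk (Ideal.span {f})))
    have e : Ideal.span {(Scheme.ΓSpecIso (CommRingCat.of A)).inv f} =
        (Ideal.span {f}).map (Scheme.ΓSpecIso (CommRingCat.of A)).inv.hom := by
      rw [Ideal.map_span, Set.image_singleton]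
    rw [e]
    ext x
    obtain ⟨a, rfl⟩ := (Scheme.ΓSpecIso (CommRingCat.of A)).commRingCatIsoToRingEquiv.symm.surjective x
    change q.appTop ((Scheme.ΓSpecIso (CommRingCat.of A)).inv a) = 0 ↔ _
    have h1 : q.appTop ((Scheme.ΓSpecIso (CommRingCat.of A)).inv a) =
        (Scheme.ΓSpecIso _).inv (Ideal.Quotient.mk (Ideal.span {f}) a) := congr($hn a).symm
    rw [h1]
    refine ((map_eq_zero_iff (Scheme.ΓSpecIso _).commRingCatIsoToRingEquiv.symm
      (RingEquiv.injective _)).trans Ideal.Quotient.eq_zero_iff_mem).trans ?_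
    exact (Ideal.mem_map_iff_of_surjective _ (Scheme.ΓSpecIso (CommRingCat.of A)).commRingCatIsoToRingEquiv.symm.surjective).trans
      ⟨fun ⟨b, hb, hba⟩ => (Scheme.ΓSpecIso (CommRingCat.of A)).commRingCatIsoToRingEquiv.symm.injective hba ▸ hb,
        fun h => ⟨a, h, rfl⟩⟩ |>.symm
  rw [Scheme.IdealSheafData.ideal_comap_of_isOpenImmersion, Scheme.ker_of_isAffine, Scheme.IdealSheafData.ofIdealTop_ideal,
    htop, Ideal.map_span, Set.image_singleton]
  change Ideal.comap (ι.appIso W).inv.hom _ = _
  have hinv : Function.Bijective (ι.appIso W).inv.hom := (ConcreteCategory.isIso_iff_bijective _).1 inferInstance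
  have hfn : (ι.appIso W).inv (PunctFormal.fn (PunctCech.toΓ (FEt.puncturedSpec A)) f W.1) =
      rres le_top ((Scheme.ΓSpecIso (CommRingCat.of A)).inv f) := by
    change (ι.appIso W).inv (rres le_top (ι.appTop ((Scheme.ΓSpecIso (CommRingCat.of A)).inv f))) = _
    rw [Scheme.Opens.ι_appTop, Scheme.Opens.ι_appIso]
    exact rres_rres (X := Spec (CommRingCat.of A)) le_top (ι.image_mono le_top) _
  change Ideal.comap (ι.appIso W).inv.hom (Ideal.span {rres le_top ((Scheme.ΓSpecIso (CommRingCat.of A)).inv f)}) = _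
  rw [← hfn]
  have := Ideal.comap_map_of_bijective (ι.appIso W).inv.hom hinv
    (I := Ideal.span {PunctFormal.fn (PunctCech.toΓ (FEt.puncturedSpec A)) f W.1})
  rwa [Ideal.map_span, Set.image_singleton] at this

omit [IsNoetherianRing A] in
theorem Dop_le_punctured {x : A} (hx : x ∈ maximalIdeal A) : ParaFormal.Dop x ≤ FEt.puncturedSpec A :=
  fun y hy h => hy (by rw [show y = closedPoint A from h]; exact hx)

/-- The complete case. -/
theorem full_faithful_complete [IsAdicComplete (Ideal.span {f}) A]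
    (h₁ : ∃ n : ℕ, ∀ x : _root_.LocCoh.H (maximalIdeal A) 1 A, (f ^ n) • x = 0)
    (h₂ : ∃ n : ℕ, ∀ x : _root_.LocCoh.H (maximalIdeal A) 2 A, (f ^ n) • x = 0) :
    (FEt.restrict (rmap f)).Full ∧ (FEt.restrict (rmap f)).Faithful := by
  obtain ⟨s, hs⟩ := IsNoetherian.noetherian (maximalIdeal A)
  let x : {i // i ∈ s} → A := fun i => i.1
  have hspan : Ideal.span (Set.range x) = maximalIdeal A := by
    rw [Subtype.range_coe_subtype]; exact hs
  have hcov : FEt.puncturedSpec A ≤ ⨆ i, ParaFormal.Dop (x i) := fun y hy => by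
    by_contra h
    refine hy (PrimeSpectrum.ext (((maximalIdeal.isMaximal A).eq_of_le y.2.ne_top ?_).symm))
    rw [← hspan, Ideal.span_le]
    rintro _ ⟨i, rfl⟩
    by_contra hi
    exact h (TopologicalSpace.Opens.mem_iSup.2 ⟨i, hi⟩)
  let q := Spec.map (CommRingCat.ofHom (Ideal.Quotient.mk (Ideal.span {f})))
  have : IsClosedImmersion q := IsClosedImmersion.spec_of_surjective _ Ideal.Quotient.mk_surjective
  have : CompactSpace (FEt.puncturedSpec A : Scheme.{u}) :=
    isCompact_iff_compactSpace.mp (TopologicalSpace.NoetherianSpace.isCompact _)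
  have : AlgebraicGeometry.IsNoetherian (FEt.puncturedSpec A : Scheme.{u}) := ⟨⟩
  have : (FEt.puncturedSpec A : Scheme.{u}).IsQuasiAffine :=
    Scheme.IsQuasiAffine.of_isImmersion (FEt.puncturedSpec A).ι
  let J := q.ker.comap (FEt.puncturedSpec A).ι
  have hker : (rmap f).ker = J := Scheme.IdealSheafData.ker_fst_of_isClosedImmersion q _
  have hJ := PunctCech.homToFormal_of_kill (FEt.puncturedSpec A) x
    (fun i => Dop_le_punctured (hs.le (Ideal.subset_span i.2))) hcov (maximalIdeal A) (by rw [hspan]) f h₁ h₂ J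
    (ideal_comap_ker f)
  have hFF := S9489.result _ J (Or.inl ⟨inferInstance, hJ⟩)
  rw [← hker] at hFF
  exact isIso_comp_full_faithful _ _ (rmap f).toImage_imageι.symm
    (full_faithful_of_iso_comp (rmap f).toImage (rmap f).ker.subschemeι hFF)

section Completion

variable {f} (hf : f ∈ maximalIdeal A)

variable (f) in
/-- The `f`-adic completion. -/
abbrev Ahat : Type u := AdicCompletion (Ideal.span {f}) A

omit [IsLocalRing A] in
theorem isAdicComplete_completion :
    IsAdicComplete (Ideal.span {algebraMap A (Ahat f) f}) (Ahat f) := by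
  have h := AdicCompletion.isAdicComplete_self (Ideal.span {f}) (IsNoetherian.noetherian _)
  rwa [Ideal.map_span, Set.image_singleton] at h

include hf

omit hf in
theorem comap_eq_maximal (M : Ideal (Ahat f)) (hM : M.IsMaximal) :
    M.comap (algebraMap A (Ahat f)) = maximalIdeal A := by
  have := isAdicComplete_completion (f := f)
  have hfM : algebraMap A (Ahat f) f ∈ M :=
    Ideal.mem_sInf.1 (IsAdicComplete.le_jacobson_bot (Ideal.span {algebraMap A (Ahat f) f})
      (Ideal.mem_span_singleton_self _)) ⟨bot_le, hM⟩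
  refine IsLocalRing.eq_maximalIdeal ?_
  refine Ideal.Quotient.maximal_of_isField _ ?_
  let g := (Ideal.Quotient.mk M).comp (algebraMap A (Ahat f))
  have hg : Function.Surjective g := fun z => by
    obtain ⟨y, rfl⟩ := Ideal.Quotient.mk_surjective z
    obtain ⟨r, hr⟩ := RigidAdic.exists_sub_mem (IsNoetherian.noetherian (Ideal.span {f})) 1 y
    refine ⟨r, (Ideal.Quotient.eq.2 ?_).symm⟩
    rw [pow_one, Ideal.map_span, Set.image_singleton] at hr
    exact (Ideal.span_le.2 (Set.singleton_subset_iff.2 hfM)) hr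
  have hk : RingHom.ker g = M.comap (algebraMap A (Ahat f)) := by
    rw [← RingHom.comap_ker, Ideal.mk_ker]
  have e := (Ideal.quotEquivOfEq hk).symm.trans (RingHom.quotientKerEquivOfSurjective hg)
  exact MulEquiv.isField (Ideal.Quotient.field M).toIsField e.toMulEquiv

theorem isMaximal_map : ((maximalIdeal A).map (algebraMap A (Ahat f))).IsMaximal :=
  AdicCompletion.isMaximal_map_of_le (Ideal.span {f}) (maximalIdeal A)
    ((Ideal.span_singleton_le_iff_mem _).2 hf) (IsNoetherian.noetherian _)

theorem eq_map_of_isMaximal (M : Ideal (Ahat f)) (hM : M.IsMaximal) :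
    M = (maximalIdeal A).map (algebraMap A (Ahat f)) :=
  ((isMaximal_map hf).eq_of_le hM.ne_top (Ideal.map_le_iff_le_comap.2 (comap_eq_maximal M hM).ge)).symm

theorem isLocalRing_completion : IsLocalRing (Ahat f) :=
  IsLocalRing.of_unique_max_ideal ⟨_, isMaximal_map hf, eq_map_of_isMaximal hf⟩

/-- The henselian case. -/
theorem full_faithful [HenselianRing A (Ideal.span {f})]
    (h₁ : ∃ n : ℕ, ∀ x : _root_.LocCoh.H (maximalIdeal A) 1 A, (f ^ n) • x = 0)
    (h₂ : ∃ n : ℕ, ∀ x : _root_.LocCoh.H (maximalIdeal A) 2 A, (f ^ n) • x = 0) :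
    (FEt.restrict (rmap f)).Full ∧ (FEt.restrict (rmap f)).Faithful := by
  have := isLocalRing_completion hf
  have := RegLoc.AdicNoeth.isNoetherianRing_adicCompletion (Ideal.span {f}) (IsNoetherian.noetherian _)
  have := isAdicComplete_completion (f := f)
  have : Module.Flat A (Ahat f) := AdicCompletion.flat_of_isNoetherian _
  have hm : maximalIdeal (Ahat f) = (maximalIdeal A).map (algebraMap A (Ahat f)) :=
    eq_map_of_isMaximal hf _ inferInstance
  have hkill : ∀ i, (∃ n : ℕ, ∀ x : _root_.LocCoh.H (maximalIdeal A) i A, (f ^ n) • x = 0) →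
      ∃ n : ℕ, ∀ x : _root_.LocCoh.H (maximalIdeal (Ahat f)) i (Ahat f), (algebraMap A (Ahat f) f ^ n) • x = 0 := by
    rintro i ⟨n, hn⟩
    refine ⟨n, ?_⟩
    rw [hm]
    obtain ⟨φ⟩ := LocCoh.BaseChangeIso.nonempty_H_tensor (A := A) (B := (Ahat f)) (maximalIdeal A) i (ModuleCat.of A A)
    let ψ := φ.trans ((localCohomology ((maximalIdeal A).map (algebraMap A (Ahat f))) i).mapIso
      (TensorProduct.AlgebraTensorModule.rid A (Ahat f) (Ahat f)).toModuleIso).toLinearEquiv
    intro x
    obtain ⟨z, rfl⟩ := ψ.surjective x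
    rw [← map_smul]
    refine (congrArg ψ ?_).trans (map_zero ψ)
    induction z using TensorProduct.induction_on with
    | zero => exact smul_zero _
    | tmul b h => rw [← map_pow, TensorProduct.smul_tmul', algebraMap_smul, TensorProduct.smul_tmul, hn, TensorProduct.tmul_zero]
    | add a b ha hb => rw [smul_add, ha, hb, add_zero]
  let U := FEt.puncturedSpec A
  let π := PunctRigid.πc (A := A) (Ideal.span {f})
  have hUI : ∀ x : Spec (CommRingCat.of A), x ∉ U → Ideal.span {f} ≤ x.asIdeal := fun x hx => by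
    rw [show x = closedPoint A from not_not.1 hx]
    exact (Ideal.span_singleton_le_iff_mem _).2 hf
  have hπ : π ⁻¹ᵁ U = FEt.puncturedSpec (Ahat f) := by
    ext y
    change ¬ (π y = closedPoint A) ↔ ¬ (y = closedPoint (Ahat f))
    refine not_congr ⟨fun h => PrimeSpectrum.ext ?_, fun h => ?_⟩
    · refine ((eq_map_of_isMaximal hf _ inferInstance).trans ?_ : maximalIdeal (Ahat f) = y.asIdeal).symm
      refine (isMaximal_map hf).eq_of_le y.2.ne_top (Ideal.map_le_iff_le_comap.2 ?_)
      exact (congrArg PrimeSpectrum.asIdeal h).ge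
    · exact PrimeSpectrum.ext (h ▸ comap_eq_maximal _ (maximalIdeal.isMaximal (Ahat f)))
  let qA := Spec.map (CommRingCat.ofHom (Ideal.Quotient.mk (Ideal.span {f})))
  let qH := Spec.map (CommRingCat.ofHom (Ideal.Quotient.mk (Ideal.span {algebraMap A (Ahat f) f})))
  let e := (Spec (CommRingCat.of (Ahat f))).isoOfEq hπ
  let π' : (FEt.puncturedSpec (Ahat f) : Scheme.{u}) ⟶ (U : Scheme.{u}) := e.inv ≫ π ∣_ U
  have hπι : π' ≫ U.ι = (FEt.puncturedSpec (Ahat f)).ι ≫ π := by
    rw [Category.assoc, morphismRestrict_ι, Scheme.isoOfEq_inv_ι_assoc]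
  have hle : Ideal.span {f} ≤ (Ideal.span {algebraMap A (Ahat f) f}).comap (algebraMap A (Ahat f)) :=
    (Ideal.span_singleton_le_iff_mem _).2 (Ideal.mem_comap.2 (Ideal.mem_span_singleton_self _))
  let κ : Spec (CommRingCat.of ((Ahat f) ⧸ Ideal.span {algebraMap A (Ahat f) f})) ⟶ Spec (CommRingCat.of (A ⧸ Ideal.span {f})) :=
    Spec.map (CommRingCat.ofHom (Ideal.quotientMap _ (algebraMap A (Ahat f)) hle))
  have hκ : qH ≫ π = κ ≫ qA := by
    rw [← Spec.map_comp, ← Spec.map_comp, ← CommRingCat.ofHom_comp, ← CommRingCat.ofHom_comp]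
    congr 2
  let t : pullback (FEt.puncturedSpec (Ahat f)).ι qH ⟶ pullback U.ι qA :=
    pullback.lift (rmap (algebraMap A (Ahat f) f) ≫ π') (pullback.snd _ _ ≫ κ) (by
      rw [Category.assoc, hπι, pullback.condition_assoc, hκ, Category.assoc])
  have ht : t ≫ rmap f = rmap (algebraMap A (Ahat f) f) ≫ π' := pullback.lift_fst _ _ _
  obtain ⟨a1, a2⟩ := full_faithful_complete (algebraMap A (Ahat f) f) (hkill 1 h₁) (hkill 2 h₂)
  obtain ⟨b1, b2⟩ := full_faithful_of_iso_comp e.inv (π ∣_ U) (PunctRigid.full_faithful (Ideal.span {f}) U hUI)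
  have : (FEt.restrict π').Full := b1
  have : (FEt.restrict π').Faithful := b2
  let sq : FEt.restrict (rmap f) ⋙ FEt.restrict t ≅ FEt.restrict π' ⋙ FEt.restrict (rmap (algebraMap A (Ahat f) f)) :=
    (MorphismProperty.Over.pullbackComp t (rmap f) _ rfl).symm ≪≫
      MorphismProperty.Over.pullbackCongr ht ≪≫ MorphismProperty.Over.pullbackComp _ _ _ rfl
  have hF := Functor.Full.of_iso sq.symm
  have hF' := Functor.Faithful.of_iso sq.symm
  have hκb : Function.Bijective (Ideal.quotientMap (Ideal.span {algebraMap A (Ahat f) f}) (algebraMap A (Ahat f)) hle) := by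
    have hker : ∀ y : Ahat f, y ∈ Ideal.span {algebraMap A (Ahat f) f} ↔ AdicCompletion.evalOneₐ (Ideal.span {f}) y = 0 := fun y => by
      change _ ↔ y ∈ RingHom.ker (AdicCompletion.evalOneₐ (Ideal.span {f})).toRingHom
      rw [AdicCompletion.ker_evalOneₐ_eq_map _ (IsNoetherian.noetherian _), Ideal.map_span,
        Set.image_singleton]
    refine ⟨(injective_iff_map_eq_zero _).2 fun z hz => ?_, fun z => ?_⟩
    · obtain ⟨a, rfl⟩ := Ideal.Quotient.mk_surjective z
      rw [Ideal.quotientMap_mk, Ideal.Quotient.eq_zero_iff_mem, hker, AlgHom.commutes] at hz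
      exact hz
    · obtain ⟨y, rfl⟩ := Ideal.Quotient.mk_surjective z
      obtain ⟨r, hr⟩ := RigidAdic.exists_sub_mem (IsNoetherian.noetherian (Ideal.span {f})) 1 y
      rw [pow_one, Ideal.map_span, Set.image_singleton] at hr
      exact ⟨Ideal.Quotient.mk _ r, (Ideal.quotientMap_mk).trans (Ideal.Quotient.eq.2 hr).symm⟩
  have hκI : IsIso κ := by
    have : IsIso (CommRingCat.ofHom (Ideal.quotientMap (Ideal.span {algebraMap A (Ahat f) f}) (algebraMap A (Ahat f)) hle)) :=
      (ConcreteCategory.isIso_iff_bijective _).2 hκb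
    exact inferInstanceAs (IsIso (Spec.map _))
  let qAU := pullback.snd U.ι qA
  have hrange : Set.range (qAU ≫ inv κ ≫ qH) ⊆ Set.range (FEt.puncturedSpec (Ahat f)).ι := by
    rintro _ ⟨z, rfl⟩
    rw [Scheme.Opens.range_ι, ← hπ]
    change ((qAU ≫ inv κ ≫ qH) ≫ π) z ∈ U
    rw [Category.assoc, Category.assoc, hκ, IsIso.inv_hom_id_assoc]
    change (pullback.snd U.ι qA ≫ qA) z ∈ U
    rw [← pullback.condition]
    exact (pullback.fst U.ι qA z).2
  let s : pullback U.ι qA ⟶ pullback (FEt.puncturedSpec (Ahat f)).ι qH :=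
    pullback.lift (IsOpenImmersion.lift _ _ hrange) (qAU ≫ inv κ)
      (by rw [IsOpenImmersion.lift_fac, Category.assoc])
  have hts : t ≫ s = 𝟙 _ := by
    apply pullback.hom_ext
    · rw [Category.assoc, pullback.lift_fst, Category.id_comp, ← cancel_mono (FEt.puncturedSpec (Ahat f)).ι,
        Category.assoc, IsOpenImmersion.lift_fac, pullback.lift_snd_assoc, Category.assoc, IsIso.hom_inv_id_assoc,
        pullback.condition]
    · rw [Category.assoc, pullback.lift_snd, Category.id_comp, pullback.lift_snd_assoc, Category.assoc,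
        IsIso.hom_inv_id, Category.comp_id]
  have hst : s ≫ t = 𝟙 _ := by
    apply pullback.hom_ext
    · rw [Category.assoc, pullback.lift_fst, Category.id_comp, ← Category.assoc, pullback.lift_fst,
        ← cancel_mono U.ι, Category.assoc, hπι, IsOpenImmersion.lift_fac_assoc, Category.assoc, Category.assoc,
        hκ, IsIso.inv_hom_id_assoc, pullback.condition]
    · rw [Category.assoc, pullback.lift_snd, Category.id_comp, ← Category.assoc, pullback.lift_snd,
        Category.assoc, IsIso.inv_hom_id, Category.comp_id]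
  have : IsIso t := ⟨s, hts, hst⟩
  obtain ⟨-, ht'⟩ := FEtCat.Full.full_faithful t
    (fun W V _ hV => by
      rw [← Set.image_preimage_eq V (pullback.fst W.hom t).homeomorph.surjective]
      exact (congrArg _ hV).trans (Set.image_empty _))
    (fun W V hV => ⟨(inv (pullback.fst W.hom t)) ⁻¹' V, hV.preimage (inv (pullback.fst W.hom t)).continuous, by
      ext z
      change (pullback.fst W.hom t ≫ inv (pullback.fst W.hom t)) z ∈ V ↔ z ∈ V
      rw [IsIso.hom_inv_id]; rfl⟩)
  exact ⟨Functor.Full.of_comp_faithful (FEt.restrict (rmap f)) (FEt.restrict t),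
    Functor.Faithful.of_comp (FEt.restrict (rmap f)) (FEt.restrict t)⟩

end Completion

end Groth.Agent.Hens.PunctFF
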