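import Groth.Agent.FEtCat.Lef.Main
import Groth.Agent.S2946
import Mathlib.RingTheory.AdicCompletion.Noetherian

/-!
# Formal functions along a hypersurface of an open subscheme of an affine scheme

Elementary criterion for `Γ(X, O) ≅ lim Γ(X, O/f^n)`: bounded `f`-torsion, a power of `f` kills
Čech `1`-cocycles up to coboundaries, and a power of `f` sends `Γ(X, O)` into the image of a
complete Noetherian ring.
-/

set_option autoImplicit false
set_option backward.isDefEq.respectTransparency false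
set_option backward.isDefEq.respectTransparency.types false

universe u v

open CategoryTheory AlgebraicGeometry TopologicalSpace
open Groth.Agent.QCoh Groth.Agent.Props.GenLocus

noncomputable section

namespace Groth.Agent.Hens.PunctFormal

variable {A : Type u} [CommRing A] {X : Scheme.{u}} (φ : A →+* Γ(X, ⊤))

/-- The function on `V` given by `a`. -/
def fn (a : A) (V : X.Opens) : Γ(X, V) := rres (le_top : V ≤ ⊤) (φ a)

theorem rres_fn (a : A) {V W : X.Opens} (h : V ≤ W) : rres h (fn φ a W) = fn φ a V :=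
  rres_rres _ _ _

theorem fn_top (a : A) : fn φ a ⊤ = φ a := rres_self _ _

/-- The `f`-power torsion of the structure sheaf is killed by `f ^ c`. -/
def BoundedTorsion (f : A) (c : ℕ) : Prop :=
  ∀ (V : X.Opens) (n : ℕ) (x : Γ(X, V)), fn φ f V ^ n * x = 0 → fn φ f V ^ c * x = 0

/-- `f ^ N` kills the Čech `1`-cocycles of the structure sheaf up to coboundaries. -/
def CocycleKill {ι : Type v} (V : ι → X.Opens) (f : A) (N : ℕ) : Prop :=
  ∀ u : ∀ i j, Γ(X, V i ⊓ V j),
    (∀ i j k, rres (inf_le_left : V i ⊓ V j ⊓ V k ≤ V i ⊓ V j) (u i j) +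
        rres (le_inf (inf_le_left.trans inf_le_right) inf_le_right : V i ⊓ V j ⊓ V k ≤ V j ⊓ V k) (u j k) =
        rres (le_inf (inf_le_left.trans inf_le_left) inf_le_right : V i ⊓ V j ⊓ V k ≤ V i ⊓ V k) (u i k)) →
    ∃ w : ∀ i, Γ(X, V i), ∀ i j, fn φ f _ ^ N * u i j =
      rres (inf_le_right : V i ⊓ V j ≤ V j) (w j) - rres (inf_le_left : V i ⊓ V j ≤ V i) (w i)

theorem glue_fn {ι : Type v} {V : ι → X.Opens} (hcov : ⊤ ≤ ⨆ i, V i) (s : ∀ i, Γ(X, V i))
    (hs : ∀ i j, rres (inf_le_left : V i ⊓ V j ≤ V i) (s i) = rres (inf_le_right : V i ⊓ V j ≤ V j) (s j)) :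
    ∃ t : Γ(X, ⊤), ∀ i, rres le_top t = s i :=
  exists_glue (Coh.structureModule X) (fun _ => le_top) hcov s hs

theorem eq_of_rres_eq {ι : Type v} {V : ι → X.Opens} (hcov : ⊤ ≤ ⨆ i, V i) (s t : Γ(X, ⊤))
    (h : ∀ i, rres (le_top : V i ≤ ⊤) s = rres le_top t) : s = t :=
  eq_of_locally_eq (Coh.structureModule X) (fun i => (le_top : V i ≤ ⊤)) hcov s t h

variable {f : A} {ι : Type v} {V : ι → X.Opens}

/-- Locally divisible by a power of `f` means divisible by a slightly lower power, with quotient in `A`. -/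
theorem exists_eq_of_locally (hcov : ⊤ ≤ ⨆ i, V i) {c k : ℕ} (hT : BoundedTorsion φ f c)
    (hG : ∀ s : Γ(X, ⊤), ∃ a : A, φ a = φ f ^ k * s) (m : ℕ) (s : Γ(X, ⊤))
    (hs : ∀ i, ∃ e, rres (le_top : V i ≤ ⊤) s = fn φ f (V i) ^ (m + (c + k)) * e) :
    ∃ a : A, s = φ f ^ m * φ a := by
  choose e he using hs
  obtain ⟨ε, hε⟩ := glue_fn hcov (fun i => fn φ f (V i) ^ c * e i) fun i j => by
    simp only [map_mul, map_pow, rres_fn]
    refine sub_eq_zero.1 (Eq.trans (mul_sub _ _ _).symm (hT _ (m + (c + k)) _ ?_))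
    rw [mul_sub, sub_eq_zero]
    have h1 := congrArg (rres (inf_le_left : V i ⊓ V j ≤ V i)) (he i)
    have h2 := congrArg (rres (inf_le_right : V i ⊓ V j ≤ V j)) (he j)
    rw [rres_rres, map_mul, map_pow, rres_fn] at h1 h2
    exact h1.symm.trans h2
  obtain ⟨a, ha⟩ := hG ε
  refine ⟨a, eq_of_rres_eq hcov _ _ fun i => ?_⟩
  rw [ha, map_mul, map_mul, map_pow, map_pow, hε, he]
  change fn φ f (V i) ^ (m + (c + k)) * e i =
    fn φ f (V i) ^ m * (fn φ f (V i) ^ k * (fn φ f (V i) ^ c * e i))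
  ring

variable [IsNoetherianRing A] [IsAdicComplete (Ideal.span {f}) A]

theorem eq_zero_of_forall_pow_dvd (s : Γ(X, ⊤)) (h : ∀ m, ∃ a : A, s = φ f ^ m * φ a) : s = 0 := by
  obtain ⟨a₀, rfl⟩ : ∃ a₀, s = φ a₀ := by obtain ⟨a, ha⟩ := h 0; exact ⟨a, by simpa using ha⟩
  have hj : Ideal.span {f} ≤ Ideal.jacobson (⊥ : Ideal A) := IsAdicComplete.le_jacobson_bot _
  let K := RingHom.ker φ
  have hK := Ideal.iInf_pow_smul_eq_bot_of_le_jacobson (M := A ⧸ K) (Ideal.span {f}) hj
  refine RingHom.mem_ker.1 ((Submodule.Quotient.mk_eq_zero K).1 ((Submodule.mem_bot A).1 (hK.le ?_)))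
  refine (Submodule.mem_iInf _).2 fun m => ?_
  obtain ⟨a, ha⟩ := h m
  have e : (Submodule.Quotient.mk a₀ : A ⧸ K) = f ^ m • Submodule.Quotient.mk a := by
    rw [← Submodule.Quotient.mk_smul, Submodule.Quotient.eq]
    change φ (a₀ - f ^ m * a) = 0
    rw [map_sub, map_mul, map_pow, ha, sub_self]
  change (Submodule.Quotient.mk a₀ : A ⧸ K) ∈ Ideal.span {f} ^ m • (⊤ : Submodule A (A ⧸ K))
  rw [e]
  exact Submodule.smul_mem_smul (Ideal.pow_mem_pow (Ideal.mem_span_singleton_self f) m) Submodule.mem_top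

/-- The formal functions criterion. -/
theorem homToFormal (J : X.IdealSheafData)
    (hJ : ∀ W : X.affineOpens, J.ideal W = Ideal.span {fn φ f W.1})
    (hV : ∀ i, IsAffineOpen (V i)) (hV₂ : ∀ i j, IsAffineOpen (V i ⊓ V j)) (hcov : ⊤ ≤ ⨆ i, V i)
    {c k N : ℕ} (hT : BoundedTorsion φ f c) (hG : ∀ s : Γ(X, ⊤), ∃ a : A, φ a = φ f ^ k * s)
    (hH : CocycleKill φ V f N) :
    _root_.Lef.HomToFormalBijective J (Coh.structureModule X) := by
  let M : ℕ → X.Modules := fun n => ClSub.quotMod (J ^ (n + 1))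
  let q : ∀ n, Coh.structureModule X ⟶ M n := fun n => ClSub.toSubscheme (J ^ (n + 1))
  have hmem : ∀ {W : X.Opens}, IsAffineOpen W → ∀ n (t : Γ(X, W)),
      (q n).app W t = 0 ↔ ∃ e, t = fn φ f W ^ (n + 1) * e := fun {W} hW n t => by
    rw [FEtCat.Lef.toSub_eq_zero_iff _ hW, Scheme.IdealSheafData.ideal_pow, Pi.pow_apply, hJ,
      Ideal.span_singleton_pow, Ideal.mem_span_singleton]
    exact Iff.rfl
  have hsep : ∀ s : Γ(X, ⊤), (∀ n, (q n).app ⊤ s = 0) → s = 0 := fun s hs =>
    eq_zero_of_forall_pow_dvd φ s fun m => exists_eq_of_locally φ hcov hT hG m s fun i => by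
      obtain ⟨e, he⟩ := (hmem (hV i) (m + (c + k)) _).1 (show (q (m + (c + k))).app (V i) (rres le_top s) = 0 by
        rw [show rres (le_top : V i ≤ ⊤) s = res (Coh.structureModule X) le_top s from rfl, app_res, hs, map_zero])
      exact ⟨fn φ f (V i) * e, he.trans (by ring)⟩
  refine ⟨fun ψ χ h => S2946.hom_ext_one _ _ (sub_eq_zero.1 (hsep _ fun n => ?_)), fun y hy => ?_⟩
  · rw [map_sub, sub_eq_zero]
    exact congrArg (fun r : Coh.structureModule X ⟶ M n => r.app ⊤ (1 : Γ(X, ⊤))) (h n)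
  let σ : ∀ n, Γ(M n, ⊤) := fun n => (y n).app ⊤ (1 : Γ(X, ⊤))
  have hcomp : ∀ (n : ℕ) (W : X.Opens) (t : Γ(X, W)),
      (_root_.Lef.quotMap (_root_.Lef.pow_succ_le J n)).app W ((q (n + 1)).app W t) = (q n).app W t := fun n W t => by
    rw [← FEtCat.Lef.app_comp, FEtCat.Lef.toSub_comp_quotMap]
  have hσ : ∀ n, (_root_.Lef.quotMap (_root_.Lef.pow_succ_le J n)).app ⊤ (σ (n + 1)) = σ n := fun n =>
    congrArg (fun r : Coh.structureModule X ⟶ M n => r.app ⊤ (1 : Γ(X, ⊤))) (hy n)
  have hdown : ∀ (n r : ℕ) (g : Γ(X, ⊤)), (q (n + r)).app ⊤ g = σ (n + r) → (q n).app ⊤ g = σ n := fun n r => by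
    induction r with
    | zero => exact fun g h => h
    | succ r ih =>
      intro g h
      refine ih g ?_
      rw [← hcomp, ← hσ]
      exact congrArg _ h
  have hlift : ∀ n, ∃ t : ∀ i, Γ(X, V i), ∀ i, (q n).app (V i) (t i) = res (M n) le_top (σ n) := fun n => by
    choose t ht using fun i => (J ^ (n + 1)).subschemeι_app_surjective ⟨V i, hV i⟩ (res (M n) le_top (σ n))
    exact ⟨t, ht⟩
  -- global lifts
  have hglob : ∀ n, ∃ g : Γ(X, ⊤), (q n).app ⊤ g = σ n := fun n => by
    obtain ⟨t, ht⟩ := hlift (n + (c + N))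
    have hd : ∀ i j, ∃ w, rres (inf_le_left : V i ⊓ V j ≤ V i) (t i) -
        rres (inf_le_right : V i ⊓ V j ≤ V j) (t j) = fn φ f _ ^ (n + (c + N) + 1) * w := fun i j => by
      refine (hmem (hV₂ i j) _ _).1 ?_
      rw [map_sub, sub_eq_zero]
      change (q _).app _ (res (Coh.structureModule X) _ (t i)) = (q _).app _ (res (Coh.structureModule X) _ (t j))
      rw [app_res, app_res, ht, ht, res_res, res_res]
    choose w hw using hd
    obtain ⟨u, hu⟩ := hH (fun i j => fn φ f _ ^ c * w i j) fun i j l => by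
      simp only [map_mul, map_pow, rres_fn]
      rw [← mul_add]
      refine sub_eq_zero.1 (Eq.trans (mul_sub _ _ _).symm (hT _ (n + (c + N) + 1) _ ?_))
      rw [mul_sub, mul_add]
      have h1 := congrArg (rres (inf_le_left : V i ⊓ V j ⊓ V l ≤ V i ⊓ V j)) (hw i j)
      have h2 := congrArg (rres (le_inf (inf_le_left.trans inf_le_right) inf_le_right :
        V i ⊓ V j ⊓ V l ≤ V j ⊓ V l)) (hw j l)
      have h3 := congrArg (rres (le_inf (inf_le_left.trans inf_le_left) inf_le_right :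
        V i ⊓ V j ⊓ V l ≤ V i ⊓ V l)) (hw i l)
      simp only [map_sub, map_mul, map_pow, rres_fn, rres_rres] at h1 h2 h3
      rw [← h1, ← h2, ← h3]
      ring
    obtain ⟨g, hg⟩ := glue_fn hcov (fun i => t i + fn φ f (V i) ^ (n + 1) * u i) fun i j => by
      simp only [map_add, map_mul, map_pow, rres_fn]
      linear_combination (hw i j) + fn φ f (V i ⊓ V j) ^ (n + 1) * hu i j
    refine ⟨g, eq_of_locally_eq (M n) (fun i => (le_top : V i ≤ ⊤)) hcov _ _ fun i => ?_⟩
    rw [← app_res]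
    change (q n).app (V i) (rres le_top g) = _
    rw [hg, map_add, (hmem (hV i) n _).2 ⟨u i, rfl⟩, add_zero]
    -- pass from level `n + (c + N)` to level `n`
    have key : ∀ r, (q (n + r)).app (V i) (t i) = res (M (n + r)) le_top (σ (n + r)) →
        (q n).app (V i) (t i) = res (M n) le_top (σ n) := fun r => by
      induction r with
      | zero => exact fun h => h
      | succ r ih =>
        intro h
        refine ih ?_
        rw [← hcomp, ← hσ, ← app_res]
        exact congrArg _ h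
    exact key _ (ht i)
  choose g hg using hglob
  let K := c + k
  have hstep : ∀ n, ∃ a : A, g (n + K + 1) - g (n + K) = φ f ^ n * φ a := fun n => by
    refine exists_eq_of_locally φ hcov hT hG n _ fun i => ?_
    have h0 : (q (n + K)).app ⊤ (g (n + K + 1) - g (n + K)) = 0 := by
      rw [map_sub, hg, hdown _ 1 _ (hg (n + K + 1)), sub_self]
    obtain ⟨e, he⟩ := (hmem (hV i) (n + K) (rres le_top (g (n + K + 1) - g (n + K)))).1 (by
      change (q _).app _ (res (Coh.structureModule X) _ _) = 0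
      rw [app_res, h0, map_zero])
    exact ⟨fn φ f (V i) * e, he.trans (by ring)⟩
  choose a ha using hstep
  let P : ℕ → A := fun n => ∑ j ∈ Finset.range n, f ^ j * a j
  have hP : ∀ n, g (n + K) = g K + φ (P n) := fun n => by
    induction n with
    | zero => simp [P]
    | succ n ih =>
      have e : P (n + 1) = P n + f ^ n * a n := Finset.sum_range_succ _ _
      rw [show n + 1 + K = n + K + 1 by omega, ← sub_add_cancel (g (n + K + 1)) (g (n + K)), ha, ih, e,
        map_add, map_mul, map_pow]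
      ring
  obtain ⟨S, hS⟩ := IsPrecomplete.prec (I := Ideal.span {f}) (M := A) inferInstance (f := P) fun {m n} hmn => by
    refine SModEq.sub_mem.2 ?_
    rw [smul_eq_mul, Ideal.mul_top, Ideal.span_singleton_pow, Ideal.mem_span_singleton]
    induction n, hmn using Nat.le_induction with
    | base => simp
    | succ n hmn ih =>
      have e : P m - P (n + 1) = (P m - P n) - f ^ n * a n := by
        simp only [P, Finset.sum_range_succ]; ring
      rw [e]
      exact dvd_sub ih (dvd_mul_of_dvd_left (pow_dvd_pow f hmn) _)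
  refine ⟨homOfSec (L := Coh.structureModule X) (g K + φ S : Γ(X, ⊤)), fun n => S2946.hom_ext_one _ _ ?_⟩
  rw [Scheme.Modules.Hom.comp_app, ConcreteCategory.comp_apply, S2946.app_one_homOfSec]
  change (q n).app ⊤ (g K + φ S) = σ n
  obtain ⟨b, hb⟩ : f ^ (n + 1) ∣ S - P (n + 1) := by
    have := SModEq.sub_mem.1 (hS (n + 1)).symm
    rwa [smul_eq_mul, Ideal.mul_top, Ideal.span_singleton_pow, Ideal.mem_span_singleton] at this
  have e : g K + φ S = g (n + 1 + K) + φ f ^ (n + 1) * φ b := by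
    rw [hP, ← map_pow, ← map_mul, ← hb, map_sub]; ring
  have h2 : (q n).app ⊤ (φ f ^ (n + 1) * φ b) = 0 :=
    eq_zero_of_locally_eq_zero (M n) (fun i => (le_top : V i ≤ ⊤)) hcov _ fun i => by
      rw [← app_res]
      refine (hmem (hV i) n _).2 ⟨fn φ b (V i), ?_⟩
      change rres le_top (φ f ^ (n + 1) * φ b) = _
      rw [map_mul, map_pow]
      rfl
  have h3 : (q n).app ⊤ (g (n + 1 + K)) = σ n := by
    refine hdown n (1 + K) _ ?_
    rw [← Nat.add_assoc]; exact hg _
  rw [e, map_add, h2, h3, add_zero]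

end Groth.Agent.Hens.PunctFormal
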