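import Groth.Agent.EtGlueLib.FlatTorsion

/-!
# Formal glueing of algebras along a flat map with the same quotient

Algebra version of the formal glueing of maps: if `φ : M' → S ⊗ N` is a map of `S`-algebras whose
kernel and cokernel are `I`-power torsion, then `φ` is the base change of a map of `R`-algebras
`ψ : B → N`, again with `I`-power torsion kernel and cokernel.
-/

set_option autoImplicit false

universe u

open TensorProduct

namespace Groth.Agent.Hens.PunctGlueAlg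

open Groth.Agent.EtGlueLib.FlatTorsion (mk_bijective_of_torsion)

/-- Formal glueing for algebras. -/
theorem exists_glue_algebra {R S : Type u} [CommRing R] [CommRing S] [Algebra R S] [Module.Flat R S] (I : Ideal R)
    (hq : Function.Bijective (Ideal.quotientMap (I.map (algebraMap R S)) (algebraMap R S) Ideal.le_comap_map))
    (N : Type u) [CommRing N] [Algebra R N] (M' : Type u) [CommRing M'] [Algebra R M'] [Algebra S M']
    [IsScalarTower R S M'] (φ : M' →ₐ[S] S ⊗[R] N)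
    (hker : ∀ x : M', φ x = 0 → ∃ n : ℕ, ∀ a ∈ I ^ n, algebraMap R S a • x = 0)
    (hcoker : ∀ y : S ⊗[R] N, ∃ n : ℕ, ∀ a ∈ I ^ n, algebraMap R S a • y ∈ Set.range φ) :
    ∃ (B : Type u) (_ : CommRing B) (_ : Algebra R B) (ψ : B →ₐ[R] N) (e : S ⊗[R] B ≃ₐ[S] M'),
      φ.comp e.toAlgHom = Algebra.TensorProduct.map (AlgHom.id S S) ψ ∧
      (∀ x : B, ψ x = 0 → ∃ n : ℕ, ∀ a ∈ I ^ n, a • x = 0) ∧
      (∀ y : N, ∃ n : ℕ, ∀ a ∈ I ^ n, a • y ∈ Set.range ψ) := by
  let φR : M' →ₐ[R] S ⊗[R] N := φ.restrictScalars R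
  let P : Subalgebra R (M' × N) :=
    AlgHom.equalizer (φR.comp (AlgHom.fst R M' N))
      ((Algebra.TensorProduct.includeRight (R := R) (A := S) (B := N)).comp (AlgHom.snd R M' N))
  have hP : ∀ {z : M' × N}, z ∈ P ↔ φ z.1 = (1 : S) ⊗ₜ[R] z.2 := Iff.rfl
  let ψ : P →ₐ[R] N := (AlgHom.snd R M' N).comp P.val
  let fstP : P →ₐ[R] M' := (AlgHom.fst R M' N).comp P.val
  let ε : S ⊗[R] P →ₐ[S] M' := AlgHom.liftEquiv R S P M' fstP
  have hε : ∀ (s : S) (p : P), ε (s ⊗ₜ p) = s • fstP p := fun s p => by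
    simp [ε, AlgHom.liftEquiv, Algebra.smul_def]
  have hcomp : φ.comp ε = Algebra.TensorProduct.map (AlgHom.id S S) ψ := by
    refine Algebra.TensorProduct.ext' fun s p => ?_
    rw [AlgHom.comp_apply, hε, map_smul, Algebra.TensorProduct.map_tmul,
      show φ (fstP p) = (1 : S) ⊗ₜ[R] ψ p from hP.mp p.2, TensorProduct.smul_tmul', smul_eq_mul, mul_one]
    rfl
  let ψl : P →ₗ[R] N := ψ.toLinearMap
  have hlT : ∀ z, ψl.lTensor S z = φ (ε z) := fun z => by
    rw [← AlgHom.comp_apply, hcomp]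
    induction z with
    | zero => rw [map_zero, map_zero]
    | tmul s p => rw [LinearMap.lTensor_tmul, Algebra.TensorProduct.map_tmul]; rfl
    | add x y hx hy => rw [map_add, map_add, hx, hy]
  have hkerP : ∀ p : P, ψ p = 0 → ∃ n : ℕ, ∀ a ∈ I ^ n, a • p = 0 := fun p hp => by
    have h0 : p.1.2 = 0 := hp
    obtain ⟨n, hn⟩ := hker p.1.1 (by rw [hP.mp p.2, h0, TensorProduct.tmul_zero])
    refine ⟨n, fun a ha => Subtype.ext (Prod.ext ?_ ?_)⟩
    · exact (IsScalarTower.algebraMap_smul S a _).symm.trans (hn a ha)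
    · show a • p.1.2 = 0
      rw [h0, smul_zero]
  have hkerψ : Function.Bijective (TensorProduct.mk R S (LinearMap.ker ψl) 1) := by
    refine mk_bijective_of_torsion (T := LinearMap.ker ψl) hq fun p => ?_
    obtain ⟨n, hn⟩ := hkerP p.1 p.2
    exact ⟨n, fun a ha => Subtype.ext (hn a ha)⟩
  have hcokP : ∀ y : N, ∃ n : ℕ, ∀ a ∈ I ^ n, a • y ∈ Set.range ψ := fun m => by
    obtain ⟨n, hn⟩ := hcoker ((1 : S) ⊗ₜ m)
    refine ⟨n, fun a ha => ?_⟩
    obtain ⟨x, hx⟩ := hn a ha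
    exact ⟨⟨(x, a • m), hP.mpr (by rw [hx, algebraMap_smul, TensorProduct.tmul_smul])⟩, rfl⟩
  let Q := N ⧸ LinearMap.range ψl
  have hQ : Function.Bijective (TensorProduct.mk R S Q 1) := by
    refine mk_bijective_of_torsion (T := Q) hq fun c => ?_
    obtain ⟨m, rfl⟩ := Submodule.Quotient.mk_surjective _ c
    obtain ⟨n, hn⟩ := hcokP m
    refine ⟨n, fun a ha => ?_⟩
    rw [← Submodule.Quotient.mk_smul, Submodule.Quotient.mk_eq_zero]
    exact hn a ha
  have hex := lTensor_exact (M := P) (N := N) (P := Q) S (LinearMap.exact_map_mkQ_range ψl)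
    (LinearMap.range ψl).mkQ_surjective
  have hrangeφ : ∀ x : M', ∃ z : S ⊗[R] P, φ (ε z) = φ x := by
    intro x
    obtain ⟨c, hc⟩ := hQ.2 ((LinearMap.range ψl).mkQ.lTensor S (φ x))
    obtain ⟨m, rfl⟩ := Submodule.Quotient.mk_surjective _ c
    have h1 : (LinearMap.range ψl).mkQ.lTensor S (φ x - (1 : S) ⊗ₜ m) = 0 := by
      rw [map_sub, LinearMap.lTensor_tmul, ← hc, TensorProduct.mk_apply, Submodule.mkQ_apply, sub_self]
    obtain ⟨z, hz⟩ := (hex _).mp h1
    rw [hlT] at hz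
    have hm : (Submodule.Quotient.mk m : Q) = 0 := by
      rw [Submodule.Quotient.mk_eq_zero]
      exact ⟨⟨(x - ε z, m), hP.mpr (by rw [map_sub, hz, sub_sub_cancel])⟩, rfl⟩
    obtain ⟨w, hw⟩ := (hex (φ x)).mp (by rw [← hc, hm, map_zero])
    exact ⟨w, (hlT w).symm.trans hw⟩
  have hbij : Function.Bijective ε := by
    refine ⟨?_, fun x => ?_⟩
    · rw [injective_iff_map_eq_zero]
      intro z hz
      have h1 : ψl.lTensor S z = 0 := by rw [hlT, hz, map_zero]
      obtain ⟨w, hw⟩ := (Module.Flat.lTensor_exact (N := LinearMap.ker ψl) (N' := P) (N'' := N) S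
        (f := (LinearMap.ker ψl).subtype) (g := ψl) (LinearMap.exact_subtype_ker_map ψl) _).mp h1
      obtain ⟨p, rfl⟩ := hkerψ.2 w
      rw [← hw, TensorProduct.mk_apply, LinearMap.lTensor_tmul, Submodule.subtype_apply]
      rw [← hw, TensorProduct.mk_apply, LinearMap.lTensor_tmul, Submodule.subtype_apply, hε, one_smul] at hz
      have : (p : P) = 0 := Subtype.ext (Prod.ext hz p.2)
      rw [this, TensorProduct.tmul_zero]
    · obtain ⟨z, hz⟩ := hrangeφ x
      have h0 : φ (x - ε z) = 0 := by rw [map_sub, hz, sub_self]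
      refine ⟨z + (1 : S) ⊗ₜ[R] ⟨(x - ε z, 0), hP.mpr (by rw [h0, TensorProduct.tmul_zero])⟩, ?_⟩
      rw [map_add, hε, one_smul]
      show ε z + (x - ε z) = x
      rw [add_sub_cancel]
  exact ⟨P, inferInstance, inferInstance, ψ, AlgEquiv.ofBijective ε hbij, hcomp, hkerP, hcokP⟩

end Groth.Agent.Hens.PunctGlueAlg
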