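import Groth.Agent.Hens.PunctFF
import Groth.Agent.DualFinite.Quotient
import Groth.Agent.LocCoh.DepthVanishing
import Groth.Agent.FEtCat.UnivHomeo
import Groth.Agent.S0239
import Groth.Agent.S2937
import Groth.Agent.Depth.CM
import Groth.Agent.FormalSupp.Punct
import Groth.Prelude.Def_SGA2

/-!
# `A/tA` pure ⇒ `A` pure
-/

set_option autoImplicit false
set_option linter.style.haveILetI false
set_option backward.isDefEq.respectTransparency.types false

universe u

open CategoryTheory CategoryTheory.Limits AlgebraicGeometry IsLocalRing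

noncomputable section

namespace Groth.Agent.Hens.PunctPure

variable {A : Type u} [CommRing A] [IsNoetherianRing A] [IsLocalRing A]

/-- A finite power-torsion module is killed by a power. -/
theorem exists_pow_of_finite {I : Ideal A} {N : Type u} [AddCommGroup N] [Module A N] [Module.Finite A N]
    (h : _root_.LocCoh.IsPowerTorsion I N) {t : A} (ht : t ∈ I) : ∃ n : ℕ, ∀ x : N, t ^ n • x = 0 := by
  classical
  obtain ⟨s, hs⟩ := (inferInstance : Module.Finite A N).fg_top
  choose n hn using h
  refine ⟨s.sup n, fun x => ?_⟩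
  have hx : x ∈ Submodule.span A (s : Set N) := hs.ge Submodule.mem_top
  induction hx using Submodule.span_induction with
  | mem y hy =>
    rw [← Nat.sub_add_cancel (Finset.le_sup (f := n) hy), pow_add, mul_smul,
      hn y _ (Ideal.pow_mem_pow ht _), smul_zero]
  | zero => rw [smul_zero]
  | add a b _ _ ha hb => rw [smul_add, ha, hb, add_zero]
  | smul a y _ hy => rw [smul_comm, hy, smul_zero]

/-- Depth at the one-dimensional primes controls `H¹_m` and `H²_m`. -/
theorem exists_pow_smul_eq_zero {R : Type u} [CommRing R] [IsRegularRing R] (π : R →+* A) (hπ : Function.Surjective π)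
    {t : A} (ht : t ∈ maximalIdeal A)
    (h2 : ∀ p : Ideal A, ∀ _ : p.IsPrime, ringKrullDim (A ⧸ p) = 1 →
      (2 : ℕ∞) ≤ _root_.LocCoh.depth (Localization.AtPrime p) (Localization.AtPrime p))
    (i : ℕ) (hi : i ≤ 2) : ∃ n : ℕ, ∀ x : _root_.LocCoh.H (maximalIdeal A) i A, t ^ n • x = 0 := by
  have : Module.Finite A (_root_.LocCoh.H (maximalIdeal A) i A) := by
    refine DualFinite.finite_H_quotient π hπ (maximalIdeal A) A i fun p q hp hq hpq j hj => ?_
    have hq' : q.asIdeal = maximalIdeal A := ((maximalIdeal.isMaximal A).eq_of_le q.2.ne_top hq).symm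
    have hdim : ringKrullDim (A ⧸ p.asIdeal) = 1 := by
      rw [ringKrullDim_quotient]
      refine le_antisymm ?_ ?_
      · rw [Order.krullDim_le_one_iff]
        intro r
        rcases eq_or_lt_of_le (show p ≤ r.1 from (PrimeSpectrum.mem_zeroLocus r.1 _).mp r.2) with h | h
        · exact Or.inl fun s _ => show r.1 ≤ s.1 from h ▸ (PrimeSpectrum.mem_zeroLocus s.1 _).mp s.2
        · refine Or.inr fun s hrs => show s.1 ≤ r.1 from ?_
          have hr : q ≤ r.1 := by
            by_contra hn
            exact hpq.2 h (lt_of_le_not_ge (show r.1.asIdeal ≤ q.asIdeal from hq' ▸ le_maximalIdeal r.1.2.ne_top) hn)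
          exact le_trans (show s.1.asIdeal ≤ q.asIdeal from hq' ▸ le_maximalIdeal s.1.2.ne_top) hr
      · rw [← Nat.cast_one, Order.le_krullDim_iff]
        exact ⟨(RelSeries.singleton _ (⟨p, (PrimeSpectrum.mem_zeroLocus p _).mpr subset_rfl⟩ : PrimeSpectrum.zeroLocus (p.asIdeal : Set A))).snoc
          ⟨q, (PrimeSpectrum.mem_zeroLocus q _).mpr hpq.1.le⟩ hpq.1, rfl⟩
    let L := Localization.AtPrime p.asIdeal
    let M := LocalizedModule p.asIdeal.primeCompl A
    have hd : (2 : ℕ∞) ≤ _root_.LocCoh.idealDepth (maximalIdeal L) M :=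
      (h2 p.asIdeal p.2 hdim).trans (le_of_eq (FormalSupp.Punct.depth_congr_semilinear (RingEquiv.refl L)
        (Depth.localizedModuleSelfEquiv p.asIdeal.primeCompl).symm.toAddEquiv
        fun r x => (Depth.localizedModuleSelfEquiv p.asIdeal.primeCompl).symm.map_smul r x))
    have hne : maximalIdeal L • (⊤ : Submodule L M) ≠ ⊤ := by
      intro h
      have : Nontrivial M := (Depth.localizedModuleSelfEquiv p.asIdeal.primeCompl).toEquiv.nontrivial
      exact top_ne_bot (α := Submodule L M) (Submodule.eq_bot_of_le_smul_of_le_jacobson_bot (maximalIdeal L) ⊤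
        Module.Finite.fg_top h.ge (maximalIdeal_le_jacobson ⊥))
    obtain ⟨d, hd'⟩ := ENat.ne_top_iff_exists.mp (Depth.idealDepth_lt_top (I := maximalIdeal L) hne).ne
    rw [← hd'] at hd
    have : 2 ≤ d := by exact_mod_cast hd
    exact (LocCoh.H_of_idealDepth_eq (maximalIdeal L) d M hd'.symm).1 j (by omega)
  exact exists_pow_of_finite (LocCoh.isPowerTorsion_H (ModuleCat.of A A)) ht

/-- `A/tA` pure ⇒ `A` pure. -/
theorem isPurePair {R : Type u} [CommRing R] [IsRegularRing R] (π : R →+* A) (hπ : Function.Surjective π)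
    {t : A} (ht : t ∈ maximalIdeal A) [HenselianRing A (Ideal.span {t})]
    (h2 : ∀ p : Ideal A, ∀ _ : p.IsPrime, ringKrullDim (A ⧸ p) = 1 →
      (2 : ℕ∞) ≤ _root_.LocCoh.depth (Localization.AtPrime p) (Localization.AtPrime p))
    [IsLocalRing (A ⧸ Ideal.span {t})]
    (hB : SGA2.IsPurePair (Spec (CommRingCat.of (A ⧸ Ideal.span {t}))) (FEt.puncturedSpec (A ⧸ Ideal.span {t}))) :
    SGA2.IsPurePair (Spec (CommRingCat.of A)) (FEt.puncturedSpec A) := by
  set U := FEt.puncturedSpec A
  let B := A ⧸ Ideal.span {t}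
  let qA := Spec.map (CommRingCat.ofHom (Ideal.Quotient.mk (Ideal.span {t})))
  obtain ⟨hF, hF'⟩ := PunctFF.full_faithful ht (exists_pow_smul_eq_zero π hπ ht h2 1 (by omega))
    (exists_pow_smul_eq_zero π hπ ht h2 2 (by omega))
  have : IsLocalHom (Ideal.Quotient.mk (Ideal.span {t})) := .of_surjective _ Ideal.Quotient.mk_surjective
  have hsnd : (FEt.restrict (pullback.snd U.ι qA)).IsEquivalence := by
    have h := hB ⊤
    let T : (Spec (CommRingCat.of B)).Opens := ⊤
    let j := (Spec (CommRingCat.of B)).homOfLE (inf_le_left : T ⊓ FEt.puncturedSpec B ≤ T)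
    have : IsIso T.ι := Scheme.topIso (Spec (CommRingCat.of B)) |>.isIso_hom
    have : (FEt.restrict T.ι).IsEquivalence := FEtCat.UnivHomeo.isEquivalence_restrict T.ι
    haveI : (FEt.restrict j).IsEquivalence := h
    haveI : (MorphismProperty.Over.pullback FEt.prop.{u} ⊤ T.ι ⋙ MorphismProperty.Over.pullback FEt.prop.{u} ⊤ j).IsEquivalence :=
      inferInstanceAs (FEt.restrict T.ι ⋙ FEt.restrict j).IsEquivalence
    have he : (FEt.restrict (j ≫ T.ι)).IsEquivalence :=
      Functor.isEquivalence_of_iso (MorphismProperty.Over.pullbackComp (P := FEt.prop.{u}) (Q := ⊤) j T.ι _ rfl).symm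
    refine S2937.isEquivalence_congr (j ≫ T.ι) (pullback.snd U.ι qA) ?_ he
    rw [Scheme.homOfLE_ι, Scheme.Opens.range_ι, Scheme.Pullback.range_snd, Scheme.Opens.range_ι]
    ext y
    change (y ∈ T ∧ ¬ (y = closedPoint B)) ↔ ¬ (PrimeSpectrum.comap (Ideal.Quotient.mk (Ideal.span {t})) y = closedPoint A)
    refine ⟨fun h hy => h.2 (PrimeSpectrum.comap_injective_of_surjective _ Ideal.Quotient.mk_surjective ?_), fun h => ⟨trivial, fun hy => h ?_⟩⟩
    · exact hy.trans (IsLocalRing.comap_closedPoint _).symm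
    · rw [hy]; exact IsLocalRing.comap_closedPoint _
  haveI := S0239.result A (Ideal.span {t})
  haveI := hF; haveI := hF'
  have hcomp : (FEt.restrict U.ι ⋙ FEt.restrict (PunctFF.rmap t)).IsEquivalence := by
    haveI := hsnd
    haveI : (MorphismProperty.Over.pullback FEt.prop.{u} ⊤ qA ⋙ MorphismProperty.Over.pullback FEt.prop.{u} ⊤ (pullback.snd U.ι qA)).IsEquivalence :=
      inferInstanceAs (FEt.restrict qA ⋙ FEt.restrict (pullback.snd U.ι qA)).IsEquivalence
    exact Functor.isEquivalence_of_iso ((MorphismProperty.Over.pullbackComp (P := FEt.prop.{u}) (Q := ⊤) _ _ _ rfl).symm ≪≫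
      MorphismProperty.Over.pullbackCongr (pullback.condition (f := U.ι) (g := qA)).symm ≪≫
      MorphismProperty.Over.pullbackComp _ _ _ rfl)
  haveI := hcomp
  have hU : (FEt.restrict U.ι).IsEquivalence := by
    haveI := Functor.Full.of_comp_faithful (FEt.restrict U.ι) (FEt.restrict (PunctFF.rmap t))
    haveI := Functor.Faithful.of_comp (FEt.restrict U.ι) (FEt.restrict (PunctFF.rmap t))
    haveI : (FEt.restrict U.ι).EssSurj := ⟨fun V =>
      ⟨(FEt.restrict U.ι ⋙ FEt.restrict (PunctFF.rmap t)).objPreimage ((FEt.restrict (PunctFF.rmap t)).obj V),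
        ⟨(FEt.restrict (PunctFF.rmap t)).preimageIso
          ((FEt.restrict U.ι ⋙ FEt.restrict (PunctFF.rmap t)).objObjPreimageIso ((FEt.restrict (PunctFF.rmap t)).obj V))⟩⟩⟩
    exact { }
  intro V
  by_cases hc : closedPoint A ∈ V
  · have hV : V = ⊤ := top_le_iff.mp fun x _ => (IsLocalRing.specializes_closedPoint x).mem_open V.2 hc
    subst hV
    let T : (Spec (CommRingCat.of A)).Opens := ⊤
    let j := (Spec (CommRingCat.of A)).homOfLE (inf_le_left : T ⊓ U ≤ T)
    have : IsIso T.ι := Scheme.topIso (Spec (CommRingCat.of A)) |>.isIso_hom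
    have : (FEt.restrict T.ι).IsEquivalence := FEtCat.UnivHomeo.isEquivalence_restrict T.ι
    have he : (FEt.restrict (j ≫ T.ι)).IsEquivalence := by
      refine S2937.isEquivalence_congr U.ι _ ?_ hU
      rw [Scheme.homOfLE_ι, Scheme.Opens.range_ι, Scheme.Opens.range_ι]
      ext y; exact ⟨fun h => ⟨trivial, h⟩, fun h => h.2⟩
    haveI : (MorphismProperty.Over.pullback FEt.prop.{u} ⊤ (j ≫ T.ι)).IsEquivalence := he
    haveI : (FEt.restrict T.ι ⋙ FEt.restrict j).IsEquivalence :=
      Functor.isEquivalence_of_iso (MorphismProperty.Over.pullbackComp (P := FEt.prop.{u}) (Q := ⊤) j T.ι _ rfl)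
    exact Functor.isEquivalence_of_comp_left (FEt.restrict T.ι) (FEt.restrict j)
  · have hle : V ≤ V ⊓ U := le_inf le_rfl fun x hx h => hc (by
      have h' : x = closedPoint A := h
      exact h' ▸ hx)
    haveI : IsIso ((Spec (CommRingCat.of A)).homOfLE (inf_le_left : V ⊓ U ≤ V)) :=
      ⟨(Spec (CommRingCat.of A)).homOfLE hle, by simp, by simp⟩
    exact FEtCat.UnivHomeo.isEquivalence_restrict _

end Groth.Agent.Hens.PunctPure
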