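import Groth.Agent.Hens.RigidPushData
import Groth.Agent.EtaleSite.SetStalk

/-!
# Base change of direct images of sheaves of sets along the completion of a henselian pair
-/

set_option autoImplicit false
set_option linter.style.haveILetI false
set_option backward.isDefEq.respectTransparency.types false

universe u

open CategoryTheory CategoryTheory.Limits AlgebraicGeometry Opposite TensorProduct
open Groth.Agent.EtaleSite Groth.Agent.DescSh

namespace Groth.Agent.Hens.RigidSheaf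

/-! ## Maps out of completions and strict henselizations -/

theorem ringHom_completion_ext {L K : Type u} [CommRing L] [CommRing K] {J : Ideal L} (hJ : J.FG)
    {f g : AdicCompletion J L →+* K} (hf : ∀ x ∈ J, f (algebraMap L _ x) = 0)
    (h : ∀ x : L, f (algebraMap L _ x) = g (algebraMap L _ x)) : f = g := by
  refine RingHom.ext fun x => ?_
  obtain ⟨r, hr⟩ := RigidAdic.exists_sub_mem hJ 1 x
  rw [pow_one] at hr
  have key : ∀ e : AdicCompletion J L →+* K, (∀ y ∈ J, e (algebraMap L _ y) = 0) →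
      e x = e (algebraMap L _ r) := fun e he => by
    have : J.map (algebraMap L (AdicCompletion J L)) ≤ RingHom.ker e :=
      Ideal.map_le_iff_le_comap.2 fun y hy => he y hy
    rw [← sub_eq_zero, ← map_sub]
    exact this hr
  rw [key f hf, key g (fun y hy => (h y).symm.trans (hf y hy)), h]

/-- The point of the completion of a henselian local ring. -/
theorem exists_compl_point {L Ω : Type u} [CommRing L] [HenselianLocalRing L] [Field Ω] {J : Ideal L}
    (hJ : J ≤ IsLocalRing.maximalIdeal L) (hfg : J.FG) (q : L →+* Ω) [IsLocalHom q] :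
    ∃ g : AdicCompletion J L →+* Ω, IsLocalHom g ∧ ∀ x, g (algebraMap L _ x) = q x := by
  haveI := RigidStage.isLocalHom_resC hJ hfg
  refine ⟨(IsLocalRing.ResidueField.lift q).comp (RigidStage.resC hJ),
    ⟨fun x hx => (RigidStage.isUnit_iff_resC hJ hfg x).2 fun h0 => hx.ne_zero ?_⟩, fun x => ?_⟩
  · rw [RingHom.comp_apply, h0, map_zero]
  · rw [RingHom.comp_apply, RigidStage.resC_algebraMap]
    rfl

/-- The residue field of a strict henselization is separably closed. -/
theorem isSepClosed_residue (R K : Type u) [CommRing R] [Field K] [IsSepClosed K] [Algebra R K] :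
    IsSepClosed (IsLocalRing.ResidueField (EtLoc R K)) :=
  RigidStage.isSepClosed_of_factor (IsLocalRing.residue _) IsLocalRing.residue_surjective
    (IsLocalRing.ResidueField.lift (point R K).toRingHom) (RingHom.ext fun _ => rfl)

/-- The strict henselization maps to strictly henselian local rings under the point. -/
theorem exists_etLoc_hom {R K T : Type u} [CommRing R] [Field K] [Algebra R K] [CommRing T]
    [HenselianLocalRing T] [IsSepClosed (IsLocalRing.ResidueField T)] [Algebra R T]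
    (g : T →ₐ[R] K) [IsLocalHom g.toRingHom] :
    ∃ h : EtLoc R K →ₐ[R] T, g.comp h = point R K := by
  choose x hx using fun i : Idx R K => RigidStage.exists_lift_point (S := i.1.Ring) g (i.1.lift _ i.2.2)
  let g₀ : Pre R K →ₐ[R] T := Ideal.Quotient.liftₐ _ (MvPolynomial.aeval fun i => x i i.1.X) (by
    intro y hy
    refine (Ideal.span_le (I := RingHom.ker (MvPolynomial.aeval fun i => x i i.1.X))).2 ?_ hy
    rintro _ ⟨i, rfl⟩
    simpa [rel, ← Polynomial.aeval_algHom_apply] using (i.1.hasMap_X.map (x i)).1)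
  have hg₀ : g.comp g₀ = prePoint R K := by
    refine Ideal.Quotient.algHom_ext _ (MvPolynomial.algHom_ext fun i => ?_)
    show g (g₀ (Ideal.Quotient.mk _ (MvPolynomial.X i))) = prePoint R K (Ideal.Quotient.mk _ _)
    rw [prePoint_mk, MvPolynomial.aeval_X]
    refine (congrArg g (MvPolynomial.aeval_X _ _)).trans ?_
    rw [← AlgHom.comp_apply, hx]
    exact StandardEtalePair.lift_X ..
  let h : EtLoc R K →ₐ[R] T :=
    IsLocalization.liftAlgHom (M := (RingHom.ker (prePoint R K).toRingHom).primeCompl) (f := g₀)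
      fun y => isUnit_of_map_unit g.toRingHom _ (IsUnit.mk0 _ (by
        show g (g₀ y) ≠ 0
        rw [← AlgHom.comp_apply, hg₀]
        exact y.2))
  refine ⟨h, etLoc_algHom_ext fun i => ?_⟩
  show g (h (gen i)) = point R K (gen i)
  rw [point_gen, gen, ofPoly_apply]
  refine (congrArg g (IsLocalization.lift_eq _ _)).trans ?_
  refine (AlgHom.congr_fun hg₀ _).trans ?_
  rw [prePoint_mk, MvPolynomial.aeval_X]

variable {A : Type u} [CommRing A]

section Base

variable {U₀ : (Spec (CommRingCat.of A)).Opens}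

/-- Maps of affine objects. -/
noncomputable def objSMap {B D : Type u} [CommRing B] [Algebra A B] [Algebra.Etale A B] [CommRing D]
    [Algebra A D] [Algebra.Etale A D] (g : B →ₐ[A] D) : objS A D ⟶ objS A B :=
  MorphismProperty.Over.homMk (Spec.map (CommRingCat.ofHom g.toRingHom)) (specMap_toSpec g) trivial

variable {B D : Type u} [CommRing B] [Algebra A B] [Algebra.Etale A B] [CommRing D] [Algebra A D]
  [Algebra.Etale A D] {Ω : Type u} [Field Ω] [IsSepClosed Ω] [Algebra A Ω]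

theorem map_objSMap_spt {η : Spec (CommRingCat.of Ω) ⟶ Spec (CommRingCat.of A)} (hη : η = toSpec A Ω)
    (g : B →ₐ[A] D) (d : D →ₐ[A] Ω) :
    (Scheme.pointSmallEtale η).fiber.map (objSMap g) (spt hη d) = spt hη (d.comp g) := by
  refine Over.OverMorphism.ext ?_
  show Spec.map (CommRingCat.ofHom d.toRingHom) ≫ Spec.map (CommRingCat.ofHom g.toRingHom) =
    Spec.map (CommRingCat.ofHom (d.comp g).toRingHom)
  exact (Spec.map_comp _ _).symm

/-- Germs of a direct image agree if the values agree over an affine neighbourhood. -/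
theorem germ_eq_of_values (F : EtDesc.Sh (U₀ : Scheme.{u}))
    {η : Spec (CommRingCat.of Ω) ⟶ Spec (CommRingCat.of A)} (hη : η = toSpec A Ω)
    (t t' : F.obj.obj (op (objW U₀ B))) (β : B →ₐ[A] D) (d : D →ₐ[A] Ω)
    (hval : ∀ w : PrimeSpectrum D, PrimeSpectrum.comap (algebraMap A D) w ∈ U₀.carrier →
      PrimeSpectrum.comap β.toRingHom w ∈ pEqSet F t t') :
    SetStalk.germ η ((EtDesc.pushSh U₀.ι).obj F) (objS A B) (spt hη (d.comp β)) t =
      SetStalk.germ η ((EtDesc.pushSh U₀.ι).obj F) (objS A B) (spt hη (d.comp β)) t' := by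
  have he : F.obj.map ((EtCoh.bc U₀.ι).map (objSMap β)).op t =
      F.obj.map ((EtCoh.bc U₀.ι).map (objSMap β)).op t' := by
    refine eq_of_eqAt F _ _ fun v => ?_
    obtain ⟨K, i₁, i₂, ξ, x, hx⟩ := exists_geomPoint v
    refine (eqAt_iff_germ F _ _ x hx).2 ?_
    letI : Algebra A K := (Spec.preimage (ξ ≫ U₀.ι)).hom.toAlgebra
    have hξ : ξ ≫ U₀.ι = toSpec A K := (Spec.map_preimage (ξ ≫ U₀.ι)).symm
    obtain ⟨bd, rfl⟩ := exists_wpt hξ x
    show pv F _ hξ bd = pv F _ hξ bd
    rw [map_wpt F β (objSMap β) rfl, map_wpt F β (objSMap β) rfl, ← pt_mem_pEqSet_iff]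
    refine hval (RigidLabel.pt bd.toRingHom) ?_
    have h0 : RigidLabel.pt (algebraMap A K) ∈ U₀.carrier := by
      have h1 := congrArg (fun k => k (default : Spec (CommRingCat.of K))) hξ
      rw [← comap_eq_pt (algebraMap A K) (default : Spec (CommRingCat.of K))]
      show toSpec A K _ ∈ U₀.carrier
      rw [← h1]
      exact (ξ _).2
    have h2 : PrimeSpectrum.comap (algebraMap A D) (RigidLabel.pt bd.toRingHom) =
        RigidLabel.pt (algebraMap A K) := PrimeSpectrum.ext (Ideal.ext fun r => by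
      show bd (algebraMap A D r) = 0 ↔ algebraMap A K r = 0
      rw [bd.commutes])
    rw [h2]
    exact h0
  rw [← map_objSMap_spt hη β d, ← SetStalk.germ_res, ← SetStalk.germ_res]
  exact congrArg _ he

end Base

variable {I : Ideal A} {U₀ : (Spec (CommRingCat.of A)).Opens} (F : EtDesc.Sh (U₀ : Scheme.{u}))

variable (U₀ I) in
/-- The base change morphism. -/
noncomputable abbrev bcMor := EtBC.baseChange0Sh U₀.ι (πc I) ((πc I) ⁻¹ᵁ U₀).ι (resU U₀ I)
  (morphismRestrict_ι (πc I) U₀) F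

section Point

variable {Ω : Type u} [Field Ω] [IsSepClosed Ω] [Algebra A Ω] [Algebra (AdicCompletion I A) Ω]
  [IsScalarTower A (AdicCompletion I A) Ω]
  {ξ : Spec (CommRingCat.of Ω) ⟶ Spec (CommRingCat.of (AdicCompletion I A))}

omit [IsSepClosed Ω] in
theorem hη_of_hξ (hξ : ξ = toSpec (AdicCompletion I A) Ω) : ξ ≫ πc I = toSpec A Ω := by
  rw [hξ, toSpec_tower]

variable (hξ : ξ = toSpec (AdicCompletion I A) Ω) {B : Type u} [CommRing B] [Algebra A B]
  [Algebra.Etale A B]

include hξ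

/-- A stalk element from an affine neighbourhood. -/
noncomputable def elt (b : B →ₐ[A] Ω) (t : F.obj.obj (op (objW U₀ B))) :
    (SetStalk.stalkSh ξ).obj ((EtDesc.pullSh (πc I)).obj ((EtDesc.pushSh U₀.ι).obj F)) :=
  (SetStalk.stalkPullShIso (πc I) ξ).inv.app _
    (SetStalk.germ (ξ ≫ πc I) ((EtDesc.pushSh U₀.ι).obj F) (objS A B) (spt (hη_of_hξ hξ) b) t)

theorem map_elt (b : B →ₐ[A] Ω) (t : F.obj.obj (op (objW U₀ B))) :
    (SetStalk.stalkSh ξ).map (bcMor I U₀ F) (elt F hξ b t) =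
      SetStalk.germ ξ ((EtDesc.pushSh ((πc I) ⁻¹ᵁ U₀).ι).obj ((EtDesc.pullSh (resU U₀ I)).obj F))
        ((EtCoh.bc (πc I)).obj (objS A B))
        (fiberBcEquiv (πc I) ξ (objS A B) (spt (hη_of_hξ hξ) b)) (push F t) := by
  rw [elt, SetPush.germ_stalkPullShIso_inv]
  refine (SetStalk.germ_naturality ξ (bcMor I U₀ F) _ _ _).trans ?_
  exact congrArg _ (baseChange0Sh_secUp (πc I) U₀.ι (resU U₀ I) ((πc I) ⁻¹ᵁ U₀).ι
    (morphismRestrict_ι (πc I) U₀) F (objS A B) t)

theorem map_chartS_spt {R : Type u} [CommRing R] [Algebra A R] [Algebra (AdicCompletion I A) R]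
    [IsScalarTower A (AdicCompletion I A) R] [Algebra.Etale (AdicCompletion I A) R]
    (h : B →ₐ[A] R) (r : R →ₐ[AdicCompletion I A] Ω) :
    (Scheme.pointSmallEtale ξ).fiber.map (chartS h) (spt hξ r) =
      fiberBcEquiv (πc I) ξ (objS A B) (spt (hη_of_hξ hξ) ((r.restrictScalars A).comp h)) := by
  refine Over.OverMorphism.ext (pullback.hom_ext ?_ ?_)
  · refine (Category.assoc _ _ _).trans ((congrArg (_ ≫ ·) (pullback.lift_fst _ _ _)).trans ?_)
    refine Eq.trans ?_ (fiberBcEquiv_fst (πc I) ξ (objS A B) _).symm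
    exact (Spec.map_comp _ _).symm
  · refine (Category.assoc _ _ _).trans ((congrArg (_ ≫ ·) (pullback.lift_snd _ _ _)).trans ?_)
    exact (Over.w (spt hξ r)).trans (pullback.lift_snd _ _ _).symm

theorem exists_elt₂ (z₁ z₂ : (SetStalk.stalkSh ξ).obj
    ((EtDesc.pullSh (πc I)).obj ((EtDesc.pushSh U₀.ι).obj F))) :
    ∃ (B : Type u) (_ : CommRing B) (_ : Algebra A B) (_ : Algebra.Etale A B) (b : B →ₐ[A] Ω)
      (t₁ t₂ : F.obj.obj (op (objW U₀ B))), elt F hξ b t₁ = z₁ ∧ elt F hξ b t₂ = z₂ := by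
  let e := (SetStalk.stalkPullShIso (πc I) ξ).app ((EtDesc.pushSh U₀.ι).obj F)
  let Φ := Scheme.pointSmallEtale (ξ ≫ πc I)
  obtain ⟨V₁, y₁, s₁, hs₁⟩ := SetStalk.exists_germ_eq (ξ ≫ πc I) _ (e.hom z₁)
  obtain ⟨V₂, y₂, s₂, hs₂⟩ := SetStalk.exists_germ_eq (ξ ≫ πc I) _ (e.hom z₂)
  obtain ⟨z, ⟨p₁, hp₁⟩, ⟨p₂, hp₂⟩, -⟩ :=
    IsCofilteredOrEmpty.cone_objs (Φ.fiber.elementsMk _ y₁) (Φ.fiber.elementsMk _ y₂)
  obtain ⟨B, iB, iA, iE, b, g, hg⟩ := exists_refine_S (hη_of_hξ hξ) z.1 z.2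
  refine ⟨B, iB, iA, iE, b, ((EtDesc.pushSh U₀.ι).obj F).obj.map (g ≫ p₁).op s₁,
    ((EtDesc.pushSh U₀.ι).obj F).obj.map (g ≫ p₂).op s₂, ?_, ?_⟩
  · rw [elt, SetStalk.germ_res, Functor.map_comp, ConcreteCategory.comp_apply, hg, hp₁, hs₁]
    exact e.hom_inv_id_apply _
  · rw [elt, SetStalk.germ_res, Functor.map_comp, ConcreteCategory.comp_apply, hg, hp₂, hs₂]
    exact e.hom_inv_id_apply _

/-- Equal images come from equal values on a neighbourhood upstairs. -/
theorem exists_values_eq (b : B →ₐ[A] Ω) (t₁ t₂ : F.obj.obj (op (objW U₀ B)))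
    (he : (SetStalk.stalkSh ξ).map (bcMor I U₀ F) (elt F hξ b t₁) =
      (SetStalk.stalkSh ξ).map (bcMor I U₀ F) (elt F hξ b t₂)) :
    ∃ (R : Type u) (_ : CommRing R) (_ : Algebra A R) (_ : Algebra (AdicCompletion I A) R)
      (_ : IsScalarTower A (AdicCompletion I A) R) (_ : Algebra.Etale (AdicCompletion I A) R)
      (r : R →ₐ[AdicCompletion I A] Ω) (h : B →ₐ[A] R), (r.restrictScalars A).comp h = b ∧
      ∀ (K : Type u) [Field K] [IsSepClosed K] [Algebra A K] [Algebra (AdicCompletion I A) K]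
        [IsScalarTower A (AdicCompletion I A) K]
        (ζ : Spec (CommRingCat.of K) ⟶ ((πc I) ⁻¹ᵁ U₀ : Scheme.{u}))
        (hζ : ζ ≫ ((πc I) ⁻¹ᵁ U₀).ι = toSpec (AdicCompletion I A) K) (ρ : R →ₐ[AdicCompletion I A] K),
        pv F t₁ (hξ_of_hζ hζ) ((ρ.restrictScalars A).comp h) =
          pv F t₂ (hξ_of_hζ hζ) ((ρ.restrictScalars A).comp h) := by
  rw [map_elt, map_elt] at he
  obtain ⟨W, g, y, hy, hg⟩ := (SetStalk.germ_eq_iff ξ _ _ _ _ _).1 he
  obtain ⟨R, iR, iA, iE, r, g', hg'⟩ := exists_refine_S hξ W y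
  letI : Algebra A R := ((algebraMap (AdicCompletion I A) R).comp (algebraMap A _)).toAlgebra
  haveI : IsScalarTower A (AdicCompletion I A) R := .of_algebraMap_eq' rfl
  let k : objS (AdicCompletion I A) R ⟶ (EtCoh.bc (πc I)).obj (objS A B) := g' ≫ g
  let kl : Spec (CommRingCat.of R) ⟶ Spec (CommRingCat.of B) :=
    k.left ≫ pullback.fst (toSpec A B) (πc I)
  have hkl : kl ≫ toSpec A B = toSpec A R := by
    refine (Category.assoc _ _ _).trans ((congrArg (_ ≫ ·) pullback.condition).trans ?_)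
    refine (Category.assoc _ _ _).symm.trans ((congrArg (· ≫ πc I) (MorphismProperty.Over.w k)).trans ?_)
    exact toSpec_tower R
  have h1 : (Spec.preimage kl).hom.comp (algebraMap A B) = algebraMap A R := by
    have h2 : Spec.map (CommRingCat.ofHom (algebraMap A B) ≫ Spec.preimage kl) = toSpec A R := by
      rw [Spec.map_comp, Spec.map_preimage]; exact hkl
    exact congrArg CommRingCat.Hom.hom (Spec.map_injective h2)
  let h : B →ₐ[A] R := { toRingHom := (Spec.preimage kl).hom, commutes' := fun x => RingHom.congr_fun h1 x }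
  have hk : k = chartS h := by
    refine MorphismProperty.Over.Hom.ext (pullback.hom_ext ?_ ?_)
    · refine Eq.trans ?_ (pullback.lift_fst _ _ _).symm
      show kl = Spec.map (CommRingCat.ofHom (Spec.preimage kl).hom)
      rw [CommRingCat.ofHom_hom, Spec.map_preimage]
    · exact (MorphismProperty.Over.w k).trans (pullback.lift_snd _ _ _).symm
  have hrb : (r.restrictScalars A).comp h = b := by
    have e : (Scheme.pointSmallEtale ξ).fiber.map k (spt hξ r) =
        fiberBcEquiv (πc I) ξ (objS A B) (spt (hη_of_hξ hξ) b) := by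
      rw [Functor.map_comp, ConcreteCategory.comp_apply, hg', hy]
    rw [hk, map_chartS_spt] at e
    have e' := congrArg (fun x => x.left) ((fiberBcEquiv (πc I) ξ (objS A B)).injective e)
    exact AlgHom.ext fun x => RingHom.congr_fun
      (congrArg CommRingCat.Hom.hom (Spec.map_injective e')) x
  refine ⟨R, iR, inferInstance, iA, inferInstance, iE, r, h, hrb, fun K _ _ _ _ _ ζ hζ ρ => ?_⟩
  have hsec : ((EtDesc.pullSh (resU U₀ I)).obj F).obj.map
      ((EtCoh.bc ((πc I) ⁻¹ᵁ U₀).ι).map (chartS h)).op (push F t₁) =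
      ((EtDesc.pullSh (resU U₀ I)).obj F).obj.map
      ((EtCoh.bc ((πc I) ⁻¹ᵁ U₀).ι).map (chartS h)).op (push F t₂) := by
    rw [← hk]
    show ((EtDesc.pushSh ((πc I) ⁻¹ᵁ U₀).ι).obj _).obj.map k.op _ =
      ((EtDesc.pushSh ((πc I) ⁻¹ᵁ U₀).ι).obj _).obj.map k.op _
    simp only [k, op_comp, Functor.map_comp, ConcreteCategory.comp_apply]
    exact congrArg _ hg
  rw [← dn_pv_push F h t₁ hζ ρ, hsec, dn_pv_push F h t₂ hζ ρ]

theorem injective_open (hp : RigidLabel.pt (algebraMap A Ω) ∈ U₀.carrier) :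
    Function.Injective ((SetStalk.stalkSh ξ).map (bcMor I U₀ F)) := by
  intro z₁ z₂ he
  obtain ⟨B, _, _, _, b, t₁, t₂, rfl, rfl⟩ := exists_elt₂ F hξ z₁ z₂
  obtain ⟨R, _, _, _, _, _, r, h, hrb, hval⟩ := exists_values_eq F hξ b t₁ t₂ he
  have hζ := toU_ι (U₀ := (πc I) ⁻¹ᵁ U₀) (B := Ω) (forall_comap_mem_completion (forall_comap_mem hp))
  have hmem : RigidLabel.pt b.toRingHom ∈ pEqSet F t₁ t₂ := by
    rw [pt_mem_pEqSet_iff F t₁ t₂ (hξ_of_hζ hζ) b, ← hrb]
    exact hval Ω _ hζ r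
  obtain ⟨_, ⟨c, rfl⟩, hc, hcs⟩ :=
    PrimeSpectrum.isTopologicalBasis_basic_opens.exists_subset_of_mem_open hmem (isOpen_pEqSet F t₁ t₂)
  haveI : Algebra.Etale B (Localization.Away c) := Algebra.Etale.of_isLocalizationAway c
  haveI : Algebra.Etale A (Localization.Away c) := Algebra.Etale.comp A B _
  let d : Localization.Away c →ₐ[A] Ω :=
    IsLocalization.liftAlgHom (M := Submonoid.powers c) (f := b) (by
      rintro ⟨_, m, rfl⟩
      show IsUnit (b (c ^ m))
      rw [map_pow]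
      exact (IsUnit.mk0 _ hc).pow m)
  have hd : d.comp (IsScalarTower.toAlgHom A B (Localization.Away c)) = b :=
    AlgHom.ext fun x => IsLocalization.lift_eq _ x
  rw [elt, elt, ← hd]
  refine congrArg _ (germ_eq_of_values F (hη_of_hξ hξ) t₁ t₂ _ d fun w _ => hcs ?_)
  intro h0
  exact w.2.ne_top (Ideal.eq_top_of_isUnit_mem _ h0 (IsLocalization.Away.algebraMap_isUnit c))

theorem surjective_open (hp : RigidLabel.pt (algebraMap A Ω) ∈ U₀.carrier) :
    Function.Surjective ((SetStalk.stalkSh ξ).map (bcMor I U₀ F)) := by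
  intro z
  obtain ⟨V, y, s₀, rfl⟩ := SetStalk.exists_germ_eq ξ _ z
  obtain ⟨R, _, _, _, r, g, rfl⟩ := exists_refine_S hξ V y
  rw [← SetStalk.germ_res]
  let G := (EtDesc.pullSh (resU U₀ I)).obj F
  let s : G.obj.obj (op (objW ((πc I) ⁻¹ᵁ U₀) R)) := ((EtDesc.pushSh ((πc I) ⁻¹ᵁ U₀).ι).obj G).obj.map g.op s₀
  letI : Algebra A R := ((algebraMap (AdicCompletion I A) R).comp (algebraMap A _)).toAlgebra
  haveI : IsScalarTower A (AdicCompletion I A) R := .of_algebraMap_eq' rfl
  have hζ := toU_ι (U₀ := (πc I) ⁻¹ᵁ U₀) (B := Ω) (forall_comap_mem_completion (forall_comap_mem hp))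
  obtain ⟨V', y', t₀, ht₀⟩ := SetStalk.exists_germ_eq _ F (dn F (pv G s hζ r))
  obtain ⟨C, _, _, _, hC, a, g', hg'⟩ := exists_refine_U (hξ_of_hζ hζ) V' y'
  let t := F.obj.map g'.op t₀
  have ht : gm hC F t (hξ_of_hζ hζ) a = dn F (pv G s hζ r) := by
    rw [gm, SetStalk.germ_res, hg', ht₀]
  let jC : objW U₀ C ⟶ obj hC := MorphismProperty.Over.homMk (pullback.fst (toSpec A C) U₀.ι) (by
    show pullback.fst (toSpec A C) U₀.ι ≫ toU hC = pullback.snd (toSpec A C) U₀.ι
    rw [← cancel_mono U₀.ι, Category.assoc, toU_ι, pullback.condition]) trivial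
  let t' : F.obj.obj (op (objW U₀ C)) := F.obj.map jC.op t
  have ht' : pv F t' (hξ_of_hζ hζ) a = dn F (pv G s hζ r) := by
    rw [pv, SetStalk.germ_res, ← ht]
    refine congrArg (fun x => SetStalk.germ _ F (obj hC) x t) (Over.OverMorphism.ext ?_)
    exact wpt_fst (hξ_of_hζ hζ) a
  refine ⟨elt F hξ a t', ?_⟩
  rw [map_elt]
  haveI : Algebra.Etale (AdicCompletion I A) (R ⊗[A] C) := Algebra.Etale.comp (AdicCompletion I A) R _
  let d₀ : R ⊗[A] C →ₐ[AdicCompletion I A] Ω := Algebra.TensorProduct.lift r a fun _ _ => .all _ _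
  let iL : R →ₐ[AdicCompletion I A] R ⊗[A] C := Algebra.TensorProduct.includeLeft
  let iR : C →ₐ[A] R ⊗[A] C := Algebra.TensorProduct.includeRight
  have e₁ : d₀.comp iL = r := AlgHom.ext fun x => by simp [d₀, iL]
  have e₂ : (d₀.restrictScalars A).comp iR = a := AlgHom.ext fun x => by simp [d₀, iR]
  let u₁ := G.obj.map ((EtCoh.bc ((πc I) ⁻¹ᵁ U₀).ι).map (objSMap iL)).op s
  let u₂ := G.obj.map ((EtCoh.bc ((πc I) ⁻¹ᵁ U₀).ι).map (chartS iR)).op (push F t')
  have hmem : RigidLabel.pt d₀.toRingHom ∈ pEqSet (U₀ := (πc I) ⁻¹ᵁ U₀) G u₂ u₁ := by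
    rw [pt_mem_pEqSet_iff (U₀ := (πc I) ⁻¹ᵁ U₀) G u₂ u₁ hζ d₀, ← (dn_injective F).eq_iff,
      dn_pv_push, e₂, ht', map_wpt G iL (objSMap iL) rfl, e₁]
  obtain ⟨_, ⟨c, rfl⟩, hc, hcs⟩ :=
    PrimeSpectrum.isTopologicalBasis_basic_opens.exists_subset_of_mem_open hmem (isOpen_pEqSet _ _ _)
  haveI : Algebra.Etale (R ⊗[A] C) (Localization.Away c) := Algebra.Etale.of_isLocalizationAway c
  haveI : Algebra.Etale (AdicCompletion I A) (Localization.Away c) :=
    Algebra.Etale.comp (AdicCompletion I A) (R ⊗[A] C) _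
  let d : Localization.Away c →ₐ[AdicCompletion I A] Ω :=
    IsLocalization.liftAlgHom (M := Submonoid.powers c) (f := d₀) (by
      rintro ⟨_, m, rfl⟩
      show IsUnit (d₀ (c ^ m))
      rw [map_pow]
      exact (IsUnit.mk0 _ hc).pow m)
  have hd : d.comp (IsScalarTower.toAlgHom (AdicCompletion I A) (R ⊗[A] C) (Localization.Away c)) = d₀ :=
    AlgHom.ext fun x => IsLocalization.lift_eq _ x
  have key := germ_eq_of_values (U₀ := (πc I) ⁻¹ᵁ U₀) G hξ u₂ u₁
    (IsScalarTower.toAlgHom (AdicCompletion I A) (R ⊗[A] C) (Localization.Away c)) d fun w _ => hcs (fun h0 =>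
    w.2.ne_top (Ideal.eq_top_of_isUnit_mem _ h0 (IsLocalization.Away.algebraMap_isUnit c)))
  rw [hd] at key
  rw [← e₂, ← map_chartS_spt hξ iR d₀, ← SetStalk.germ_res]
  refine key.trans ?_
  conv_rhs => rw [← e₁, ← map_objSMap_spt hξ iL d₀, ← SetStalk.germ_res]
  rfl

section Closed

variable (hI : I.FG) (hU : IsCompact U₀.carrier)
  (hUI : ∀ x : PrimeSpectrum A, x ∉ U₀.carrier → I ≤ x.asIdeal)
  (hIΩ : ∀ x ∈ I, algebraMap A Ω x = 0)

include hI hIΩ in
omit hξ in
/-- The strict henselian completion receives the neighbourhoods upstairs. -/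
theorem exists_point_Lc : ∃ g : Lc I Ω →ₐ[AdicCompletion I A] Ω, IsLocalHom g.toRingHom ∧
    (∀ x, g (algebraMap (EtLoc A Ω) _ x) = point A Ω x) ∧
    ∃ _ : HenselianLocalRing (Lc I Ω), IsSepClosed (IsLocalRing.ResidueField (Lc I Ω)) := by
  have hJ := map_le_maximal (I := I) Ω hIΩ
  have hfg : (I.map (algebraMap A (EtLoc A Ω))).FG := hI.map _
  obtain ⟨g₀, hg₀l, hg₀⟩ := exists_compl_point hJ hfg (point A Ω).toRingHom
  haveI := RigidStage.henselianLocalRing_completion hJ hfg
  have hg₀' : ∀ x, g₀ (algebraMap (EtLoc A Ω) _ x) = point A Ω x := hg₀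
  have hA : ∀ x : A, g₀ (algebraMap (AdicCompletion I A) (Lc I Ω) (algebraMap A _ x)) =
      algebraMap A Ω x := fun x => by
    rw [← IsScalarTower.algebraMap_apply, IsScalarTower.algebraMap_apply A (EtLoc A Ω) (Lc I Ω), hg₀',
      AlgHom.commutes]
  have hc : g₀.comp (algebraMap (AdicCompletion I A) (Lc I Ω)) = algebraMap (AdicCompletion I A) Ω := by
    refine ringHom_completion_ext hI (fun x hx => ?_) fun x => ?_
    · rw [RingHom.comp_apply, hA]; exact hIΩ x hx
    · rw [RingHom.comp_apply, hA, ← IsScalarTower.algebraMap_apply]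
  refine ⟨{ toRingHom := g₀, commutes' := fun x => RingHom.congr_fun hc x }, hg₀l, hg₀', inferInstance, ?_⟩
  refine RigidStage.isSepClosed_of_factor
    ((IsLocalRing.residue (Lc I Ω)).comp (algebraMap (EtLoc A Ω) (Lc I Ω))) (fun y => ?_)
    (IsLocalRing.ResidueField.lift g₀) (RingHom.ext fun x => hg₀' x)
  obtain ⟨x, rfl⟩ := IsLocalRing.residue_surjective y
  obtain ⟨r, hr⟩ := RigidAdic.exists_sub_mem hfg 1 x
  rw [pow_one] at hr
  refine ⟨r, (sub_eq_zero.1 ?_).symm⟩
  rw [RingHom.comp_apply, ← map_sub, IsLocalRing.residue_eq_zero_iff]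
  refine (IsLocalRing.mem_maximalIdeal _).2 fun hu => ?_
  exact (RigidStage.isUnit_iff_resC hJ hfg _).1 hu (RigidStage.resC_eq_zero_of_mem hJ hr)

include hI hU hUI hIΩ in
theorem injective_closed : Function.Injective ((SetStalk.stalkSh ξ).map (bcMor I U₀ F)) := by
  intro z₁ z₂ he
  obtain ⟨B, _, _, _, b, t₁, t₂, rfl, rfl⟩ := exists_elt₂ F hξ z₁ z₂
  obtain ⟨R, _, _, _, _, _, r, h, hrb, hval⟩ := exists_values_eq F hξ b t₁ t₂ he
  obtain ⟨g, hgl, hgp, _, hsep⟩ := exists_point_Lc (Ω := Ω) hI hIΩ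
  obtain ⟨τ, hτ⟩ := RigidStage.exists_lift_point g r
  obtain ⟨θ, hθ, -⟩ := existsUnique_algHom_etLoc (R := A) (K := Ω) b
  have hθτ : (τ.restrictScalars A).comp h = (IsScalarTower.toAlgHom A (EtLoc A Ω) (Lc I Ω)).comp θ :=
    eq_of_point_eq g.toRingHom fun x => by
      show g (τ (h x)) = g (algebraMap (EtLoc A Ω) (Lc I Ω) (θ x))
      rw [hgp, ← AlgHom.comp_apply g τ, hτ, ← AlgHom.comp_apply (point A Ω) θ, hθ, ← hrb]
      rfl
  haveI : HenselianRing (EtLoc A Ω) (I.map (algebraMap A (EtLoc A Ω))) :=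
    Hensel.henselianRing_of_le (map_le_maximal Ω hIΩ)
  let UL : Set (PrimeSpectrum (EtLoc A Ω)) := PrimeSpectrum.comap (algebraMap A (EtLoc A Ω)) ⁻¹' U₀.carrier
  have hsub : UL ⊆ PrimeSpectrum.comap θ.toRingHom ⁻¹' pEqSet F t₁ t₂ :=
    RigidClopen.subset_of_preimage_subset (U := UL) (hI.map _)
      (fun x hx => Ideal.map_le_iff_le_comap.2 (hUI _ hx)) subset_rfl
      ((show UL \ UL = ∅ from Set.sdiff_self) ▸ isOpen_empty)
      ((isOpen_pEqSet F t₁ t₂).preimage (PrimeSpectrum.continuous_comap _)) fun P hP => by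
      have hp : RigidLabel.pt (algebraMap A (RigidLabel.Kc P)) ∈ U₀.carrier := by
        have h0 : RigidLabel.pt (algebraMap A (RigidLabel.Kc P)) =
            PrimeSpectrum.comap (algebraMap A (EtLoc A Ω))
              (PrimeSpectrum.comap (algebraMap (EtLoc A Ω) (Lc I Ω)) P) :=
          PrimeSpectrum.ext (Ideal.ext fun x => by
            show algebraMap A (RigidLabel.Kc P) x = 0 ↔
              algebraMap (EtLoc A Ω) (Lc I Ω) (algebraMap A (EtLoc A Ω) x) ∈ P.asIdeal
            rw [← IsScalarTower.algebraMap_apply, IsScalarTower.algebraMap_apply A (Lc I Ω) (RigidLabel.Kc P)]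
            exact RigidLabel.χc_eq_zero_iff (A := Lc I Ω) P _)
        rw [h0]
        exact hP
      have hζ := toU_ι (U₀ := (πc I) ⁻¹ᵁ U₀) (B := RigidLabel.Kc P)
        (forall_comap_mem_completion (forall_comap_mem hp))
      let ψ : Lc I Ω →ₐ[AdicCompletion I A] RigidLabel.Kc P := RigidLabel.χc P
      have hb : (((ψ.comp τ).restrictScalars A).comp h) =
          (ψ.restrictScalars A).comp ((IsScalarTower.toAlgHom A (EtLoc A Ω) (Lc I Ω)).comp θ) := by
        rw [← hθτ]; rfl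
      have hv := hval _ _ hζ (ψ.comp τ)
      rw [hb, ← pt_mem_pEqSet_iff] at hv
      show PrimeSpectrum.comap θ.toRingHom (PrimeSpectrum.comap (algebraMap (EtLoc A Ω) (Lc I Ω)) P) ∈
        pEqSet F t₁ t₂
      convert hv using 1
      exact PrimeSpectrum.ext (Ideal.ext fun x => (RigidLabel.χc_eq_zero_iff (A := Lc I Ω) P _).symm)
  let UB : Set (PrimeSpectrum B) := PrimeSpectrum.comap (algebraMap A B) ⁻¹' U₀.carrier
  obtain ⟨O, hOc, hOo, hLO, hOE⟩ := PrespectralSpace.exists_isCompact_and_isOpen_between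
    ((isCompact_preimage (algebraMap A (EtLoc A Ω)) hU U₀.is_open').image
      (PrimeSpectrum.continuous_comap θ.toRingHom))
    (isOpen_pEqSet F t₁ t₂) (Set.image_subset_iff.2 hsub)
  have hY : Topology.IsConstructible (UB \ O) :=
    ((isCompact_preimage _ hU U₀.is_open').isConstructible (U₀.is_open'.preimage
      (PrimeSpectrum.continuous_comap _))).sdiff (hOc.isConstructible hOo)
  obtain ⟨D, _, _, _, β, η, hη, hav⟩ := RigidStage.exists_avoid θ hY fun x hx => hx.2 (hLO ⟨x, by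
    show PrimeSpectrum.comap (algebraMap A _) x ∈ U₀.carrier
    rw [← θ.comp_algebraMap, PrimeSpectrum.comap_comp_apply]
    exact hx.1, rfl⟩)
  rw [elt, elt, show b = ((point A Ω).comp η).comp β by rw [AlgHom.comp_assoc, hη, hθ]]
  refine congrArg _ (germ_eq_of_values F (hη_of_hξ hξ) t₁ t₂ β _ fun w hw => hOE ?_)
  by_contra hn
  refine hav w ⟨?_, hn⟩
  show PrimeSpectrum.comap (algebraMap A B) _ ∈ U₀.carrier
  rw [← PrimeSpectrum.comap_comp_apply, AlgHom.toRingHom_eq_coe, β.comp_algebraMap]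
  exact hw

include hI hU hUI hIΩ in
set_option maxHeartbeats 800000 in
theorem surjective_closed : Function.Surjective ((SetStalk.stalkSh ξ).map (bcMor I U₀ F)) := by
  intro z
  obtain ⟨V, y, s₀, rfl⟩ := SetStalk.exists_germ_eq ξ _ z
  obtain ⟨R, _, _, _, r, g₁, rfl⟩ := exists_refine_S hξ V y
  rw [← SetStalk.germ_res]
  let G := (EtDesc.pullSh (resU U₀ I)).obj F
  let s : G.obj.obj (op (objW ((πc I) ⁻¹ᵁ U₀) R)) := ((EtDesc.pushSh ((πc I) ⁻¹ᵁ U₀).ι).obj G).obj.map g₁.op s₀
  letI : Algebra A R := ((algebraMap (AdicCompletion I A) R).comp (algebraMap A _)).toAlgebra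
  haveI : IsScalarTower A (AdicCompletion I A) R := .of_algebraMap_eq' rfl
  obtain ⟨g, hgl, hgp, _, hsep⟩ := exists_point_Lc (Ω := Ω) hI hIΩ
  obtain ⟨τ, hτ⟩ := RigidStage.exists_lift_point g r
  obtain ⟨B, _, _, _, θ, t, hglue⟩ := exists_glued hI hU hUI F Ω hIΩ τ s
  let b : B →ₐ[A] Ω := (point A Ω).comp θ
  refine ⟨elt F hξ b t, ?_⟩
  rw [map_elt]
  haveI : Algebra.Etale (AdicCompletion I A) (R ⊗[A] B) := Algebra.Etale.comp (AdicCompletion I A) R _
  let d₀ : R ⊗[A] B →ₐ[AdicCompletion I A] Ω := Algebra.TensorProduct.lift r b fun _ _ => .all _ _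
  let iL : R →ₐ[AdicCompletion I A] R ⊗[A] B := Algebra.TensorProduct.includeLeft
  let iR : B →ₐ[A] R ⊗[A] B := Algebra.TensorProduct.includeRight
  have e₁ : d₀.comp iL = r := AlgHom.ext fun x => by simp [d₀, iL]
  have e₂ : (d₀.restrictScalars A).comp iR = b := AlgHom.ext fun x => by simp [d₀, iR]
  -- the strict henselization upstairs
  let L' := EtLoc (AdicCompletion I A) Ω
  letI : Algebra A L' := ((algebraMap (AdicCompletion I A) L').comp (algebraMap A _)).toAlgebra
  haveI : IsScalarTower A (AdicCompletion I A) L' := .of_algebraMap_eq' rfl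
  let p' : L' →ₐ[A] Ω := (point (AdicCompletion I A) Ω).restrictScalars A
  haveI : IsLocalHom p'.toRingHom := inferInstanceAs (IsLocalHom (point (AdicCompletion I A) Ω).toRingHom)
  haveI := isSepClosed_residue (AdicCompletion I A) Ω
  obtain ⟨hL, hhL⟩ := exists_etLoc_hom p'
  obtain ⟨θ₀, hθ₀, -⟩ := existsUnique_algHom_etLoc (R := AdicCompletion I A) (K := Ω) d₀
  let J' := I.map (algebraMap A L')
  have hJ' : J' ≤ IsLocalRing.maximalIdeal L' := Ideal.map_le_iff_le_comap.2 fun x hx => by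
    rw [Ideal.mem_comap, mem_maximalIdeal_iff_point]
    exact (p'.commutes x).trans (hIΩ x hx)
  haveI : HenselianRing L' J' := Hensel.henselianRing_of_le hJ'
  let L'c := AdicCompletion J' L'
  haveI := RigidStage.henselianLocalRing_completion hJ' (hI.map _)
  obtain ⟨g', hg'l, hg'⟩ := exists_compl_point hJ' (hI.map _) (point (AdicCompletion I A) Ω).toRingHom
  have hle : I.map (algebraMap A (EtLoc A Ω)) ≤ J'.comap hL.toRingHom :=
    Ideal.map_le_iff_le_comap.2 fun x hx => by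
      show hL (algebraMap A _ x) ∈ J'
      rw [hL.commutes]
      exact Ideal.mem_map_of_mem _ hx
  let H₀ : Lc I Ω →+* L'c := RigidAIC.cmap hL.toRingHom hle
  have hH₀ : ∀ x, H₀ (algebraMap (EtLoc A Ω) _ x) = algebraMap L' L'c (hL x) := fun x =>
    RigidAIC.cmap_algebraMap hL.toRingHom hle x
  have hH₀A : ∀ x : A, H₀ (algebraMap A (Lc I Ω) x) = algebraMap A L'c x := fun x => by
    rw [IsScalarTower.algebraMap_apply A (EtLoc A Ω) (Lc I Ω), hH₀, hL.commutes, ← IsScalarTower.algebraMap_apply]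
  let H₁ : AdicCompletion I A →ₐ[A] L'c :=
    { toRingHom := H₀.comp (algebraMap (AdicCompletion I A) (Lc I Ω))
      commutes' := fun x => by
        show H₀ (algebraMap (AdicCompletion I A) (Lc I Ω) (algebraMap A _ x)) = _
        rw [← IsScalarTower.algebraMap_apply, hH₀A] }
  let H₂ : AdicCompletion I A →ₐ[A] L'c :=
    { toRingHom := (algebraMap L' L'c).comp (algebraMap (AdicCompletion I A) L')
      commutes' := fun x => by
        show algebraMap L' L'c (algebraMap (AdicCompletion I A) L' (algebraMap A _ x)) = _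
        rw [← IsScalarTower.algebraMap_apply, ← IsScalarTower.algebraMap_apply] }
  let H : Lc I Ω →ₐ[AdicCompletion I A] L'c :=
    { toRingHom := H₀
      commutes' := fun x => by
        refine (AlgHom.congr_fun (RigidLabel.toCompl_unique (S := L') hI H₁ H₂) x).trans ?_
        exact (IsScalarTower.algebraMap_apply (AdicCompletion I A) L' L'c x).symm }
  have hg'H : g'.comp H₀ = g.toRingHom := by
    refine ringHom_completion_ext (hI.map _) (fun x hx => ?_) fun x => ?_
    · rw [RingHom.comp_apply, hH₀, hg']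
      exact (AlgHom.congr_fun hhL x).trans ((mem_maximalIdeal_iff_point x).1 (map_le_maximal Ω hIΩ hx))
    · rw [RingHom.comp_apply, hH₀, hg']
      exact (AlgHom.congr_fun hhL x).trans (hgp x).symm
  have hRτ : H.comp τ = (IsScalarTower.toAlgHom (AdicCompletion I A) L' L'c).comp (θ₀.comp iL) := by
    haveI := hg'l
    refine eq_of_point_eq g' fun x => ?_
    show g' (H₀ (τ x)) = g' (algebraMap L' L'c (θ₀ (iL x)))
    rw [hg', ← RingHom.comp_apply, hg'H]
    show g (τ x) = point _ Ω (θ₀ (iL x))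
    rw [← AlgHom.comp_apply g τ, hτ, ← AlgHom.comp_apply (point _ Ω) θ₀, hθ₀, ← e₁]
    rfl
  have hBθ : hL.comp θ = (θ₀.restrictScalars A).comp iR :=
    eq_of_point_eq p'.toRingHom fun x => by
      show p' (hL (θ x)) = point _ Ω (θ₀ (iR x))
      rw [← AlgHom.comp_apply p' hL, hhL, ← AlgHom.comp_apply (point _ Ω) θ₀, hθ₀]
      exact (AlgHom.congr_fun e₂ x).symm
  let u₁ := G.obj.map ((EtCoh.bc ((πc I) ⁻¹ᵁ U₀).ι).map (objSMap iL)).op s
  let u₂ := G.obj.map ((EtCoh.bc ((πc I) ⁻¹ᵁ U₀).ι).map (chartS iR)).op (push F t)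
  let UL' : Set (PrimeSpectrum L') := PrimeSpectrum.comap (algebraMap A L') ⁻¹' U₀.carrier
  have hsub : UL' ⊆ PrimeSpectrum.comap θ₀.toRingHom ⁻¹' pEqSet (U₀ := (πc I) ⁻¹ᵁ U₀) G u₂ u₁ :=
    RigidClopen.subset_of_preimage_subset (U := UL') (hI.map (algebraMap A L'))
      (fun x hx => Ideal.map_le_iff_le_comap.2 (hUI _ hx)) subset_rfl
      ((show UL' \ UL' = ∅ from Set.sdiff_self) ▸ isOpen_empty)
      ((isOpen_pEqSet _ _ _).preimage (PrimeSpectrum.continuous_comap _)) fun P hP => by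
      have hp : RigidLabel.pt (algebraMap A (RigidLabel.Kc P)) ∈ U₀.carrier := by
        have h0 : RigidLabel.pt (algebraMap A (RigidLabel.Kc P)) =
            PrimeSpectrum.comap (algebraMap A L') (PrimeSpectrum.comap (algebraMap L' L'c) P) :=
          PrimeSpectrum.ext (Ideal.ext fun x => by
            show algebraMap A (RigidLabel.Kc P) x = 0 ↔
              algebraMap L' L'c (algebraMap A L' x) ∈ P.asIdeal
            rw [← IsScalarTower.algebraMap_apply, IsScalarTower.algebraMap_apply A L'c (RigidLabel.Kc P)]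
            exact RigidLabel.χc_eq_zero_iff (A := L'c) P _)
        rw [h0]
        exact hP
      have hζ := toU_ι (U₀ := (πc I) ⁻¹ᵁ U₀) (B := RigidLabel.Kc P)
        (forall_comap_mem_completion (forall_comap_mem hp))
      let ψ' : L'c →ₐ[AdicCompletion I A] RigidLabel.Kc P := RigidLabel.χc P
      let dP : R ⊗[A] B →ₐ[AdicCompletion I A] RigidLabel.Kc P :=
        (ψ'.comp (IsScalarTower.toAlgHom (AdicCompletion I A) L' L'c)).comp θ₀
      have hv := hglue _ _ hζ (ψ'.comp H)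
      have ea : (ψ'.comp H).comp τ = dP.comp iL := by
        rw [AlgHom.comp_assoc, hRτ]; rfl
      have eb : ((ψ'.comp H).restrictScalars A).comp ((IsScalarTower.toAlgHom A (EtLoc A Ω) (Lc I Ω)).comp θ) =
          (dP.restrictScalars A).comp iR := AlgHom.ext fun x => by
        show ψ' (H₀ (algebraMap (EtLoc A Ω) _ (θ x))) = ψ' (algebraMap L' L'c (θ₀ (iR x)))
        rw [hH₀, ← AlgHom.comp_apply hL θ, hBθ]
        rfl
      rw [ea, eb] at hv
      have hmem : RigidLabel.pt dP.toRingHom ∈ pEqSet (U₀ := (πc I) ⁻¹ᵁ U₀) G u₂ u₁ := by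
        rw [pt_mem_pEqSet_iff (U₀ := (πc I) ⁻¹ᵁ U₀) G u₂ u₁ hζ dP, ← (dn_injective F).eq_iff,
          dn_pv_push, ← hv, map_wpt G iL (objSMap iL) rfl]
      show PrimeSpectrum.comap θ₀.toRingHom (PrimeSpectrum.comap (algebraMap L' L'c) P) ∈
        pEqSet (U₀ := (πc I) ⁻¹ᵁ U₀) G u₂ u₁
      convert hmem using 1
      exact PrimeSpectrum.ext (Ideal.ext fun x => (RigidLabel.χc_eq_zero_iff (A := L'c) P _).symm)
  let UD : Set (PrimeSpectrum (R ⊗[A] B)) :=
    PrimeSpectrum.comap (algebraMap A (R ⊗[A] B)) ⁻¹' U₀.carrier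
  obtain ⟨O, hOc, hOo, hLO, hOE⟩ := PrespectralSpace.exists_isCompact_and_isOpen_between
    ((isCompact_preimage (algebraMap A L') hU U₀.is_open').image
      (PrimeSpectrum.continuous_comap θ₀.toRingHom))
    (isOpen_pEqSet (U₀ := (πc I) ⁻¹ᵁ U₀) G u₂ u₁) (Set.image_subset_iff.2 hsub)
  have hY : Topology.IsConstructible (UD \ O) :=
    ((isCompact_preimage _ hU U₀.is_open').isConstructible (U₀.is_open'.preimage
      (PrimeSpectrum.continuous_comap _))).sdiff (hOc.isConstructible hOo)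
  obtain ⟨D, _, _, _, β, η, hη, hav⟩ := RigidStage.exists_avoid θ₀ hY fun x hx => hx.2 (hLO ⟨x, by
    show PrimeSpectrum.comap (algebraMap A _) x ∈ U₀.carrier
    rw [← (θ₀.restrictScalars A).comp_algebraMap, PrimeSpectrum.comap_comp_apply]
    exact hx.1, rfl⟩)
  have key := germ_eq_of_values (U₀ := (πc I) ⁻¹ᵁ U₀) G hξ u₂ u₁ β ((point _ Ω).comp η) fun w hw => hOE (by
    by_contra hn
    refine hav w ⟨?_, hn⟩
    show PrimeSpectrum.comap (algebraMap A (R ⊗[A] B)) _ ∈ U₀.carrier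
    rw [IsScalarTower.algebraMap_eq A (AdicCompletion I A) (R ⊗[A] B), PrimeSpectrum.comap_comp_apply,
      ← PrimeSpectrum.comap_comp_apply _ β.toRingHom, AlgHom.toRingHom_eq_coe, β.comp_algebraMap]
    exact hw)
  rw [AlgHom.comp_assoc, hη, hθ₀] at key
  rw [← e₂, ← map_chartS_spt hξ iR d₀, ← SetStalk.germ_res]
  refine key.trans ?_
  conv_rhs => rw [← e₁, ← map_objSMap_spt hξ iL d₀, ← SetStalk.germ_res]
  rfl

end Closed

end Point

/-- Base change of direct images along the completion of a henselian pair. -/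
theorem isIso_baseChange (hI : I.FG) (hU : IsCompact U₀.carrier)
    (hUI : ∀ x : PrimeSpectrum A, x ∉ U₀.carrier → I ≤ x.asIdeal) : IsIso (bcMor I U₀ F) := by
  refine SetStalk.isIso_of_stalk _ fun Ω _ _ ξ => ?_
  letI : Algebra (AdicCompletion I A) Ω := (Spec.preimage ξ).hom.toAlgebra
  letI : Algebra A Ω := ((algebraMap (AdicCompletion I A) Ω).comp (algebraMap A _)).toAlgebra
  haveI : IsScalarTower A (AdicCompletion I A) Ω := .of_algebraMap_eq' rfl
  have hξ : ξ = toSpec (AdicCompletion I A) Ω := (Spec.map_preimage ξ).symm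
  by_cases hp : RigidLabel.pt (algebraMap A Ω) ∈ U₀.carrier
  · exact ⟨injective_open F hξ hp, surjective_open F hξ hp⟩
  · exact ⟨injective_closed F hξ hI hU hUI fun x hx => hUI _ hp hx,
      surjective_closed F hξ hI hU hUI fun x hx => hUI _ hp hx⟩

end Groth.Agent.Hens.RigidSheaf
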