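import Groth.Agent.Hens.RigidLabel

/-!
# Labels are constant over absolutely integrally closed domains
-/

set_option autoImplicit false
set_option linter.style.haveILetI false

universe u

open IsLocalRing TensorProduct

namespace Groth.Agent.Hens.RigidLabel

variable {A : Type u} [CommRing A] {I : Ideal A} {ι : Type u} {B : ι → Type u}
  [∀ i, CommRing (B i)] [∀ i, Algebra A (B i)] [∀ i, Algebra.Etale A (B i)]
  (D : Data A I B)

/-- Labels are functorial. -/
theorem in_congr {R C R' C' K K' : Type u} [CommRing R] [Algebra A R] [CommRing C] [Algebra A C]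
    [CommRing R'] [Algebra A R'] [CommRing C'] [Algebra A C'] [Field K] [Algebra A K] [Field K']
    [Algebra A K'] {a : AdicCompletion I A →ₐ[A] C} {h : R →ₐ[A] C}
    {a' : AdicCompletion I A →ₐ[A] C'} {h' : R' →ₐ[A] C'} (g : R →ₐ[A] R') (gC : C →ₐ[A] C')
    (gK : K →ₐ[A] K') (hga : gC.comp a = a') (hgh : h'.comp g = gC.comp h)
    {ψ : R →ₐ[A] K} {ψ' : R' →ₐ[A] K'} (hψ : ψ'.comp g = gK.comp ψ) (hR : RigidAIC.IsAIC R)
    {i : ι} (χ : B i →ₐ[A] K) (Q' : PrimeSpectrum C')
    (hU : PrimeSpectrum.comap (algebraMap A C') Q' ∈ D.U)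
    (hq' : RingHom.ker ψ' ≤ (below h' Q').asIdeal) :
    In D a' h' ψ' (gK.comp χ) Q' ↔ In D a h ψ χ (PrimeSpectrum.comap gC.toRingHom Q') := by
  set Q := PrimeSpectrum.comap gC.toRingHom Q'
  have hb : ∀ r, r ∈ (below h Q).asIdeal ↔ g r ∈ (below h' Q').asIdeal := fun r => by
    show gC (h r) ∈ Q'.asIdeal ↔ h' (g r) ∈ Q'.asIdeal
    rw [← AlgHom.comp_apply, ← hgh, AlgHom.comp_apply]
  have hq : RingHom.ker ψ ≤ (below h Q).asIdeal := fun r hr => (hb r).2 (hq' (by
    rw [RingHom.mem_ker]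
    show ψ' (g r) = 0
    rw [← AlgHom.comp_apply, hψ, AlgHom.comp_apply, show ψ r = 0 from hr, map_zero]))
  have hUQ : PrimeSpectrum.comap (algebraMap A C) Q ∈ D.U := by
    rw [← PrimeSpectrum.comap_comp_apply, AlgHom.toRingHom_eq_coe, gC.comp_algebraMap]; exact hU
  obtain ⟨j, τ, hτ⟩ := exists_memAt D a h hR Q hUQ
  let gq : Localization.AtPrime (below h Q).asIdeal →ₐ[A] Localization.AtPrime (below h' Q').asIdeal :=
    IsLocalization.liftAlgHom (M := (below h Q).asIdeal.primeCompl)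
      (f := (IsScalarTower.toAlgHom A R' _).comp g) fun s =>
        IsLocalization.map_units (Localization.AtPrime (below h' Q').asIdeal)
          (⟨g s, fun hs => s.2 ((hb s).2 hs)⟩ : (below h' Q').asIdeal.primeCompl)
  have hgq : ∀ r, gq (algebraMap R _ r) = algebraMap R' _ (g r) := fun r => IsLocalization.lift_eq _ r
  -- residue fields
  let k₀ : Localization.AtPrime Q.asIdeal →ₐ[A] κ Q' :=
    IsLocalization.liftAlgHom (M := Q.asIdeal.primeCompl) (f := (res Q').comp gC) fun s =>
      IsUnit.mk0 _ fun h0 => s.2 ((res_eq_zero_iff (A := A) Q' _).1 h0)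
  haveI : IsLocalHom k₀.toRingHom := by
    refine ⟨fun x hx => ?_⟩
    obtain ⟨c, s, rfl⟩ := IsLocalization.exists_mk'_eq Q.asIdeal.primeCompl x
    refine (IsLocalization.AtPrime.isUnit_mk'_iff _ _ c s).2 fun hc => ?_
    have h1 := congrArg k₀ (IsLocalization.mk'_spec (Localization.AtPrime Q.asIdeal) c s)
    rw [map_mul, show k₀ (algebraMap C _ c) = res (A := A) Q' (gC c) from IsLocalization.lift_eq _ c,
      (res_eq_zero_iff Q' _).2 (show gC c ∈ Q'.asIdeal from hc), show k₀ (algebraMap C _ s) = res (A := A) Q' (gC s) from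
        IsLocalization.lift_eq _ _] at h1
    exact mul_ne_zero hx.ne_zero (fun h0 => s.2 ((res_eq_zero_iff (A := A) Q' _).1 h0)) h1
  let k : κ Q →ₐ[A] κ Q' :=
    { toRingHom := IsLocalRing.ResidueField.lift k₀.toRingHom
      commutes' := fun r => by
        show IsLocalRing.ResidueField.lift k₀.toRingHom (algebraMap A (κ Q) r) = _
        rw [IsScalarTower.algebraMap_apply A (Localization.AtPrime Q.asIdeal) (κ Q)]
        exact k₀.commutes r }
  have hk : ∀ c, k (res (A := A) Q c) = res (A := A) Q' (gC c) := fun c => by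
    show IsLocalRing.ResidueField.lift k₀.toRingHom (algebraMap C (κ Q) c) = _
    rw [IsScalarTower.algebraMap_apply C (Localization.AtPrime Q.asIdeal) (κ Q)]
    exact IsLocalization.lift_eq _ c
  have e1 : (res Q').comp a' = k.comp ((res Q).comp a) := AlgHom.ext fun x => by
    rw [← hga]; exact (hk (a x)).symm
  have e2 : (locRes h' Q').comp gq = k.comp (locRes h Q) := by
    refine IsLocalization.algHom_ext (below h Q).asIdeal.primeCompl (AlgHom.ext fun r => ?_)
    show locRes h' Q' (gq (algebraMap R _ r)) = k (locRes h Q (algebraMap R _ r))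
    rw [hgq, locRes_algebraMap, locRes_algebraMap, hk]
    exact congrArg (res (A := A) Q') (AlgHom.congr_fun hgh r)
  have hτ' : MemAt D a' h' Q' (gq.comp τ) := by
    show pt₂ ((res Q').comp a') ((locRes h' Q').comp (gq.comp τ)) ∈ _
    have e4 : (locRes h' Q').comp (gq.comp τ) = k.comp ((locRes h Q).comp τ) :=
      AlgHom.ext fun b => AlgHom.congr_fun e2 (τ b)
    rw [e1, e4, pt₂_comp]
    exact hτ
  have e3 : (ext ψ' _ hq').comp gq = gK.comp (ext ψ _ hq) := by
    refine IsLocalization.algHom_ext (below h Q).asIdeal.primeCompl (AlgHom.ext fun r => ?_)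
    show ext ψ' _ hq' (gq (algebraMap R _ r)) = gK (ext ψ _ hq (algebraMap R _ r))
    rw [hgq, ext_algebraMap, ext_algebraMap]
    exact AlgHom.congr_fun hψ r
  rw [in_iff hq hτ, in_iff hq' hτ', ← AlgHom.comp_assoc, e3, AlgHom.comp_assoc, pt₂_comp]

section Constant

variable {R : Type u} [CommRing R] [Algebra A R]

variable (I) in
/-- The structure map of the completion of a test ring. -/
noncomputable def toCompl (R : Type u) [CommRing R] [Algebra A R] :
    AdicCompletion I A →ₐ[A] AdicCompletion (I.map (algebraMap A R)) R :=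
  { toRingHom := RigidAIC.cmap (algebraMap A R) Ideal.le_comap_map
    commutes' := fun r => by
      show RigidAIC.cmap (algebraMap A R) Ideal.le_comap_map (algebraMap A _ r) = _
      rw [RigidAIC.cmap_algebraMap, IsScalarTower.algebraMap_apply A R (AdicCompletion _ R)] }

/-- Maps out of the completion into completions agree on the base. -/
theorem toCompl_unique (hI : I.FG) {S : Type u} [CommRing S] [Algebra A S]
    (f g : AdicCompletion I A →ₐ[A] AdicCompletion (I.map (algebraMap A S)) S) : f = g := by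
  refine AlgHom.ext fun x => AdicCompletion.ext_evalₐ fun n => ?_
  obtain ⟨r, hr⟩ := RigidAdic.exists_sub_mem hI n x
  have key : ∀ f : AdicCompletion I A →ₐ[A] AdicCompletion (I.map (algebraMap A S)) S,
      AdicCompletion.evalₐ _ n (f x) = AdicCompletion.evalₐ _ n (algebraMap A _ r) := by
    intro f
    rw [← sub_eq_zero, ← map_sub, ← RigidAdic.mem_map_pow_iff (hI.map _), ← f.commutes r, ← map_sub]
    have h := Ideal.mem_map_of_mem f.toRingHom hr
    rw [Ideal.map_map, AlgHom.toRingHom_eq_coe, f.comp_algebraMap, IsScalarTower.algebraMap_eq A S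
      (AdicCompletion (I.map (algebraMap A S)) S), ← Ideal.map_map, Ideal.map_pow] at h
    exact h
  rw [key f, key g]

/-- The label at every point of the completion over `U`. -/
def AllIn {K : Type u} [Field K] [Algebra A K] (ψ : R →ₐ[A] K) {i : ι} (χ : B i →ₐ[A] K) : Prop :=
  ∀ Q : PrimeSpectrum (AdicCompletion (I.map (algebraMap A R)) R),
    PrimeSpectrum.comap (algebraMap A _) Q ∈ D.U →
      In D (toCompl I R) (IsScalarTower.toAlgHom A R _) ψ χ Q

theorem U_le_of_notMem (x : PrimeSpectrum R) (hx : PrimeSpectrum.comap (algebraMap A R) x ∉ D.U) :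
    I.map (algebraMap A R) ≤ x.asIdeal :=
  Ideal.map_le_iff_le_comap.2 (D.le_of_notMem _ hx)

/-- Nonempty completions. -/
theorem exists_point (hI : I.FG) [HenselianRing R (I.map (algebraMap A R))] (p : PrimeSpectrum R)
    (hp : PrimeSpectrum.comap (algebraMap A R) p ∈ D.U) :
    ∃ Q : PrimeSpectrum (AdicCompletion (I.map (algebraMap A R)) R),
      PrimeSpectrum.comap (algebraMap A _) Q ∈ D.U ∧
        p.asIdeal ≤ (PrimeSpectrum.comap (algebraMap R _) Q).asIdeal := by
  have e : ∀ Q : PrimeSpectrum (AdicCompletion (I.map (algebraMap A R)) R),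
      PrimeSpectrum.comap (algebraMap A _) Q =
        PrimeSpectrum.comap (algebraMap A R) (PrimeSpectrum.comap (algebraMap R _) Q) := fun Q => by
    rw [← PrimeSpectrum.comap_comp_apply, ← IsScalarTower.algebraMap_eq]
  by_cases hIp : I.map (algebraMap A R) ≤ p.asIdeal
  · obtain ⟨Q, hQ⟩ := RigidAdic.exists_lift_closed p hIp
    exact ⟨Q, by rw [e, hQ]; exact hp, by rw [hQ]⟩
  · obtain ⟨x, hpx, hIx⟩ := RigidClopen.exists_maximal_above
      (J := I.map (algebraMap A R)) HenselianRing.jac p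
    obtain ⟨Q, hQ⟩ := RigidAdic.exists_lift_closed x hIx
    obtain ⟨P, -, hpP, hIP⟩ := RigidClopen.exists_le_lift (hI.map _) p x hpx hIx hIp Q hQ
    exact ⟨P, by rw [e]; exact by_contra fun h => hIP (U_le_of_notMem D _ h), hpP⟩

variable [IsDomain R] [HenselianRing R (I.map (algebraMap A R))]
  {K : Type u} [Field K] [Algebra A K]

theorem isOpen_in (hR : RigidAIC.IsAIC R) {ψ : R →ₐ[A] K} (hψ : Function.Injective ψ) {i : ι}
    (χ : B i →ₐ[A] K) {C : Type u} [CommRing C] [Algebra A C]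
    (a : AdicCompletion I A →ₐ[A] C) (h : R →ₐ[A] C) (b : Prop) :
    IsOpen {Q : PrimeSpectrum C | PrimeSpectrum.comap (algebraMap A C) Q ∈ D.U ∧
      (In D a h ψ χ Q ↔ b)} := by
  rw [isOpen_iff_mem_nhds]
  rintro Q ⟨hQ, hb⟩
  obtain ⟨j, r, τr, N, hN, hQN, hN'⟩ := exists_spread D a h hR Q hQ
  refine Filter.mem_of_superset (hN.mem_nhds hQN) fun Q' hQ' => ⟨(hN' Q' hQ').2.1, Iff.trans ?_ hb⟩
  have hker : ∀ q : PrimeSpectrum R, RingHom.ker ψ ≤ q.asIdeal := fun q => by
    rw [(RingHom.injective_iff_ker_eq_bot ψ).1 hψ]; exact bot_le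
  have key : ∀ Q' ∈ N, ∃ τ : B j →ₐ[A] Localization.AtPrime (below h Q').asIdeal,
      MemAt D a h Q' τ ∧ ∀ (θ : Localization.Away r →ₐ[A] K), (∀ x, θ (algebraMap R _ x) = ψ x) →
        (ext ψ _ (hker (below h Q'))).comp τ = θ.comp τr := by
    intro Q' hQ'
    obtain ⟨hr, -, hmem⟩ := hN' Q' hQ'
    let ρ : Localization.Away r →ₐ[A] Localization.AtPrime (below h Q').asIdeal :=
      IsLocalization.liftAlgHom (M := Submonoid.powers r) (f := IsScalarTower.toAlgHom A R _) (by
        rintro ⟨_, n, rfl⟩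
        exact IsLocalization.map_units (Localization.AtPrime (below h Q').asIdeal)
          (⟨r ^ n, (below h Q').asIdeal.primeCompl.pow_mem hr n⟩ : (below h Q').asIdeal.primeCompl))
    have hρ : ∀ x, ρ (algebraMap R _ x) = algebraMap R _ x := fun x => IsLocalization.lift_eq _ x
    refine ⟨ρ.comp τr, hmem ρ hρ, fun θ hθ => ?_⟩
    rw [← AlgHom.comp_assoc]
    congr 1
    refine IsLocalization.algHom_ext (Submonoid.powers r) (AlgHom.ext fun x => ?_)
    show ext ψ _ (hker _) (ρ (algebraMap R _ x)) = θ (algebraMap R _ x)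
    rw [hρ, ext_algebraMap, hθ]
  obtain ⟨hr, -, -⟩ := hN' Q hQN
  have hψr : ψ r ≠ 0 := fun h0 => hr (hker _ h0)
  let θ : Localization.Away r →ₐ[A] K :=
    IsLocalization.liftAlgHom (M := Submonoid.powers r) (f := ψ) (by
      rintro ⟨_, n, rfl⟩
      show IsUnit (ψ (r ^ n))
      rw [map_pow]
      exact (IsUnit.mk0 _ hψr).pow n)
  have hθ : ∀ x, θ (algebraMap R _ x) = ψ x := fun x => IsLocalization.lift_eq _ x
  obtain ⟨τ, hτ, hτθ⟩ := key Q' hQ'
  obtain ⟨τ₀, hτ₀, hτ₀θ⟩ := key Q hQN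
  rw [in_iff (hker _) hτ, in_iff (hker _) hτ₀, hτθ θ hθ, hτ₀θ θ hθ]

/-- On an absolutely integrally closed domain the label is constant on every henselian test ring. -/
theorem in_iff_allIn (hI : I.FG) (hR : RigidAIC.IsAIC R) {ψ : R →ₐ[A] K} (hψ : Function.Injective ψ)
    {i : ι} (χ : B i →ₐ[A] K) {C : Type u} [CommRing C] [Algebra A C]
    [HenselianRing C (I.map (algebraMap A C))] (a : AdicCompletion I A →ₐ[A] C) (h : R →ₐ[A] C)
    (Q : PrimeSpectrum C) (hQ : PrimeSpectrum.comap (algebraMap A C) Q ∈ D.U) :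
    In D a h ψ χ Q ↔ AllIn D ψ χ := by
  set J := I.map (algebraMap A R)
  let aR := toCompl I R
  let hR' : R →ₐ[A] AdicCompletion J R := IsScalarTower.toAlgHom A R _
  let UR : Set (PrimeSpectrum R) := PrimeSpectrum.comap (algebraMap A R) ⁻¹' D.U
  have hcU : ∀ Q' : PrimeSpectrum (AdicCompletion J R),
      PrimeSpectrum.comap (algebraMap A _) Q' ∈ D.U ↔ PrimeSpectrum.comap (algebraMap R _) Q' ∈ UR := by
    intro Q'
    show _ ↔ PrimeSpectrum.comap (algebraMap A R) (PrimeSpectrum.comap _ Q') ∈ D.U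
    rw [← PrimeSpectrum.comap_comp_apply, ← IsScalarTower.algebraMap_eq]
  -- constancy on the completion of `R`
  have hconst : AllIn D ψ χ ∨ ∀ Q' : PrimeSpectrum (AdicCompletion J R),
      PrimeSpectrum.comap (algebraMap A _) Q' ∈ D.U → ¬ In D aR hR' ψ χ Q' := by
    obtain ⟨V, V', hV, hV', hd, hc, hpre⟩ := RigidClopen.exists_clopen (hI.map (algebraMap A R))
      (D.isOpen_U.preimage (PrimeSpectrum.continuous_comap _)) (U_le_of_notMem D)
      (isOpen_in D hR hψ χ aR hR' True) (isOpen_in D hR hψ χ aR hR' False)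
      (Set.disjoint_left.2 fun Q' h1 h2 => h2.2.1 (h1.2.2 trivial))
      (Set.ext fun Q' => by
        constructor
        · rintro (h1 | h1) <;> exact (hcU Q').1 h1.1
        · intro h1
          by_cases h2 : In D aR hR' ψ χ Q'
          exacts [Or.inl ⟨(hcU Q').2 h1, iff_true_intro h2⟩, Or.inr ⟨(hcU Q').2 h1, iff_false_intro h2⟩])
    have hdom : ∀ W : Set (PrimeSpectrum R), IsOpen W → W.Nonempty →
        (⟨⊥, Ideal.isPrime_bot⟩ : PrimeSpectrum R) ∈ W := fun W hW ⟨x, hx⟩ =>
      ((PrimeSpectrum.le_iff_specializes ⟨⊥, Ideal.isPrime_bot⟩ x).1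
        (show (⊥ : Ideal R) ≤ x.asIdeal from bot_le)).mem_open hW hx
    rcases Set.eq_empty_or_nonempty V' with hV'e | hV'ne
    · refine Or.inl fun Q' hQ' => ?_
      have h1 : PrimeSpectrum.comap (algebraMap R _) Q' ∈ V :=
        (hc.ge ((hcU Q').1 hQ')).resolve_right (by rw [hV'e]; exact id)
      exact (hpre.le h1).2.2 trivial
    · refine Or.inr fun Q' hQ' hin => ?_
      have h1 : PrimeSpectrum.comap (algebraMap R _) Q' ∈ V := hpre.ge ⟨hQ', iff_true_intro hin⟩
      exact Set.disjoint_left.1 hd (hdom V hV ⟨_, h1⟩) (hdom V' hV' hV'ne)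
  -- transfer to `C`
  set JC := I.map (algebraMap A C)
  let aC := toCompl I C
  let gC : AdicCompletion J R →ₐ[A] AdicCompletion JC C :=
    { toRingHom := RigidAIC.cmap h.toRingHom (Ideal.map_le_iff_le_comap.2 fun x hx => by
        show h (algebraMap A R x) ∈ JC
        rw [h.commutes]
        exact Ideal.mem_map_of_mem _ hx)
      commutes' := fun r => by
        show RigidAIC.cmap h.toRingHom _ (algebraMap A _ r) = _
        rw [IsScalarTower.algebraMap_apply A R (AdicCompletion J R), RigidAIC.cmap_algebraMap,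
          IsScalarTower.algebraMap_apply A C (AdicCompletion JC C)]
        exact congrArg _ (h.commutes r) }
  let eC : C →ₐ[A] AdicCompletion JC C := IsScalarTower.toAlgHom A C _
  have hpoint : ∀ Q'' : PrimeSpectrum (AdicCompletion JC C),
      PrimeSpectrum.comap (algebraMap A _) Q'' ∈ D.U →
        (In D a h ψ χ (PrimeSpectrum.comap (algebraMap C _) Q'') ↔
          In D aR hR' ψ χ (PrimeSpectrum.comap gC.toRingHom Q'')) := by
    intro Q'' hU
    have hker : RingHom.ker ψ ≤ (below (eC.comp h) Q'').asIdeal := by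
      rw [(RingHom.injective_iff_ker_eq_bot ψ).1 hψ]; exact bot_le
    have e1 := in_congr D (a := a) (h := h) (a' := aC) (h' := eC.comp h) (AlgHom.id A R) eC
      (AlgHom.id A K) (toCompl_unique hI _ _) (AlgHom.comp_id _) (ψ := ψ) (ψ' := ψ)
      (AlgHom.ext fun _ => rfl) hR χ Q'' hU hker
    have e2 := in_congr D (a := aR) (h := hR') (a' := aC) (h' := eC.comp h) (AlgHom.id A R) gC
      (AlgHom.id A K) (toCompl_unique hI _ _) (AlgHom.ext fun r => by
        exact (RigidAIC.cmap_algebraMap h.toRingHom (Ideal.map_le_iff_le_comap.2 fun x hx => by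
          show h (algebraMap A R x) ∈ JC
          rw [h.commutes]
          exact Ideal.mem_map_of_mem _ hx) r).symm) (ψ := ψ) (ψ' := ψ) (AlgHom.ext fun _ => rfl) hR χ Q'' hU hker
    exact e1.symm.trans e2
  have hUgC : ∀ Q'' : PrimeSpectrum (AdicCompletion JC C),
      PrimeSpectrum.comap (algebraMap A _) Q'' ∈ D.U →
        PrimeSpectrum.comap (algebraMap A _) (PrimeSpectrum.comap gC.toRingHom Q'') ∈ D.U := fun Q'' hU => by
    rw [← PrimeSpectrum.comap_comp_apply, AlgHom.toRingHom_eq_coe, gC.comp_algebraMap]; exact hU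
  have hUC : ∀ x : PrimeSpectrum C, x ∉ PrimeSpectrum.comap (algebraMap A C) ⁻¹' D.U → JC ≤ x.asIdeal :=
    fun x hx => Ideal.map_le_iff_le_comap.2 (D.le_of_notMem _ hx)
  have hcUC : ∀ Q'' : PrimeSpectrum (AdicCompletion JC C),
      PrimeSpectrum.comap (algebraMap A C) (PrimeSpectrum.comap (algebraMap C _) Q'') ∈ D.U →
        PrimeSpectrum.comap (algebraMap A _) Q'' ∈ D.U := fun Q'' h1 => by
    rwa [IsScalarTower.algebraMap_eq A C (AdicCompletion JC C), PrimeSpectrum.comap_comp_apply]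
  rcases hconst with hall | hnone
  · refine iff_of_true (by_contra fun hn => ?_) hall
    refine RigidClopen.subset_of_preimage_subset (hI.map (algebraMap A C))
      (U := PrimeSpectrum.comap (algebraMap A C) ⁻¹' D.U)
      (V := {x | PrimeSpectrum.comap (algebraMap A C) x ∈ D.U ∧ (In D a h ψ χ x ↔ False)}) (W := ∅)
      hUC (fun x hx => hx.1) ?_ isOpen_empty ?_ ⟨hQ, iff_false_intro hn⟩
    · have : PrimeSpectrum.comap (algebraMap A C) ⁻¹' D.U \
          {x | PrimeSpectrum.comap (algebraMap A C) x ∈ D.U ∧ (In D a h ψ χ x ↔ False)} =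
          {x | PrimeSpectrum.comap (algebraMap A C) x ∈ D.U ∧ (In D a h ψ χ x ↔ True)} := by
        ext x
        exact ⟨fun ⟨h1, h2⟩ => ⟨h1, iff_true_intro (by_contra fun h3 => h2 ⟨h1, iff_false_intro h3⟩)⟩,
          fun ⟨h1, h2⟩ => ⟨h1, fun h3 => h3.2.1 (h2.2 trivial)⟩⟩
      rw [this]
      exact isOpen_in D hR hψ χ a h True
    · rintro Q'' ⟨h1, h2⟩
      exact (h2.1 ((hpoint Q'' (hcUC Q'' h1)).2 (hall _ (hUgC Q'' (hcUC Q'' h1))))).elim
  · refine iff_of_false (fun hin => ?_) fun hall => ?_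
    · refine RigidClopen.subset_of_preimage_subset (hI.map (algebraMap A C))
        (U := PrimeSpectrum.comap (algebraMap A C) ⁻¹' D.U)
        (V := {x | PrimeSpectrum.comap (algebraMap A C) x ∈ D.U ∧ (In D a h ψ χ x ↔ True)}) (W := ∅)
        hUC (fun x hx => hx.1) ?_ isOpen_empty ?_ ⟨hQ, iff_true_intro hin⟩
      · have : PrimeSpectrum.comap (algebraMap A C) ⁻¹' D.U \
            {x | PrimeSpectrum.comap (algebraMap A C) x ∈ D.U ∧ (In D a h ψ χ x ↔ True)} =
            {x | PrimeSpectrum.comap (algebraMap A C) x ∈ D.U ∧ (In D a h ψ χ x ↔ False)} := by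
          ext x
          exact ⟨fun ⟨h1, h2⟩ => ⟨h1, iff_false_intro fun h3 => h2 ⟨h1, iff_true_intro h3⟩⟩,
            fun ⟨h1, h2⟩ => ⟨h1, fun h3 => h2.1 (h3.2.2 trivial)⟩⟩
        rw [this]
        exact isOpen_in D hR hψ χ a h False
      · rintro Q'' ⟨h1, h2⟩
        exact (hnone _ (hUgC Q'' (hcUC Q'' h1)) ((hpoint Q'' (hcUC Q'' h1)).1 (h2.2 trivial))).elim
    · -- a point over `U` exists
      have hx : PrimeSpectrum.comap (algebraMap A R) (below h Q) ∈ D.U := by
        rw [← PrimeSpectrum.comap_comp_apply, AlgHom.toRingHom_eq_coe, h.comp_algebraMap]; exact hQ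
      obtain ⟨Q₀, hQ₀, -⟩ := exists_point D hI (below h Q) hx
      exact hnone Q₀ hQ₀ (hall Q₀ hQ₀)

end Constant

end Groth.Agent.Hens.RigidLabel
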