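import Groth.Agent.Hens.RigidAIC
import Groth.Agent.Hens.RigidClopen
import Groth.Agent.Hensel.Local
import Groth.Agent.EtSection.AbsFlat
import Mathlib.RingTheory.Etale.QuasiFinite

/-!
# Descent of open classes of etale covers along the completion of a henselian pair
-/

set_option autoImplicit false
set_option linter.style.haveILetI false

universe u

open IsLocalRing TensorProduct

namespace Groth.Agent.Hens.RigidLabel

variable {A : Type u} [CommRing A] {I : Ideal A} {ι : Type u} {B : ι → Type u}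
  [∀ i, CommRing (B i)] [∀ i, Algebra A (B i)]

/-- The point defined by a map to a field. -/
def pt {S K : Type*} [CommRing S] [Field K] (f : S →+* K) : PrimeSpectrum S :=
  ⟨RingHom.ker f, RingHom.ker_isPrime f⟩

theorem pt_comp {S K K' : Type*} [CommRing S] [Field K] [Field K'] (g : K →+* K') (f : S →+* K) :
    pt (g.comp f) = pt f :=
  PrimeSpectrum.ext (RingHom.ker_comp_of_injective f g.injective)

/-- The point defined by a pair of maps to a field. -/
noncomputable def pt₂ {S T K : Type u} [CommRing S] [CommRing T] [Algebra A S] [Algebra A T] [Field K]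
    [Algebra A K] (f : S →ₐ[A] K) (g : T →ₐ[A] K) : PrimeSpectrum (S ⊗[A] T) :=
  pt (Algebra.TensorProduct.productMap f g).toRingHom

theorem productMap_comp {S T R R' : Type u} [CommRing S] [CommRing T] [Algebra A S] [Algebra A T]
    [CommRing R] [Algebra A R] [CommRing R'] [Algebra A R'] (k : R →ₐ[A] R') (f : S →ₐ[A] R)
    (g : T →ₐ[A] R) : Algebra.TensorProduct.productMap (k.comp f) (k.comp g) =
      k.comp (Algebra.TensorProduct.productMap f g) :=
  Algebra.TensorProduct.ext' fun x y => by simp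

theorem pt₂_comp {S T K K' : Type u} [CommRing S] [CommRing T] [Algebra A S] [Algebra A T] [Field K]
    [Algebra A K] [Field K'] [Algebra A K'] (k : K →ₐ[A] K') (f : S →ₐ[A] K) (g : T →ₐ[A] K) :
    pt₂ (k.comp f) (k.comp g) = pt₂ f g := by
  rw [pt₂, productMap_comp]
  exact pt_comp k.toRingHom _

/-- Pairs valued in a local ring: the generic pair generises the closed pair. -/
theorem pt₂_mem_of_closed {S T L K κ : Type u} [CommRing S] [CommRing T] [Algebra A S] [Algebra A T]
    [CommRing L] [IsLocalRing L] [Algebra A L] [Field K] [Algebra A K] [Field κ] [Algebra A κ]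
    (f : L →ₐ[A] K) (g : L →ₐ[A] κ) [IsLocalHom g] (τ : S →ₐ[A] L) (τ' : T →ₐ[A] L)
    {O : Set (PrimeSpectrum (S ⊗[A] T))} (hO : IsOpen O) (h : pt₂ (g.comp τ) (g.comp τ') ∈ O) :
    pt₂ (f.comp τ) (f.comp τ') ∈ O := by
  refine Specializes.mem_open ?_ hO h
  refine (PrimeSpectrum.le_iff_specializes _ _).1 ?_
  intro x hx
  have hx' : f (Algebra.TensorProduct.productMap τ τ' x) = 0 := by
    have : Algebra.TensorProduct.productMap (f.comp τ) (f.comp τ') x = 0 := hx
    rwa [productMap_comp] at this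
  show Algebra.TensorProduct.productMap (g.comp τ) (g.comp τ') x = 0
  rw [productMap_comp]
  by_contra hne
  exact (RingHom.ker_ne_top f.toRingHom) (Ideal.eq_top_of_isUnit_mem _ (RingHom.mem_ker.2 hx')
    ((isUnit_map_iff g _).1 (isUnit_iff_ne_zero.2 hne)))

variable (A I B) in
/-- An open family of classes on etale covers over the completion. -/
structure Data where
  U : Set (PrimeSpectrum A)
  isOpen_U : IsOpen U
  isCompact_U : IsCompact U
  le_of_notMem : ∀ x : PrimeSpectrum A, x ∉ U → I ≤ x.asIdeal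
  Rel : ∀ i j, Set (PrimeSpectrum (B i ⊗[A] B j))
  isOpen_Rel : ∀ i j, IsOpen (Rel i j)
  Mem : ∀ i, Set (PrimeSpectrum (AdicCompletion I A ⊗[A] B i))
  isOpen_Mem : ∀ i, IsOpen (Mem i)
  mem_U : ∀ i (w : PrimeSpectrum (B i)), PrimeSpectrum.comap (algebraMap A (B i)) w ∈ U
  rel_symm : ∀ (K : Type u) [Field K] [Algebra A K] (i j : ι) (a : B i →ₐ[A] K) (b : B j →ₐ[A] K),
    pt₂ a b ∈ Rel i j → pt₂ b a ∈ Rel j i
  rel_trans : ∀ (K : Type u) [Field K] [Algebra A K] (i j k : ι) (a : B i →ₐ[A] K) (b : B j →ₐ[A] K)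
    (c : B k →ₐ[A] K), pt₂ a b ∈ Rel i j → pt₂ b c ∈ Rel j k → pt₂ a c ∈ Rel i k
  mem_mem : ∀ (K : Type u) [Field K] [Algebra A K] (φ : AdicCompletion I A →ₐ[A] K) (i j : ι)
    (a : B i →ₐ[A] K) (b : B j →ₐ[A] K), pt₂ φ a ∈ Mem i → pt₂ φ b ∈ Mem j → pt₂ a b ∈ Rel i j
  mem_rel : ∀ (K : Type u) [Field K] [Algebra A K] (φ : AdicCompletion I A →ₐ[A] K) (i j : ι)
    (a : B i →ₐ[A] K) (b : B j →ₐ[A] K), pt₂ φ a ∈ Mem i → pt₂ a b ∈ Rel i j → pt₂ φ b ∈ Mem j
  surj : ∀ P : PrimeSpectrum (AdicCompletion I A),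
    PrimeSpectrum.comap (algebraMap A _) P ∈ U → ∃ (i : ι) (z : PrimeSpectrum (AdicCompletion I A ⊗[A] B i)),
      z ∈ Mem i ∧ PrimeSpectrum.comap Algebra.TensorProduct.includeLeftRingHom z = P

section TestObject

variable {R C : Type u} [CommRing R] [Algebra A R] [CommRing C] [Algebra A C]

/-- The residue field at `Q`. -/
abbrev κ (Q : PrimeSpectrum C) : Type u := ResidueField (Localization.AtPrime Q.asIdeal)

/-- Evaluation at `Q`. -/
noncomputable def res (Q : PrimeSpectrum C) : C →ₐ[A] κ Q :=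
  IsScalarTower.toAlgHom A C (κ Q)

/-- The prime of `R` below `Q`. -/
abbrev below (h : R →ₐ[A] C) (Q : PrimeSpectrum C) : PrimeSpectrum R := PrimeSpectrum.comap h.toRingHom Q

/-- The local map at `Q`, followed by evaluation. -/
noncomputable def locRes (h : R →ₐ[A] C) (Q : PrimeSpectrum C) :
    Localization.AtPrime (below h Q).asIdeal →ₐ[A] κ Q :=
  IsLocalization.liftAlgHom (M := (below h Q).asIdeal.primeCompl) (f := (res (A := A) Q).comp h) fun s => by
    show IsUnit (algebraMap C (κ Q) (h s))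
    rw [IsScalarTower.algebraMap_apply C (Localization.AtPrime Q.asIdeal) (κ Q)]
    exact (IsLocalization.map_units (Localization.AtPrime Q.asIdeal)
      (⟨h s, s.2⟩ : Q.asIdeal.primeCompl)).map _

theorem locRes_algebraMap (h : R →ₐ[A] C) (Q : PrimeSpectrum C) (r : R) :
    locRes h Q (algebraMap R _ r) = res (A := A) Q (h r) :=
  IsLocalization.lift_eq _ r

theorem res_eq_zero_iff (Q : PrimeSpectrum C) (c : C) : res (A := A) Q c = 0 ↔ c ∈ Q.asIdeal := by
  show algebraMap C (κ Q) c = 0 ↔ _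
  rw [IsScalarTower.algebraMap_apply C (Localization.AtPrime Q.asIdeal) (κ Q),
    ResidueField.algebraMap_eq, residue_eq_zero_iff]
  exact IsLocalization.AtPrime.to_map_mem_maximal_iff (Localization.AtPrime Q.asIdeal) Q.asIdeal c

instance isLocalHom_locRes (h : R →ₐ[A] C) (Q : PrimeSpectrum C) : IsLocalHom (locRes h Q) := by
  refine ⟨fun x hx => ?_⟩
  obtain ⟨r, s, rfl⟩ := IsLocalization.exists_mk'_eq (below h Q).asIdeal.primeCompl x
  refine (IsLocalization.AtPrime.isUnit_mk'_iff _ _ r s).2 fun hr => ?_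
  have h1 : res (A := A) Q (h r) = 0 := (res_eq_zero_iff Q _).2 hr
  rw [← locRes_algebraMap h Q, ← IsLocalization.mk'_spec (M := (below h Q).asIdeal.primeCompl)
    (Localization.AtPrime (below h Q).asIdeal) r s, map_mul] at h1
  rw [locRes_algebraMap] at h1
  rcases mul_eq_zero.1 h1 with h2 | h2
  · exact hx.ne_zero h2
  · exact s.2 ((res_eq_zero_iff Q _).1 h2)

/-- Extension of a field point to the local ring at a prime above its kernel. -/
noncomputable def ext {K : Type u} [Field K] [Algebra A K] (ψ : R →ₐ[A] K) (q : PrimeSpectrum R)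
    (hq : RingHom.ker ψ ≤ q.asIdeal) : Localization.AtPrime q.asIdeal →ₐ[A] K :=
  IsLocalization.liftAlgHom (M := q.asIdeal.primeCompl) (f := ψ) fun s =>
    isUnit_iff_ne_zero.2 fun h => s.2 (hq h)

theorem ext_algebraMap {K : Type u} [Field K] [Algebra A K] (ψ : R →ₐ[A] K) (q : PrimeSpectrum R)
    (hq : RingHom.ker ψ ≤ q.asIdeal) (r : R) : ext ψ q hq (algebraMap R _ r) = ψ r :=
  IsLocalization.lift_eq _ r

variable (D : Data A I B) (a : AdicCompletion I A →ₐ[A] C) (h : R →ₐ[A] C)

/-- The lift `τ` at `Q` lies in the given class. -/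
def MemAt (Q : PrimeSpectrum C) {j : ι} (τ : B j →ₐ[A] Localization.AtPrime (below h Q).asIdeal) : Prop :=
  pt₂ ((res Q).comp a) ((locRes h Q).comp τ) ∈ D.Mem j

/-- The point `χ` is in the class of `Q`. -/
def In {K : Type u} [Field K] [Algebra A K] (ψ : R →ₐ[A] K) {i : ι} (χ : B i →ₐ[A] K)
    (Q : PrimeSpectrum C) : Prop :=
  ∃ (hq : RingHom.ker ψ ≤ (below h Q).asIdeal) (j : ι)
    (τ : B j →ₐ[A] Localization.AtPrime (below h Q).asIdeal),
    MemAt D a h Q τ ∧ pt₂ ((ext ψ _ hq).comp τ) χ ∈ D.Rel j i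

variable {D a h}

theorem rel_of_memAt {K : Type u} [Field K] [Algebra A K] {ψ : R →ₐ[A] K} {Q : PrimeSpectrum C}
    (hq : RingHom.ker ψ ≤ (below h Q).asIdeal) {j k : ι}
    {τ : B j →ₐ[A] Localization.AtPrime (below h Q).asIdeal}
    {τ' : B k →ₐ[A] Localization.AtPrime (below h Q).asIdeal}
    (hτ : MemAt D a h Q τ) (hτ' : MemAt D a h Q τ') :
    pt₂ ((ext ψ _ hq).comp τ) ((ext ψ _ hq).comp τ') ∈ D.Rel j k :=
  pt₂_mem_of_closed (ext ψ _ hq) (locRes h Q) τ τ' (D.isOpen_Rel j k)
    (D.mem_mem _ _ _ _ _ _ hτ hτ')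

theorem in_iff {K : Type u} [Field K] [Algebra A K] {ψ : R →ₐ[A] K} {Q : PrimeSpectrum C}
    (hq : RingHom.ker ψ ≤ (below h Q).asIdeal) {j : ι}
    {τ : B j →ₐ[A] Localization.AtPrime (below h Q).asIdeal} (hτ : MemAt D a h Q τ) {i : ι}
    (χ : B i →ₐ[A] K) : In D a h ψ χ Q ↔ pt₂ ((ext ψ _ hq).comp τ) χ ∈ D.Rel j i :=
  ⟨fun ⟨_, k, τ', hτ', hr⟩ => D.rel_trans K _ _ _ _ _ _ (rel_of_memAt hq hτ hτ') hr,
    fun hr => ⟨hq, j, τ, hτ, hr⟩⟩

variable (D a h)

set_option synthInstance.maxHeartbeats 200000 in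
set_option maxHeartbeats 800000 in
/-- Every point over `U` carries a lift in the given class. -/
theorem exists_memAt [∀ i, Algebra.Etale A (B i)] (hR : RigidAIC.IsAIC R) (Q : PrimeSpectrum C)
    (hQ : PrimeSpectrum.comap (algebraMap A C) Q ∈ D.U) :
    ∃ (j : ι) (τ : B j →ₐ[A] Localization.AtPrime (below h Q).asIdeal), MemAt D a h Q τ := by
  obtain ⟨j, z, hz, hzP⟩ := D.surj (PrimeSpectrum.comap a.toRingHom Q) (by
    rw [← PrimeSpectrum.comap_comp_apply, AlgHom.toRingHom_eq_coe, a.comp_algebraMap]; exact hQ)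
  refine ⟨j, ?_⟩
  set Ah := AdicCompletion I A
  set q := below h Q
  haveI : HenselianLocalRing (Localization.AtPrime q.asIdeal) :=
    RigidAIC.henselianLocalRing_of_isAIC (RigidAIC.isAIC_localization hR q.asIdeal.primeCompl _)
  haveI : IsAlgClosed (ResidueField (Localization.AtPrime q.asIdeal)) :=
    RigidAIC.isAlgClosed_residueField (RigidAIC.isAIC_localization hR q.asIdeal.primeCompl _)
  let L := AlgebraicClosure (κ Q)
  -- the point over `z`
  let P : Ideal Ah := z.asIdeal.comap (algebraMap Ah (Ah ⊗[A] B j))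
  haveI : z.asIdeal.LiesOver P := ⟨rfl⟩
  have hPQ : P = Q.asIdeal.comap a.toRingHom := congrArg PrimeSpectrum.asIdeal hzP
  let φ : Ah →ₐ[A] L := (IsScalarTower.toAlgHom A (κ Q) L).comp ((res Q).comp a)
  have hφ : ∀ x, φ x = 0 ↔ x ∈ P := fun x => by
    rw [hPQ, Ideal.mem_comap, AlgHom.toRingHom_eq_coe, RingHom.coe_coe, ← res_eq_zero_iff (A := A)]
    exact map_eq_zero (algebraMap (κ Q) L)
  let φP : P.ResidueField →+* L := Ideal.ResidueField.lift P φ.toRingHom
    (fun x hx => RingHom.mem_ker.2 ((hφ x).2 hx))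
    (fun x hx => IsUnit.mk0 _ fun h0 => hx ((hφ x).1 h0))
  letI : Algebra P.ResidueField L := φP.toAlgebra
  letI := Localization.AtPrime.algebraOfLiesOver P z.asIdeal
  haveI : Module.Finite P.ResidueField z.asIdeal.ResidueField := inferInstance
  let e : z.asIdeal.ResidueField →ₐ[P.ResidueField] L := IsAlgClosed.lift
  let Φ : Ah ⊗[A] B j →+* L := e.toRingHom.comp (algebraMap (Ah ⊗[A] B j) z.asIdeal.ResidueField)
  have hΦl : ∀ x : Ah, Φ (x ⊗ₜ 1) = φ x := fun x => by
    show e (algebraMap (Ah ⊗[A] B j) z.asIdeal.ResidueField (algebraMap Ah (Ah ⊗[A] B j) x)) = φ x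
    rw [← IsScalarTower.algebraMap_apply, IsScalarTower.algebraMap_apply Ah P.ResidueField
      z.asIdeal.ResidueField, AlgHom.commutes]
    exact Ideal.ResidueField.lift_algebraMap _ _ _ _ _
  have hΦker : RingHom.ker Φ = z.asIdeal := by
    rw [RingHom.ker_comp_of_injective _ e.toRingHom.injective, Ideal.ker_algebraMap_residueField]
  let χ₀ : B j →ₐ[A] L :=
    { toRingHom := Φ.comp Algebra.TensorProduct.includeRight.toRingHom
      commutes' := fun r => by
        show Φ ((1 : Ah) ⊗ₜ algebraMap A (B j) r) = algebraMap A L r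
        rw [show (1 : Ah) ⊗ₜ[A] algebraMap A (B j) r = algebraMap A Ah r ⊗ₜ 1 by
          rw [Algebra.algebraMap_eq_smul_one, Algebra.algebraMap_eq_smul_one, smul_tmul], hΦl]
        exact φ.commutes r }
  have hχ₀ : (Algebra.TensorProduct.productMap φ χ₀).toRingHom = Φ := by
    refine RingHom.ext fun x => ?_
    induction x using TensorProduct.induction_on with
    | zero => simp
    | tmul x y =>
      show φ x * χ₀ y = Φ (x ⊗ₜ y)
      rw [← hΦl, show (x ⊗ₜ[A] y : Ah ⊗[A] B j) = x ⊗ₜ 1 * 1 ⊗ₜ y by simp, map_mul]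
      rfl
    | add x y hx hy => rw [map_add, hx, hy, map_add]
  -- it takes values in the residue field of `R` at `q`
  let g : Localization.AtPrime q.asIdeal →ₐ[A] L := (IsScalarTower.toAlgHom A (κ Q) L).comp (locRes h Q)
  haveI hgl : IsLocalHom g.toRingHom := ⟨fun x hx => IsUnit.of_map (locRes h Q) x
    (IsUnit.of_map (algebraMap (κ Q) L) _ hx)⟩
  let gres : ResidueField (Localization.AtPrime q.asIdeal) →+* L := IsLocalRing.ResidueField.lift g.toRingHom
  letI : Algebra (ResidueField (Localization.AtPrime q.asIdeal)) L := gres.toAlgebra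
  haveI : IsScalarTower A (ResidueField (Localization.AtPrime q.asIdeal)) L := IsScalarTower.of_algebraMap_eq fun r => by
    show _ = gres (algebraMap A _ r)
    rw [IsScalarTower.algebraMap_apply A (Localization.AtPrime q.asIdeal)
      (ResidueField (Localization.AtPrime q.asIdeal))]
    exact (g.commutes r).symm
  let κq := ResidueField (Localization.AtPrime q.asIdeal)
  haveI : Module.Finite κq (κq ⊗[A] B j) := Algebra.FormallyUnramified.finite_of_free κq _
  have hrange : ∀ b, ∃ y : κq, algebraMap κq L y = χ₀ b := by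
    intro b
    let T : κq ⊗[A] B j →ₐ[κq] L := Algebra.TensorProduct.lift (Algebra.ofId κq L) χ₀ fun _ _ => .all _ _
    have hint : IsIntegral κq (χ₀ b) := by
      have := (Algebra.IsIntegral.isIntegral (R := κq) ((1 : κq) ⊗ₜ[A] b)).map T
      simpa [T] using this
    exact minpoly.degree_eq_one_iff.1 (IsAlgClosed.degree_eq_one_of_irreducible κq (minpoly.irreducible hint))
  choose σ hσ using hrange
  let σ' : B j →ₐ[A] κq :=
    { toFun := σ
      map_one' := (algebraMap κq L).injective (by rw [hσ, map_one, map_one])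
      map_mul' := fun x y => (algebraMap κq L).injective (by rw [hσ, map_mul, map_mul, hσ, hσ])
      map_zero' := (algebraMap κq L).injective (by rw [hσ, map_zero, map_zero])
      map_add' := fun x y => (algebraMap κq L).injective (by rw [hσ, map_add, map_add, hσ, hσ])
      commutes' := fun r => (algebraMap κq L).injective (by
        rw [hσ, AlgHom.commutes, ← IsScalarTower.algebraMap_apply]) }
  obtain ⟨τ, hτ, -⟩ := Groth.Agent.Hensel.existsUnique_algHom_residue (B j) σ'
  refine ⟨τ, ?_⟩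
  show pt₂ ((res Q).comp a) ((locRes h Q).comp τ) ∈ D.Mem j
  rw [← pt₂_comp (IsScalarTower.toAlgHom A (κ Q) L)]
  have : (IsScalarTower.toAlgHom A (κ Q) L).comp ((locRes h Q).comp τ) = χ₀ := by
    refine AlgHom.ext fun b => ?_
    rw [← hσ b]
    show gres (residue _ (τ b)) = gres (σ' b)
    rw [hτ]
  rw [this]
  have : pt₂ φ χ₀ = z := PrimeSpectrum.ext (by
    show RingHom.ker (Algebra.TensorProduct.productMap φ χ₀).toRingHom = _
    rw [hχ₀, hΦker])
  exact this.symm ▸ hz

/-- A lift in the class spreads over a neighbourhood. -/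
theorem exists_spread [∀ i, Algebra.Etale A (B i)] (hR : RigidAIC.IsAIC R) (Q : PrimeSpectrum C)
    (hQ : PrimeSpectrum.comap (algebraMap A C) Q ∈ D.U) :
    ∃ (j : ι) (r : R) (τr : B j →ₐ[A] Localization.Away r) (N : Set (PrimeSpectrum C)),
      IsOpen N ∧ Q ∈ N ∧ ∀ Q' ∈ N, r ∉ (below h Q').asIdeal ∧
        PrimeSpectrum.comap (algebraMap A C) Q' ∈ D.U ∧
        ∀ ρ : Localization.Away r →ₐ[A] Localization.AtPrime (below h Q').asIdeal,
          (∀ x, ρ (algebraMap R _ x) = algebraMap R _ x) → MemAt D a h Q' (ρ.comp τr) := by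
  obtain ⟨j, τ, hτ⟩ := exists_memAt D a h hR Q hQ
  let τR : R ⊗[A] B j →ₐ[R] Localization.AtPrime (below h Q).asIdeal :=
    Algebra.TensorProduct.lift (Algebra.ofId R _) τ fun _ _ => .all _ _
  obtain ⟨r, hr, φ, hφ⟩ := EtSection.exists_algHom_away (below h Q).asIdeal τR
  let τr : B j →ₐ[A] Localization.Away r := (φ.restrictScalars A).comp Algebra.TensorProduct.includeRight
  let Cr := Localization.Away (h r)
  let θ : Localization.Away r →ₐ[A] Cr :=
    IsLocalization.liftAlgHom (M := Submonoid.powers r) (f := (IsScalarTower.toAlgHom A C Cr).comp h) (by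
      rintro ⟨_, n, rfl⟩
      show IsUnit (algebraMap C Cr (h (r ^ n)))
      rw [map_pow, map_pow]
      exact (IsLocalization.Away.algebraMap_isUnit (h r)).pow n)
  let Θ : AdicCompletion I A ⊗[A] B j →ₐ[A] Cr :=
    Algebra.TensorProduct.productMap ((IsScalarTower.toAlgHom A C Cr).comp a) (θ.comp τr)
  let c := PrimeSpectrum.comap (algebraMap C Cr)
  have key : ∀ (Q' : PrimeSpectrum C) (hr' : r ∉ (below h Q').asIdeal)
      (ρ : Localization.Away r →ₐ[A] Localization.AtPrime (below h Q').asIdeal),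
      (∀ x, ρ (algebraMap R _ x) = algebraMap R _ x) →
      ∀ Q'' : PrimeSpectrum Cr, c Q'' = Q' →
        (MemAt D a h Q' (ρ.comp τr) ↔ PrimeSpectrum.comap Θ.toRingHom Q'' ∈ D.Mem j) := by
    intro Q' hr' ρ hρ Q'' hQ''
    let k : Cr →ₐ[A] κ Q' :=
      IsLocalization.liftAlgHom (M := Submonoid.powers (h r)) (f := res Q') (by
        rintro ⟨_, n, rfl⟩
        show IsUnit (res Q' (h r ^ n))
        rw [map_pow]
        exact (IsUnit.mk0 _ fun h0 => hr' ((res_eq_zero_iff Q' _).1 h0)).pow n)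
    have hk : ∀ c, k (algebraMap C Cr c) = res (A := A) Q' c := fun c => IsLocalization.lift_eq _ c
    have e1 : k.comp ((IsScalarTower.toAlgHom A C Cr).comp a) = (res Q').comp a := AlgHom.ext fun x => hk _
    have e2 : k.comp θ = (locRes h Q').comp ρ := by
      refine IsLocalization.algHom_ext (Submonoid.powers r) (AlgHom.ext fun x => ?_)
      show k (θ (algebraMap R _ x)) = locRes h Q' (ρ (algebraMap R _ x))
      rw [hρ, locRes_algebraMap]
      exact (congrArg k (IsLocalization.lift_eq _ x)).trans (hk _)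
    have hQk : Q'' = pt k.toRingHom := by
      refine PrimeSpectrum.localization_comap_injective Cr (Submonoid.powers (h r)) (hQ''.trans ?_)
      refine PrimeSpectrum.ext (Ideal.ext fun c => ?_)
      show c ∈ Q'.asIdeal ↔ k (algebraMap C Cr c) = 0
      rw [hk, res_eq_zero_iff]
    have e3 : (locRes h Q').comp (ρ.comp τr) = k.comp (θ.comp τr) :=
      AlgHom.ext fun b => (AlgHom.congr_fun e2 (τr b)).symm
    have : pt₂ ((res Q').comp a) ((locRes h Q').comp (ρ.comp τr)) = PrimeSpectrum.comap Θ.toRingHom Q'' := by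
      rw [hQk, ← e1, e3, pt₂, productMap_comp]
      rfl
    unfold MemAt
    rw [this]
  have hlift : ∀ Q' : PrimeSpectrum C, r ∉ (below h Q').asIdeal → ∃ Q'', c Q'' = Q' := fun Q' hr' =>
    (PrimeSpectrum.localization_away_comap_range Cr (h r)).ge hr'
  refine ⟨j, r, τr, c '' (PrimeSpectrum.comap Θ.toRingHom ⁻¹' D.Mem j) ∩
    PrimeSpectrum.comap (algebraMap A C) ⁻¹' D.U, ?_, ?_, ?_⟩
  · exact ((PrimeSpectrum.localization_away_isOpenEmbedding Cr (h r)).isOpenMap _
      ((D.isOpen_Mem j).preimage (PrimeSpectrum.continuous_comap _))).inter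
      (D.isOpen_U.preimage (PrimeSpectrum.continuous_comap _))
  · obtain ⟨Q'', hQ''⟩ := hlift Q hr
    let ρ : Localization.Away r →ₐ[R] Localization.AtPrime (below h Q).asIdeal :=
      IsLocalization.liftAlgHom (M := Submonoid.powers r) (f := Algebra.ofId R _) (by
        rintro ⟨_, n, rfl⟩
        exact IsLocalization.map_units (Localization.AtPrime (below h Q).asIdeal)
          (⟨r ^ n, (below h Q).asIdeal.primeCompl.pow_mem hr n⟩ : (below h Q).asIdeal.primeCompl))
    have hτr : (ρ.restrictScalars A).comp τr = τ := AlgHom.ext fun b => by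
      show ρ (φ ((1 : R) ⊗ₜ b)) = τ b
      rw [← AlgHom.comp_apply, hφ ρ]
      exact (Algebra.TensorProduct.lift_tmul _ _ _ _ _).trans (by rw [map_one, one_mul])
    refine ⟨⟨Q'', (key Q hr (ρ.restrictScalars A) ρ.commutes Q'' hQ'').1 ?_, hQ''⟩, hQ⟩
    rw [hτr]
    exact hτ
  · rintro _ ⟨⟨Q'', hQ'', rfl⟩, hU⟩
    have hr' : r ∉ (below h (c Q'')).asIdeal := by
      have : c Q'' ∈ Set.range c := ⟨_, rfl⟩
      rw [PrimeSpectrum.localization_away_comap_range Cr (h r)] at this
      exact this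
    exact ⟨hr', hU, fun ρ hρ => (key _ hr' ρ hρ Q'' rfl).2 hQ''⟩

end TestObject

end Groth.Agent.Hens.RigidLabel
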