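import Groth.Agent.Hens.RigidSheaf
import Groth.Agent.DescSh.Square

/-!
# Values of sections of direct images along an open immersion into an affine scheme
-/

set_option autoImplicit false
set_option linter.style.haveILetI false
set_option backward.isDefEq.respectTransparency.types false

universe u

open CategoryTheory CategoryTheory.Limits AlgebraicGeometry Opposite TensorProduct
open Groth.Agent.EtaleSite Groth.Agent.DescSh

namespace Groth.Agent.Hens.RigidSheaf

variable {A : Type u} [CommRing A]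

theorem etale_toSpec (B : Type u) [CommRing B] [Algebra A B] [Algebra.Etale A B] : Etale (toSpec A B) :=
  (HasRingHomProperty.Spec_iff (P := @Etale)).2 (RingHom.etale_algebraMap.mpr ‹_›)

/-- An etale algebra as an object over the spectrum. -/
noncomputable def objS (A : Type u) [CommRing A] (B : Type u) [CommRing B] [Algebra A B] [Algebra.Etale A B] :
    (Spec (CommRingCat.of A)).Etale :=
  haveI := etale_toSpec (A := A) B
  Scheme.Etale.mk (toSpec A B)

/-- An affine open around the image of a point. -/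
theorem exists_affine_point {V : Scheme.{u}} {Ω : Type u} [Field Ω] (y : Spec (CommRingCat.of Ω) ⟶ V) :
    ∃ (R : CommRingCat.{u}) (j : Spec R ⟶ V) (_ : IsOpenImmersion j) (l : Spec (CommRingCat.of Ω) ⟶ Spec R),
      l ≫ j = y := by
  obtain ⟨R, j, hj, hpj, -⟩ := Scheme.exists_affine_mem_range_and_range_subset
    (X := V) (x := y (default : Spec (CommRingCat.of Ω))) (U := ⊤) trivial
  have hrange : Set.range y ⊆ Set.range j := by
    rintro _ ⟨a, rfl⟩
    rw [@Subsingleton.elim (Spec (CommRingCat.of Ω)) _ a default]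
    exact hpj
  exact ⟨R, j, hj, IsOpenImmersion.lift j y hrange, IsOpenImmersion.lift_fac _ _ _⟩

/-- The point of `objS`. -/
noncomputable def spt {B : Type u} [CommRing B] [Algebra A B] [Algebra.Etale A B] {Ω : Type u} [Field Ω]
    [IsSepClosed Ω] [Algebra A Ω] {η : Spec (CommRingCat.of Ω) ⟶ Spec (CommRingCat.of A)}
    (hη : η = toSpec A Ω) (b : B →ₐ[A] Ω) : (Scheme.pointSmallEtale η).fiber.obj (objS A B) :=
  (Over.homMk (Spec.map (CommRingCat.ofHom b.toRingHom)) (by
    change Spec.map (CommRingCat.ofHom b.toRingHom) ≫ toSpec A B = η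
    rw [hη, specMap_toSpec]) : Over.mk η ⟶ (Scheme.Etale.forget _).obj (objS A B))

theorem exists_refine_S {Ω : Type u} [Field Ω] [IsSepClosed Ω] [Algebra A Ω]
    {η : Spec (CommRingCat.of Ω) ⟶ Spec (CommRingCat.of A)} (hη : η = toSpec A Ω)
    (V : (Spec (CommRingCat.of A)).Etale) (y : (Scheme.pointSmallEtale η).fiber.obj V) :
    ∃ (B : Type u) (_ : CommRing B) (_ : Algebra A B) (_ : Algebra.Etale A B) (b : B →ₐ[A] Ω)
      (g : objS A B ⟶ V), (Scheme.pointSmallEtale η).fiber.map g (spt hη b) = y := by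
  obtain ⟨R, j, hj, l, hl⟩ := exists_affine_point y.left
  let φ : CommRingCat.of A ⟶ R := Spec.preimage (j ≫ V.hom)
  letI : Algebra A R := φ.hom.toAlgebra
  have hφ : toSpec A R = j ≫ V.hom := Spec.map_preimage (j ≫ V.hom)
  haveI : Algebra.Etale A R := by
    let vh : V.left ⟶ _ := V.hom
    haveI : Etale vh := V.prop
    haveI : Etale j := inferInstance
    haveI : Etale (toSpec A R) := by
      rw [hφ]
      exact MorphismProperty.comp_mem @Etale j V.hom inferInstance V.prop
    exact RingHom.etale_algebraMap.1 ((HasRingHomProperty.Spec_iff (P := @Etale)).1 this)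
  have hlη : l ≫ toSpec A R = toSpec A Ω := by
    rw [hφ, ← hη, reassoc_of% hl]
    exact Over.w y
  have h1 : (Spec.preimage l).hom.comp (algebraMap A R) = algebraMap A Ω := by
    have h2 : Spec.map (CommRingCat.ofHom (algebraMap A R) ≫ Spec.preimage l) = toSpec A Ω := by
      rw [Spec.map_comp, Spec.map_preimage]; exact hlη
    exact congrArg CommRingCat.Hom.hom (Spec.map_injective h2)
  refine ⟨R, inferInstance, inferInstance, inferInstance,
    { toRingHom := (Spec.preimage l).hom, commutes' := fun r => RingHom.congr_fun h1 r },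
    MorphismProperty.Over.homMk j hφ.symm trivial, Over.OverMorphism.ext ?_⟩
  show Spec.map (CommRingCat.ofHom (Spec.preimage l).hom) ≫ j = y.left
  rw [CommRingCat.ofHom_hom, Spec.map_preimage]
  exact hl

variable {U₀ : (Spec (CommRingCat.of A)).Opens}

theorem exists_refine_U {Ω : Type u} [Field Ω] [IsSepClosed Ω] [Algebra A Ω]
    {ξ : Spec (CommRingCat.of Ω) ⟶ (U₀ : Scheme.{u})} (hξ : ξ ≫ U₀.ι = toSpec A Ω)
    (V : (U₀ : Scheme.{u}).Etale) (y : (Scheme.pointSmallEtale ξ).fiber.obj V) :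
    ∃ (C : Type u) (_ : CommRing C) (_ : Algebra A C) (_ : Algebra.Etale A C)
      (hC : ∀ w : PrimeSpectrum C, PrimeSpectrum.comap (algebraMap A C) w ∈ U₀.carrier)
      (a : C →ₐ[A] Ω) (g : obj hC ⟶ V), (Scheme.pointSmallEtale ξ).fiber.map g (xpt hC hξ a) = y := by
  obtain ⟨R, j, hj, l, hl⟩ := exists_affine_point y.left
  let φ : CommRingCat.of A ⟶ R := Spec.preimage (j ≫ V.hom ≫ U₀.ι)
  letI : Algebra A R := φ.hom.toAlgebra
  have hφ : toSpec A R = j ≫ V.hom ≫ U₀.ι := Spec.map_preimage (j ≫ V.hom ≫ U₀.ι)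
  haveI : Algebra.Etale A R := by
    let vh : V.left ⟶ (U₀ : Scheme.{u}) := V.hom
    haveI : Etale vh := V.prop
    haveI : Etale (toSpec A R) := by
      rw [hφ]
      exact MorphismProperty.comp_mem @Etale j _ inferInstance (MorphismProperty.comp_mem @Etale V.hom U₀.ι V.prop inferInstance)
    exact RingHom.etale_algebraMap.1 ((HasRingHomProperty.Spec_iff (P := @Etale)).1 this)
  have hC : ∀ w : PrimeSpectrum R, PrimeSpectrum.comap (algebraMap A R) w ∈ U₀.carrier := fun w => by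
    show toSpec A R w ∈ (U₀ : Set (Spec (CommRingCat.of A)))
    rw [hφ]
    exact ((j ≫ V.hom) w).2
  have hgJ : j ≫ V.hom = toU hC := by
    rw [← cancel_mono U₀.ι, Category.assoc, toU_ι, hφ]
  let l' : (Scheme.pointSmallEtale ξ).fiber.obj (obj hC) :=
    (Over.homMk l (by
      change l ≫ toU hC = ξ
      rw [← hgJ, reassoc_of% hl]
      exact Over.w y) : Over.mk ξ ⟶ (Scheme.Etale.forget _).obj (obj hC))
  obtain ⟨a, ha⟩ := exists_xpt hC hξ l'
  exact ⟨R, inferInstance, inferInstance, inferInstance, hC, a,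
    MorphismProperty.Over.homMk j hgJ trivial, by rw [ha]; exact Over.OverMorphism.ext hl⟩

theorem eqAt_iff_gm {D : Type u} [CommRing D] [Algebra A D] [Algebra.Etale A D]
    (hD : ∀ w : PrimeSpectrum D, PrimeSpectrum.comap (algebraMap A D) w ∈ U₀.carrier)
    (F : EtDesc.Sh (U₀ : Scheme.{u})) (s t : F.obj.obj (op (obj hD)))
    {Ω : Type u} [Field Ω] [IsSepClosed Ω] [Algebra A Ω] {ξ : Spec (CommRingCat.of Ω) ⟶ (U₀ : Scheme.{u})}
    (hξ : ξ ≫ U₀.ι = toSpec A Ω) (d : D →ₐ[A] Ω) :
    EqAt F s t (RigidLabel.pt d.toRingHom) ↔ gm hD F s hξ d = gm hD F t hξ d :=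
  eqAt_iff_germ F s t (xpt hD hξ d) (xpt_default hD hξ d)

section Push

variable {B : Type u} [CommRing B] [Algebra A B] [Algebra.Etale A B]

variable (U₀ B) in
/-- The inverse image of an affine object. -/
noncomputable abbrev objW : (U₀ : Scheme.{u}).Etale := (EtCoh.bc U₀.ι).obj (objS A B)

variable {Ω : Type u} [Field Ω] [IsSepClosed Ω] [Algebra A Ω]
  {ξ : Spec (CommRingCat.of Ω) ⟶ (U₀ : Scheme.{u})}

/-- The point of the inverse image. -/
noncomputable def wpt (hξ : ξ ≫ U₀.ι = toSpec A Ω) (b : B →ₐ[A] Ω) :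
    (Scheme.pointSmallEtale ξ).fiber.obj (objW U₀ B) :=
  (Over.homMk (pullback.lift (f := toSpec A B) (g := U₀.ι) (Spec.map (CommRingCat.ofHom b.toRingHom)) ξ
      ((specMap_toSpec b).trans hξ.symm)) (pullback.lift_snd _ _ _) :
    Over.mk ξ ⟶ (Scheme.Etale.forget _).obj (objW U₀ B))

theorem wpt_fst (hξ : ξ ≫ U₀.ι = toSpec A Ω) (b : B →ₐ[A] Ω) :
    (wpt hξ b).left ≫ pullback.fst (toSpec A B) U₀.ι = Spec.map (CommRingCat.ofHom b.toRingHom) :=
  pullback.lift_fst _ _ _

theorem exists_wpt (hξ : ξ ≫ U₀.ι = toSpec A Ω) (x : (Scheme.pointSmallEtale ξ).fiber.obj (objW U₀ B)) :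
    ∃ b : B →ₐ[A] Ω, wpt hξ b = x := by
  let l : Spec (CommRingCat.of Ω) ⟶ Spec (CommRingCat.of B) := x.left ≫ pullback.fst (toSpec A B) U₀.ι
  have hl : l ≫ toSpec A B = toSpec A Ω := by
    refine (Category.assoc _ _ _).trans ((congrArg (_ ≫ ·) pullback.condition).trans ?_)
    refine (Category.assoc _ _ _).symm.trans (Eq.trans ?_ hξ)
    exact congrArg (· ≫ U₀.ι) (Over.w x)
  have h1 : (Spec.preimage l).hom.comp (algebraMap A B) = algebraMap A Ω := by
    have h2 : Spec.map (CommRingCat.ofHom (algebraMap A B) ≫ Spec.preimage l) = toSpec A Ω := by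
      rw [Spec.map_comp, Spec.map_preimage]; exact hl
    exact congrArg CommRingCat.Hom.hom (Spec.map_injective h2)
  refine ⟨{ toRingHom := (Spec.preimage l).hom, commutes' := fun r => RingHom.congr_fun h1 r },
    Over.OverMorphism.ext (pullback.hom_ext ?_ ?_)⟩
  · refine (wpt_fst hξ _).trans ?_
    show Spec.map (CommRingCat.ofHom (Spec.preimage l).hom) = _
    rw [CommRingCat.ofHom_hom, Spec.map_preimage]
    rfl
  · exact (pullback.lift_snd _ _ _).trans (Over.w x).symm

variable (F : EtDesc.Sh (U₀ : Scheme.{u}))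

/-- The value of a section over the inverse image. -/
noncomputable def pv (t : F.obj.obj (op (objW U₀ B))) (hξ : ξ ≫ U₀.ι = toSpec A Ω) (b : B →ₐ[A] Ω) :
    (SetStalk.stalkSh ξ).obj F :=
  SetStalk.germ ξ F (objW U₀ B) (wpt hξ b) t

variable {D : Type u} [CommRing D] [Algebra A D] [Algebra.Etale A D]
  (hD : ∀ w : PrimeSpectrum D, PrimeSpectrum.comap (algebraMap A D) w ∈ U₀.carrier)

/-- A chart inside the inverse image. -/
noncomputable def chartW (g : B →ₐ[A] D) : obj hD ⟶ objW U₀ B :=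
  MorphismProperty.Over.homMk (pullback.lift (f := toSpec A B) (g := U₀.ι)
    (Spec.map (CommRingCat.ofHom g.toRingHom)) (toU hD) ((specMap_toSpec g).trans (toU_ι hD).symm))
    (pullback.lift_snd _ _ _) trivial

theorem gm_chartW (g : B →ₐ[A] D) (t : F.obj.obj (op (objW U₀ B))) (hξ : ξ ≫ U₀.ι = toSpec A Ω)
    (d : D →ₐ[A] Ω) : gm hD F (F.obj.map (chartW hD g).op t) hξ d = pv F t hξ (d.comp g) := by
  rw [gm, SetStalk.germ_res]
  refine congrArg (fun x => SetStalk.germ ξ F (objW U₀ B) x t) ?_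
  refine Over.OverMorphism.ext (pullback.hom_ext ?_ ?_)
  · refine (Category.assoc _ _ _).trans ((congrArg (_ ≫ ·) (pullback.lift_fst _ _ _)).trans ?_)
    refine Eq.trans ?_ (wpt_fst hξ _).symm
    show Spec.map (CommRingCat.ofHom d.toRingHom) ≫ Spec.map (CommRingCat.ofHom g.toRingHom) = _
    rw [← Spec.map_comp]
    rfl
  · refine (Category.assoc _ _ _).trans ((congrArg (_ ≫ ·) (pullback.lift_snd _ _ _)).trans ?_)
    exact (Over.w (xpt hD hξ d)).trans (pullback.lift_snd _ _ _).symm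

theorem map_wpt {B' : Type u} [CommRing B'] [Algebra A B'] [Algebra.Etale A B'] (g : B →ₐ[A] B')
    (gS : objS A B' ⟶ objS A B) (hgS : gS.left = Spec.map (CommRingCat.ofHom g.toRingHom))
    (t : F.obj.obj (op (objW U₀ B))) (hξ : ξ ≫ U₀.ι = toSpec A Ω) (b : B' →ₐ[A] Ω) :
    pv F (F.obj.map ((EtCoh.bc U₀.ι).map gS).op t) hξ b = pv F t hξ (b.comp g) := by
  rw [pv, SetStalk.germ_res]
  refine congrArg (fun x => SetStalk.germ ξ F (objW U₀ B) x t) ?_
  refine Over.OverMorphism.ext (pullback.hom_ext ?_ ?_)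
  · refine (Category.assoc _ _ _).trans ((congrArg (_ ≫ ·) (pullback.lift_fst _ _ _)).trans ?_)
    refine (Category.assoc _ _ _).symm.trans ((congrArg (· ≫ gS.left) (wpt_fst hξ b)).trans ?_)
    refine Eq.trans ?_ (wpt_fst hξ _).symm
    rw [hgS]
    exact (Spec.map_comp _ _).symm
  · refine (Category.assoc _ _ _).trans ((congrArg (_ ≫ ·) (pullback.lift_snd _ _ _)).trans ?_)
    exact (pullback.lift_snd _ _ _).trans (pullback.lift_snd _ _ _).symm

/-- The agreement locus of two sections over an inverse image, in the affine object. -/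
def pEqSet (s t : F.obj.obj (op (objW U₀ B))) : Set (PrimeSpectrum B) :=
  (pullback.fst (toSpec A B) U₀.ι) '' {v | EqAt F s t v}

theorem isOpen_pEqSet (s t : F.obj.obj (op (objW U₀ B))) : IsOpen (pEqSet F s t) :=
  (pullback.fst (toSpec A B) U₀.ι).isOpenEmbedding.isOpenMap _ (DescSh.isOpen_eqAt F s t)

theorem pt_mem_pEqSet_iff (s t : F.obj.obj (op (objW U₀ B))) (hξ : ξ ≫ U₀.ι = toSpec A Ω)
    (b : B →ₐ[A] Ω) : RigidLabel.pt b.toRingHom ∈ pEqSet F s t ↔ pv F s hξ b = pv F t hξ b := by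
  have h0 : pullback.fst (toSpec A B) U₀.ι ((wpt hξ b).left (default : Spec (CommRingCat.of Ω))) =
      RigidLabel.pt b.toRingHom :=
    (congrArg (fun k => k (default : Spec (CommRingCat.of Ω))) (wpt_fst hξ b)).trans
      (comap_eq_pt b.toRingHom _)
  refine Iff.trans ?_ (eqAt_iff_germ F s t (wpt hξ b) rfl)
  refine ⟨?_, fun h => ⟨_, h, h0⟩⟩
  rintro ⟨v, hv, he⟩
  rwa [(pullback.fst (toSpec A B) U₀.ι).isOpenEmbedding.injective (he.trans h0.symm)] at hv

end Push

section Completion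

theorem toSpec_tower {I : Ideal A} (D : Type u) [CommRing D] [Algebra A D] [Algebra (AdicCompletion I A) D]
    [IsScalarTower A (AdicCompletion I A) D] : toSpec (AdicCompletion I A) D ≫ πc I = toSpec A D := by
  rw [toSpec, toSpec, πc, ← Spec.map_comp, ← CommRingCat.ofHom_comp, ← IsScalarTower.algebraMap_eq]

variable {I : Ideal A} {Ω : Type u} [Field Ω] [IsSepClosed Ω] [Algebra A Ω]
  [Algebra (AdicCompletion I A) Ω] [IsScalarTower A (AdicCompletion I A) Ω]
  {ζ : Spec (CommRingCat.of Ω) ⟶ ((πc I) ⁻¹ᵁ U₀ : Scheme.{u})}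
  (F : EtDesc.Sh (U₀ : Scheme.{u}))

theorem hξ_of_hζ (hζ : ζ ≫ ((πc I) ⁻¹ᵁ U₀).ι = toSpec (AdicCompletion I A) Ω) :
    (ζ ≫ resU U₀ I) ≫ U₀.ι = toSpec A Ω := by
  rw [Category.assoc, morphismRestrict_ι, ← Category.assoc, hζ, toSpec, toSpec, πc, ← Spec.map_comp,
    ← CommRingCat.ofHom_comp, ← IsScalarTower.algebraMap_eq]

/-- A stalk of the inverse image seen as a stalk of the sheaf. -/
noncomputable def dn (z : (SetStalk.stalkSh ζ).obj ((EtDesc.pullSh (resU U₀ I)).obj F)) :
    (SetStalk.stalkSh (ζ ≫ resU U₀ I)).obj F :=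
  (SetStalk.stalkPullShIso (resU U₀ I) ζ).hom.app F z

theorem dn_injective : Function.Injective (dn (ζ := ζ) F) :=
  ((SetStalk.stalkPullShIso (resU U₀ I) ζ).app F).toEquiv.injective

theorem dn_inv (z : (SetStalk.stalkSh (ζ ≫ resU U₀ I)).obj F) :
    dn F ((SetStalk.stalkPullShIso (resU U₀ I) ζ).inv.app F z) = z :=
  congrArg (fun k => k z) (((SetStalk.stalkPullShIso (resU U₀ I) ζ).app F).inv_hom_id)

variable {C : Type u} [CommRing C] [Algebra A C] [Algebra.Etale A C]
  (hC : ∀ w : PrimeSpectrum C, PrimeSpectrum.comap (algebraMap A C) w ∈ U₀.carrier)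
  {D : Type u} [CommRing D] [Algebra A D] [Algebra (AdicCompletion I A) D]
  [IsScalarTower A (AdicCompletion I A) D] [Algebra.Etale (AdicCompletion I A) D]
  (hD : ∀ w : PrimeSpectrum D,
    PrimeSpectrum.comap (algebraMap (AdicCompletion I A) D) w ∈ ((πc I) ⁻¹ᵁ U₀).carrier)

/-- A chart over the completion mapping to a chart. -/
noncomputable def chartC (h : C →ₐ[A] D) : obj hD ⟶ (EtCoh.bc (resU U₀ I)).obj (obj hC) :=
  MorphismProperty.Over.homMk (pullback.lift (f := toU hC) (g := resU U₀ I)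
    (Spec.map (CommRingCat.ofHom h.toRingHom)) (toU hD) (by
      rw [← cancel_mono U₀.ι, Category.assoc, toU_ι, Category.assoc, morphismRestrict_ι]
      refine (specMap_toSpec h).trans ((toSpec_tower (I := I) D).symm.trans ?_)
      exact (congrArg (· ≫ πc I) (toU_ι hD)).symm.trans (Category.assoc _ _ _)))
    (pullback.lift_snd _ _ _) trivial

theorem dn_gm_chartC (h : C →ₐ[A] D) (t : F.obj.obj (op (obj hC)))
    (hζ : ζ ≫ ((πc I) ⁻¹ᵁ U₀).ι = toSpec (AdicCompletion I A) Ω) (d : D →ₐ[AdicCompletion I A] Ω) :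
    dn F (gm hD _ (((EtDesc.pullSh (resU U₀ I)).obj F).obj.map (chartC hC hD h).op
      (secUp (resU U₀ I) F t)) hζ d) = gm hC F t (hξ_of_hζ hζ) ((d.restrictScalars A).comp h) := by
  have hpt : (Scheme.pointSmallEtale ζ).fiber.map (chartC hC hD h) (xpt hD hζ d) =
      fiberBcEquiv (resU U₀ I) ζ (obj hC) (xpt hC (hξ_of_hζ hζ) ((d.restrictScalars A).comp h)) := by
    refine Over.OverMorphism.ext (pullback.hom_ext ?_ ?_)
    · refine (Category.assoc _ _ _).trans ((congrArg (_ ≫ ·) (pullback.lift_fst _ _ _)).trans ?_)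
      refine Eq.trans ?_ (fiberBcEquiv_fst (resU U₀ I) ζ (obj hC) _).symm
      show Spec.map (CommRingCat.ofHom d.toRingHom) ≫ Spec.map (CommRingCat.ofHom h.toRingHom) = _
      rw [← Spec.map_comp]
      rfl
    · refine (Category.assoc _ _ _).trans ((congrArg (_ ≫ ·) (pullback.lift_snd _ _ _)).trans ?_)
      exact (Over.w (xpt hD hζ d)).trans (pullback.lift_snd _ _ _).symm
  rw [gm, SetStalk.germ_res, hpt, secUp, ← SetPush.germ_stalkPullShIso_inv, dn_inv]
  rfl

variable {B : Type u} [CommRing B] [Algebra A B] [Algebra.Etale A B]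
  {R : Type u} [CommRing R] [Algebra A R] [Algebra (AdicCompletion I A) R]
  [IsScalarTower A (AdicCompletion I A) R] [Algebra.Etale (AdicCompletion I A) R]

/-- An affine object over the completion mapping to the base change of an affine object. -/
noncomputable def chartS (h : B →ₐ[A] R) :
    objS (AdicCompletion I A) R ⟶ (EtCoh.bc (πc I)).obj (objS A B) :=
  MorphismProperty.Over.homMk (pullback.lift (f := toSpec A B) (g := πc I)
    (Spec.map (CommRingCat.ofHom h.toRingHom)) (toSpec (AdicCompletion I A) R) (by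
      exact (specMap_toSpec h).trans (toSpec_tower (I := I) R).symm))
    (pullback.lift_snd _ _ _) trivial

/-- The image of a section under the base change morphism. -/
noncomputable def push (t : F.obj.obj (op (objW U₀ B))) :
    ((EtDesc.pullSh (resU U₀ I)).obj F).obj.obj
      (op ((EtCoh.bc ((πc I) ⁻¹ᵁ U₀).ι).obj ((EtCoh.bc (πc I)).obj (objS A B)))) :=
  ((EtDesc.pullSh (resU U₀ I)).obj F).obj.map
    (sqHom (πc I) U₀.ι (resU U₀ I) ((πc I) ⁻¹ᵁ U₀).ι (morphismRestrict_ι (πc I) U₀) (objS A B)).op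
    (secUp (resU U₀ I) F t)

set_option maxHeartbeats 800000 in
theorem dn_pv_push (h : B →ₐ[A] R) (t : F.obj.obj (op (objW U₀ B)))
    (hζ : ζ ≫ ((πc I) ⁻¹ᵁ U₀).ι = toSpec (AdicCompletion I A) Ω) (r : R →ₐ[AdicCompletion I A] Ω) :
    dn F (pv _ (((EtDesc.pullSh (resU U₀ I)).obj F).obj.map
      ((EtCoh.bc ((πc I) ⁻¹ᵁ U₀).ι).map (chartS h)).op (push F t)) hζ r) =
      pv F t (hξ_of_hζ hζ) ((r.restrictScalars A).comp h) := by
  let W := objS A B
  let sq := sqHom (πc I) U₀.ι (resU U₀ I) ((πc I) ⁻¹ᵁ U₀).ι (morphismRestrict_ι (πc I) U₀) W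
  let z := (Scheme.pointSmallEtale ζ).fiber.map ((EtCoh.bc ((πc I) ⁻¹ᵁ U₀).ι).map (chartS h)) (wpt hζ r)
  have hz : z.left ≫ pullback.fst ((EtCoh.bc (πc I)).obj W).hom ((πc I) ⁻¹ᵁ U₀).ι ≫ pullback.fst W.hom (πc I) =
      Spec.map (CommRingCat.ofHom ((r.restrictScalars A).comp h).toRingHom) := by
    refine (Category.assoc _ _ _).trans ?_
    refine (congrArg (_ ≫ ·) ((Category.assoc _ _ _).symm.trans
      (congrArg (· ≫ pullback.fst W.hom (πc I)) (pullback.lift_fst _ _ _)))).trans ?_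
    refine (congrArg (_ ≫ ·) ((Category.assoc _ _ _).trans
      (congrArg (_ ≫ ·) (pullback.lift_fst _ _ _)))).trans ?_
    refine (Category.assoc _ _ _).symm.trans ((congrArg (· ≫ _) (wpt_fst hζ r)).trans ?_)
    exact (Spec.map_comp _ _).symm
  have hpt : (Scheme.pointSmallEtale ζ).fiber.map sq z =
      fiberBcEquiv (resU U₀ I) ζ (objW U₀ B) (wpt (hξ_of_hζ hζ) ((r.restrictScalars A).comp h)) := by
    refine Over.OverMorphism.ext (pullback.hom_ext (pullback.hom_ext ?_ ?_) ?_)
    · refine Eq.trans ?_ ((congrArg (· ≫ _) (fiberBcEquiv_fst (resU U₀ I) ζ (objW U₀ B) _)).trans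
        (wpt_fst (hξ_of_hζ hζ) _)).symm
      refine (Category.assoc _ _ _).trans ((Category.assoc _ _ _).trans ?_)
      exact (congrArg (_ ≫ ·) (sqHom_fst _ _ _ _ _ W)).trans hz
    · refine Eq.trans ?_ ((congrArg (· ≫ _) (fiberBcEquiv_fst (resU U₀ I) ζ (objW U₀ B) _)).trans
        (Over.w (wpt (hξ_of_hζ hζ) ((r.restrictScalars A).comp h)))).symm
      refine (Category.assoc _ _ _).trans ?_
      refine (congrArg (_ ≫ ·) (pullback.condition (f := ((EtCoh.bc U₀.ι).obj W).hom) (g := resU U₀ I))).trans ?_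
      refine (Category.assoc _ _ _).symm.trans (congrArg (· ≫ resU U₀ I) ?_)
      exact Over.w ((Scheme.pointSmallEtale ζ).fiber.map sq z)
    · exact (Over.w ((Scheme.pointSmallEtale ζ).fiber.map sq z)).trans (pullback.lift_snd _ _ _).symm
  rw [pv, push, SetStalk.germ_res, SetStalk.germ_res, hpt, secUp, ← SetPush.germ_stalkPullShIso_inv, dn_inv]
  rfl

end Completion

end Groth.Agent.Hens.RigidSheaf
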