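import Groth.Agent.Hens.RigidSheaf
import Mathlib.FieldTheory.IsSepClosed

/-!
# Gabber's rigidity for sections of etale sheaves of sets
-/

set_option autoImplicit false
set_option linter.style.haveILetI false
set_option backward.isDefEq.respectTransparency.types false

universe u

open CategoryTheory CategoryTheory.Limits AlgebraicGeometry Opposite TensorProduct
open Groth.Agent.EtaleSite Groth.Agent.DescSh

namespace Groth.Agent.Hens.RigidSheaf

variable {A : Type u} [CommRing A] {I : Ideal A} {U₀ : (Spec (CommRingCat.of A)).Opens}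

theorem pt_algebraMap_mem {B K : Type u} [CommRing B] [Algebra A B] [Field K] [Algebra A K]
    (hB : ∀ w : PrimeSpectrum B, PrimeSpectrum.comap (algebraMap A B) w ∈ U₀.carrier)
    (a : B →ₐ[A] K) : RigidLabel.pt (algebraMap A K) ∈ U₀.carrier := by
  have h := hB (RigidLabel.pt a.toRingHom)
  convert h using 1
  refine PrimeSpectrum.ext (Ideal.ext fun x => ?_)
  show algebraMap A K x = 0 ↔ a (algebraMap A B x) = 0
  rw [a.commutes]

theorem comap_left_pt₂ {S T K : Type u} [CommRing S] [CommRing T] [Algebra A S] [Algebra A T] [Field K]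
    [Algebra A K] (f : S →ₐ[A] K) (g : T →ₐ[A] K) :
    PrimeSpectrum.comap Algebra.TensorProduct.includeLeftRingHom (RigidLabel.pt₂ f g) =
      RigidLabel.pt f.toRingHom :=
  PrimeSpectrum.ext (Ideal.ext fun x => by
    show Algebra.TensorProduct.productMap f g (x ⊗ₜ[A] (1 : T)) = 0 ↔ f x = 0
    simp)

theorem comap_right_pt₂ {S T K : Type u} [CommRing S] [CommRing T] [Algebra A S] [Algebra A T] [Field K]
    [Algebra A K] (f : S →ₐ[A] K) (g : T →ₐ[A] K) :
    PrimeSpectrum.comap (Algebra.TensorProduct.includeRight (R := A)).toRingHom (RigidLabel.pt₂ f g) =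
      RigidLabel.pt g.toRingHom :=
  PrimeSpectrum.ext (Ideal.ext fun x => by
    show Algebra.TensorProduct.productMap f g ((1 : S) ⊗ₜ[A] x) = 0 ↔ g x = 0
    simp)

variable (F : EtDesc.Sh (U₀ : Scheme.{u}))
  (s' : ((EtDesc.pullSh (resU U₀ I)).obj F).obj.obj
    (op ((EtCoh.bc (resU U₀ I)).obj (EtCoh.top (U₀ : Scheme.{u})))))

set_option maxHeartbeats 800000 in
/-- Every point of the completion lies in a chart on which `s'` is an inverse image. -/
theorem exists_chart (v : ((EtCoh.bc (resU U₀ I)).obj (EtCoh.top (U₀ : Scheme.{u}))).left) :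
    ∃ (B : Type u) (_ : CommRing B) (_ : Algebra A B) (_ : Algebra.Etale A B)
      (hB : ∀ w : PrimeSpectrum B, PrimeSpectrum.comap (algebraMap A B) w ∈ U₀.carrier)
      (t : F.obj.obj (op (obj hB))) (z : PrimeSpectrum (AdicCompletion I A ⊗[A] B)),
      z ∈ memSet hB F s' t ∧ ((EtCoh.bc (resU U₀ I)).map (toTop (obj hB))).left (cc hB z) = v := by
  let f := resU U₀ I
  obtain ⟨W, g, t, w, hw, he⟩ := exists_local f F s' v
  obtain ⟨Ω, i₁, i₂, ζ, x', hx⟩ := exists_geomPoint w
  obtain ⟨y, rfl⟩ := (fiberBcEquiv f ζ W).surjective x'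
  let p : W.left := y.left (default : Spec (CommRingCat.of Ω))
  obtain ⟨R, j, hj, hpj, -⟩ := Scheme.exists_affine_mem_range_and_range_subset
    (X := W.left) (x := p) (U := ⊤) trivial
  let φ : CommRingCat.of A ⟶ R := Spec.preimage (j ≫ W.hom ≫ U₀.ι)
  letI : Algebra A R := φ.hom.toAlgebra
  have hφ : toSpec A R = j ≫ W.hom ≫ U₀.ι := Spec.map_preimage (j ≫ W.hom ≫ U₀.ι)
  haveI : Algebra.Etale A R := by
    haveI : Etale W.hom := W.prop
    haveI : Etale (toSpec A R) := by rw [hφ]; infer_instance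
    exact RingHom.etale_algebraMap.1 ((HasRingHomProperty.Spec_iff (P := @Etale)).1 this)
  have hB : ∀ w : PrimeSpectrum R, PrimeSpectrum.comap (algebraMap A R) w ∈ U₀.carrier := fun w => by
    show toSpec A R w ∈ (U₀ : Set (Spec (CommRingCat.of A)))
    rw [hφ]
    exact ((j ≫ W.hom) w).2
  have hgJ : j ≫ W.hom = toU hB := by
    rw [← cancel_mono U₀.ι, Category.assoc, toU_ι, hφ]
  let gJ : obj hB ⟶ W := MorphismProperty.Over.homMk j hgJ trivial
  have hrange : Set.range y.left ⊆ Set.range j := by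
    rintro _ ⟨a, rfl⟩
    rw [@Subsingleton.elim (Spec (CommRingCat.of Ω)) _ a default]
    exact hpj
  let l : Spec (CommRingCat.of Ω) ⟶ Spec R := IsOpenImmersion.lift j y.left hrange
  have hl : l ≫ j = y.left := IsOpenImmersion.lift_fac _ _ _
  let y₀ : (Scheme.pointSmallEtale (ζ ≫ f)).fiber.obj (obj hB) :=
    (Over.homMk l (by
      change l ≫ toU hB = ζ ≫ f
      rw [← hgJ, reassoc_of% hl]
      exact Over.w y) : Over.mk (ζ ≫ f) ⟶ (Scheme.Etale.forget _).obj (obj hB))
  have hy : (Scheme.pointSmallEtale (ζ ≫ f)).fiber.map gJ y₀ = y := Over.OverMorphism.ext hl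
  have hn : (Scheme.pointSmallEtale ζ).fiber.map ((EtCoh.bc f).map gJ) (fiberBcEquiv f ζ _ y₀) =
      fiberBcEquiv f ζ W y :=
    (congrArg (fun k => k y₀) ((fiberBcIso f ζ).hom.naturality gJ)).symm.trans
      (congrArg (fiberBcEquiv f ζ W) hy)
  let z₀ : ((EtCoh.bc f).obj (obj hB)).left :=
    (fiberBcEquiv f ζ (obj hB) y₀).left (default : Spec (CommRingCat.of Ω))
  have hz₀ : ((EtCoh.bc f).map gJ).left z₀ = w := by
    rw [← hx, ← hn]
    rfl
  have hgg : gJ ≫ g = toTop (obj hB) := (EtCore.topIsTerminal _).hom_ext _ _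
  obtain ⟨z, hz⟩ := surjective_cc (I := I) hB z₀
  refine ⟨R, inferInstance, inferInstance, inferInstance, hB, F.obj.map gJ.op t, z, ?_, ?_⟩
  · show EqAt _ _ _ (cc hB z)
    rw [hz, secUp_res, ← hgg, Functor.map_comp, op_comp, Functor.map_comp, ConcreteCategory.comp_apply]
    rw [← hz₀] at he
    exact (eqAt_res _ _ _ _ _).2 he
  · rw [hz, ← hgg, Functor.map_comp, ← hw, ← hz₀]
    rfl

set_option maxHeartbeats 1600000 in
/-- Sections descend along the completion. -/
theorem secUp_surjective (hI : I.FG) [HenselianRing A I] (hU : IsCompact U₀.carrier)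
    (hUI : ∀ x : PrimeSpectrum A, x ∉ U₀.carrier → I ≤ x.asIdeal) :
    ∃ s : F.obj.obj (op (EtCoh.top (U₀ : Scheme.{u}))), secUp (resU U₀ I) F s = s' := by
  let f := resU U₀ I
  choose B iR iA iE hB t z hz hzv using exists_chart F s'
  letI := fun i => iR i
  letI := fun i => iA i
  haveI : ∀ i, Algebra.Etale A (B i) := iE
  let D : RigidLabel.Data A I B :=
    { U := U₀.carrier
      isOpen_U := U₀.is_open'
      isCompact_U := hU
      le_of_notMem := hUI
      Rel := fun i j => relSet (hB i) (hB j) F (t i) (t j)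
      isOpen_Rel := fun i j => isOpen_relSet _ _ _ _ _
      Mem := fun i => memSet (hB i) F s' (t i)
      isOpen_Mem := fun i => isOpen_memSet _ _ _ _
      mem_U := fun i w => hB i w
      rel_symm := by
        intro K _ _ i j a b h
        let k := IsScalarTower.toAlgHom A K (AlgebraicClosure K)
        rw [← RigidLabel.pt₂_comp k] at h ⊢
        have hξ : (Spec.map (CommRingCat.ofHom (k.comp a).toRingHom) ≫ toU (hB i)) ≫ U₀.ι =
            toSpec A (AlgebraicClosure K) := by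
          rw [Category.assoc, toU_ι, specMap_toSpec]
        rw [mem_relSet_iff _ _ _ _ _ hξ] at h ⊢
        exact h.symm
      rel_trans := by
        intro K _ _ i j l a b c h h'
        let k := IsScalarTower.toAlgHom A K (AlgebraicClosure K)
        rw [← RigidLabel.pt₂_comp k] at h h' ⊢
        have hξ : (Spec.map (CommRingCat.ofHom (k.comp a).toRingHom) ≫ toU (hB i)) ≫ U₀.ι =
            toSpec A (AlgebraicClosure K) := by
          rw [Category.assoc, toU_ι, specMap_toSpec]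
        rw [mem_relSet_iff _ _ _ _ _ hξ] at h h' ⊢
        exact h.trans h'
      mem_mem := by
        intro K _ _ φ i j a b h h'
        let k := IsScalarTower.toAlgHom A K (AlgebraicClosure K)
        rw [← RigidLabel.pt₂_comp k] at h h' ⊢
        obtain ⟨ζ, hζ⟩ := exists_zeta (U₀ := U₀) (k.comp φ) (pt_algebraMap_mem (hB i) (k.comp a))
        have hξ := resU_ι ζ (k.comp φ) hζ
        rw [mem_memSet_iff _ _ _ ζ _ hζ hξ] at h h'
        rw [mem_relSet_iff _ _ _ _ _ hξ]
        exact h.symm.trans h'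
      mem_rel := by
        intro K _ _ φ i j a b h h'
        let k := IsScalarTower.toAlgHom A K (AlgebraicClosure K)
        rw [← RigidLabel.pt₂_comp k] at h h' ⊢
        obtain ⟨ζ, hζ⟩ := exists_zeta (U₀ := U₀) (k.comp φ) (pt_algebraMap_mem (hB i) (k.comp a))
        have hξ := resU_ι ζ (k.comp φ) hζ
        rw [mem_memSet_iff _ _ _ ζ _ hζ hξ] at h ⊢
        rw [mem_relSet_iff _ _ _ _ _ hξ] at h'
        exact h.trans h'
      surj := by
        intro P hP
        let x : ((πc I) ⁻¹ᵁ U₀ : Scheme.{u}) := ⟨P, hP⟩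
        let v := (EtCore.bcTopIso f).inv.left x
        refine ⟨v, z v, hz v, ?_⟩
        have h1 : pullback.snd (𝟙 (U₀ : Scheme.{u})) f v = x :=
          congrArg (fun k => k x) (MorphismProperty.Over.w (EtCore.bcTopIso f).inv)
        have h2 : pullback.snd (toU (hB v)) f (cc (hB v) (z v)) = x := by
          rw [← h1]
          conv_rhs => rw [← hzv v]
          exact (congrArg (fun k => k (cc (hB v) (z v)))
            (MorphismProperty.Over.w ((EtCoh.bc f).map (toTop (obj (hB v)))))).symm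
        have h3 : toUh (hB v) (z v) = x := by
          rw [← cc_snd]
          exact h2
        show Spec.map (CommRingCat.ofHom (iL I (B v))) (z v) = P
        rw [← toUh_ι (hB v)]
        exact congrArg Subtype.val h3 }
  obtain ⟨T, hTo, hTM, hTR, hTU⟩ := RigidLabel.exists_descent D hI
  let To : ∀ i, (Spec (CommRingCat.of (B i))).Opens := fun i => ⟨T i, hTo i⟩
  haveI : ∀ i, Etale (toU (hB i)) := fun i => etale_toU (hB i)
  let V : _ → (U₀ : Scheme.{u}).Etale := fun i => Scheme.Etale.mk ((To i).ι ≫ toU (hB i))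
  let incl : ∀ i, V i ⟶ obj (hB i) := fun i => MorphismProperty.Over.homMk (To i).ι rfl trivial
  let R : Presieve (EtCoh.top (U₀ : Scheme.{u})) := Presieve.ofArrows V fun i => toTop (V i)
  have hcov : Sieve.generate R ∈ (U₀ : Scheme.{u}).smallEtaleTopology (EtCoh.top _) := by
    refine mem_topology_of_forall_exists _ fun x => ?_
    obtain ⟨i, w, hw, hwp⟩ := hTU (U₀.ι x) x.2
    refine ⟨V i, toTop (V i), ⟨w, hw⟩, Sieve.le_generate _ _ _ (Presieve.ofArrows.mk i), ?_⟩
    refine U₀.ι.injective ?_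
    have h1 : (toTop (V i)).left ≫ 𝟙 _ = (To i).ι ≫ toU (hB i) := MorphismProperty.Over.w (toTop (V i))
    rw [Category.comp_id] at h1
    rw [h1]
    exact ((congrArg (fun k => k w) (toU_ι (hB i))).trans hwp)
  have hsh : R.IsSheafFor F.obj :=
    (Presieve.isSheafFor_iff_generate R).2 (((isSheaf_iff_isSheaf_of_type _ _).1 F.property) _ hcov)
  obtain ⟨tg, htg, -⟩ := (Presieve.isSheafFor_arrows_iff _ _).1 hsh (fun i => F.obj.map (incl i).op (t i)) (by
    intro i j Z gi gj _
    refine eq_of_eqAt F _ _ fun z => ?_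
    obtain ⟨Ω, i₁, i₂, ξ, x, hx⟩ := exists_geomPoint z
    rw [eqAt_iff_germ F _ _ x hx, SetStalk.germ_res, SetStalk.germ_res, SetStalk.germ_res, SetStalk.germ_res]
    letI : Algebra A Ω := (Spec.preimage (ξ ≫ U₀.ι)).hom.toAlgebra
    have hξ : ξ ≫ U₀.ι = toSpec A Ω := (Spec.map_preimage (ξ ≫ U₀.ι)).symm
    let Φ := Scheme.pointSmallEtale ξ
    obtain ⟨a, ha⟩ := exists_xpt (hB i) hξ (Φ.fiber.map (incl i) (Φ.fiber.map gi x))
    obtain ⟨b, hb⟩ := exists_xpt (hB j) hξ (Φ.fiber.map (incl j) (Φ.fiber.map gj x))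
    have hTa : RigidLabel.pt a.toRingHom ∈ T i := by
      rw [← xpt_default (hB i) hξ a, ha]
      exact ((Φ.fiber.map gi x).left (default : Spec (CommRingCat.of Ω))).2
    have hTb : RigidLabel.pt b.toRingHom ∈ T j := by
      rw [← xpt_default (hB j) hξ b, hb]
      exact ((Φ.fiber.map gj x).left (default : Spec (CommRingCat.of Ω))).2
    have h := hTR i j (RigidLabel.pt₂ a b) (by rw [comap_left_pt₂]; exact hTa) (by rw [comap_right_pt₂]; exact hTb)
    rw [← ha, ← hb]
    exact (mem_relSet_iff (hB i) (hB j) F (t i) (t j) hξ a b).1 h)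
  refine ⟨tg, eq_of_eqAt _ _ _ fun v => ?_⟩
  obtain ⟨Ω, i₁, i₂, ζ, x', hx⟩ := exists_geomPoint v
  let ψ : CommRingCat.of (AdicCompletion I A) ⟶ CommRingCat.of Ω := Spec.preimage (ζ ≫ ((πc I) ⁻¹ᵁ U₀).ι)
  letI : Algebra A Ω := (ψ.hom.comp (algebraMap A (AdicCompletion I A))).toAlgebra
  let φ : AdicCompletion I A →ₐ[A] Ω := { toRingHom := ψ.hom, commutes' := fun _ => rfl }
  have hζ : ζ ≫ ((πc I) ⁻¹ᵁ U₀).ι = Spec.map (CommRingCat.ofHom φ.toRingHom) :=
    (Spec.map_preimage (ζ ≫ ((πc I) ⁻¹ᵁ U₀).ι)).symm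
  have hξ := resU_ι ζ φ hζ
  have hp : U₀.ι ((ζ ≫ f) (default : Spec (CommRingCat.of Ω))) = RigidLabel.pt (algebraMap A Ω) :=
    (congrArg (fun k => k (default : Spec (CommRingCat.of Ω))) hξ).trans (comap_eq_pt (algebraMap A Ω) _)
  obtain ⟨i, w, hwT, hwp⟩ := hTU (RigidLabel.pt (algebraMap A Ω)) (hp ▸ ((ζ ≫ f) _).2)
  obtain ⟨l, hl, hl'⟩ := Scheme.exists_fac_of_etale_of_isSepClosed (toU (hB i)) (ζ ≫ f) w
    (U₀.ι.injective (((congrArg (fun k => k w) (toU_ι (hB i))).trans hwp).trans hp.symm))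
  obtain ⟨a, ha⟩ := exists_xpt (hB i) hξ (Over.homMk l hl :
    Over.mk (ζ ≫ f) ⟶ (Scheme.Etale.forget _).obj (obj (hB i)))
  have hTa : RigidLabel.pt a.toRingHom ∈ T i := by
    rw [← xpt_default (hB i) hξ a, ha]
    exact hl'.symm ▸ hwT
  have hval : val F s' ζ = gm (hB i) F (t i) hξ a :=
    (mem_memSet_iff (hB i) F s' ζ φ hζ hξ (t i) a).1
      ((hTM i _).2 (by rw [comap_right_pt₂]; exact hTa))
  have hlT : Set.range l ⊆ Set.range (To i).ι := by
    rintro _ ⟨q, rfl⟩
    rw [Subsingleton.elim q (default : Spec (CommRingCat.of Ω)), hl', Scheme.Opens.range_ι]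
    exact hwT
  let lT := IsOpenImmersion.lift (To i).ι l hlT
  have hlT' : lT ≫ (To i).ι = l := IsOpenImmersion.lift_fac _ _ _
  let xT : (Scheme.pointSmallEtale (ζ ≫ f)).fiber.obj (V i) :=
    (Over.homMk lT (by
      change lT ≫ (To i).ι ≫ toU (hB i) = ζ ≫ f
      rw [reassoc_of% hlT', hl]) : Over.mk (ζ ≫ f) ⟶ (Scheme.Etale.forget _).obj (V i))
  have hxi : (Scheme.pointSmallEtale (ζ ≫ f)).fiber.map (incl i) xT = xpt (hB i) hξ a := by
    rw [ha]
    exact Over.OverMorphism.ext hlT'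
  obtain ⟨x, rfl⟩ := (fiberBcEquiv f ζ (EtCoh.top _)).surjective x'
  have hxt : x = (Scheme.pointSmallEtale (ζ ≫ f)).fiber.map (toTop (V i)) xT := topPt_eq _ _ _
  have hg : SetStalk.germ (ζ ≫ f) F (EtCoh.top _) x tg = val F s' ζ := by
    rw [hxt, ← SetStalk.germ_res, htg i, SetStalk.germ_res, hxi, hval]
    rfl
  refine (eqAt_iff_germ _ _ _ (fiberBcEquiv f ζ (EtCoh.top _) x) hx).2 ?_
  rw [secUp]
  refine (SetPush.germ_stalkPullShIso_inv f ζ F (EtCoh.top _) x tg).symm.trans ?_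
  rw [hg]
  refine (((SetStalk.stalkPullShIso f ζ).app F).hom_inv_id_apply _).trans ?_
  exact congrArg (fun y => SetStalk.germ ζ ((EtDesc.pullSh f).obj F) _ (fiberBcEquiv f ζ (EtCoh.top _) y) s')
    (topPt_eq (ζ ≫ f) _ x)

theorem secUp_injective' (hI : I.FG) [HenselianRing A I]
    (hUI : ∀ x : PrimeSpectrum A, x ∉ U₀.carrier → I ≤ x.asIdeal) :
    Function.Injective (secUp (resU U₀ I) F (V := EtCoh.top (U₀ : Scheme.{u}))) := by
  intro s s₁ h
  refine eq_of_eqAt F _ _ fun x => ?_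
  let O : Set (PrimeSpectrum A) := U₀.ι '' {y : (U₀ : Scheme.{u}) | EqAt F s s₁ y}
  have hO : IsOpen O := U₀.ι.isOpenEmbedding.isOpenMap _ (DescSh.isOpen_eqAt F s s₁)
  have hsub := RigidClopen.subset_of_preimage_subset (U := U₀.carrier) (V := U₀.carrier) (W := O) hI hUI
    subset_rfl ((show (U₀.carrier : Set (PrimeSpectrum A)) \ U₀.carrier = ∅ from Set.sdiff_self) ▸ isOpen_empty) hO (by
      intro P hP
      let x' : ((πc I) ⁻¹ᵁ U₀ : Scheme.{u}) := ⟨P, hP⟩
      let v := (EtCore.bcTopIso (resU U₀ I)).inv.left x'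
      have h1 : pullback.snd (𝟙 (U₀ : Scheme.{u})) (resU U₀ I) v = x' :=
        congrArg (fun k => k x') (MorphismProperty.Over.w (EtCore.bcTopIso (resU U₀ I)).inv)
      refine ⟨pullback.fst (𝟙 (U₀ : Scheme.{u})) (resU U₀ I) v,
        (eqAt_secUp_iff (resU U₀ I) F s s₁ v).1 (by rw [h]; exact ⟨_, 𝟙 _, v, rfl, rfl⟩), ?_⟩
      have h2 := congrArg (fun k => k v) (pullback.condition (f := 𝟙 (U₀ : Scheme.{u})) (g := resU U₀ I))
      refine (congrArg U₀.ι h2).trans ?_
      show ((resU U₀ I) ≫ U₀.ι) _ = _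
      rw [morphismRestrict_ι]
      exact congrArg (fun q => (πc I) (((πc I) ⁻¹ᵁ U₀).ι q)) h1)
  obtain ⟨y, hy, hyx⟩ := hsub (show (U₀.ι x : PrimeSpectrum A) ∈ U₀.carrier from x.2)
  rwa [← U₀.ι.injective hyx]

/-- Gabber rigidity for sections of sheaves of sets. -/
theorem secPull_bijective (hI : I.FG) [HenselianRing A I] (hU : IsCompact U₀.carrier)
    (hUI : ∀ x : PrimeSpectrum A, x ∉ U₀.carrier → I ≤ x.asIdeal) :
    Function.Bijective (EtDesc.secPull (resU U₀ I) F) := by
  have hb : Function.Bijective (secUp (resU U₀ I) F (V := EtCoh.top (U₀ : Scheme.{u}))) :=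
    ⟨secUp_injective' F hI hUI, fun s' => secUp_surjective F s' hI hU hUI⟩
  exact (((EtDesc.pullSh (resU U₀ I)).obj F).obj.mapIso
    (EtCore.bcTopIso (resU U₀ I)).symm.op).toEquiv.bijective.comp hb

end Groth.Agent.Hens.RigidSheaf
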