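import Groth.Agent.Hens.Local
import Groth.Agent.Hens.StrictAtPrime
import Groth.Agent.Hens.RigidAdic
import Groth.Agent.Hensel.Local
import Mathlib.FieldTheory.IsSepClosed
import Mathlib.RingTheory.Spectrum.Prime.ConstructibleSet
import Mathlib.Topology.Spectral.Prespectral

/-!
# The strict henselian local ring at a geometric point: residue field, completion, stages
-/

set_option autoImplicit false
set_option linter.style.haveILetI false

universe u

open IsLocalRing Polynomial TensorProduct

namespace Groth.Agent.Hens.RigidStage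

variable {R : Type u} [CommRing R] {K : Type u} [Field K] [Algebra R K]

/-- Simple roots at the point lift to the local ring. -/
theorem exists_point_eq (f : (EtLoc R K)[X]) (hf : f.Monic) (x : K)
    (h1 : f.eval₂ (point R K).toRingHom x = 0)
    (h2 : (derivative f).eval₂ (point R K).toRingHom x ≠ 0) : ∃ z, point R K z = x := by
  classical
  obtain ⟨A, _, _, hA, θ, hθ⟩ := exists_stage_finset f.coeffs
  have hlift : f ∈ Polynomial.lifts θ.toRingHom := by
    rw [Polynomial.lifts_iff_coeff_lifts]
    intro n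
    by_cases hn : f.coeff n = 0
    · exact ⟨0, by simp [hn]⟩
    · exact hθ _ (Polynomial.coeff_mem_coeffs hn)
  obtain ⟨F, hFmap, -, hFm⟩ := Polynomial.lifts_and_degree_eq_and_monic hlift hf
  let P : StandardEtalePair A := ⟨F, hFm, derivative F, 1, 0, 1, by simp⟩
  letI : Algebra R P.Ring := ((algebraMap A P.Ring).comp (algebraMap R A)).toAlgebra
  haveI : IsScalarTower R A P.Ring := .of_algebraMap_eq' rfl
  haveI : Algebra.Etale R P.Ring := Algebra.Etale.comp R A P.Ring
  letI : Algebra A K := ((point R K).toRingHom.comp θ.toRingHom).toAlgebra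
  haveI : IsScalarTower R A K := .of_algebraMap_eq' ((point R K).comp θ).comp_algebraMap.symm
  have hev : ∀ p : A[X], aeval x p = (p.map θ.toRingHom).eval₂ (point R K).toRingHom x := fun p => by
    rw [eval₂_map]; rfl
  have hP : P.HasMap x := by
    refine ⟨?_, IsUnit.mk0 _ ?_⟩
    · rw [hev, hFmap, h1]
    · rw [hev, ← derivative_map, hFmap]; exact h2
  obtain ⟨ψ, hψ, -⟩ := existsUnique_algHom_etLoc (R := R) (K := K)
    ((P.lift _ hP).restrictScalars R)
  refine ⟨ψ P.X, ?_⟩
  rw [← AlgHom.comp_apply, hψ]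
  simp

/-- A field quotient of the local ring is separably closed. -/
theorem isSepClosed_of_factor [IsSepClosed K] {κ : Type u} [Field κ] (s : EtLoc R K →+* κ)
    (hs : Function.Surjective s) (e : κ →+* K) (he : e.comp s = (point R K).toRingHom) :
    IsSepClosed κ := by
  refine IsSepClosed.of_exists_root κ fun p hp hirr hsep => ?_
  obtain ⟨f, hfp, -, hf⟩ := Polynomial.lifts_and_degree_eq_and_monic (f := s)
    (Polynomial.mem_lifts_of_surjective hs p) hp
  obtain ⟨x, hx⟩ := IsSepClosed.exists_eval₂_eq_zero e p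
    (by rw [Polynomial.degree_eq_natDegree hp.ne_zero]; exact_mod_cast hirr.natDegree_pos.ne') hsep
  have h1 : f.eval₂ (point R K).toRingHom x = 0 := by
    rw [← he, ← eval₂_map, hfp, hx]
  have h2 : (derivative f).eval₂ (point R K).toRingHom x ≠ 0 := by
    rw [← he, ← eval₂_map, ← derivative_map, hfp]
    exact hsep.eval₂_derivative_ne_zero e hx
  obtain ⟨z, hz⟩ := exists_point_eq f hf x h1 h2
  refine ⟨s z, e.injective ?_⟩
  rw [map_zero, ← Polynomial.eval₂_at_apply, show e (s z) = point R K z from RingHom.congr_fun he z, hz]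
  exact hx

section Completion

variable {L : Type u} [CommRing L] [HenselianLocalRing L] {J : Ideal L}

/-- The residue map of the completion. -/
noncomputable def resC (hJ : J ≤ maximalIdeal L) : AdicCompletion J L →+* ResidueField L :=
  (Ideal.Quotient.factor (S := J ^ 1) (T := maximalIdeal L) ((pow_one J).trans_le hJ)).comp
    (AdicCompletion.evalₐ J 1).toRingHom

theorem resC_algebraMap (hJ : J ≤ maximalIdeal L) (r : L) :
    resC hJ (algebraMap L _ r) = residue L r := by
  simp [resC]
  rfl

theorem resC_surjective (hJ : J ≤ maximalIdeal L) : Function.Surjective (resC hJ) := fun y => by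
  obtain ⟨r, rfl⟩ := residue_surjective y
  exact ⟨_, resC_algebraMap hJ r⟩

theorem resC_eq_zero_of_mem (hJ : J ≤ maximalIdeal L) {x : AdicCompletion J L}
    (hx : x ∈ J.map (algebraMap L (AdicCompletion J L))) : resC hJ x = 0 := by
  have : J.map (algebraMap L (AdicCompletion J L)) ≤ RingHom.ker (resC hJ) :=
    Ideal.map_le_iff_le_comap.2 fun r hr => by
      rw [Ideal.mem_comap, RingHom.mem_ker, resC_algebraMap, residue_eq_zero_iff]
      exact hJ hr
  exact this hx

theorem isUnit_iff_resC (hJ : J ≤ maximalIdeal L) (hfg : J.FG) (x : AdicCompletion J L) :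
    IsUnit x ↔ resC hJ x ≠ 0 := by
  refine ⟨fun h => (h.map (resC hJ)).ne_zero, fun h => ?_⟩
  obtain ⟨r, hr⟩ := RigidAdic.exists_sub_mem hfg 1 x
  rw [pow_one] at hr
  have hru : IsUnit r := by
    rw [← IsLocalRing.notMem_maximalIdeal, ← residue_eq_zero_iff, ← resC_algebraMap hJ]
    have := resC_eq_zero_of_mem hJ hr
    rw [map_sub, sub_eq_zero] at this
    exact this ▸ h
  obtain ⟨v, hv⟩ := (hru.map (algebraMap L (AdicCompletion J L))).exists_right_inv
  haveI := AdicCompletion.isAdicComplete_self J hfg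
  have hj := Ideal.mem_jacobson_bot.1 (IsAdicComplete.le_jacobson_bot _ hr) v
  have : x * v = (x - algebraMap L _ r) * v + 1 := by linear_combination hv
  rw [← this] at hj
  exact isUnit_of_mul_isUnit_left hj

theorem isLocalRing_completion (hJ : J ≤ maximalIdeal L) (hfg : J.FG) :
    IsLocalRing (AdicCompletion J L) := by
  haveI : Nontrivial (AdicCompletion J L) := (resC hJ).domain_nontrivial
  refine IsLocalRing.of_isUnit_or_isUnit_one_sub_self fun x => ?_
  rw [isUnit_iff_resC hJ hfg, isUnit_iff_resC hJ hfg, map_sub, map_one]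
  by_cases h : resC hJ x = 0
  · right; simp [h]
  · exact Or.inl h

theorem isLocalHom_resC (hJ : J ≤ maximalIdeal L) (hfg : J.FG) : IsLocalHom (resC hJ) :=
  ⟨fun x hx => (isUnit_iff_resC hJ hfg x).2 hx.ne_zero⟩

theorem henselianLocalRing_completion (hJ : J ≤ maximalIdeal L) (hfg : J.FG) :
    HenselianLocalRing (AdicCompletion J L) := by
  haveI := isLocalRing_completion hJ hfg
  set C := AdicCompletion J L
  set JC := J.map (algebraMap L C)
  haveI : HenselianRing C JC := by
    haveI := AdicCompletion.isAdicComplete_self J hfg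
    exact IsAdicComplete.henselianRing _ _
  have hm : maximalIdeal C = RingHom.ker (resC hJ) := Ideal.ext fun x => by
    rw [mem_maximalIdeal, mem_nonunits_iff, isUnit_iff_resC hJ hfg, not_not, RingHom.mem_ker]
  have hle : JC ≤ maximalIdeal C := fun x hx => by
    rw [hm]; exact resC_eq_zero_of_mem hJ hx
  have hsurj : Function.Surjective ((Ideal.Quotient.mk JC).comp (algebraMap L C)) := fun y => by
    obtain ⟨x, rfl⟩ := Ideal.Quotient.mk_surjective y
    obtain ⟨r, hr⟩ := RigidAdic.exists_sub_mem hfg 1 x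
    rw [pow_one] at hr
    exact ⟨r, (Ideal.Quotient.eq.2 hr).symm⟩
  letI : Algebra L (C ⧸ JC) := ((Ideal.Quotient.mk JC).comp (algebraMap L C)).toAlgebra
  haveI : Algebra.IsIntegral L (C ⧸ JC) := ⟨fun y => by
    obtain ⟨r, rfl⟩ := hsurj y
    exact isIntegral_algebraMap⟩
  have hid : (maximalIdeal L).map ((Ideal.Quotient.mk JC).comp (algebraMap L C)) =
      (maximalIdeal C).map (Ideal.Quotient.mk JC) := by
    refine le_antisymm ?_ (Ideal.map_le_iff_le_comap.2 fun x hx => ?_)
    · rw [← Ideal.map_map]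
      refine Ideal.map_mono (Ideal.map_le_iff_le_comap.2 fun r hr => ?_)
      rw [Ideal.mem_comap, hm, RingHom.mem_ker, resC_algebraMap, residue_eq_zero_iff]
      exact hr
    · obtain ⟨r, hr⟩ := hsurj (Ideal.Quotient.mk JC x)
      rw [Ideal.mem_comap, ← hr]
      refine Ideal.mem_map_of_mem _ ?_
      rw [← residue_eq_zero_iff, ← resC_algebraMap hJ]
      have h1 : algebraMap L C r - x ∈ JC := Ideal.Quotient.eq.1 hr
      have := resC_eq_zero_of_mem hJ h1
      rw [map_sub, sub_eq_zero] at this
      rw [this, ← RingHom.mem_ker, ← hm]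
      exact hx
  haveI : HenselianRing (C ⧸ JC) ((maximalIdeal C).map (Ideal.Quotient.mk JC)) :=
    hid ▸ Hensel.henselianRing_of_isIntegral (I := maximalIdeal L) (C ⧸ JC)
  haveI := Hensel.henselianRing_trans hle
  exact Hensel.henselianLocalRing_of_henselianRing (R := C) inferInstance

end Completion

/-- Separable geometric points of an etale algebra lift to strictly henselian local rings. -/
theorem exists_lift_point {A T S : Type u} [CommRing A] [CommRing T] [HenselianLocalRing T]
    [IsSepClosed (ResidueField T)] [Algebra A T] [Algebra A K] [CommRing S] [Algebra A S]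
    [Algebra.Etale A S] (g : T →ₐ[A] K) [IsLocalHom g.toRingHom] (χ : S →ₐ[A] K) :
    ∃ τ : S →ₐ[A] T, g.comp τ = χ := by
  let gres : ResidueField T →+* K := IsLocalRing.ResidueField.lift g.toRingHom
  letI : Algebra (ResidueField T) K := gres.toAlgebra
  haveI : IsScalarTower A (ResidueField T) K := IsScalarTower.of_algebraMap_eq fun r => by
    show _ = gres (algebraMap A _ r)
    rw [IsScalarTower.algebraMap_apply A T (ResidueField T)]
    exact (g.commutes r).symm
  have hrange : ∀ b, ∃ y : ResidueField T, algebraMap _ K y = χ b := by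
    intro b
    let φ : ResidueField T ⊗[A] S →ₐ[ResidueField T] K :=
      Algebra.TensorProduct.lift (Algebra.ofId _ K) χ fun _ _ => .all _ _
    have hb : IsSeparable (ResidueField T) (χ b) := by
      have := isSeparable_of_etale_field φ ((1 : ResidueField T) ⊗ₜ[A] b)
      simpa [φ] using this
    exact minpoly.degree_eq_one_iff.1
      (IsSepClosed.degree_eq_one_of_irreducible (ResidueField T) (minpoly.irreducible hb.isIntegral) hb)
  choose σ hσ using hrange
  let σ' : S →ₐ[A] ResidueField T :=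
    { toFun := σ
      map_one' := (algebraMap _ K).injective (by rw [hσ, map_one, map_one])
      map_mul' := fun x y => (algebraMap _ K).injective (by rw [hσ, map_mul, map_mul, hσ, hσ])
      map_zero' := (algebraMap _ K).injective (by rw [hσ, map_zero, map_zero])
      map_add' := fun x y => (algebraMap _ K).injective (by rw [hσ, map_add, map_add, hσ, hσ])
      commutes' := fun r => (algebraMap _ K).injective (by
        rw [hσ, AlgHom.commutes, ← IsScalarTower.algebraMap_apply]) }
  obtain ⟨τ, hτ, -⟩ := Groth.Agent.Hensel.existsUnique_algHom_residue S σ'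
  refine ⟨τ, AlgHom.ext fun b => ?_⟩
  rw [← hσ b]
  show gres (residue _ (τ b)) = gres (σ' b)
  rw [hτ]

section Avoid

variable {B : Type u} [CommRing B] [Algebra R B] [Algebra.Etale R B]

/-- Stages containing given elements. -/
theorem exists_stage_comb (θ : B →ₐ[R] EtLoc R K) (s : Finset (EtLoc R K)) :
    ∃ (D : Type u) (_ : CommRing D) (_ : Algebra R D) (_ : Algebra.Etale R D)
      (β : B →ₐ[R] D) (η : D →ₐ[R] EtLoc R K), η.comp β = θ ∧ ∀ z ∈ s, z ∈ η.range := by
  obtain ⟨A, _, _, _, α, hα⟩ := exists_stage_finset s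
  refine ⟨B ⊗[R] A, inferInstance, inferInstance, Algebra.Etale.comp R B _,
    Algebra.TensorProduct.includeLeft, Algebra.TensorProduct.productMap θ α,
    Algebra.TensorProduct.productMap_left θ α, fun z hz => ?_⟩
  obtain ⟨a, rfl⟩ := hα z hz
  exact ⟨1 ⊗ₜ a, Algebra.TensorProduct.productMap_right_apply θ α a⟩

/-- Vanishing at the local ring happens at a stage. -/
theorem exists_stage_zero (θ : B →ₐ[R] EtLoc R K) {b : B} (hb : θ b = 0) :
    ∃ (D : Type u) (_ : CommRing D) (_ : Algebra R D) (_ : Algebra.Etale R D)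
      (β : B →ₐ[R] D) (η : D →ₐ[R] EtLoc R K), η.comp β = θ ∧ β b = 0 := by
  obtain ⟨s, hs, hsb⟩ := exists_mul_eq_zero_of_map_eq_zero θ hb
  have hu : IsUnit (θ s) := isUnit_of_map_unit (point R K).toRingHom _ (IsUnit.mk0 _ hs)
  haveI : Algebra.Etale B (Localization.Away s) := Algebra.Etale.of_isLocalizationAway s
  refine ⟨Localization.Away s, inferInstance, inferInstance, Algebra.Etale.comp R B _,
    IsScalarTower.toAlgHom R B _, awayExt θ s hu, awayExt_comp θ s hu, ?_⟩
  show algebraMap B (Localization.Away s) b = 0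
  have := congrArg (algebraMap B (Localization.Away s)) hsb
  rw [map_mul, map_zero] at this
  exact ((IsLocalization.Away.algebraMap_isUnit s).mul_right_eq_zero).1 this

theorem exists_avoid_basic (θ : B →ₐ[R] EtLoc R K) (C : PrimeSpectrum.BasicConstructibleSetData B)
    (h : ∀ x : PrimeSpectrum (EtLoc R K), PrimeSpectrum.comap θ.toRingHom x ∉ C.toSet) :
    ∃ (D : Type u) (_ : CommRing D) (_ : Algebra R D) (_ : Algebra.Etale R D)
      (β : B →ₐ[R] D) (η : D →ₐ[R] EtLoc R K), η.comp β = θ ∧
        ∀ w : PrimeSpectrum D, PrimeSpectrum.comap β.toRingHom w ∉ C.toSet := by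
  classical
  have hrad : θ C.f ∈ (Ideal.span (Set.range fun k => θ (C.g k))).radical := by
    rw [Ideal.radical_eq_sInf, Submodule.mem_sInf]
    rintro x ⟨hx, hxp⟩
    by_contra hf
    refine h ⟨x, hxp⟩ ⟨?_, fun hf' => hf (hf' (Set.mem_singleton _))⟩
    rintro _ ⟨k, rfl⟩
    exact hx (Ideal.subset_span ⟨k, rfl⟩)
  obtain ⟨N, hN⟩ := hrad
  obtain ⟨l, hl⟩ := Ideal.mem_span_range_iff_exists_fun.1 hN
  obtain ⟨D₁, _, _, _, β₁, η₁, hη₁, hl₁⟩ := exists_stage_comb θ (Finset.univ.image l)
  choose d hd using fun k => hl₁ (l k) (Finset.mem_image_of_mem l (Finset.mem_univ k))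
  have hd' : ∀ k, η₁ (d k) = l k := hd
  have hzero : η₁ (∑ k, d k * β₁ (C.g k) - β₁ C.f ^ N) = 0 := by
    rw [map_sub, map_sum, map_pow, sub_eq_zero, ← AlgHom.comp_apply, hη₁, ← hl]
    refine Finset.sum_congr rfl fun k _ => ?_
    rw [map_mul, hd', ← AlgHom.comp_apply, hη₁]
  obtain ⟨D, iD, iA, iE, β₂, η, hη, hz⟩ := exists_stage_zero η₁ hzero
  refine ⟨D, iD, iA, iE, β₂.comp β₁, η, by rw [← AlgHom.comp_assoc, hη, hη₁], fun w hw => ?_⟩
  obtain ⟨hg, hf⟩ := hw
  rw [map_sub, sub_eq_zero, map_sum, map_pow] at hz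
  refine hf ?_
  rintro _ rfl
  refine w.2.mem_of_pow_mem N ?_
  show (β₂ (β₁ C.f)) ^ N ∈ w.asIdeal
  rw [← hz]
  refine Ideal.sum_mem _ fun k _ => ?_
  rw [map_mul]
  exact Ideal.mul_mem_left _ _ (hg ⟨k, rfl⟩)

/-- A constructible set avoided by the local ring is avoided at a stage. -/
theorem exists_avoid (θ : B →ₐ[R] EtLoc R K) {Y : Set (PrimeSpectrum B)}
    (hY : Topology.IsConstructible Y)
    (h : ∀ x : PrimeSpectrum (EtLoc R K), PrimeSpectrum.comap θ.toRingHom x ∉ Y) :
    ∃ (D : Type u) (_ : CommRing D) (_ : Algebra R D) (_ : Algebra.Etale R D)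
      (β : B →ₐ[R] D) (η : D →ₐ[R] EtLoc R K), η.comp β = θ ∧
        ∀ w : PrimeSpectrum D, PrimeSpectrum.comap β.toRingHom w ∉ Y := by
  classical
  obtain ⟨S, rfl⟩ := PrimeSpectrum.exists_constructibleSetData_iff.2 hY
  suffices H : ∀ T : Finset (PrimeSpectrum.BasicConstructibleSetData B),
      (∀ C ∈ T, ∀ x : PrimeSpectrum (EtLoc R K), PrimeSpectrum.comap θ.toRingHom x ∉ C.toSet) →
      ∃ (D : Type u) (_ : CommRing D) (_ : Algebra R D) (_ : Algebra.Etale R D)
        (β : B →ₐ[R] D) (η : D →ₐ[R] EtLoc R K), η.comp β = θ ∧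
          ∀ C ∈ T, ∀ w : PrimeSpectrum D, PrimeSpectrum.comap β.toRingHom w ∉ C.toSet by
    obtain ⟨D, iD, iA, iE, β, η, hη, hD⟩ := H S fun C hC x hx => h x (Set.mem_biUnion hC hx)
    refine ⟨D, iD, iA, iE, β, η, hη, fun w hw => ?_⟩
    obtain ⟨C, hC, hC'⟩ := Set.mem_iUnion₂.1 hw
    exact hD C hC w hC'
  intro T
  induction T using Finset.induction with
  | empty =>
    intro _
    exact ⟨B, inferInstance, inferInstance, inferInstance, AlgHom.id R B, θ, rfl, by simp⟩
  | insert C T hCT ih =>
    intro hT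
    obtain ⟨D₁, _, _, _, β₁, η₁, hη₁, hD₁⟩ := ih fun C' hC' => hT C' (Finset.mem_insert_of_mem hC')
    obtain ⟨D, iD, iA, iE, β, η, hη, hD⟩ := exists_avoid_basic η₁ (C.map β₁.toRingHom) fun x hx => by
      rw [PrimeSpectrum.BasicConstructibleSetData.toSet_map, Set.mem_preimage,
        ← PrimeSpectrum.comap_comp_apply] at hx
      refine hT C (Finset.mem_insert_self _ _) x ?_
      rw [← hη₁]
      exact hx
    refine ⟨D, iD, iA, iE, β.comp β₁, η, by rw [← AlgHom.comp_assoc, hη, hη₁], fun C' hC' w => ?_⟩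
    rcases Finset.mem_insert.1 hC' with rfl | hC'
    · intro hw
      refine hD w ?_
      rw [PrimeSpectrum.BasicConstructibleSetData.toSet_map, Set.mem_preimage,
        ← PrimeSpectrum.comap_comp_apply]
      exact hw
    · intro hw
      exact hD₁ C' hC' (PrimeSpectrum.comap β.toRingHom w) hw

end Avoid

end Groth.Agent.Hens.RigidStage
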