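import Groth.Agent.Hens.RigidPush
import Groth.Agent.Hens.RigidStage
import Groth.Agent.Hens.RigidSecPull
import Mathlib.RingTheory.Spectrum.Prime.Chevalley

/-!
# Sections over the completion come from etale neighbourhoods
-/

set_option autoImplicit false
set_option linter.style.haveILetI false
set_option backward.isDefEq.respectTransparency.types false

universe u

open CategoryTheory CategoryTheory.Limits AlgebraicGeometry Opposite TensorProduct
open Groth.Agent.EtaleSite Groth.Agent.DescSh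

namespace Groth.Agent.Hens.RigidSheaf

section Algebra

variable {A : Type u} [CommRing A]

/-- A point of an etale algebra over a geometric point. -/
theorem exists_algHom_over {S K : Type u} [CommRing S] [Algebra A S] [Algebra.Etale A S] [Field K]
    [IsSepClosed K] [Algebra A K] (w : PrimeSpectrum S)
    (hw : PrimeSpectrum.comap (algebraMap A S) w = RigidLabel.pt (algebraMap A K)) :
    ∃ a : S →ₐ[A] K, RigidLabel.pt a.toRingHom = w := by
  haveI := etale_toSpec (A := A) S
  obtain ⟨l, hl, hlw⟩ := Scheme.exists_fac_of_etale_of_isSepClosed (toSpec A S) (toSpec A K) w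
    (hw.trans (comap_eq_pt (algebraMap A K) _).symm)
  have h1 : (Spec.preimage l).hom.comp (algebraMap A S) = algebraMap A K := by
    have h2 : Spec.map (CommRingCat.ofHom (algebraMap A S) ≫ Spec.preimage l) = toSpec A K := by
      rw [Spec.map_comp, Spec.map_preimage]; exact hl
    exact congrArg CommRingCat.Hom.hom (Spec.map_injective h2)
  refine ⟨{ toRingHom := (Spec.preimage l).hom, commutes' := fun r => RingHom.congr_fun h1 r }, ?_⟩
  rw [← hlw]
  have hl' : l = Spec.map (CommRingCat.ofHom (Spec.preimage l).hom) := by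
    rw [CommRingCat.ofHom_hom, Spec.map_preimage]
  conv_rhs => rw [hl']
  exact (comap_eq_pt (Spec.preimage l).hom _).symm

/-- Points with the same image have a common field. -/
theorem exists_common_field {B L N : Type u} [CommRing B] [CommRing L] [CommRing N] (θ : B →+* L)
    (f : B →+* N) (x : PrimeSpectrum L) (w : PrimeSpectrum N)
    (h : PrimeSpectrum.comap θ x = PrimeSpectrum.comap f w) :
    ∃ (K : Type u) (_ : Field K) (_ : IsAlgClosed K) (l : L →+* K) (n : N →+* K),
      RigidLabel.pt l = x ∧ RigidLabel.pt n = w ∧ l.comp θ = n.comp f := by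
  let b := PrimeSpectrum.comap θ x
  have hl : ∀ {S : Type u} [CommRing S] (g : B →+* S) (z : PrimeSpectrum S), PrimeSpectrum.comap g z = b →
      ∃ k : b.asIdeal.ResidueField →+* z.asIdeal.ResidueField,
        k.comp (algebraMap B _) = (algebraMap S _).comp g := by
    intro S _ g z hz
    have h1 : b.asIdeal ≤ RingHom.ker ((algebraMap S z.asIdeal.ResidueField).comp g) := fun y hy => by
      rw [RingHom.mem_ker, RingHom.comp_apply, Ideal.algebraMap_residueField_eq_zero]
      rw [← hz] at hy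
      exact hy
    have h2 : b.asIdeal.primeCompl ≤
        (IsUnit.submonoid z.asIdeal.ResidueField).comap ((algebraMap S z.asIdeal.ResidueField).comp g) :=
      fun y hy => IsUnit.mk0 _ fun h0 => hy (by
        rw [RingHom.comp_apply, Ideal.algebraMap_residueField_eq_zero] at h0
        rw [← hz]
        exact h0)
    exact ⟨Ideal.ResidueField.lift b.asIdeal ((algebraMap S z.asIdeal.ResidueField).comp g) h1 h2,
      RingHom.ext fun y => Ideal.ResidueField.lift_algebraMap b.asIdeal _ h1 h2 y⟩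
  obtain ⟨kx, hkx⟩ := hl θ x rfl
  obtain ⟨kw, hkw⟩ := hl f w h.symm
  letI := kx.toAlgebra
  letI := kw.toAlgebra
  let T := x.asIdeal.ResidueField ⊗[b.asIdeal.ResidueField] w.asIdeal.ResidueField
  obtain ⟨m, hm⟩ := Ideal.exists_maximal T
  letI := Ideal.Quotient.field m
  let q : T →+* AlgebraicClosure (T ⧸ m) :=
    (algebraMap (T ⧸ m) (AlgebraicClosure (T ⧸ m))).comp (Ideal.Quotient.mk m)
  let qx := q.comp (Algebra.TensorProduct.includeLeftRingHom :
    x.asIdeal.ResidueField →+* T)
  let qw := q.comp (Algebra.TensorProduct.includeRight (R := b.asIdeal.ResidueField)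
    (A := x.asIdeal.ResidueField) (B := w.asIdeal.ResidueField)).toRingHom
  refine ⟨AlgebraicClosure (T ⧸ m), inferInstance, inferInstance, qx.comp (algebraMap L _),
    qw.comp (algebraMap N _), ?_, ?_, RingHom.ext fun y => ?_⟩
  · refine PrimeSpectrum.ext (Ideal.ext fun y => ?_)
    show qx (algebraMap L _ y) = 0 ↔ y ∈ x.asIdeal
    rw [map_eq_zero, Ideal.algebraMap_residueField_eq_zero]
  · refine PrimeSpectrum.ext (Ideal.ext fun y => ?_)
    show qw (algebraMap N _ y) = 0 ↔ y ∈ w.asIdeal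
    rw [map_eq_zero, Ideal.algebraMap_residueField_eq_zero]
  · show qx (algebraMap L _ (θ y)) = qw (algebraMap N _ (f y))
    rw [← RingHom.comp_apply _ θ, ← hkx, ← RingHom.comp_apply _ f, ← hkw]
    refine congrArg q ?_
    show kx (algebraMap B _ y) ⊗ₜ[b.asIdeal.ResidueField] (1 : w.asIdeal.ResidueField) =
      (1 : x.asIdeal.ResidueField) ⊗ₜ[b.asIdeal.ResidueField] kw (algebraMap B _ y)
    exact ((Algebra.TensorProduct.includeLeft :
        x.asIdeal.ResidueField →ₐ[b.asIdeal.ResidueField] T).commutes _).trans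
      ((Algebra.TensorProduct.includeRight : w.asIdeal.ResidueField →ₐ[b.asIdeal.ResidueField] T).commutes _).symm

theorem isCompact_preimage {S : Type u} [CommRing S] (g : A →+* S) {U : Set (PrimeSpectrum A)}
    (hU : IsCompact U) (hUo : IsOpen U) : IsCompact (PrimeSpectrum.comap g ⁻¹' U) := by
  obtain ⟨K, hK, hKU⟩ := PrimeSpectrum.isCompact_isOpen_iff_ideal.1 ⟨hU, hUo⟩
  refine (PrimeSpectrum.isCompact_isOpen_iff_ideal.2 ⟨K.map g, hK.map _, ?_⟩).1
  rw [← hKU, Set.preimage_compl, PrimeSpectrum.preimage_comap_zeroLocus]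
  exact congrArg compl (PrimeSpectrum.zeroLocus_span _)

theorem forall_comap_mem {K : Type u} [Field K] [Algebra A K] {U : Set (PrimeSpectrum A)}
    (h : RigidLabel.pt (algebraMap A K) ∈ U) (w : PrimeSpectrum K) :
    PrimeSpectrum.comap (algebraMap A K) w ∈ U := by
  rwa [comap_eq_pt]

theorem forall_comap_mem_completion {I : Ideal A} {U : Set (PrimeSpectrum A)} {S : Type u} [CommRing S]
    [Algebra A S] [Algebra (AdicCompletion I A) S] [IsScalarTower A (AdicCompletion I A) S]
    (h : ∀ w : PrimeSpectrum S, PrimeSpectrum.comap (algebraMap A S) w ∈ U) (w : PrimeSpectrum S) :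
    PrimeSpectrum.comap (algebraMap (AdicCompletion I A) S) w ∈
      PrimeSpectrum.comap (algebraMap A (AdicCompletion I A)) ⁻¹' U := by
  show PrimeSpectrum.comap _ (PrimeSpectrum.comap _ w) ∈ U
  rw [← PrimeSpectrum.comap_comp_apply, ← IsScalarTower.algebraMap_eq]
  exact h w

/-- Finitely many elements of a tensor product involve finitely many coefficients. -/
theorem exists_coeffs {L M : Type u} [CommRing L] [CommRing M] [Algebra A L] [Algebra A M] (c : L ⊗[A] M) :
    ∃ s : Finset L, ∀ (D : Type u) [CommRing D] [Algebra A D] (η : D →ₐ[A] L),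
      (∀ l ∈ s, l ∈ η.range) → ∃ c' : D ⊗[A] M, Algebra.TensorProduct.map η (AlgHom.id A M) c' = c := by
  classical
  induction c using TensorProduct.induction_on with
  | zero => exact ⟨∅, fun D _ _ η _ => ⟨0, map_zero _⟩⟩
  | tmul l m =>
    refine ⟨{l}, fun D _ _ η h => ?_⟩
    obtain ⟨d, hd⟩ := h l (Finset.mem_singleton_self l)
    exact ⟨d ⊗ₜ m, by rw [Algebra.TensorProduct.map_tmul]; exact congrArg (· ⊗ₜ m) hd⟩
  | add c₁ c₂ h₁ h₂ =>
    obtain ⟨s₁, hs₁⟩ := h₁
    obtain ⟨s₂, hs₂⟩ := h₂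
    refine ⟨s₁ ∪ s₂, fun D _ _ η h => ?_⟩
    obtain ⟨d₁, hd₁⟩ := hs₁ D η fun l hl => h l (Finset.mem_union_left _ hl)
    obtain ⟨d₂, hd₂⟩ := hs₂ D η fun l hl => h l (Finset.mem_union_right _ hl)
    exact ⟨d₁ + d₂, by rw [map_add, hd₁, hd₂]⟩

end Algebra

section Local

variable {A : Type u} [CommRing A] {I : Ideal A} (Ω : Type u) [Field Ω] [Algebra A Ω]

variable (I) in
/-- The completion of the strict henselization. -/
abbrev Lc : Type u := AdicCompletion (I.map (algebraMap A (EtLoc A Ω))) (EtLoc A Ω)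

noncomputable instance algLc : Algebra (AdicCompletion I A) (Lc I Ω) :=
  (RigidLabel.toCompl I (EtLoc A Ω)).toRingHom.toAlgebra

instance tower_Lc : IsScalarTower A (AdicCompletion I A) (Lc I Ω) :=
  IsScalarTower.of_algebraMap_eq fun r => ((RigidLabel.toCompl I (EtLoc A Ω)).commutes r).symm

theorem map_le_maximal (hIΩ : ∀ x ∈ I, algebraMap A Ω x = 0) :
    I.map (algebraMap A (EtLoc A Ω)) ≤ IsLocalRing.maximalIdeal (EtLoc A Ω) :=
  Ideal.map_le_iff_le_comap.2 fun x hx => by
    rw [Ideal.mem_comap, mem_maximalIdeal_iff_point, AlgHom.commutes]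
    exact hIΩ x hx

end Local

variable {A : Type u} [CommRing A] {I : Ideal A} {U₀ : (Spec (CommRingCat.of A)).Opens}

set_option maxHeartbeats 3200000 in
set_option synthInstance.maxHeartbeats 200000 in
/-- A section on the completion is the image of a section on an etale neighbourhood. -/
theorem exists_glued (hI : I.FG) (hU : IsCompact U₀.carrier)
    (hUI : ∀ x : PrimeSpectrum A, x ∉ U₀.carrier → I ≤ x.asIdeal) (F : EtDesc.Sh (U₀ : Scheme.{u}))
    (Ω : Type u) [Field Ω] [Algebra A Ω] (hIΩ : ∀ x ∈ I, algebraMap A Ω x = 0)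
    {R : Type u} [CommRing R] [Algebra A R] [Algebra (AdicCompletion I A) R]
    [IsScalarTower A (AdicCompletion I A) R] [Algebra.Etale (AdicCompletion I A) R]
    (τ : R →ₐ[AdicCompletion I A] Lc I Ω)
    (s : ((EtDesc.pullSh (resU U₀ I)).obj F).obj.obj (op (objW ((πc I) ⁻¹ᵁ U₀) R))) :
    ∃ (B : Type u) (_ : CommRing B) (_ : Algebra A B) (_ : Algebra.Etale A B)
      (θ : B →ₐ[A] EtLoc A Ω) (t : F.obj.obj (op (objW U₀ B))),
      ∀ (K : Type u) [Field K] [IsSepClosed K] [Algebra A K] [Algebra (AdicCompletion I A) K]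
        [IsScalarTower A (AdicCompletion I A) K]
        (ζ : Spec (CommRingCat.of K) ⟶ ((πc I) ⁻¹ᵁ U₀ : Scheme.{u}))
        (hζ : ζ ≫ ((πc I) ⁻¹ᵁ U₀).ι = toSpec (AdicCompletion I A) K)
        (ψ : Lc I Ω →ₐ[AdicCompletion I A] K),
        dn F (pv _ s hζ (ψ.comp τ)) =
          pv F t (hξ_of_hζ hζ) ((ψ.restrictScalars A).comp ((IsScalarTower.toAlgHom A (EtLoc A Ω) _).comp θ)) := by
  classical
  set L := EtLoc A Ω
  set J := I.map (algebraMap A L)
  have hJm : J ≤ IsLocalRing.maximalIdeal L := map_le_maximal Ω hIΩ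
  haveI : HenselianRing L (IsLocalRing.maximalIdeal L) := inferInstance
  haveI : HenselianRing L J := Hensel.henselianRing_of_le hJm
  let G := (EtDesc.pullSh (resU U₀ I)).obj F
  let UL : Set (PrimeSpectrum L) := PrimeSpectrum.comap (algebraMap A L) ⁻¹' U₀.carrier
  have hULc : IsCompact UL := isCompact_preimage _ hU U₀.is_open'
  -- charts
  have hchart : ∀ P : {P : PrimeSpectrum (Lc I Ω) //
      PrimeSpectrum.comap (algebraMap A (Lc I Ω)) P ∈ U₀.carrier},
      ∃ (C : Type u) (_ : CommRing C) (_ : Algebra A C) (_ : Algebra.Etale A C)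
        (hC : ∀ w : PrimeSpectrum C, PrimeSpectrum.comap (algebraMap A C) w ∈ U₀.carrier)
        (t : F.obj.obj (op (obj hC))) (a : C →ₐ[A] RigidLabel.Kc P.1),
        ∃ (ζ : Spec (CommRingCat.of (RigidLabel.Kc P.1)) ⟶ ((πc I) ⁻¹ᵁ U₀ : Scheme.{u}))
          (hζ : ζ ≫ ((πc I) ⁻¹ᵁ U₀).ι = toSpec (AdicCompletion I A) (RigidLabel.Kc P.1)),
          dn F (pv G s hζ ((RigidLabel.χc (A := AdicCompletion I A) P.1).comp τ)) =
            gm hC F t (hξ_of_hζ hζ) a := by
    intro P
    have hp : ∀ w : PrimeSpectrum (RigidLabel.Kc P.1),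
        PrimeSpectrum.comap (algebraMap A (RigidLabel.Kc P.1)) w ∈ U₀.carrier :=
      forall_comap_mem (by
        have h0 : RigidLabel.pt (algebraMap A (RigidLabel.Kc P.1)) =
            PrimeSpectrum.comap (algebraMap A (Lc I Ω)) P.1 :=
          PrimeSpectrum.ext (Ideal.ext fun x => by
            show algebraMap A (RigidLabel.Kc P.1) x = 0 ↔ algebraMap A (Lc I Ω) x ∈ P.1.asIdeal
            rw [IsScalarTower.algebraMap_apply A (Lc I Ω) (RigidLabel.Kc P.1)]
            exact RigidLabel.χc_eq_zero_iff (A := Lc I Ω) P.1 _)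
        rw [h0]
        exact P.2)
    let ζ := toU (U₀ := (πc I) ⁻¹ᵁ U₀) (B := RigidLabel.Kc P.1) (forall_comap_mem_completion hp)
    have hζ : ζ ≫ ((πc I) ⁻¹ᵁ U₀).ι = toSpec (AdicCompletion I A) (RigidLabel.Kc P.1) := toU_ι _
    obtain ⟨V, y, t₀, ht₀⟩ := SetStalk.exists_germ_eq (ζ ≫ resU U₀ I) F
      (dn F (pv G s hζ ((RigidLabel.χc (A := AdicCompletion I A) P.1).comp τ)))
    obtain ⟨C, iC, iA, iE, hC, a, g, hg⟩ := exists_refine_U (hξ_of_hζ hζ) V y
    refine ⟨C, iC, iA, iE, hC, F.obj.map g.op t₀, a, ζ, hζ, ?_⟩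
    rw [gm, SetStalk.germ_res, hg, ht₀]
  choose C iC iA iE hC t a ζP hζP hat using hchart
  letI := fun i => iC i
  letI := fun i => iA i
  haveI : ∀ i, Algebra.Etale A (C i) := iE
  let jR : ∀ i, C i →ₐ[A] L ⊗[A] C i := fun i => Algebra.TensorProduct.includeRight
  let jj : ∀ i j, C i ⊗[A] C j →ₐ[A] (L ⊗[A] C i) ⊗[L] (L ⊗[A] C j) := fun i j =>
    Algebra.TensorProduct.productMap
      ((Algebra.TensorProduct.includeLeft (R := L) (S := L) (A := L ⊗[A] C i)
        (B := L ⊗[A] C j)).restrictScalars A |>.comp (jR i))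
      ((Algebra.TensorProduct.includeRight (R := L) (A := L ⊗[A] C i)
        (B := L ⊗[A] C j)).restrictScalars A |>.comp (jR j))
  have hjj : ∀ (K : Type u) [Field K] [Algebra A K] [Algebra L K] [IsScalarTower A L K] (i j) (x : L ⊗[A] C i →ₐ[L] K)
      (y : L ⊗[A] C j →ₐ[L] K), PrimeSpectrum.comap (jj i j).toRingHom (RigidLabel.pt₂ x y) =
        RigidLabel.pt₂ ((x.restrictScalars A).comp (jR i)) ((y.restrictScalars A).comp (jR j)) := by
    intro K _ _ _ _ i j x y
    have : ((Algebra.TensorProduct.productMap x y).restrictScalars A).comp (jj i j) =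
        Algebra.TensorProduct.productMap ((x.restrictScalars A).comp (jR i))
          ((y.restrictScalars A).comp (jR j)) := by
      refine Algebra.TensorProduct.ext' fun p q => ?_
      simp [jj, jR]
    exact (congrArg (fun f : C i ⊗[A] C j →ₐ[A] K => RigidLabel.pt f.toRingHom) this)
  let hD : ∀ i, ∀ w : PrimeSpectrum (R ⊗[A] C i),
      PrimeSpectrum.comap (algebraMap (AdicCompletion I A) (R ⊗[A] C i)) w ∈
        PrimeSpectrum.comap (algebraMap A (AdicCompletion I A)) ⁻¹' U₀.carrier := fun i =>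
    forall_comap_mem_completion fun w => by
      rw [← (Algebra.TensorProduct.includeRight : C i →ₐ[A] R ⊗[A] C i).comp_algebraMap,
        PrimeSpectrum.comap_comp_apply]
      exact hC i _
  haveI : ∀ i, Algebra.Etale (AdicCompletion I A) (R ⊗[A] C i) := fun i =>
    Algebra.Etale.comp (AdicCompletion I A) R (R ⊗[A] C i)
  let memR : ∀ i, Set (PrimeSpectrum (R ⊗[A] C i)) := fun i =>
    {z | EqAt G (G.obj.map (chartW (U₀ := (πc I) ⁻¹ᵁ U₀) (hD i) Algebra.TensorProduct.includeLeft).op s)
      (G.obj.map (chartC (hC i) (hD i) Algebra.TensorProduct.includeRight).op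
        (secUp (resU U₀ I) F (t i))) z}
  let mm : ∀ i, R ⊗[A] C i →ₐ[A] Lc I Ω ⊗[L] (L ⊗[A] C i) := fun i =>
    Algebra.TensorProduct.productMap
      ((Algebra.TensorProduct.includeLeft (R := L) (S := L) (A := Lc I Ω)
        (B := L ⊗[A] C i)).restrictScalars A |>.comp (τ.restrictScalars A))
      ((Algebra.TensorProduct.includeRight (R := L) (A := Lc I Ω)
        (B := L ⊗[A] C i)).restrictScalars A |>.comp (jR i))
  have hrel : ∀ (K : Type u) [Field K] [IsSepClosed K] [Algebra A K] [Algebra L K] [IsScalarTower A L K]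
      {ξ : Spec (CommRingCat.of K) ⟶ (U₀ : Scheme.{u})} (hξ : ξ ≫ U₀.ι = toSpec A K) (i j)
      (x : L ⊗[A] C i →ₐ[L] K) (y : L ⊗[A] C j →ₐ[L] K),
      RigidLabel.pt₂ x y ∈ PrimeSpectrum.comap (jj i j).toRingHom ⁻¹' relSet (hC i) (hC j) F (t i) (t j) ↔
        gm (hC i) F (t i) hξ ((x.restrictScalars A).comp (jR i)) =
          gm (hC j) F (t j) hξ ((y.restrictScalars A).comp (jR j)) := by
    intro K _ _ _ _ _ ξ hξ i j x y
    rw [Set.mem_preimage, hjj]
    exact mem_relSet_iff (hC i) (hC j) F (t i) (t j) hξ _ _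
  have hmem : ∀ (K : Type u) [Field K] [IsSepClosed K] [Algebra A K] [Algebra L K] [IsScalarTower A L K]
      [Algebra (AdicCompletion I A) K] [IsScalarTower A (AdicCompletion I A) K]
      {ζ : Spec (CommRingCat.of K) ⟶ ((πc I) ⁻¹ᵁ U₀ : Scheme.{u})}
      (hζ : ζ ≫ ((πc I) ⁻¹ᵁ U₀).ι = toSpec (AdicCompletion I A) K)
      (φ : Lc I Ω →ₐ[L] K) (hφ : ∀ c, φ (algebraMap (AdicCompletion I A) _ c) = algebraMap _ K c) (i)
      (x : L ⊗[A] C i →ₐ[L] K),
      RigidLabel.pt₂ φ x ∈ PrimeSpectrum.comap (mm i).toRingHom ⁻¹' memR i ↔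
        dn F (pv G s hζ (({ toRingHom := φ.toRingHom, commutes' := hφ } :
          Lc I Ω →ₐ[AdicCompletion I A] K).comp τ)) =
          gm (hC i) F (t i) (hξ_of_hζ hζ) ((x.restrictScalars A).comp (jR i)) := by
    intro K _ _ _ _ _ _ _ ζ hζ φ hφ i x
    let φ' : Lc I Ω →ₐ[AdicCompletion I A] K := { toRingHom := φ.toRingHom, commutes' := hφ }
    let d : R ⊗[A] C i →ₐ[AdicCompletion I A] K :=
      Algebra.TensorProduct.lift (φ'.comp τ) ((x.restrictScalars A).comp (jR i)) fun _ _ => .all _ _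
    have hd : PrimeSpectrum.comap (mm i).toRingHom (RigidLabel.pt₂ φ x) = RigidLabel.pt d.toRingHom := by
      have : ((Algebra.TensorProduct.productMap φ x).restrictScalars A).comp (mm i) = d.restrictScalars A := by
        refine Algebra.TensorProduct.ext' fun p q => ?_
        simp [mm, d, jR, φ']
      exact congrArg (fun f : R ⊗[A] C i →ₐ[A] K => RigidLabel.pt f.toRingHom) this
    rw [Set.mem_preimage, hd]
    refine (eqAt_iff_gm (U₀ := (πc I) ⁻¹ᵁ U₀) (hD i) G _ _ hζ d).trans ?_
    rw [← (dn_injective F).eq_iff, gm_chartW, dn_gm_chartC F (hC i) (hD i)]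
    have e1 : d.comp Algebra.TensorProduct.includeLeft = φ'.comp τ :=
      AlgHom.ext fun p => by simp [d]
    have e2 : (d.restrictScalars A).comp Algebra.TensorProduct.includeRight =
        (x.restrictScalars A).comp (jR i) := AlgHom.ext fun p => by simp [d]
    rw [e1, e2]
  let D : RigidLabel.Data L J (fun i => L ⊗[A] C i) :=
    { U := UL
      isOpen_U := U₀.is_open'.preimage (PrimeSpectrum.continuous_comap _)
      isCompact_U := hULc
      le_of_notMem := fun x hx => Ideal.map_le_iff_le_comap.2 (hUI _ hx)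
      Rel := fun i j => PrimeSpectrum.comap (jj i j).toRingHom ⁻¹' relSet (hC i) (hC j) F (t i) (t j)
      isOpen_Rel := fun i j => (isOpen_relSet _ _ _ _ _).preimage (PrimeSpectrum.continuous_comap _)
      Mem := fun i => PrimeSpectrum.comap (mm i).toRingHom ⁻¹' memR i
      isOpen_Mem := fun i => (DescSh.isOpen_eqAt (U := obj (U₀ := (πc I) ⁻¹ᵁ U₀) (hD i)) G _ _).preimage
        (PrimeSpectrum.continuous_comap _)
      mem_U := fun i w => by
        show PrimeSpectrum.comap (algebraMap A L) _ ∈ U₀.carrier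
        rw [← PrimeSpectrum.comap_comp_apply, ← IsScalarTower.algebraMap_eq,
          ← (jR i).comp_algebraMap, PrimeSpectrum.comap_comp_apply]
        exact hC i _
      rel_symm := by
        intro K _ _ i j x y h
        letI : Algebra A K := ((algebraMap L K).comp (algebraMap A L)).toAlgebra
        haveI : IsScalarTower A L K := .of_algebraMap_eq' rfl
        let k := IsScalarTower.toAlgHom L K (AlgebraicClosure K)
        rw [← RigidLabel.pt₂_comp k] at h ⊢
        have hU' : ∀ w, PrimeSpectrum.comap (algebraMap A (AlgebraicClosure K)) w ∈ U₀.carrier :=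
          forall_comap_mem (pt_algebraMap_mem (hC i) (((k.comp x).restrictScalars A).comp (jR i)))
        rw [hrel _ (toU_ι hU')] at h ⊢
        exact h.symm
      rel_trans := by
        intro K _ _ i j l x y z h h'
        letI : Algebra A K := ((algebraMap L K).comp (algebraMap A L)).toAlgebra
        haveI : IsScalarTower A L K := .of_algebraMap_eq' rfl
        let k := IsScalarTower.toAlgHom L K (AlgebraicClosure K)
        rw [← RigidLabel.pt₂_comp k] at h h' ⊢
        have hU' : ∀ w, PrimeSpectrum.comap (algebraMap A (AlgebraicClosure K)) w ∈ U₀.carrier :=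
          forall_comap_mem (pt_algebraMap_mem (hC i) (((k.comp x).restrictScalars A).comp (jR i)))
        rw [hrel _ (toU_ι hU')] at h h' ⊢
        exact h.trans h'
      mem_mem := by
        intro K _ _ φ i j x y h h'
        letI : Algebra A K := ((algebraMap L K).comp (algebraMap A L)).toAlgebra
        haveI : IsScalarTower A L K := .of_algebraMap_eq' rfl
        let k := IsScalarTower.toAlgHom L K (AlgebraicClosure K)
        rw [← RigidLabel.pt₂_comp k] at h h' ⊢
        letI : Algebra (AdicCompletion I A) (AlgebraicClosure K) :=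
          ((k.comp φ).toRingHom.comp (algebraMap (AdicCompletion I A) (Lc I Ω))).toAlgebra
        haveI : IsScalarTower A (AdicCompletion I A) (AlgebraicClosure K) := .of_algebraMap_eq fun r =>
          (((k.comp φ).restrictScalars A).commutes r).symm.trans
            (congrArg (k.comp φ) (IsScalarTower.algebraMap_apply A (AdicCompletion I A) (Lc I Ω) r))
        have hU' := forall_comap_mem (pt_algebraMap_mem (hC i) (((k.comp x).restrictScalars A).comp (jR i)))
        have hζ := toU_ι (U₀ := (πc I) ⁻¹ᵁ U₀) (B := AlgebraicClosure K) (forall_comap_mem_completion hU')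
        rw [hmem _ hζ _ (fun _ => rfl)] at h h'
        rw [hrel _ (hξ_of_hζ hζ)]
        exact h.symm.trans h'
      mem_rel := by
        intro K _ _ φ i j x y h h'
        letI : Algebra A K := ((algebraMap L K).comp (algebraMap A L)).toAlgebra
        haveI : IsScalarTower A L K := .of_algebraMap_eq' rfl
        let k := IsScalarTower.toAlgHom L K (AlgebraicClosure K)
        rw [← RigidLabel.pt₂_comp k] at h h' ⊢
        letI : Algebra (AdicCompletion I A) (AlgebraicClosure K) :=
          ((k.comp φ).toRingHom.comp (algebraMap (AdicCompletion I A) (Lc I Ω))).toAlgebra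
        haveI : IsScalarTower A (AdicCompletion I A) (AlgebraicClosure K) := .of_algebraMap_eq fun r =>
          (((k.comp φ).restrictScalars A).commutes r).symm.trans
            (congrArg (k.comp φ) (IsScalarTower.algebraMap_apply A (AdicCompletion I A) (Lc I Ω) r))
        have hU' := forall_comap_mem (pt_algebraMap_mem (hC i) (((k.comp x).restrictScalars A).comp (jR i)))
        have hζ := toU_ι (U₀ := (πc I) ⁻¹ᵁ U₀) (B := AlgebraicClosure K) (forall_comap_mem_completion hU')
        rw [hmem _ hζ _ (fun _ => rfl)] at h ⊢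
        rw [hrel _ (hξ_of_hζ hζ)] at h'
        exact h.trans h'
      surj := by
        intro P hP
        have hP' : PrimeSpectrum.comap (algebraMap A (Lc I Ω)) P ∈ U₀.carrier := by
          rw [IsScalarTower.algebraMap_eq A L (Lc I Ω), PrimeSpectrum.comap_comp_apply]; exact hP
        let i : {P : PrimeSpectrum (Lc I Ω) //
            PrimeSpectrum.comap (algebraMap A (Lc I Ω)) P ∈ U₀.carrier} := ⟨P, hP'⟩
        let φ : Lc I Ω →ₐ[L] RigidLabel.Kc P := RigidLabel.χc P
        let x : L ⊗[A] C i →ₐ[L] RigidLabel.Kc P :=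
          Algebra.TensorProduct.lift (Algebra.ofId L _) (a i) fun _ _ => .all _ _
        refine ⟨i, RigidLabel.pt₂ φ x, ?_, ?_⟩
        · rw [hmem _ (hζP i) φ (fun c => (IsScalarTower.algebraMap_apply _ (Lc I Ω) _ c).symm)]
          have e : (x.restrictScalars A).comp (jR i) = a i := AlgHom.ext fun p => by simp [x, jR]
          rw [e]
          exact hat i
        · rw [comap_left_pt₂]
          exact PrimeSpectrum.ext (Ideal.ext fun p => RigidLabel.χc_eq_zero_iff (A := L) P p) }
  obtain ⟨T, hTo, hTM, hTR, hTU⟩ := RigidLabel.exists_descent D (hI.map _)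
  -- finitely many basic charts
  have hbasic : ∀ x : UL, ∃ (i : _) (c : L ⊗[A] C i),
      (PrimeSpectrum.basicOpen c : Set (PrimeSpectrum (L ⊗[A] C i))) ⊆ T i ∧
      x.1 ∈ PrimeSpectrum.comap (algebraMap L (L ⊗[A] C i)) '' PrimeSpectrum.basicOpen c := by
    intro ⟨x, hx⟩
    obtain ⟨i, w, hw, hwx⟩ := hTU x hx
    obtain ⟨_, ⟨c, rfl⟩, hwc, hcT⟩ :=
      PrimeSpectrum.isTopologicalBasis_basic_opens.exists_subset_of_mem_open hw (hTo i)
    exact ⟨i, c, hcT, w, hwc, hwx⟩
  choose ii cc hccT hccx using hbasic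
  obtain ⟨κ, hκ⟩ := hULc.elim_finite_subcover
    (fun x : UL => PrimeSpectrum.comap (algebraMap L (L ⊗[A] C (ii x))) '' PrimeSpectrum.basicOpen (cc x))
    (fun x => PrimeSpectrum.isOpenMap_comap_of_hasGoingDown_of_finitePresentation _
      PrimeSpectrum.isOpen_basicOpen)
    fun x hx => Set.mem_iUnion.2 ⟨⟨x, hx⟩, hccx ⟨x, hx⟩⟩
  choose ss hss using fun x => exists_coeffs (cc x)
  obtain ⟨B₀, _, _, _, β₀, θ₀, -, hθ₀⟩ :=
    RigidStage.exists_stage_comb (Algebra.ofId A L) (κ.biUnion ss)
  choose! c₀ hc₀ using fun x (hx : x ∈ κ) => hss x B₀ θ₀ fun l hl => hθ₀ l (Finset.mem_biUnion.2 ⟨x, hx, hl⟩)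
  let UB : Set (PrimeSpectrum B₀) := PrimeSpectrum.comap (algebraMap A B₀) ⁻¹' U₀.carrier
  let Y₁ : Set (PrimeSpectrum B₀) := UB \ ⋃ x ∈ (κ : Set UL),
    PrimeSpectrum.comap (algebraMap B₀ (B₀ ⊗[A] C (ii x))) '' PrimeSpectrum.basicOpen (c₀ x)
  have hY₁ : Topology.IsConstructible Y₁ :=
    ((isCompact_preimage _ hU U₀.is_open').isConstructible (U₀.is_open'.preimage
      (PrimeSpectrum.continuous_comap _))).sdiff (Topology.IsConstructible.biUnion κ.finite_toSet fun x _ =>
      PrimeSpectrum.isConstructible_comap_image (RingHom.finitePresentation_algebraMap.2 inferInstance)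
        PrimeSpectrum.isConstructible_basicOpen)
  -- the pairs
  let cl : ∀ x y, B₀ ⊗[A] (C (ii x) ⊗[A] C (ii y)) := fun x y =>
    Algebra.TensorProduct.map (AlgHom.id A B₀) Algebra.TensorProduct.includeLeft (c₀ x) *
      Algebra.TensorProduct.map (AlgHom.id A B₀) Algebra.TensorProduct.includeRight (c₀ y)
  have hpair : ∀ x ∈ κ, ∀ y ∈ κ, ∃ O : Set (PrimeSpectrum (B₀ ⊗[A] (C (ii x) ⊗[A] C (ii y)))),
      IsOpen O ∧ IsCompact O ∧
      O ⊆ PrimeSpectrum.comap
        (Algebra.TensorProduct.includeRight : (C (ii x) ⊗[A] C (ii y)) →ₐ[A]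
          B₀ ⊗[A] (C (ii x) ⊗[A] C (ii y))).toRingHom ⁻¹' relSet (hC (ii x)) (hC (ii y)) F (t (ii x)) (t (ii y)) ∧
      ∀ z : PrimeSpectrum (L ⊗[A] (C (ii x) ⊗[A] C (ii y))),
        PrimeSpectrum.comap (Algebra.TensorProduct.map θ₀ (AlgHom.id A _)).toRingHom z ∈
          PrimeSpectrum.basicOpen (cl x y) →
        PrimeSpectrum.comap (Algebra.TensorProduct.map θ₀ (AlgHom.id A _)).toRingHom z ∈ O := by
    intro x hx y hy
    set q := (Algebra.TensorProduct.map θ₀ (AlgHom.id A (C (ii x) ⊗[A] C (ii y)))).toRingHom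
    have hc : IsCompact (PrimeSpectrum.comap q '' (PrimeSpectrum.comap q ⁻¹'
        (PrimeSpectrum.basicOpen (cl x y) : Set _))) :=
      (isCompact_preimage q (PrimeSpectrum.isCompact_basicOpen _) PrimeSpectrum.isOpen_basicOpen).image
        (PrimeSpectrum.continuous_comap _)
    obtain ⟨O, hO1, hO2, hO3, hO4⟩ := PrespectralSpace.exists_isCompact_and_isOpen_between hc
      ((isOpen_relSet (hC (ii x)) (hC (ii y)) F (t (ii x)) (t (ii y))).preimage
        (PrimeSpectrum.continuous_comap
          (Algebra.TensorProduct.includeRight : (C (ii x) ⊗[A] C (ii y)) →ₐ[A]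
            B₀ ⊗[A] (C (ii x) ⊗[A] C (ii y))).toRingHom)) (by
      rintro _ ⟨z, hz, rfl⟩
      let v : L ⊗[A] (C (ii x) ⊗[A] C (ii y)) →ₐ[A] RigidLabel.Kc z := RigidLabel.χc z
      let xa : L ⊗[A] C (ii x) →ₐ[L] RigidLabel.Kc z := Algebra.TensorProduct.lift (Algebra.ofId L _)
        ((v.comp Algebra.TensorProduct.includeRight).comp Algebra.TensorProduct.includeLeft) fun _ _ => .all _ _
      let ya : L ⊗[A] C (ii y) →ₐ[L] RigidLabel.Kc z := Algebra.TensorProduct.lift (Algebra.ofId L _)
        ((v.comp Algebra.TensorProduct.includeRight).comp Algebra.TensorProduct.includeRight) fun _ _ => .all _ _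
      have key : ∀ {N : Type u} [CommRing N] [Algebra A N] (g : N →ₐ[A] C (ii x) ⊗[A] C (ii y))
          (c : B₀ ⊗[A] N), v (Algebra.TensorProduct.map θ₀ (AlgHom.id A _)
            (Algebra.TensorProduct.map (AlgHom.id A B₀) g c)) =
          Algebra.TensorProduct.lift (Algebra.ofId L _)
            ((v.comp Algebra.TensorProduct.includeRight).comp g) (fun _ _ => .all _ _)
            (Algebra.TensorProduct.map θ₀ (AlgHom.id A N) c) := by
        intro N _ _ g c
        induction c using TensorProduct.induction_on with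
        | zero => simp
        | tmul b n =>
          simp only [Algebra.TensorProduct.map_tmul, AlgHom.coe_id, id_eq, Algebra.TensorProduct.lift_tmul]
          rw [show θ₀ b ⊗ₜ[A] g n = θ₀ b ⊗ₜ 1 * 1 ⊗ₜ g n by simp, map_mul]
          rfl
        | add c₁ c₂ h₁ h₂ => simp [map_add, h₁, h₂]
      have hne : v (q (cl x y)) ≠ 0 := fun h0 => hz ((RigidLabel.χc_eq_zero_iff (A := A) z _).1 h0)
      have hne' : xa (cc x) ≠ 0 ∧ ya (cc y) ≠ 0 := by
        constructor <;> intro h0 <;> apply hne
        · show v (Algebra.TensorProduct.map θ₀ (AlgHom.id A _) (_ * _)) = 0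
          rw [map_mul, map_mul, key, hc₀ x hx]
          exact mul_eq_zero_of_left h0 _
        · show v (Algebra.TensorProduct.map θ₀ (AlgHom.id A _) (_ * _)) = 0
          rw [map_mul, map_mul, key _ (c₀ y), hc₀ y hy]
          exact mul_eq_zero_of_right _ h0
      have h := hTR (ii x) (ii y) (RigidLabel.pt₂ xa ya)
        (by rw [comap_left_pt₂]; exact hccT x  hne'.1)
        (by rw [comap_right_pt₂]; exact hccT y  hne'.2)
      have h2 : RigidLabel.pt₂ ((xa.restrictScalars A).comp (jR _)) ((ya.restrictScalars A).comp (jR _)) ∈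
          relSet (hC (ii x)) (hC (ii y)) F (t (ii x)) (t (ii y)) := by
        rw [← hjj]; exact h
      show PrimeSpectrum.comap _ (PrimeSpectrum.comap q z) ∈ relSet _ _ _ _ _
      refine Set.mem_of_eq_of_mem ?_ h2
      refine PrimeSpectrum.ext (Ideal.ext fun m => ?_)
      show q ((1 : B₀) ⊗ₜ[A] m) ∈ z.asIdeal ↔ Algebra.TensorProduct.productMap
        ((xa.restrictScalars A).comp (jR _)) ((ya.restrictScalars A).comp (jR _)) m = 0
      rw [show Algebra.TensorProduct.productMap ((xa.restrictScalars A).comp (jR _))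
          ((ya.restrictScalars A).comp (jR _)) = v.comp Algebra.TensorProduct.includeRight from
        Algebra.TensorProduct.ext' fun p r => by
          simp [xa, ya, jR, ← map_mul], ← RigidLabel.χc_eq_zero_iff (A := A) z]
      simp [q, v])
    exact ⟨O, hO2, hO1, hO4, fun z hz => hO3 ⟨z, hz, rfl⟩⟩
  choose! O hOo hOc hOsub hOL using hpair
  let Y₂ : UL → UL → Set (PrimeSpectrum B₀) := fun x y =>
    PrimeSpectrum.comap (algebraMap B₀ (B₀ ⊗[A] (C (ii x) ⊗[A] C (ii y)))) ''
      ((PrimeSpectrum.basicOpen (cl x y) : Set _) \ O x y)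
  have hY : Topology.IsConstructible (Y₁ ∪ ⋃ x ∈ (κ : Set UL),
      ⋃ y ∈ (κ : Set UL), Y₂ x y) :=
    hY₁.union (Topology.IsConstructible.biUnion κ.finite_toSet fun x hx =>
      Topology.IsConstructible.biUnion κ.finite_toSet fun y hy =>
        PrimeSpectrum.isConstructible_comap_image (RingHom.finitePresentation_algebraMap.2 inferInstance)
          (PrimeSpectrum.isConstructible_basicOpen.sdiff ((hOc x hx y hy).isConstructible (hOo x hx y hy))))
  obtain ⟨B, iB, iBA, iBE, β, θ, hθ, hav⟩ := RigidStage.exists_avoid θ₀ hY fun z hz => by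
    rcases hz with ⟨hzU, hz⟩ | hz
    · have hzL : z ∈ UL := by
        show PrimeSpectrum.comap (algebraMap A L) z ∈ U₀.carrier
        rw [← θ₀.comp_algebraMap, PrimeSpectrum.comap_comp_apply]
        exact hzU
      obtain ⟨x, hx, w, hw, hwz⟩ := Set.mem_iUnion₂.1 (hκ hzL)
      refine hz (Set.mem_iUnion₂.2 ⟨x, hx,
        PrimeSpectrum.comap (Algebra.TensorProduct.map θ₀ (AlgHom.id A _)).toRingHom w, ?_, ?_⟩)
      · show Algebra.TensorProduct.map θ₀ (AlgHom.id A _) (c₀ x) ∉ w.asIdeal
        rw [hc₀ x hx]; exact hw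
      · rw [← hwz]
        refine PrimeSpectrum.ext (Ideal.ext fun b => ?_)
        show Algebra.TensorProduct.map θ₀ (AlgHom.id A _) (b ⊗ₜ 1) ∈ w.asIdeal ↔ θ₀ b ⊗ₜ[A] 1 ∈ w.asIdeal
        simp
    · obtain ⟨x, hx, hz⟩ := Set.mem_iUnion₂.1 hz
      obtain ⟨y, hy, w, hw, hwz⟩ := Set.mem_iUnion₂.1 hz
      obtain ⟨K, _, _, l, n, -, hn, hln⟩ := exists_common_field θ₀.toRingHom
        (algebraMap B₀ (B₀ ⊗[A] (C (ii x) ⊗[A] C (ii y)))) z w hwz.symm
      letI : Algebra A K := (l.comp (algebraMap A L)).toAlgebra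
      let l' : L →ₐ[A] K := { toRingHom := l, commutes' := fun _ => rfl }
      let n' : (C (ii x) ⊗[A] C (ii y)) →ₐ[A] K :=
        { toRingHom := n.comp Algebra.TensorProduct.includeRight.toRingHom
          commutes' := fun r => by
            show n ((1 : B₀) ⊗ₜ algebraMap A _ r) = l (algebraMap A L r)
            rw [← θ₀.commutes, show l (θ₀ (algebraMap A B₀ r)) = n (algebraMap A B₀ r ⊗ₜ 1) from
              RingHom.congr_fun hln _]
            congr 1
            rw [Algebra.algebraMap_eq_smul_one, Algebra.algebraMap_eq_smul_one, smul_tmul] }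
      let v := Algebra.TensorProduct.productMap l' n'
      have hv : PrimeSpectrum.comap (Algebra.TensorProduct.map θ₀ (AlgHom.id A _)).toRingHom
          (RigidLabel.pt v.toRingHom) = w := by
        rw [← hn]
        refine PrimeSpectrum.ext (Ideal.ext fun m => ?_)
        show v (Algebra.TensorProduct.map θ₀ (AlgHom.id A _) m) = 0 ↔ n m = 0
        suffices v (Algebra.TensorProduct.map θ₀ (AlgHom.id A _) m) = n m by rw [this]
        induction m using TensorProduct.induction_on with
        | zero => simp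
        | tmul b p =>
          simp only [v, Algebra.TensorProduct.map_tmul, AlgHom.coe_id, id_eq,
            Algebra.TensorProduct.productMap_apply_tmul]
          rw [show (b ⊗ₜ[A] p) = b ⊗ₜ 1 * 1 ⊗ₜ p by simp, map_mul]
          exact congrArg (· * n ((1 : B₀) ⊗ₜ p)) (RingHom.congr_fun hln b)
        | add p₁ p₂ h₁ h₂ => simp [map_add, h₁, h₂]
      exact hw.2 (hv ▸ hOL x hx y hy _ (by rw [hv]; exact hw.1))
  -- charts at the stage
  let c₁ : ∀ x, B ⊗[A] C (ii x) := fun x => Algebra.TensorProduct.map β (AlgHom.id A _) (c₀ x)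
  let Dk : κ → Type u := fun x => Localization.Away (c₁ x.1)
  haveI : ∀ x, Algebra.Etale A (B ⊗[A] C (ii x)) := fun x => Algebra.Etale.comp A B _
  haveI : ∀ x : κ, Algebra.Etale (B ⊗[A] C (ii x.1)) (Dk x) := fun x =>
    Algebra.Etale.of_isLocalizationAway (c₁ x.1)
  haveI : ∀ x : κ, Algebra.Etale A (Dk x) := fun x => Algebra.Etale.comp A (B ⊗[A] C (ii x.1)) _
  let gB : ∀ x : κ, B →ₐ[A] Dk x := fun x =>
    (IsScalarTower.toAlgHom A (B ⊗[A] C (ii x.1)) (Dk x)).comp Algebra.TensorProduct.includeLeft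
  let gC : ∀ x : κ, C (ii x.1) →ₐ[A] Dk x := fun x =>
    (IsScalarTower.toAlgHom A (B ⊗[A] C (ii x.1)) (Dk x)).comp Algebra.TensorProduct.includeRight
  have hDk : ∀ (x : κ) (w : PrimeSpectrum (Dk x)),
      PrimeSpectrum.comap (algebraMap A (Dk x)) w ∈ U₀.carrier := fun x w => by
    rw [← (gC x).comp_algebraMap, PrimeSpectrum.comap_comp_apply]
    exact hC _ _
  let π : ∀ x : κ, obj (hDk x) ⟶ objW U₀ B := fun x => chartW (hDk x) (gB x)
  let sec : ∀ x : κ, F.obj.obj (op (obj (hDk x))) := fun x =>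
    F.obj.map (objMap (hC (ii x.1)) (hC := hDk x) (gC x)).op (t (ii x.1))
  let Rs : Presieve (objW U₀ B) := Presieve.ofArrows (fun x : κ => obj (hDk x)) π
  have hcov : Sieve.generate Rs ∈ (U₀ : Scheme.{u}).smallEtaleTopology (objW U₀ B) := by
    refine mem_topology_of_forall_exists _ fun v => ?_
    let pb : PrimeSpectrum B := pullback.fst (toSpec A B) U₀.ι v
    have hpb : PrimeSpectrum.comap (algebraMap A B) pb ∈ U₀.carrier := by
      have h0 := congrArg (fun k => k v) (pullback.condition (f := toSpec A B) (g := U₀.ι))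
      show toSpec A B (pullback.fst (toSpec A B) U₀.ι v) ∈ U₀.carrier
      rw [show toSpec A B (pullback.fst (toSpec A B) U₀.ι v) = _ from h0]
      exact ((pullback.snd (toSpec A B) U₀.ι) v).2
    have hb₀ : PrimeSpectrum.comap β.toRingHom pb ∈ UB := by
      show PrimeSpectrum.comap (algebraMap A B₀) _ ∈ U₀.carrier
      rw [← PrimeSpectrum.comap_comp_apply, AlgHom.toRingHom_eq_coe, β.comp_algebraMap]; exact hpb
    obtain ⟨x, hx, w₀, hw₀, hw₀b⟩ := Set.mem_iUnion₂.1 (by_contra fun h => hav pb (Or.inl ⟨hb₀, h⟩))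
    obtain ⟨K, _, _, l, n, hl, hn, hln⟩ := exists_common_field β.toRingHom
      (algebraMap B₀ (B₀ ⊗[A] C (ii x))) pb w₀ hw₀b.symm
    letI : Algebra A K := (l.comp (algebraMap A B)).toAlgebra
    let l' : B →ₐ[A] K := { toRingHom := l, commutes' := fun _ => rfl }
    let n' : C (ii x) →ₐ[A] K :=
      { toRingHom := n.comp Algebra.TensorProduct.includeRight.toRingHom
        commutes' := fun r => by
          show n ((1 : B₀) ⊗ₜ algebraMap A _ r) = l (algebraMap A B r)
          rw [← β.commutes, show l (β (algebraMap A B₀ r)) = n (algebraMap A B₀ r ⊗ₜ 1) from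
            RingHom.congr_fun hln _]
          congr 1
          rw [Algebra.algebraMap_eq_smul_one, Algebra.algebraMap_eq_smul_one, smul_tmul] }
    let v' := Algebra.TensorProduct.productMap l' n'
    have hne : v' (c₁ x) ≠ 0 := by
      have hvn : ∀ m, v' (Algebra.TensorProduct.map β (AlgHom.id A _) m) = n m := fun m => by
        induction m using TensorProduct.induction_on with
        | zero => simp
        | tmul b p =>
          simp only [v', Algebra.TensorProduct.map_tmul, AlgHom.coe_id, id_eq,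
            Algebra.TensorProduct.productMap_apply_tmul]
          rw [show (b ⊗ₜ[A] p) = b ⊗ₜ 1 * 1 ⊗ₜ p by simp, map_mul]
          exact congrArg (· * n ((1 : B₀) ⊗ₜ p)) (RingHom.congr_fun hln b)
        | add p₁ p₂ h₁ h₂ => simp [map_add, h₁, h₂]
      rw [show v' (c₁ x) = n (c₀ x) from hvn _]
      rw [← hn] at hw₀
      exact hw₀
    let d : Dk ⟨x, hx⟩ →ₐ[A] K :=
      IsLocalization.liftAlgHom (M := Submonoid.powers (c₁ x)) (f := v') (by
        rintro ⟨_, m, rfl⟩
        show IsUnit (v' (c₁ x ^ m))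
        rw [map_pow]
        exact (IsUnit.mk0 _ hne).pow m)
    refine ⟨obj (hDk ⟨x, hx⟩), π ⟨x, hx⟩, RigidLabel.pt d.toRingHom,
      Sieve.le_generate _ _ _ (Presieve.ofArrows.mk _), ?_⟩
    refine (pullback.fst (toSpec A B) U₀.ι).isOpenEmbedding.injective ?_
    show _ = pb
    rw [← hl]
    refine (congrArg (fun k => k (RigidLabel.pt d.toRingHom))
      (pullback.lift_fst (f := toSpec A B) (g := U₀.ι) _ _
        ((specMap_toSpec (gB ⟨x, hx⟩)).trans (toU_ι (hDk ⟨x, hx⟩)).symm))).trans ?_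
    refine PrimeSpectrum.ext (Ideal.ext fun b => ?_)
    show d (algebraMap (B ⊗[A] C (ii x)) _ (b ⊗ₜ[A] (1 : C (ii x)))) = 0 ↔ l b = 0
    rw [show d (algebraMap (B ⊗[A] C (ii x)) _ (b ⊗ₜ[A] (1 : C (ii x)))) = v' (b ⊗ₜ[A] 1) from
      IsLocalization.lift_eq _ _]
    simp [v', l']
  have hsh : Rs.IsSheafFor F.obj :=
    (Presieve.isSheafFor_iff_generate Rs).2 (((isSheaf_iff_isSheaf_of_type _ _).1 F.property) _ hcov)
  obtain ⟨tB, htB, -⟩ := (Presieve.isSheafFor_arrows_iff _ _).1 hsh sec (by
    intro x y Z gi gj hg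
    refine eq_of_eqAt F _ _ fun z => ?_
    obtain ⟨K, i₁, i₂, ξ, p, hp⟩ := exists_geomPoint z
    refine (eqAt_iff_germ F _ _ p hp).2 ?_
    rw [SetStalk.germ_res ξ F gi p (sec x), SetStalk.germ_res ξ F gj p (sec y)]
    letI : Algebra A K := (Spec.preimage (ξ ≫ U₀.ι)).hom.toAlgebra
    have hξ : ξ ≫ U₀.ι = toSpec A K := (Spec.map_preimage (ξ ≫ U₀.ι)).symm
    let Φ := Scheme.pointSmallEtale ξ
    obtain ⟨dx, hdx⟩ := exists_xpt (hDk x) hξ (Φ.fiber.map gi p)
    obtain ⟨dy, hdy⟩ := exists_xpt (hDk y) hξ (Φ.fiber.map gj p)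
    rw [← hdx, ← hdy]
    have hb : dx.comp (gB x) = dy.comp (gB y) := by
      have e : (Φ.fiber.map (π x) (Φ.fiber.map gi p)) = Φ.fiber.map (π y) (Φ.fiber.map gj p) := by
        rw [← ConcreteCategory.comp_apply, ← Functor.map_comp, hg, Functor.map_comp, ConcreteCategory.comp_apply]
      rw [← hdx, ← hdy] at e
      have e' : Spec.map (CommRingCat.ofHom (dx.comp (gB x)).toRingHom) =
          Spec.map (CommRingCat.ofHom (dy.comp (gB y)).toRingHom) := by
        have := congrArg (fun k => k.left ≫ pullback.fst (toSpec A B) U₀.ι) e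
        refine Eq.trans ?_ (this.trans ?_)
        · refine Eq.symm ((Category.assoc _ _ _).trans ((congrArg (_ ≫ ·) (pullback.lift_fst _ _ _)).trans ?_))
          exact (Spec.map_comp _ _).symm
        · refine (Category.assoc _ _ _).trans ((congrArg (_ ≫ ·) (pullback.lift_fst _ _ _)).trans ?_)
          exact (Spec.map_comp _ _).symm
      exact AlgHom.ext fun b => RingHom.congr_fun
        (congrArg CommRingCat.Hom.hom (Spec.map_injective e')) b
    show gm (hDk x) F (sec x) hξ dx = gm (hDk y) F (sec y) hξ dy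
    rw [show gm (hDk x) F (sec x) hξ dx = gm (hC _) F (t _) hξ (dx.comp (gC x)) by
        rw [gm, gm, SetStalk.germ_res, map_objMap_xpt],
      show gm (hDk y) F (sec y) hξ dy = gm (hC _) F (t _) hξ (dy.comp (gC y)) by
        rw [gm, gm, SetStalk.germ_res, map_objMap_xpt],
      ← mem_relSet_iff (hC (ii x.1)) (hC (ii y.1)) F _ _ hξ]
    let bb : B₀ →ₐ[A] K := (dx.comp (gB x)).comp β
    let P : B₀ ⊗[A] (C (ii x.1) ⊗[A] C (ii y.1)) →ₐ[A] K := Algebra.TensorProduct.productMap bb
      (Algebra.TensorProduct.productMap (dx.comp (gC x)) (dy.comp (gC y)))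
    have hcx : ∀ (u : κ) (du : Dk u →ₐ[A] K), du.comp (gB u) = dx.comp (gB x) →
        Algebra.TensorProduct.productMap bb (du.comp (gC u)) (c₀ u.1) ≠ 0 := by
      intro u du hu
      have : Algebra.TensorProduct.productMap bb (du.comp (gC u)) =
          (du.comp (IsScalarTower.toAlgHom A (B ⊗[A] C (ii u.1)) (Dk u))).comp
            (Algebra.TensorProduct.map β (AlgHom.id A _)) := by
        refine Algebra.TensorProduct.ext' fun p q => ?_
        simp only [bb, ← hu, gB, gC, Algebra.TensorProduct.productMap_apply_tmul, AlgHom.comp_apply,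
          Algebra.TensorProduct.map_tmul, AlgHom.coe_id, id_eq, Algebra.TensorProduct.includeLeft_apply,
          Algebra.TensorProduct.includeRight_apply, ← map_mul, Algebra.TensorProduct.tmul_mul_tmul,
          mul_one, one_mul]
      rw [this]
      exact (((IsLocalization.Away.algebraMap_isUnit (c₁ u.1)).map du)).ne_zero
    have hPc : P (cl x.1 y.1) ≠ 0 := by
      rw [map_mul]
      refine mul_ne_zero ?_ ?_
      · rw [← AlgHom.comp_apply, show P.comp (Algebra.TensorProduct.map (AlgHom.id A B₀)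
          Algebra.TensorProduct.includeLeft) = Algebra.TensorProduct.productMap bb (dx.comp (gC x)) from
          Algebra.TensorProduct.ext' fun p q => by simp [P]]
        exact hcx x dx rfl
      · rw [← AlgHom.comp_apply, show P.comp (Algebra.TensorProduct.map (AlgHom.id A B₀)
          Algebra.TensorProduct.includeRight) = Algebra.TensorProduct.productMap bb (dy.comp (gC y)) from
          Algebra.TensorProduct.ext' fun p q => by simp [P]]
        exact hcx y dy hb.symm
    have hPO : RigidLabel.pt P.toRingHom ∈ O x.1 y.1 := by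
      by_contra hn
      refine hav (RigidLabel.pt (dx.comp (gB x)).toRingHom) (Or.inr (Set.mem_iUnion₂.2 ⟨x.1, x.2,
        Set.mem_iUnion₂.2 ⟨y.1, y.2, RigidLabel.pt P.toRingHom, ⟨hPc, hn⟩, ?_⟩⟩))
      refine PrimeSpectrum.ext (Ideal.ext fun b => ?_)
      show P (b ⊗ₜ[A] (1 : C (ii x.1) ⊗[A] C (ii y.1))) = 0 ↔ dx (gB x (β b)) = 0
      simp [P, bb, Algebra.TensorProduct.one_def]
    refine Set.mem_of_eq_of_mem ?_ (hOsub x.1 x.2 y.1 y.2 hPO)
    refine PrimeSpectrum.ext (Ideal.ext fun m => ?_)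
    show Algebra.TensorProduct.productMap (dx.comp (gC x)) (dy.comp (gC y)) m = 0 ↔
      P ((1 : B₀) ⊗ₜ[A] m) = 0
    simp [P])
  refine ⟨B, iB, iBA, iBE, θ, tB, fun K _ _ _ _ _ ζ hζ ψ => ?_⟩
  -- compare at a geometric point of the completion
  letI : Algebra L K := (ψ.toRingHom.comp (algebraMap L (Lc I Ω))).toAlgebra
  haveI : IsScalarTower A L K := .of_algebraMap_eq fun r => by
    show algebraMap A K r = ψ (algebraMap L (Lc I Ω) (algebraMap A L r))
    rw [← IsScalarTower.algebraMap_apply]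
    exact ((ψ.restrictScalars A).commutes r).symm
  let φ : Lc I Ω →ₐ[L] K := { toRingHom := ψ.toRingHom, commutes' := fun _ => rfl }
  have hpU : RigidLabel.pt (algebraMap A K) ∈ U₀.carrier := by
    have h0 := congrArg (fun k => k (default : Spec (CommRingCat.of K))) (hξ_of_hζ hζ)
    rw [← comap_eq_pt (algebraMap A K) (default : Spec (CommRingCat.of K))]
    show toSpec A K _ ∈ U₀.carrier
    rw [← h0]
    exact ((ζ ≫ resU U₀ I) _).2
  have hxL : RigidLabel.pt (algebraMap L K) ∈ UL := by
    show PrimeSpectrum.comap (algebraMap A L) _ ∈ U₀.carrier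
    have h0 : PrimeSpectrum.comap (algebraMap A L) (RigidLabel.pt (algebraMap L K)) =
        RigidLabel.pt (algebraMap A K) := PrimeSpectrum.ext (Ideal.ext fun r => by
      show algebraMap L K (algebraMap A L r) = 0 ↔ algebraMap A K r = 0
      rw [← IsScalarTower.algebraMap_apply])
    rw [h0]
    exact hpU
  obtain ⟨x, hx, w, hw, hwx⟩ := Set.mem_iUnion₂.1 (hκ hxL)
  obtain ⟨xa, hxa⟩ := exists_algHom_over (A := L) (K := K) w hwx
  have hmemT : RigidLabel.pt₂ φ xa ∈ D.Mem (ii x) := by
    refine (hTM (ii x) _).2 ?_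
    rw [comap_right_pt₂]
    exact hccT x  (by rw [hxa]; exact hw)
  have hval := (hmem K hζ φ (fun c => ψ.commutes c) (ii x) xa).1 hmemT
  refine hval.trans ?_
  -- the glued value
  let bB : B →ₐ[A] K := (ψ.restrictScalars A).comp ((IsScalarTower.toAlgHom A L (Lc I Ω)).comp θ)
  let v := Algebra.TensorProduct.productMap bB ((xa.restrictScalars A).comp (jR (ii x)))
  have hne : v (c₁ x) ≠ 0 := by
    have hv : v.comp (Algebra.TensorProduct.map β (AlgHom.id A _)) =
        (xa.restrictScalars A).comp (Algebra.TensorProduct.map θ₀ (AlgHom.id A _)) := by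
      refine Algebra.TensorProduct.ext' fun p q => ?_
      simp only [v, bB, jR, AlgHom.comp_apply, Algebra.TensorProduct.map_tmul, AlgHom.coe_id, id_eq,
        Algebra.TensorProduct.productMap_apply_tmul, AlgHom.restrictScalars_apply,
        Algebra.TensorProduct.includeRight_apply]
      rw [show (θ₀ p ⊗ₜ[A] q) = algebraMap L (L ⊗[A] C (ii x)) (θ₀ p) * 1 ⊗ₜ q by simp, map_mul,
        AlgHom.commutes, ← hθ]
      rfl
    rw [show v (c₁ x) = xa (cc x) by
      rw [← hc₀ x hx]; exact AlgHom.congr_fun hv (c₀ x)]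
    intro h0
    exact hw (hxa ▸ (show cc x ∈ (RigidLabel.pt xa.toRingHom).asIdeal from h0))
  let d : Dk ⟨x, hx⟩ →ₐ[A] K :=
    IsLocalization.liftAlgHom (M := Submonoid.powers (c₁ x)) (f := v) (by
      rintro ⟨_, m, rfl⟩
      show IsUnit (v (c₁ x ^ m))
      rw [map_pow]
      exact (IsUnit.mk0 _ hne).pow m)
  have hdB : d.comp (gB ⟨x, hx⟩) = bB := AlgHom.ext fun b => by
    refine (IsLocalization.lift_eq _ _).trans ?_
    simp [v]
  have hdC : d.comp (gC ⟨x, hx⟩) = (xa.restrictScalars A).comp (jR (ii x)) := AlgHom.ext fun c => by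
    refine (IsLocalization.lift_eq _ _).trans ?_
    simp [v]
  show _ = pv F tB (hξ_of_hζ hζ) bB
  rw [← hdB, ← gm_chartW F (hDk ⟨x, hx⟩) (gB ⟨x, hx⟩), show F.obj.map (chartW (hDk ⟨x, hx⟩)
    (gB ⟨x, hx⟩)).op tB = sec ⟨x, hx⟩ from htB ⟨x, hx⟩, ← hdC, gm, gm, SetStalk.germ_res, map_objMap_xpt]

end Groth.Agent.Hens.RigidSheaf
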