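import Groth.Agent.Hens.RigidDescent
import Groth.Agent.DescSh.Locus
import Groth.Prelude.Def_SGA4b
import Mathlib.AlgebraicGeometry.Restrict
import Mathlib.AlgebraicGeometry.Morphisms.Etale

/-!
# Sections of etale sheaves of sets along the completion of a henselian pair
-/

set_option autoImplicit false
set_option linter.style.haveILetI false
set_option backward.isDefEq.respectTransparency.types false

universe u

open CategoryTheory CategoryTheory.Limits AlgebraicGeometry Opposite TensorProduct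
open Groth.Agent.EtaleSite Groth.Agent.DescSh

namespace Groth.Agent.Hens.RigidSheaf

variable {A : Type u} [CommRing A]

/-- The structure morphism of an algebra. -/
noncomputable abbrev toSpec (A : Type u) [CommRing A] (R : Type u) [CommRing R] [Algebra A R] :
    Spec (CommRingCat.of R) ⟶ Spec (CommRingCat.of A) :=
  Spec.map (CommRingCat.ofHom (algebraMap A R))

theorem specMap_toSpec {R S : Type u} [CommRing R] [Algebra A R] [CommRing S] [Algebra A S]
    (g : R →ₐ[A] S) : Spec.map (CommRingCat.ofHom g.toRingHom) ≫ toSpec A R = toSpec A S := by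
  rw [toSpec, toSpec, ← Spec.map_comp, ← CommRingCat.ofHom_comp, AlgHom.toRingHom_eq_coe, g.comp_algebraMap]

/-- The spectrum of a field has only one point. -/
theorem comap_eq_pt {R K : Type u} [CommRing R] [Field K] (f : R →+* K) (z : PrimeSpectrum K) :
    PrimeSpectrum.comap f z = RigidLabel.pt f := by
  refine PrimeSpectrum.ext ?_
  show z.asIdeal.comap f = RingHom.ker f
  rw [(Ideal.eq_bot_or_top z.asIdeal).resolve_right z.2.ne_top]
  exact (RingHom.ker_eq_comap_bot f).symm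

variable {U₀ : (Spec (CommRingCat.of A)).Opens}

section Chart

variable {B C : Type u} [CommRing B] [Algebra A B] [CommRing C] [Algebra A C]
  (hB : ∀ w : PrimeSpectrum B, PrimeSpectrum.comap (algebraMap A B) w ∈ (U₀.carrier : Set (PrimeSpectrum A)))

/-- The map of a chart to `U₀`. -/
noncomputable def toU : Spec (CommRingCat.of B) ⟶ (U₀ : Scheme.{u}) :=
  IsOpenImmersion.lift U₀.ι (toSpec A B) (by
    rw [Scheme.Opens.range_ι]
    rintro _ ⟨w, rfl⟩
    exact hB w)

theorem toU_ι : toU hB ≫ U₀.ι = toSpec A B := IsOpenImmersion.lift_fac _ _ _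

theorem specMap_toU (hC : ∀ w : PrimeSpectrum C, PrimeSpectrum.comap (algebraMap A C) w ∈ (U₀.carrier : Set (PrimeSpectrum A)))
    (g : B →ₐ[A] C) : Spec.map (CommRingCat.ofHom g.toRingHom) ≫ toU hB = toU hC := by
  rw [← cancel_mono U₀.ι, Category.assoc, toU_ι, toU_ι, specMap_toSpec]

variable [Algebra.Etale A B]

theorem etale_toU : Etale (toU hB) := by
  haveI : Etale (toSpec A B) :=
    (HasRingHomProperty.Spec_iff (P := @Etale)).2 (RingHom.etale_algebraMap.mpr ‹_›)
  haveI : Etale (toU hB ≫ U₀.ι) := by rw [toU_ι]; infer_instance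
  exact Etale.of_comp (toU hB) U₀.ι

/-- A chart as an object of the etale site. -/
noncomputable def obj : (U₀ : Scheme.{u}).Etale :=
  haveI := etale_toU hB
  Scheme.Etale.mk (toU hB)

/-- The map to the final object. -/
noncomputable def toTop (V : (U₀ : Scheme.{u}).Etale) : V ⟶ EtCoh.top (U₀ : Scheme.{u}) :=
  (EtCore.topIsTerminal _).from V

/-- Maps of charts. -/
noncomputable def objMap [Algebra.Etale A C]
    {hC : ∀ w : PrimeSpectrum C, PrimeSpectrum.comap (algebraMap A C) w ∈ (U₀.carrier : Set (PrimeSpectrum A))}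
    (g : B →ₐ[A] C) : obj hC ⟶ obj hB :=
  MorphismProperty.Over.homMk (Spec.map (CommRingCat.ofHom g.toRingHom)) (specMap_toU hB hC g) trivial

variable {Ω : Type u} [Field Ω] [Algebra A Ω] [IsSepClosed Ω]
  {ξ : Spec (CommRingCat.of Ω) ⟶ (U₀ : Scheme.{u})}

/-- The geometric point of a chart. -/
noncomputable def xpt (hξ : ξ ≫ U₀.ι = toSpec A Ω) (a : B →ₐ[A] Ω) :
    (Scheme.pointSmallEtale ξ).fiber.obj (obj hB) :=
  (Over.homMk (Spec.map (CommRingCat.ofHom a.toRingHom)) (by
    change Spec.map (CommRingCat.ofHom a.toRingHom) ≫ toU hB = ξ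
    rw [← cancel_mono U₀.ι, Category.assoc, toU_ι, hξ, specMap_toSpec]) :
      Over.mk ξ ⟶ (Scheme.Etale.forget _).obj (obj hB))

theorem map_objMap_xpt [Algebra.Etale A C]
    {hC : ∀ w : PrimeSpectrum C, PrimeSpectrum.comap (algebraMap A C) w ∈ (U₀.carrier : Set (PrimeSpectrum A))}
    (hξ : ξ ≫ U₀.ι = toSpec A Ω) (g : B →ₐ[A] C) (a : C →ₐ[A] Ω) :
    (Scheme.pointSmallEtale ξ).fiber.map (objMap hB (hC := hC) g) (xpt hC hξ a) = xpt hB hξ (a.comp g) := by
  refine Over.OverMorphism.ext ?_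
  show Spec.map (CommRingCat.ofHom a.toRingHom) ≫ Spec.map (CommRingCat.ofHom g.toRingHom) =
    Spec.map (CommRingCat.ofHom (a.comp g).toRingHom)
  rw [← Spec.map_comp]
  rfl

theorem exists_xpt (hξ : ξ ≫ U₀.ι = toSpec A Ω) (x : (Scheme.pointSmallEtale ξ).fiber.obj (obj hB)) :
    ∃ a : B →ₐ[A] Ω, xpt hB hξ a = x := by
  let l : Spec (CommRingCat.of Ω) ⟶ Spec (CommRingCat.of B) := x.left
  have hl : l ≫ toU hB = ξ := Over.w x
  have h1 : (Spec.preimage l).hom.comp (algebraMap A B) = algebraMap A Ω := by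
    have h2 : Spec.map (CommRingCat.ofHom (algebraMap A B) ≫ Spec.preimage l) = toSpec A Ω := by
      rw [Spec.map_comp, Spec.map_preimage, ← hξ, ← hl, Category.assoc, toU_ι]
    exact congrArg CommRingCat.Hom.hom (Spec.map_injective h2)
  refine ⟨{ toRingHom := (Spec.preimage l).hom, commutes' := fun r => RingHom.congr_fun h1 r },
    Over.OverMorphism.ext ?_⟩
  show Spec.map (CommRingCat.ofHom (Spec.preimage l).hom) = l
  rw [CommRingCat.ofHom_hom, Spec.map_preimage]

theorem xpt_default (hξ : ξ ≫ U₀.ι = toSpec A Ω) (a : B →ₐ[A] Ω) :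
    (xpt hB hξ a).left (default : Spec (CommRingCat.of Ω)) = RigidLabel.pt a.toRingHom := by
  exact comap_eq_pt a.toRingHom _

theorem topPt_eq (ξ : Spec (CommRingCat.of Ω) ⟶ (U₀ : Scheme.{u}))
    (x y : (Scheme.pointSmallEtale ξ).fiber.obj (EtCoh.top (U₀ : Scheme.{u}))) : x = y := by
  refine Over.OverMorphism.ext ?_
  have hx : x.left ≫ 𝟙 _ = ξ := Over.w x
  have hy : y.left ≫ 𝟙 _ = ξ := Over.w y
  rw [Category.comp_id] at hx hy
  exact hx.trans hy.symm

/-- The germ of a section at a point of a chart. -/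
noncomputable def gm (F : EtDesc.Sh (U₀ : Scheme.{u})) (t : F.obj.obj (op (obj hB)))
    (hξ : ξ ≫ U₀.ι = toSpec A Ω) (a : B →ₐ[A] Ω) : (SetStalk.stalkSh ξ).obj F :=
  SetStalk.germ ξ F (obj hB) (xpt hB hξ a) t

end Chart

section Pairs

variable {B C : Type u} [CommRing B] [Algebra A B] [CommRing C] [Algebra A C]
  (hB : ∀ w : PrimeSpectrum B, PrimeSpectrum.comap (algebraMap A B) w ∈ (U₀.carrier : Set (PrimeSpectrum A)))
  (hC : ∀ w : PrimeSpectrum C, PrimeSpectrum.comap (algebraMap A C) w ∈ (U₀.carrier : Set (PrimeSpectrum A)))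
  [Algebra.Etale A B] [Algebra.Etale A C]

include hB in
omit [Algebra.Etale A B] [Algebra.Etale A C] in
theorem tensor_mem : ∀ w : PrimeSpectrum (B ⊗[A] C),
    PrimeSpectrum.comap (algebraMap A (B ⊗[A] C)) w ∈ (U₀.carrier : Set (PrimeSpectrum A)) := fun w => by
  rw [IsScalarTower.algebraMap_eq A B (B ⊗[A] C), PrimeSpectrum.comap_comp_apply]
  exact hB _

instance etale_tensor : Algebra.Etale A (B ⊗[A] C) := Algebra.Etale.comp A B (B ⊗[A] C)

variable (F : EtDesc.Sh (U₀ : Scheme.{u})) (t : F.obj.obj (op (obj hB))) (t' : F.obj.obj (op (obj hC)))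

/-- The locus where two sections agree. -/
def relSet : Set (PrimeSpectrum (B ⊗[A] C)) :=
  {z | EqAt F (F.obj.map (objMap hB (hC := tensor_mem hB) Algebra.TensorProduct.includeLeft).op t)
    (F.obj.map (objMap hC (hC := tensor_mem (C := C) hB) Algebra.TensorProduct.includeRight).op t') z}

theorem isOpen_relSet : IsOpen (relSet hB hC F t t') :=
  DescSh.isOpen_eqAt (U := obj (tensor_mem (C := C) hB)) F _ _

theorem mem_relSet_iff {Ω : Type u} [Field Ω] [Algebra A Ω] [IsSepClosed Ω]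
    {ξ : Spec (CommRingCat.of Ω) ⟶ (U₀ : Scheme.{u})} (hξ : ξ ≫ U₀.ι = toSpec A Ω)
    (a : B →ₐ[A] Ω) (b : C →ₐ[A] Ω) :
    RigidLabel.pt₂ a b ∈ relSet hB hC F t t' ↔ gm hB F t hξ a = gm hC F t' hξ b := by
  show EqAt F _ _ _ ↔ _
  refine (eqAt_iff_germ F _ _ (xpt (tensor_mem (C := C) hB) hξ (Algebra.TensorProduct.productMap a b))
    (xpt_default _ hξ _)).trans ?_
  rw [SetStalk.germ_res, SetStalk.germ_res, map_objMap_xpt, map_objMap_xpt,
    Algebra.TensorProduct.productMap_left, Algebra.TensorProduct.productMap_right]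
  rfl

end Pairs

section Completion

variable (I : Ideal A) (U₀)

/-- The completion morphism. -/
noncomputable abbrev πc : Spec (CommRingCat.of (AdicCompletion I A)) ⟶ Spec (CommRingCat.of A) :=
  Spec.map (CommRingCat.ofHom (algebraMap A (AdicCompletion I A)))

/-- Its restriction over `U₀`. -/
noncomputable abbrev resU : ((πc I) ⁻¹ᵁ U₀ : Scheme.{u}) ⟶ (U₀ : Scheme.{u}) := (πc I) ∣_ U₀

variable {U₀} {I}
variable {B : Type u} [CommRing B] [Algebra A B]
  (hB : ∀ w : PrimeSpectrum B, PrimeSpectrum.comap (algebraMap A B) w ∈ (U₀.carrier : Set (PrimeSpectrum A)))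
  [Algebra.Etale A B]

variable (I B) in
/-- The left inclusion. -/
noncomputable abbrev iL : AdicCompletion I A →+* AdicCompletion I A ⊗[A] B :=
  Algebra.TensorProduct.includeLeftRingHom

variable (I B) in
/-- The right inclusion. -/
noncomputable abbrev iR : B →+* AdicCompletion I A ⊗[A] B :=
  (Algebra.TensorProduct.includeRight (R := A)).toRingHom

omit [Algebra.Etale A B] in
theorem iL_comp : (iL I B).comp (algebraMap A (AdicCompletion I A)) = (iR I B).comp (algebraMap A B) :=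
  RingHom.ext fun r => ((Algebra.TensorProduct.includeLeft :
    AdicCompletion I A →ₐ[A] AdicCompletion I A ⊗[A] B).commutes r).trans
      ((Algebra.TensorProduct.includeRight (R := A) (A := AdicCompletion I A) (B := B)).commutes r).symm

include hB in
omit [Algebra.Etale A B] in
theorem range_iL : Set.range (Spec.map (CommRingCat.ofHom (iL I B))) ⊆
    Set.range ((πc I) ⁻¹ᵁ U₀).ι := by
  rw [Scheme.Opens.range_ι]
  rintro _ ⟨z, rfl⟩
  show PrimeSpectrum.comap (algebraMap A (AdicCompletion I A))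
    (PrimeSpectrum.comap (iL I B) z) ∈ U₀.carrier
  rw [← PrimeSpectrum.comap_comp_apply, iL_comp, PrimeSpectrum.comap_comp_apply]
  exact hB _

/-- The chart over the completion. -/
noncomputable def toUh : Spec (CommRingCat.of (AdicCompletion I A ⊗[A] B)) ⟶ ((πc I) ⁻¹ᵁ U₀ : Scheme.{u}) :=
  IsOpenImmersion.lift ((πc I) ⁻¹ᵁ U₀).ι (Spec.map (CommRingCat.ofHom (iL I B))) (range_iL hB)

omit [Algebra.Etale A B] in
theorem toUh_ι : toUh (I := I) hB ≫ ((πc I) ⁻¹ᵁ U₀).ι = Spec.map (CommRingCat.ofHom (iL I B)) :=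
  IsOpenImmersion.lift_fac _ _ _

/-- The comparison with the base change of the chart. -/
noncomputable def cc : Spec (CommRingCat.of (AdicCompletion I A ⊗[A] B)) ⟶
    ((EtCoh.bc (resU U₀ I)).obj (obj hB)).left :=
  pullback.lift (f := toU hB) (g := resU U₀ I)
    (Spec.map (CommRingCat.ofHom (iR I B))) (toUh hB) (by
      rw [← cancel_mono U₀.ι, Category.assoc, toU_ι, Category.assoc, morphismRestrict_ι,
        reassoc_of% (toUh_ι (I := I) hB), toSpec, πc, ← Spec.map_comp, ← Spec.map_comp,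
        ← CommRingCat.ofHom_comp, ← CommRingCat.ofHom_comp, iL_comp])

theorem cc_fst : cc (I := I) hB ≫ pullback.fst (toU hB) (resU U₀ I) =
    Spec.map (CommRingCat.ofHom (iR I B)) :=
  pullback.lift_fst _ _ _

theorem cc_snd : cc (I := I) hB ≫ pullback.snd (toU hB) (resU U₀ I) = toUh hB :=
  pullback.lift_snd _ _ _

theorem surjective_cc : Function.Surjective (cc (I := I) hB) := by
  let d : pullback (toU hB) (resU U₀ I) ⟶ Spec (CommRingCat.of (AdicCompletion I A ⊗[A] B)) :=
    pullback.lift (f := toSpec A (AdicCompletion I A)) (g := toSpec A B)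
      (pullback.snd _ _ ≫ ((πc I) ⁻¹ᵁ U₀).ι) (pullback.fst _ _) (by
        rw [Category.assoc, ← morphismRestrict_ι, ← pullback.condition_assoc, toU_ι]) ≫
      (pullbackSpecIso A (AdicCompletion I A) B).hom
  have hd : d ≫ cc hB = 𝟙 _ := by
    refine pullback.hom_ext ?_ ?_
    · refine (Category.assoc _ _ _).trans ((congrArg (d ≫ ·) (cc_fst hB)).trans ?_)
      refine Eq.trans ?_ (Category.id_comp _).symm
      refine (Category.assoc _ _ _).trans ?_
      refine (congrArg (_ ≫ ·) (pullbackSpecIso_hom_snd A (AdicCompletion I A) B)).trans ?_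
      exact pullback.lift_snd _ _ _
    · refine (Category.assoc _ _ _).trans ((congrArg (d ≫ ·) (cc_snd hB)).trans ?_)
      refine Eq.trans ?_ (Category.id_comp _).symm
      rw [← cancel_mono ((πc I) ⁻¹ᵁ U₀).ι]
      refine (Category.assoc _ _ _).trans ((congrArg (d ≫ ·) (toUh_ι hB)).trans ?_)
      refine (Category.assoc _ _ _).trans ?_
      refine (congrArg (_ ≫ ·) (pullbackSpecIso_hom_fst A (AdicCompletion I A) B)).trans ?_
      exact pullback.lift_fst _ _ _
  exact fun v => ⟨d v, congrArg (fun k => k v) hd⟩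

variable (F : EtDesc.Sh (U₀ : Scheme.{u}))
  (s' : ((EtDesc.pullSh (resU U₀ I)).obj F).obj.obj
    (op ((EtCoh.bc (resU U₀ I)).obj (EtCoh.top (U₀ : Scheme.{u})))))

/-- The agreement locus with an inverse image on a chart. -/
def memSet (t : F.obj.obj (op (obj hB))) : Set (PrimeSpectrum (AdicCompletion I A ⊗[A] B)) :=
  (cc hB) ⁻¹' {v | EqAt _ (((EtDesc.pullSh (resU U₀ I)).obj F).obj.map
      ((EtCoh.bc (resU U₀ I)).map (toTop (obj hB))).op s') (secUp (resU U₀ I) F t) v}

theorem isOpen_memSet (t : F.obj.obj (op (obj hB))) : IsOpen (memSet hB F s' t) :=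
  (DescSh.isOpen_eqAt _ _ _).preimage (cc hB).continuous

variable {Ω : Type u} [Field Ω] [IsSepClosed Ω]
  (ζ : Spec (CommRingCat.of Ω) ⟶ ((πc I) ⁻¹ᵁ U₀ : Scheme.{u}))

/-- The value of `s'` at a geometric point, seen in the stalk of `F`. -/
noncomputable def val : (SetStalk.stalkSh (ζ ≫ resU U₀ I)).obj F :=
  (SetStalk.stalkPullShIso (resU U₀ I) ζ).hom.app F
    (SetStalk.germ ζ _ _ (fiberBcEquiv (resU U₀ I) ζ (EtCoh.top _)
      (Over.homMk (ζ ≫ resU U₀ I) (Category.comp_id _) :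
        Over.mk (ζ ≫ resU U₀ I) ⟶ (Scheme.Etale.forget _).obj (EtCoh.top (U₀ : Scheme.{u})))) s')

variable [Algebra A Ω]

theorem mem_memSet_iff (φ : AdicCompletion I A →ₐ[A] Ω)
    (hζ : ζ ≫ ((πc I) ⁻¹ᵁ U₀).ι = Spec.map (CommRingCat.ofHom φ.toRingHom))
    (hξ : (ζ ≫ resU U₀ I) ≫ U₀.ι = toSpec A Ω)
    (t : F.obj.obj (op (obj hB))) (a : B →ₐ[A] Ω) :
    RigidLabel.pt₂ φ a ∈ memSet hB F s' t ↔ val F s' ζ = gm hB F t hξ a := by
  let Φ := Algebra.TensorProduct.productMap φ a
  let x := xpt hB hξ a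
  have hx : (fiberBcEquiv (resU U₀ I) ζ (obj hB) x).left = Spec.map (CommRingCat.ofHom Φ.toRingHom) ≫ cc hB := by
    refine pullback.hom_ext ?_ ?_
    · refine (fiberBcEquiv_fst (resU U₀ I) ζ (obj hB) x).trans ?_
      refine Eq.trans ?_ ((Category.assoc _ _ _).trans (congrArg (_ ≫ ·) (cc_fst hB))).symm
      rw [← Spec.map_comp, ← CommRingCat.ofHom_comp]
      show Spec.map (CommRingCat.ofHom a.toRingHom) = _
      exact congrArg (fun k => Spec.map (CommRingCat.ofHom k))
        (congrArg AlgHom.toRingHom (Algebra.TensorProduct.productMap_right φ a)).symm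
    · refine (pullback.lift_snd _ _ _).trans ?_
      refine Eq.trans ?_ ((Category.assoc _ _ _).trans (congrArg (_ ≫ ·) (cc_snd hB))).symm
      rw [← cancel_mono ((πc I) ⁻¹ᵁ U₀).ι, hζ, Category.assoc, toUh_ι, ← Spec.map_comp, ← CommRingCat.ofHom_comp]
      exact congrArg (fun k => Spec.map (CommRingCat.ofHom k))
        (congrArg AlgHom.toRingHom (Algebra.TensorProduct.productMap_left φ a)).symm
  have hpt : (fiberBcEquiv (resU U₀ I) ζ (obj hB) x).left (default : Spec (CommRingCat.of Ω)) =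
      cc hB (RigidLabel.pt₂ φ a) := by
    rw [hx]
    exact congrArg (cc hB) (comap_eq_pt Φ.toRingHom _)
  have hn : (Scheme.pointSmallEtale ζ).fiber.map ((EtCoh.bc (resU U₀ I)).map (toTop (obj hB)))
      (fiberBcEquiv (resU U₀ I) ζ (obj hB) x) = fiberBcEquiv (resU U₀ I) ζ (EtCoh.top _)
      (Over.homMk (ζ ≫ resU U₀ I) (Category.comp_id _) :
        Over.mk (ζ ≫ resU U₀ I) ⟶ (Scheme.Etale.forget _).obj (EtCoh.top (U₀ : Scheme.{u}))) :=
    (congrArg (fun k => k x) ((fiberBcIso (resU U₀ I) ζ).hom.naturality (toTop (obj hB)))).symm.trans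
      (congrArg (fiberBcEquiv (resU U₀ I) ζ _) (topPt_eq _ _ _))
  show EqAt _ _ _ (cc hB _) ↔ _
  rw [eqAt_iff_germ _ _ _ _ hpt, SetStalk.germ_res, hn, secUp, ← SetPush.germ_stalkPullShIso_inv]
  let e := (SetStalk.stalkPullShIso (resU U₀ I) ζ).app F
  show _ = e.inv _ ↔ _
  constructor
  · intro h
    exact (congrArg e.hom h).trans (e.inv_hom_id_apply _)
  · intro h
    exact (e.hom_inv_id_apply _).symm.trans (congrArg e.inv h)

omit [IsSepClosed Ω] in
theorem resU_ι (φ : AdicCompletion I A →ₐ[A] Ω)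
    (hζ : ζ ≫ ((πc I) ⁻¹ᵁ U₀).ι = Spec.map (CommRingCat.ofHom φ.toRingHom)) :
    (ζ ≫ resU U₀ I) ≫ U₀.ι = toSpec A Ω := by
  rw [Category.assoc, morphismRestrict_ι, ← Category.assoc, hζ, specMap_toSpec]

omit [IsSepClosed Ω] in
theorem exists_zeta (φ : AdicCompletion I A →ₐ[A] Ω)
    (hφ : RigidLabel.pt (algebraMap A Ω) ∈ (U₀.carrier : Set (PrimeSpectrum A))) :
    ∃ ζ : Spec (CommRingCat.of Ω) ⟶ ((πc I) ⁻¹ᵁ U₀ : Scheme.{u}),
      ζ ≫ ((πc I) ⁻¹ᵁ U₀).ι = Spec.map (CommRingCat.ofHom φ.toRingHom) := by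
  refine ⟨IsOpenImmersion.lift ((πc I) ⁻¹ᵁ U₀).ι (Spec.map (CommRingCat.ofHom φ.toRingHom)) ?_,
    IsOpenImmersion.lift_fac _ _ _⟩
  rw [Scheme.Opens.range_ι]
  rintro _ ⟨z, rfl⟩
  show PrimeSpectrum.comap (algebraMap A (AdicCompletion I A)) (PrimeSpectrum.comap φ.toRingHom z) ∈
    (U₀.carrier : Set (PrimeSpectrum A))
  rw [← PrimeSpectrum.comap_comp_apply, AlgHom.toRingHom_eq_coe, φ.comp_algebraMap]
  convert hφ
  refine PrimeSpectrum.ext (Ideal.ext fun x => ?_)
  show algebraMap A Ω x ∈ z.asIdeal ↔ algebraMap A Ω x = 0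
  rw [(Ideal.eq_bot_or_top z.asIdeal).resolve_right z.2.ne_top, Ideal.mem_bot]

end Completion

end Groth.Agent.Hens.RigidSheaf
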