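import Groth.Agent.Hens.SmoothUnibranch
import Groth.Agent.Hens.BranchSum
import Groth.Agent.S2750
import Groth.Agent.S0539
import Groth.Agent.AzInvLib.SH

/-!
# Prime elements in strict henselizations of smooth algebras
-/

set_option autoImplicit false
set_option linter.style.haveILetI false
set_option backward.isDefEq.respectTransparency.types false

universe u

open IsLocalRing TensorProduct

namespace Groth.Agent.Hens.SmoothPrime

theorem isSeparable_of_surjective {k K : Type u} [Field k] [Field K] [Algebra k K]
    (h : Function.Surjective (algebraMap k K)) : Algebra.IsSeparable k K :=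
  ⟨fun x ↦ by obtain ⟨y, rfl⟩ := h x; exact isSeparable_algebraMap y⟩

/-- A strictly henselian local ring is its own strict henselization. -/
theorem isStrictHenselization_self (R : Type u) [CommRing R] [HenselianLocalRing R]
    [IsSepClosed (ResidueField R)] [IsLocalHom (algebraMap R R)] :
    _root_.Hensel.IsStrictHenselization R R where
  henselian := inferInstance
  isSepClosure := @IsSepClosure.mk (ResidueField R) _ (ResidueField R) _ (_) inferInstance
    (@isSeparable_of_surjective (ResidueField R) (ResidueField R) _ _ (_) fun x ↦ by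
      obtain ⟨r, rfl⟩ := residue_surjective x
      exact ⟨residue R r, rfl⟩)
  universal T _ _ f _ τ hτ := by
    refine ⟨f, ⟨RingHom.comp_id f, fun x ↦ ?_⟩, fun g hg ↦ (RingHom.comp_id g).symm.trans hg.1⟩
    exact (RingHom.congr_fun hτ (residue R x)).symm

/-- A strictly henselian local domain is geometrically unibranch. -/
theorem isGeomUnibranch_of_strictlyHenselian (R : Type u) [CommRing R] [IsDomain R]
    [HenselianLocalRing R] [IsSepClosed (ResidueField R)] : CAlg2.IsGeomUnibranch R := by
  haveI : IsLocalHom (algebraMap R R) := ⟨fun _ h ↦ h⟩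
  haveI := isStrictHenselization_self R
  exact ((S2750.result R R).mpr inferInstance).2

/-- Prime elements of a strictly henselian local ring stay prime in strict henselizations of local rings
of smooth algebras at points over the closed point. -/
theorem prime_map_strictHenselization {R R' T : Type u} [CommRing R] [HenselianLocalRing R]
    [IsSepClosed (ResidueField R)] [CommRing R'] [Algebra R R'] [Algebra.Smooth R R']
    (q : Ideal R') [q.IsPrime] (hq : (maximalIdeal R).map (algebraMap R R') ≤ q)
    [CommRing T] [IsLocalRing T] [Algebra (Localization.AtPrime q) T]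
    [IsLocalHom (algebraMap (Localization.AtPrime q) T)]
    [hT : _root_.Hensel.IsStrictHenselization (Localization.AtPrime q) T]
    (Δ : R) (hΔ : Prime Δ) :
    Prime (algebraMap (Localization.AtPrime q) T
      (algebraMap R' (Localization.AtPrime q) (algebraMap R R' Δ))) := by
  let A := R ⧸ Ideal.span {Δ}
  have hΔm : Ideal.span {Δ} ≤ maximalIdeal R := (Ideal.span_singleton_le_iff_mem _).2 hΔ.not_isUnit
  haveI hP : (Ideal.span {Δ}).IsPrime := (Ideal.span_singleton_prime hΔ.ne_zero).2 hΔ
  haveI : Nontrivial A := Ideal.Quotient.nontrivial_iff.2 hP.ne_top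
  haveI : IsLocalRing A := .of_surjective' (Ideal.Quotient.mk _) Ideal.Quotient.mk_surjective
  haveI : HenselianLocalRing A := AzInvLib.henselianLocalRing_of_surjective (Ideal.Quotient.mk (Ideal.span {Δ})) Ideal.Quotient.mk_surjective
  haveI : IsLocalHom (Ideal.Quotient.mk (Ideal.span {Δ})) := .of_surjective _ Ideal.Quotient.mk_surjective
  haveI : IsSepClosed (ResidueField A) :=
    letI := (ResidueField.map (Ideal.Quotient.mk (Ideal.span {Δ}))).toAlgebra
    haveI : Algebra.IsAlgebraic (ResidueField R) (ResidueField A) := ⟨fun y ↦ by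
      obtain ⟨x, rfl⟩ := residue_surjective y
      obtain ⟨x, rfl⟩ := Ideal.Quotient.mk_surjective x
      exact isAlgebraic_algebraMap (residue R x)⟩
    AzInvLib.isSepClosed_of_isAlgebraic (ResidueField R) _
  let B := R' ⧸ (Ideal.span {Δ}).map (algebraMap R R')
  haveI : Algebra.Smooth A B := by
    let e : (R ⧸ Ideal.span {Δ}) ⊗[R] R' ≃ₐ[R ⧸ Ideal.span {Δ}] B :=
      Algebra.TensorProduct.quotIdealMapEquivQuotTensor R' (Ideal.span {Δ}) |>.symm
    exact Algebra.Smooth.of_equiv e
  let Δq := (Ideal.span {Δ}).map (algebraMap R (Localization.AtPrime q))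
  have hle : (Ideal.span {Δ}).map (algebraMap R R') ≤ q := (Ideal.map_mono hΔm).trans hq
  let qb : Ideal B := q.map (Ideal.Quotient.mk _)
  haveI : qb.IsPrime := Ideal.map_isPrime_of_surjective Ideal.Quotient.mk_surjective (by rwa [Ideal.mk_ker])
  let I : Ideal (Localization.AtPrime q) := ((Ideal.span {Δ}).map (algebraMap R R')).map (algebraMap R' _)
  let L := Localization.AtPrime q ⧸ I
  have hI : I ≤ maximalIdeal _ := by
    refine (Ideal.map_mono hle).trans (le_of_eq ?_)
    exact Localization.AtPrime.map_eq_maximalIdeal
  haveI : Nontrivial L := Ideal.Quotient.nontrivial_iff.2 (ne_top_of_le_ne_top (maximalIdeal.isMaximal _).ne_top hI)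
  haveI : IsLocalRing L := .of_surjective' (Ideal.Quotient.mk _) Ideal.Quotient.mk_surjective
  haveI : IsLocalization.AtPrime L qb := by
    have he : Algebra.algebraMapSubmonoid B q.primeCompl = qb.primeCompl := by
      ext x
      obtain ⟨r, rfl⟩ := Ideal.Quotient.mk_surjective x
      constructor
      · rintro ⟨y, hy, hyr⟩ hr
        obtain ⟨z, hz, hzr⟩ := (Ideal.mem_map_iff_of_surjective _ Ideal.Quotient.mk_surjective).1 hr
        refine hy ?_
        have := Ideal.Quotient.eq.1 (hyr.trans hzr.symm)
        simpa using q.add_mem (hle this) hz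
      · exact fun hr ↦ ⟨r, fun h ↦ hr (Ideal.mem_map_of_mem _ h), rfl⟩
    show IsLocalization qb.primeCompl L
    rw [← he]
    infer_instance
  letI : Algebra A L := ((algebraMap B L).comp (algebraMap A B)).toAlgebra
  haveI : IsScalarTower A B L := .of_algebraMap_eq' rfl
  obtain ⟨hd, hg⟩ := SmoothUnibranch.isDomain_and_isGeomUnibranch_of_smooth (A := A) (S := L) qb (by
    rw [show maximalIdeal A = (maximalIdeal R).map (Ideal.Quotient.mk _) from
      (map_maximalIdeal_of_surjective _ Ideal.Quotient.mk_surjective).symm, Ideal.map_map]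
    refine le_of_eq_of_le ?_ (Ideal.map_mono hq)
    rw [Ideal.map_map]
    rfl) (isGeomUnibranch_of_strictlyHenselian A)
  have hIT : I.map (algebraMap _ T) ≤ maximalIdeal T :=
    (Ideal.map_mono hI).trans (((local_hom_TFAE _).out 0 2 rfl rfl).mp ‹_›)
  haveI : Nontrivial (T ⧸ I.map (algebraMap _ T)) :=
    Ideal.Quotient.nontrivial_iff.2 (ne_top_of_le_ne_top (maximalIdeal.isMaximal _).ne_top hIT)
  haveI : IsLocalRing (T ⧸ I.map (algebraMap _ T)) := .of_surjective' (Ideal.Quotient.mk _) Ideal.Quotient.mk_surjective
  haveI : IsLocalHom (algebraMap L (T ⧸ I.map (algebraMap _ T))) := ⟨fun x hx ↦ by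
    obtain ⟨x, rfl⟩ := Ideal.Quotient.mk_surjective x
    haveI : IsLocalHom (Ideal.Quotient.mk (I.map (algebraMap _ T))) :=
      .of_surjective _ Ideal.Quotient.mk_surjective
    exact ((isUnit_of_map_unit (algebraMap _ T) _ (isUnit_of_map_unit (Ideal.Quotient.mk _) _ hx))).map _⟩
  haveI := isStrictHenselization_quotient (S := T) I
  have hdom : IsDomain (T ⧸ I.map (algebraMap _ T)) :=
    (S2750.result L _).mp ⟨inferInstance, hg⟩
  have hIT' : I.map (algebraMap _ T) =
      Ideal.span {algebraMap (Localization.AtPrime q) T (algebraMap R' _ (algebraMap R R' Δ))} := by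
    simp only [I, Ideal.map_span, Set.image_singleton]
  rw [← Ideal.span_singleton_prime, ← hIT']
  · exact (Ideal.Quotient.isDomain_iff_prime _).1 hdom
  · haveI := S0539.result (Localization.AtPrime q) T
    intro h0
    have h1 : algebraMap R' (Localization.AtPrime q) (algebraMap R R' Δ) = 0 :=
      FaithfulSMul.algebraMap_injective _ T (h0.trans (map_zero _).symm)
    haveI : IsLocalHom (algebraMap R (Localization.AtPrime q)) := ⟨fun a ha ↦ by
      by_contra h
      rw [IsScalarTower.algebraMap_apply R R' (Localization.AtPrime q)] at ha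
      exact (IsLocalization.AtPrime.isUnit_to_map_iff (Localization.AtPrime q) q _).mp ha
        (hq (Ideal.mem_map_of_mem _ ((mem_maximalIdeal a).mpr h)))⟩
    haveI : Module.Flat R (Localization.AtPrime q) :=
      haveI : Module.Flat R' (Localization.AtPrime q) := IsLocalization.flat _ q.primeCompl
      Module.Flat.trans R R' _
    haveI := Module.FaithfullyFlat.of_flat_of_isLocalHom (A := R) (B := Localization.AtPrime q)
    rw [← IsScalarTower.algebraMap_apply] at h1
    exact hΔ.ne_zero (FaithfulSMul.algebraMap_injective R (Localization.AtPrime q) (h1.trans (map_zero _).symm))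

end Groth.Agent.Hens.SmoothPrime
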