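import Groth.Agent.Hens.SplitIntClosure
import Groth.Agent.Hens.RigidPushData
import Groth.Agent.Hens.PairHfp
import Groth.Agent.AlgSp.DescentAlg
import Mathlib.RingTheory.Idempotents
import Mathlib.RingTheory.Ideal.GoingDown

/-!
Extending finite étale algebras of a punctured spectrum split over the strict henselization
-/

set_option autoImplicit false
set_option linter.style.haveILetI false
set_option backward.isDefEq.respectTransparency.types false

universe u

open IsLocalRing TensorProduct
open Groth.Agent.Hensel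

namespace Groth.Agent.Hens.SplitExtend

variable {A : Type u} [CommRing A] [IsLocalRing A]

/-- A linear map which is bijective away from the closed point. -/
structure IsPunctIso {P Q : Type u} [AddCommGroup P] [Module A P] [AddCommGroup Q] [Module A Q]
    (ψ : P →ₗ[A] Q) : Prop where
  ker : ∀ f ∈ maximalIdeal A, ∀ x, ψ x = 0 → ∃ N : ℕ, f ^ N • x = 0
  coker : ∀ f ∈ maximalIdeal A, ∀ y, ∃ (N : ℕ) (x : P), ψ x = f ^ N • y

theorem IsPunctIso.lTensor {P Q : Type u} [AddCommGroup P] [Module A P] [AddCommGroup Q] [Module A Q]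
    {ψ : P →ₗ[A] Q} (hψ : IsPunctIso ψ) (T : Type u) [AddCommGroup T] [Module A T] [Module.Flat A T] :
    IsPunctIso (ψ.lTensor T) := by
  constructor
  · intro f hf x hx
    obtain ⟨y, rfl⟩ := ((Module.Flat.lTensor_exact T (LinearMap.exact_subtype_ker_map ψ)) x).1 hx
    induction y using TensorProduct.induction_on with
    | zero => exact ⟨0, by simp⟩
    | tmul t k =>
      obtain ⟨N, hN⟩ := hψ.ker f hf k.1 k.2
      refine ⟨N, ?_⟩
      rw [LinearMap.lTensor_tmul, ← TensorProduct.tmul_smul]
      change t ⊗ₜ[A] (f ^ N • (k : P)) = 0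
      rw [hN, tmul_zero]
    | add a b ha hb =>
      obtain ⟨N, hN⟩ := ha ((Module.Flat.lTensor_exact T (LinearMap.exact_subtype_ker_map ψ)).apply_apply_eq_zero a)
      obtain ⟨M, hM⟩ := hb ((Module.Flat.lTensor_exact T (LinearMap.exact_subtype_ker_map ψ)).apply_apply_eq_zero b)
      refine ⟨N + M, ?_⟩
      rw [map_add, smul_add, pow_add, mul_smul (f ^ N) (f ^ M) (LinearMap.lTensor T _ b), hM, smul_zero,
        add_zero, mul_comm, mul_smul, hN, smul_zero]
  · intro f hf y
    induction y using TensorProduct.induction_on with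
    | zero => exact ⟨0, 0, by simp⟩
    | tmul t q =>
      obtain ⟨N, x, hx⟩ := hψ.coker f hf q
      exact ⟨N, t ⊗ₜ x, by rw [LinearMap.lTensor_tmul, hx, TensorProduct.tmul_smul]⟩
    | add a b ha hb =>
      obtain ⟨N, x, hx⟩ := ha
      obtain ⟨M, z, hz⟩ := hb
      refine ⟨N + M, f ^ M • x + f ^ N • z, ?_⟩
      rw [map_add, map_smul, map_smul, hx, hz, smul_smul, smul_smul, ← pow_add, ← pow_add, add_comm M N,
        smul_add]

/-- The kernel away from the closed point of a flat algebra is nil. -/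
theorem isNilpotent_of_map_eq_zero {P Q : Type u} [CommRing P] [Algebra A P] [Module.Flat A P]
    [AddCommGroup Q] [Module A Q] {ψ : P →ₗ[A] Q} (hψ : IsPunctIso ψ)
    (hne : ∃ p : PrimeSpectrum A, p.asIdeal ≠ maximalIdeal A) {z : P} (hz : ψ z = 0) : IsNilpotent z := by
  rw [nilpotent_iff_mem_prime]
  intro J hJ
  have key : ∀ (J' : Ideal P), J'.IsPrime → ∀ f ∈ maximalIdeal A, algebraMap A P f ∉ J' → z ∈ J' := by
    intro J' hJ' f hf hfJ
    obtain ⟨N, hN⟩ := hψ.ker f hf z hz
    rw [Algebra.smul_def, map_pow] at hN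
    exact (hJ'.mem_or_mem (hN ▸ J'.zero_mem)).resolve_left fun h => hfJ (hJ'.mem_of_pow_mem N h)
  by_cases hc : ∃ f ∈ maximalIdeal A, algebraMap A P f ∉ J
  · obtain ⟨f, hf, hfJ⟩ := hc
    exact key J hJ f hf hfJ
  push Not at hc
  obtain ⟨p, hp⟩ := hne
  haveI : p.asIdeal.IsPrime := p.2
  have hlo : J.under A = maximalIdeal A :=
    ((le_maximalIdeal (Ideal.IsPrime.comap (algebraMap A P)).ne_top).antisymm fun f hf => hc f hf)
  haveI : J.LiesOver (maximalIdeal A) := ⟨hlo.symm⟩
  obtain ⟨J', hJle, hJ', hJo⟩ := Ideal.exists_ideal_le_liesOver_of_le (S := P)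
    (p := p.asIdeal) (q := maximalIdeal A) J (le_maximalIdeal p.2.ne_top)
  obtain ⟨f, hf, hfp⟩ := SetLike.exists_of_lt ((le_maximalIdeal p.2.ne_top).lt_of_ne hp)
  refine hJle (key J' hJ' f hf fun h => hfp ?_)
  rw [hJo.over]
  exact h

/-- Idempotents are determined away from the closed point. -/
theorem eq_of_idempotent {P Q : Type u} [CommRing P] [Algebra A P] [Module.Flat A P] [CommRing Q] [Algebra A Q]
    {ψ : P →ₐ[A] Q} (hψ : IsPunctIso ψ.toLinearMap) (hne : ∃ p : PrimeSpectrum A, p.asIdeal ≠ maximalIdeal A)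
    {x y : P} (hx : IsIdempotentElem x) (hy : IsIdempotentElem y) (he : ψ x = ψ y) : x = y :=
  eq_of_isNilpotent_sub_of_isIdempotentElem hx hy
    (isNilpotent_of_map_eq_zero hψ hne (by rw [AlgHom.toLinearMap_apply, map_sub, he, sub_self]))

variable {R : Type u} [CommRing R] [IsLocalRing R] [Algebra A R]

theorem isEtLike_self : IsEtLike R R :=
  ⟨inferInstance, by rw [Algebra.algebraMap_self, Ideal.map_id],
    fun _ => ⟨R, _, _, inferInstance, AlgHom.id R R, fun z _ => ⟨z, rfl⟩⟩⟩

set_option maxHeartbeats 1600000 in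
set_option backward.isDefEq.respectTransparency false in
/-- Idempotents of the twice punctured square come from the square. -/
theorem idempotent_mem_range (h : IsEtLike A R) [HenselianRing R (maximalIdeal R)]
    [IsSepClosed (ResidueField R)] (O : Type u) [CommRing O] [Algebra A O]
    (hO : IsPunctIso (Algebra.linearMap A O))
    (hidem : ∀ x : R ⊗[A] O, IsIdempotentElem x → x = 0 ∨ x = 1)
    (x : (R ⊗[A] O) ⊗[A] R) (hx : IsIdempotentElem x) :
    x ∈ (Algebra.TensorProduct.map (Algebra.TensorProduct.includeLeft : R →ₐ[A] R ⊗[A] O) (AlgHom.id A R)).range := by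
  classical
  haveI := h.flat
  let M := R ⊗[A] O
  obtain ⟨F, rfl⟩ := TensorProduct.exists_finset x
  obtain ⟨S, _, _, hS, θ, hθ⟩ := h.stage (F.image Prod.snd)
  choose! lft hlft using hθ
  let w : M ⊗[A] S := ∑ p ∈ F, p.1 ⊗ₜ lft p.2
  let ρ : M ⊗[A] S →ₐ[A] M ⊗[A] R := Algebra.TensorProduct.map (AlgHom.id A M) θ
  have hwx : ρ w = ∑ p ∈ F, p.1 ⊗ₜ p.2 := by
    simp only [w, ρ, map_sum, Algebra.TensorProduct.map_tmul, AlgHom.id_apply]
    exact Finset.sum_congr rfl fun p hp =>
      congrArg (p.1 ⊗ₜ[A] ·) (hlft _ (Finset.mem_image_of_mem _ hp))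
  have hw : ρ (w * w - w) = 0 := by rw [map_sub, map_mul, hwx, hx.eq, sub_self]
  have hswap : ∀ z : M ⊗[A] S, Algebra.TensorProduct.map θ (AlgHom.id A M) (Algebra.TensorProduct.comm A M S z) =
      Algebra.TensorProduct.comm A M R (ρ z) := by
    intro z
    induction z using TensorProduct.induction_on with
    | zero => simp
    | tmul a b => rfl
    | add a b ha hb => simp only [map_add, ha, hb]
  obtain ⟨s, hs, hsw⟩ := SplitIntClosure.exists_mul_eq_zero_tensor h θ M
    (Algebra.TensorProduct.comm A M S (w * w - w)) (by rw [hswap, hw, map_zero])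
  let S' := Localization.Away s
  haveI : Algebra.Etale S S' := Algebra.Etale.of_isLocalizationAway s
  haveI : Algebra.Etale A S' := Algebra.Etale.comp A S S'
  have hu : ∀ y : Submonoid.powers s, IsUnit (θ (y : S)) := by
    rintro ⟨y, n, rfl⟩
    simpa only [map_pow] using hs.pow n
  let θ' : S' →ₐ[A] R := IsLocalization.liftAlgHom (f := θ) hu
  let i : S →ₐ[A] S' := IsScalarTower.toAlgHom A S S'
  have hθi : θ'.comp i = θ := AlgHom.ext fun a => IsLocalization.lift_eq _ a
  let w' : M ⊗[A] S' := Algebra.TensorProduct.map (AlgHom.id A M) i w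
  have hswap' : ∀ z : M ⊗[A] S, Algebra.TensorProduct.map i (AlgHom.id A M) (Algebra.TensorProduct.comm A M S z) =
      Algebra.TensorProduct.comm A M S' (Algebra.TensorProduct.map (AlgHom.id A M) i z) := by
    intro z
    induction z using TensorProduct.induction_on with
    | zero => simp
    | tmul a b => rfl
    | add a b ha hb => simp only [map_add, ha, hb]
  have hw' : IsIdempotentElem w' := by
    have h1 := congrArg (Algebra.TensorProduct.map i (AlgHom.id A M)) hsw
    rw [Algebra.smul_def, map_mul, map_zero, Algebra.TensorProduct.algebraMap_apply,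
      Algebra.TensorProduct.map_tmul, map_one] at h1
    have h2 := ((IsLocalization.Away.algebraMap_isUnit s).map
      (Algebra.TensorProduct.includeLeft : S' →ₐ[A] S' ⊗[A] M)).mul_right_eq_zero.1 h1
    rw [hswap', EmbeddingLike.map_eq_zero_iff, map_sub, map_mul, sub_eq_zero] at h2
    exact h2
  -- over the henselian base
  let T := R ⊗[A] S'
  let ε : M ⊗[R] T ≃ₐ[R] M ⊗[A] S' := Algebra.TensorProduct.cancelBaseChange A R R M S'
  let W := T ⊗[R] M
  let v : W := Algebra.TensorProduct.comm R M T (ε.symm w')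
  have hv : IsIdempotentElem v := (hw'.map ε.symm).map (Algebra.TensorProduct.comm R M T)
  let J : Ideal T := (LinearMap.range (Algebra.linearMap T W)).comap (LinearMap.toSpanSingleton T W v)
  have hJ : J = ⊤ := by
    by_contra hne
    obtain ⟨P, hP, hJP⟩ := Ideal.exists_le_maximal J hne
    by_cases hc : ∃ f ∈ maximalIdeal A, algebraMap A T f ∉ P
    · obtain ⟨f, hf, hfP⟩ := hc
      have hcok : ∀ y : W, ∃ (N : ℕ) (t : T), t ⊗ₜ[R] (1 : M) = (algebraMap A T f) ^ N • y := by
        intro y
        induction y using TensorProduct.induction_on with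
        | zero => exact ⟨0, 0, by simp⟩
        | tmul t m =>
          obtain ⟨N, r, hr⟩ := (hO.lTensor R).coker f hf m
          have hr' : ∃ r₁ : R, r₁ • (1 : M) = f ^ N • m := by
            refine ⟨TensorProduct.rid A R r, Eq.trans ?_ hr⟩
            clear hr
            induction r using TensorProduct.induction_on with
            | zero => simp
            | tmul a c =>
              rw [rid_tmul, LinearMap.lTensor_tmul, Algebra.linearMap_apply, Algebra.TensorProduct.one_def,
                smul_tmul', smul_eq_mul, mul_one, Algebra.algebraMap_eq_smul_one, ← TensorProduct.smul_tmul]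
            | add a b ha hb => rw [map_add, add_smul, ha, hb, map_add]
          obtain ⟨r₁, hr₁⟩ := hr'
          refine ⟨N, r₁ • t, ?_⟩
          rw [TensorProduct.smul_tmul, hr₁, ← algebraMap_smul R (f ^ N) m, TensorProduct.tmul_smul,
            ← map_pow, algebraMap_smul, algebraMap_smul]
        | add a b ha hb =>
          obtain ⟨N, t, ht⟩ := ha
          obtain ⟨N', t', ht'⟩ := hb
          refine ⟨N + N', algebraMap A T f ^ N' • t + algebraMap A T f ^ N • t', ?_⟩
          have hsm : ∀ b c : T, (b • c) ⊗ₜ[R] (1 : M) = b • (c ⊗ₜ[R] (1 : M)) := fun _ _ => rfl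
          rw [add_tmul, hsm, hsm, ht, ht']
          have hmul : ∀ (b c : T) (y : W), (b * c) • y = b • (c • y) := fun b c y => mul_smul b c y
          have hadd : ∀ (b : T) (y z : W), b • (y + z) = b • y + b • z := fun b y z => smul_add b y z
          rw [pow_add, hadd, ← hmul, ← hmul, mul_comm (algebraMap A T f ^ N') (algebraMap A T f ^ N)]
      obtain ⟨N, t, ht⟩ := hcok v
      exact hfP (hP.isPrime.mem_of_pow_mem N (hJP (show algebraMap A T f ^ N ∈ J from ⟨t, ht⟩)))
    push Not at hc
    have hPm : P.comap (algebraMap R T) = maximalIdeal R := by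
      refine (le_maximalIdeal (Ideal.IsPrime.comap _).ne_top).antisymm ?_
      rw [← h.map_max, Ideal.map_le_iff_le_comap]
      intro f hf
      rw [Ideal.mem_comap, Ideal.mem_comap, ← IsScalarTower.algebraMap_apply]
      exact hc f hf
    obtain ⟨a, ha⟩ := RigidSheaf.exists_algHom_over (A := R) (K := ResidueField R) (⟨P, hP.isPrime⟩ : PrimeSpectrum T)
      (PrimeSpectrum.ext (hPm.trans IsLocalRing.ker_residue.symm))
    obtain ⟨σ, hσ⟩ := exists_algHom_lift_etale (A := R) (C := R) (J := maximalIdeal R) a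
    let τ : W →ₐ[R] R ⊗[R] M := Algebra.TensorProduct.map σ (AlgHom.id R M)
    have hτ : τ v = 0 ∨ τ v = 1 := by
      rcases hidem _ ((hv.map τ).map (Algebra.TensorProduct.lid R M)) with h0 | h1
      · exact .inl ((Algebra.TensorProduct.lid R M).injective (by rw [h0, map_zero]))
      · exact .inr ((Algebra.TensorProduct.lid R M).injective (by rw [h1, map_one]))
    obtain ⟨c, hcr, hc0⟩ : ∃ c : W, c ∈ LinearMap.range (Algebra.linearMap T W) ∧ τ (v - c) = 0 := by
      rcases hτ with h0 | h1
      · exact ⟨(0 : W), zero_mem _, (congrArg τ (sub_zero v)).trans h0⟩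
      · exact ⟨(1 : W), ⟨(1 : T), (Algebra.linearMap_apply T W 1).trans (algebraMap T W).map_one⟩, by
          refine (τ.toRingHom.map_sub v 1).trans ?_
          exact sub_eq_zero.2 (h1.trans τ.toRingHom.map_one.symm)⟩
    obtain ⟨t, ht, htv⟩ := SplitIntClosure.exists_mul_eq_zero_tensor isEtLike_self σ M (v - c) hc0
    have htP : t ∉ P := by
      intro htP
      have hk : a t = 0 := by
        have := congrArg PrimeSpectrum.asIdeal ha
        exact this.ge htP
      have h1 : IsUnit (residue R (σ t)) := ht.map _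
      rw [show residue R (σ t) = a t from hσ t, hk] at h1
      exact not_isUnit_zero h1
    refine htP (hJP ?_)
    rw [smul_sub, sub_eq_zero] at htv
    change t • v ∈ LinearMap.range (Algebra.linearMap T W)
    rw [htv]
    exact Submodule.smul_mem _ _ hcr
  obtain ⟨z, hz⟩ : v ∈ LinearMap.range (Algebra.linearMap T W) := by
    have : (1 : T) • v ∈ LinearMap.range (Algebra.linearMap T W) := (Ideal.eq_top_iff_one J).1 hJ
    rwa [one_smul] at this
  refine ⟨Algebra.TensorProduct.map (AlgHom.id A R) θ' z, ?_⟩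
  have h5 : w' = Algebra.TensorProduct.map (Algebra.TensorProduct.includeLeft : R →ₐ[A] M) (AlgHom.id A S') z := by
    have h6 : ε.symm w' = (1 : M) ⊗ₜ z := (Algebra.TensorProduct.comm R M T).injective hz.symm
    rw [← ε.apply_symm_apply w', h6]
    clear hz h6
    induction z using TensorProduct.induction_on with
    | zero => simp
    | tmul r q =>
      rw [Algebra.TensorProduct.cancelBaseChange_tmul, Algebra.TensorProduct.map_tmul, AlgHom.id_apply,
        Algebra.TensorProduct.includeLeft_apply, Algebra.TensorProduct.one_def, smul_tmul', smul_eq_mul, mul_one]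
    | add a b ha hb => simp only [tmul_add, map_add, ha, hb]
  rw [← hwx]
  change (Algebra.TensorProduct.map (Algebra.TensorProduct.includeLeft : R →ₐ[A] M) (AlgHom.id A R))
    (Algebra.TensorProduct.map (AlgHom.id A R) θ' z) = ρ w
  rw [← AlgHom.comp_apply, ← Algebra.TensorProduct.map_comp,
    show ρ w = Algebra.TensorProduct.map (AlgHom.id A M) θ' w' from by
      rw [← AlgHom.comp_apply, ← Algebra.TensorProduct.map_comp, hθi]; rfl,
    h5, ← AlgHom.comp_apply, ← Algebra.TensorProduct.map_comp]
  rfl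

set_option maxHeartbeats 1600000 in
set_option backward.isDefEq.respectTransparency false in
/-- A split finite étale algebra on the punctured spectrum extends. -/
theorem exists_finite_etale (h : IsEtLike A R) [HenselianRing R (maximalIdeal R)]
    [IsSepClosed (ResidueField R)] (hne : ∃ p : PrimeSpectrum A, p.asIdeal ≠ maximalIdeal A)
    (O C : Type u) [CommRing O] [Algebra A O] [CommRing C] [Algebra A C]
    (hO : IsPunctIso (Algebra.linearMap A O)) (hidem : ∀ x : R ⊗[A] O, IsIdempotentElem x → x = 0 ∨ x = 1)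
    (ι : Type u) [Finite ι] (Φ : R ⊗[A] C ≃ₐ[R] (ι → R ⊗[A] O)) :
    ∃ (B : Type u) (_ : CommRing B) (_ : Algebra A B),
      Module.Finite A B ∧ Algebra.Etale A B ∧ ∃ g : B →ₐ[A] C, IsPunctIso g.toLinearMap := by
  classical
  haveI := h.flat
  haveI := h.faithfullyFlat
  haveI := Fintype.ofFinite ι
  haveI : Module.Flat A (ι → R) := Module.Flat.trans A R (ι → R)
  let ΨR : (ι → R) →ₐ[R] R ⊗[A] C := Φ.symm.toAlgHom.comp ((Algebra.ofId R (R ⊗[A] O)).compLeft ι)
  let Ψ : (ι → R) →ₐ[A] R ⊗[A] C := ΨR.restrictScalars A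
  have hΦΨ : ∀ f k, Φ (Ψ f) k = f k ⊗ₜ (1 : O) := fun f k => congrFun (Φ.apply_symm_apply _) k
  have hincl : ∀ x : R ⊗[A] A, (Algebra.linearMap A O).lTensor R x = TensorProduct.rid A R x ⊗ₜ (1 : O) := by
    intro x
    induction x using TensorProduct.induction_on with
    | zero => simp
    | tmul a c =>
      rw [rid_tmul, LinearMap.lTensor_tmul, Algebra.linearMap_apply, Algebra.algebraMap_eq_smul_one,
        ← TensorProduct.smul_tmul]
    | add a b ha hb => rw [map_add, ha, hb, map_add, add_tmul]
  have hkill : ∀ (f : A) (N M : ℕ) (x : R), N ≤ M → f ^ N • x = 0 → f ^ M • x = 0 := fun f N M x hle hx => by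
    rw [← Nat.sub_add_cancel hle, pow_add, mul_smul, hx, smul_zero]
  have hΨ : IsPunctIso Ψ.toLinearMap := by
    constructor
    · intro f hf x hx
      have hx' : ∀ k, ∃ N : ℕ, f ^ N • x k = 0 := fun k => by
        obtain ⟨N, hN⟩ := (hO.lTensor R).ker f hf (x k ⊗ₜ (1 : A)) (by
          rw [hincl, rid_tmul, one_smul, ← hΦΨ, show Ψ x = 0 from hx, map_zero, Pi.zero_apply])
        refine ⟨N, ?_⟩
        have := congrArg (TensorProduct.rid A R) hN
        rwa [map_smul, rid_tmul, one_smul, map_zero] at this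
      choose N hN using hx'
      exact ⟨∑ k, N k, funext fun k => hkill f _ _ _ (Finset.single_le_sum (fun _ _ => zero_le) (Finset.mem_univ k)) (hN k)⟩
    · intro f hf y
      have hy' : ∀ k, ∃ (N : ℕ) (r : R), r ⊗ₜ[A] (1 : O) = f ^ N • Φ y k := fun k => by
        obtain ⟨N, r, hr⟩ := (hO.lTensor R).coker f hf (Φ y k)
        exact ⟨N, _, (hincl r).symm.trans hr⟩
      choose N r hr using hy'
      refine ⟨∑ k, N k, fun k => f ^ (∑ l, N l - N k) • r k, Φ.injective (funext fun k => ?_)⟩
      change Φ (Ψ _) k = Φ (f ^ _ • y) k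
      rw [hΦΨ, ← smul_tmul', hr, smul_smul, ← pow_add,
        Nat.sub_add_cancel (Finset.single_le_sum (fun _ _ => zero_le) (Finset.mem_univ k)),
        ← algebraMap_smul R (f ^ ∑ l, N l) y, map_smul, Pi.smul_apply, algebraMap_smul]
  let ψ₁ : R ⊗[A] (ι → R) →ₐ[A] R ⊗[A] (R ⊗[A] C) := Algebra.TensorProduct.map (AlgHom.id A R) Ψ
  let ψ₂ : R ⊗[A] (R ⊗[A] (ι → R)) →ₐ[A] R ⊗[A] (R ⊗[A] (R ⊗[A] C)) :=
    Algebra.TensorProduct.map (AlgHom.id A R) ψ₁
  have hψ₁ : IsPunctIso ψ₁.toLinearMap := hΨ.lTensor R
  have hψ₂ : IsPunctIso ψ₂.toLinearMap := hψ₁.lTensor R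
  let j : R ⊗[A] C →ₐ[A] R ⊗[A] (R ⊗[A] C) :=
    Algebra.TensorProduct.map (AlgHom.id A R) Algebra.TensorProduct.includeRight
  let δ : ι → (ι → R) := fun i => Pi.single i 1
  have hδ : ∀ i, IsIdempotentElem (δ i) := fun i => by
    rw [IsIdempotentElem, ← Pi.single_mul, mul_one]
  have hδ₀ : ∀ i k, i ≠ k → δ i * δ k = 0 := fun i k hik => by
    funext l
    by_cases hl : l = i
    · subst hl; simp [δ, Pi.single_eq_of_ne hik]
    · simp [δ, Pi.single_eq_of_ne hl]
  -- the gluing idempotents
  have hex : ∀ i, ∃ z : R ⊗[A] (ι → R), IsIdempotentElem z ∧ ψ₁ z = j (Ψ (δ i)) := by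
    intro i
    let p := Algebra.TensorProduct.piRight A A R fun _ : ι => R ⊗[A] O
    let p₀ := Algebra.TensorProduct.piRight A A R fun _ : ι => R
    let q : R ⊗[A] (R ⊗[A] C) ≃ₐ[A] R ⊗[A] (ι → R ⊗[A] O) :=
      Algebra.TensorProduct.congr AlgEquiv.refl (Φ.restrictScalars A)
    let inc : R →ₐ[A] R ⊗[A] O := Algebra.TensorProduct.includeLeft
    have hnat : ∀ z k, p (q (ψ₁ z)) k = Algebra.TensorProduct.map (AlgHom.id A R) inc (p₀ z k) := by
      intro z k
      induction z using TensorProduct.induction_on with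
      | zero => simp
      | tmul r f => simp [p, p₀, q, ψ₁, inc, hΦΨ]
      | add a b ha hb => simp only [map_add, Pi.add_apply, ha, hb]
    have hk : ∀ k, ∃ z : R ⊗[A] R, Algebra.TensorProduct.map (AlgHom.id A R) inc z = p (q (j (Ψ (δ i)))) k := by
      intro k
      have hy : IsIdempotentElem (p (q (j (Ψ (δ i)))) k) :=
        ((((hδ i).map Ψ).map j).map q).map p |> fun e => congrFun e k
      obtain ⟨z, hz⟩ := idempotent_mem_range h O hO hidem
        (Algebra.TensorProduct.comm A R (R ⊗[A] O) (p (q (j (Ψ (δ i)))) k)) (hy.map _)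
      refine ⟨Algebra.TensorProduct.comm A R R z, (Algebra.TensorProduct.comm A R (R ⊗[A] O)).injective ?_⟩
      rw [← hz]
      clear hz
      induction z using TensorProduct.induction_on with
      | zero => simp
      | tmul a b => rfl
      | add a b ha hb => simp only [map_add, AlgHom.toRingHom_eq_coe, RingHom.coe_coe] at ha hb ⊢; rw [ha, hb]
    choose z hz using hk
    obtain ⟨e, he, he'⟩ := exists_isIdempotentElem_eq_of_ker_isNilpotent (f := ψ₁.toRingHom)
      (fun x hx => isNilpotent_of_map_eq_zero hψ₁ hne hx) (j (Ψ (δ i)))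
      ⟨p₀.symm z, q.injective (p.injective (funext fun k => by
        change p (q (ψ₁ _)) k = _
        rw [hnat, AlgEquiv.apply_symm_apply, hz]))⟩ (((hδ i).map Ψ).map j)
    exact ⟨e, he, he'⟩
  choose z hz hzx using hex
  have hz₀ : ∀ i k, i ≠ k → z i * z k = 0 := fun i k hik =>
    eq_of_idempotent hψ₁ hne ((hz i).mul (hz k)) IsIdempotentElem.zero (by
      rw [map_mul, hzx, hzx, ← map_mul, ← map_mul, hδ₀ i k hik, map_zero, map_zero, map_zero])
  have hmul : ∀ a b : ι → R ⊗[A] (ι → R), (∑ i, a i * z i) * (∑ i, b i * z i) = ∑ i, a i * b i * z i := by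
    intro a b
    rw [Finset.sum_mul_sum]
    refine Finset.sum_congr rfl fun i _ => ?_
    rw [Finset.sum_eq_single i (fun k _ hk => by
      rw [mul_mul_mul_comm, hz₀ i k (Ne.symm hk), mul_zero]) (by simp), mul_mul_mul_comm, (hz i).eq]
  have hone : ∑ i, z i = 1 := by
    refine eq_of_idempotent hψ₁ hne ?_ IsIdempotentElem.one ?_
    · have := hmul (fun _ => 1) (fun _ => 1)
      simp only [one_mul] at this
      exact this
    · simp only [map_sum, hzx]
      rw [← map_sum, ← map_sum, show ∑ i, δ i = 1 from Finset.univ_sum_single (fun _ => (1 : R)), map_one,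
        map_one, map_one]
  let inl : R →ₐ[A] R ⊗[A] (ι → R) := Algebra.TensorProduct.includeLeft
  let θ : (ι → R) →ₐ[A] R ⊗[A] (ι → R) := AlgHom.ofLinearMap
    { toFun := fun f => ∑ i, inl (f i) * z i
      map_add' := fun f g => by simp only [Pi.add_apply, map_add, add_mul, Finset.sum_add_distrib]
      map_smul' := fun a f => by
        simp only [Pi.smul_apply, map_smul, smul_mul_assoc, Finset.smul_sum, RingHom.id_apply] }
    (by change ∑ i, inl ((1 : ι → R) i) * z i = 1; simp [hone])
    (fun f g => by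
      change ∑ i, inl ((f * g) i) * z i = (∑ i, inl (f i) * z i) * ∑ i, inl (g i) * z i
      rw [hmul]; simp only [Pi.mul_apply, map_mul])
  have hθapp : ∀ f, θ f = ∑ i, inl (f i) * z i := fun f => rfl
  have hθ : ∀ a : R, θ (algebraMap R (ι → R) a) = a ⊗ₜ 1 := fun a => by
    rw [hθapp]
    simp only [Pi.algebraMap_apply, Algebra.algebraMap_self, RingHom.id_apply, ← Finset.mul_sum, hone, mul_one]
    rfl
  have hθδ : ∀ i, θ (δ i) = z i := fun i => by
    rw [hθapp, Finset.sum_eq_single i (fun k _ hk => by simp [δ, Pi.single_eq_of_ne hk]) (by simp)]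
    simp [δ]
  let μ : R ⊗[A] (ι → R) →ₐ[A] (ι → R) := Algebra.TensorProduct.lift (IsScalarTower.toAlgHom A R (ι → R))
    (AlgHom.id A (ι → R)) (fun _ _ => Commute.all _ _)
  let m : R ⊗[A] (R ⊗[A] C) →ₐ[A] R ⊗[A] C :=
    Algebra.TensorProduct.lift Algebra.TensorProduct.includeLeft (AlgHom.id A _) (fun _ _ => Commute.all _ _)
  have hm : ∀ w, Ψ (μ w) = m (ψ₁ w) := by
    intro w
    induction w using TensorProduct.induction_on with
    | zero => simp
    | tmul r f =>
      change Ψ (algebraMap R (ι → R) r * f) = (r ⊗ₜ[A] (1 : C)) * Ψ f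
      rw [map_mul]
      congr 1
      exact ΨR.commutes r
    | add a b ha hb => simp only [map_add, ha, hb]
  have hmj : ∀ w, m (j w) = w := by
    intro w
    induction w using TensorProduct.induction_on with
    | zero => simp
    | tmul r c => simp [m, j]
    | add a b ha hb => simp only [map_add, ha, hb]
  have hμz : ∀ i, μ (z i) = δ i := fun i =>
    eq_of_idempotent hΨ hne ((hz i).map μ) (hδ i) (by rw [hm, hzx, hmj])
  have hdec : ∀ f : ι → R, f = ∑ i, algebraMap R (ι → R) (f i) * δ i := fun f => by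
    conv_lhs => rw [pi_eq_sum_univ' f]
    exact Finset.sum_congr rfl fun i _ => Algebra.smul_def _ _
  have hunit : ∀ f, μ (θ f) = f := fun f => by
    rw [hθapp, map_sum]
    conv_rhs => rw [hdec f]
    refine Finset.sum_congr rfl fun i _ => ?_
    rw [map_mul, hμz]
    congr 1
    simp [μ, inl]
  let aθ := Algebra.TensorProduct.map (AlgHom.id A R) θ
  let aι := Algebra.TensorProduct.map (AlgHom.id A R)
    (Algebra.TensorProduct.includeRight : (ι → R) →ₐ[A] R ⊗[A] (ι → R))
  have hψθ : ∀ f, ψ₁ (θ f) = j (Ψ f) := fun f => by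
    conv_rhs => rw [hdec f]
    rw [hθapp, map_sum, map_sum, map_sum]
    refine Finset.sum_congr rfl fun i _ => ?_
    rw [map_mul, map_mul, map_mul, hzx]
    congr 1
    rw [show Ψ (algebraMap R (ι → R) (f i)) = f i ⊗ₜ (1 : C) from ΨR.commutes _]
    exact congrArg (f i ⊗ₜ[A] ·) (map_one Ψ)
  have hcz : ∀ i, aθ (z i) = aι (z i) := fun i => by
    refine @eq_of_idempotent A _ _ (R ⊗[A] (R ⊗[A] (ι → R))) (R ⊗[A] (R ⊗[A] (R ⊗[A] C))) _ _ inferInstance _ _ ψ₂ hψ₂ hne _ _ ((hz i).map aθ) ((hz i).map aι) ?_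
    have e₁ : ∀ w, ψ₂ (aθ w) = Algebra.TensorProduct.map (AlgHom.id A R) j (ψ₁ w) := by
      intro w
      induction w using TensorProduct.induction_on with
      | zero => simp
      | tmul r f => simp [ψ₂, aθ, ψ₁, hψθ]
      | add a b ha hb => simp only [map_add, ha, hb]
    have e₂ : ∀ w, ψ₂ (aι w) =
        Algebra.TensorProduct.map (AlgHom.id A R) Algebra.TensorProduct.includeRight (ψ₁ w) := by
      intro w
      induction w using TensorProduct.induction_on with
      | zero => simp
      | tmul r f => simp [ψ₂, aι, ψ₁]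
      | add a b ha hb => simp only [map_add, ha, hb]
    rw [e₁, e₂, hzx]
    generalize Ψ (δ i) = w
    induction w using TensorProduct.induction_on with
    | zero => simp
    | tmul r c => simp [j]
    | add a b ha hb => simp only [map_add, ha, hb]
  have hcocycle : ∀ f, aθ (θ f) = aι (θ f) := fun f => by
    rw [hθapp, map_sum, map_sum]
    refine Finset.sum_congr rfl fun i _ => ?_
    rw [map_mul, map_mul, hcz]
    congr 1
    simp [aθ, aι, inl]
    all_goals rfl
  -- the descended algebra
  let B := AlgHom.equalizer θ Algebra.TensorProduct.includeRight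
  have hbij := AlgSp.bijective_lift_equalizer θ hθ hunit hcocycle
  let e : R ⊗[A] B ≃ₐ[R] (ι → R) := AlgEquiv.ofBijective
    (Algebra.TensorProduct.lift (Algebra.ofId R (ι → R)) B.val (fun _ _ => Commute.all _ _)) (by
      convert hbij using 1
      funext x
      induction x using TensorProduct.induction_on with
      | zero => simp
      | tmul r b => rfl
      | add a b ha hb => simp only [map_add, ha, hb])
  haveI : Module.Finite R (R ⊗[A] B) := Module.Finite.equiv e.symm.toLinearEquiv
  haveI : Algebra.Etale R (R ⊗[A] B) := Algebra.Etale.of_equiv e.symm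
  refine ⟨B, inferInstance, inferInstance, Module.Finite.of_finite_tensorProduct_of_faithfullyFlat R,
    Algebra.Etale.of_etale_tensorProduct_of_faithfullyFlat R, ?_⟩
  let inc : C →ₐ[A] R ⊗[A] C := Algebra.TensorProduct.includeRight
  have hinc : Function.Injective inc := Module.FaithfullyFlat.tensorProduct_mk_injective C
  have hrange : ∀ b : B, Ψ (b : ι → R) ∈ inc.range := by
    intro b
    let π := (LinearMap.range inc.toLinearMap).mkQ
    refine (Submodule.Quotient.mk_eq_zero (LinearMap.range inc.toLinearMap)).1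
      (Module.FaithfullyFlat.tensorProduct_mk_injective (A := A) (B := R) _ ?_)
    have h1 : j (Ψ b) = (1 : R) ⊗ₜ Ψ b := by
      rw [← hψθ, show θ (b : ι → R) = (1 : R) ⊗ₜ (b : ι → R) from b.2]
      rfl
    have h2 : ∀ w : R ⊗[A] C, π.lTensor R (j w) = 0 := by
      intro w
      induction w using TensorProduct.induction_on with
      | zero => simp
      | tmul r c =>
        change r ⊗ₜ[A] π (inc c) = 0
        rw [(Submodule.Quotient.mk_eq_zero _).2 ⟨c, rfl⟩ |> fun e => (show π (inc c) = 0 from e), tmul_zero]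
      | add a b ha hb => simp only [map_add, ha, hb, add_zero]
    have h3 := h2 (Ψ b)
    rw [h1, LinearMap.lTensor_tmul] at h3
    rw [TensorProduct.mk_apply, map_zero]
    exact h3
  let g : B →ₐ[A] C := ((AlgEquiv.ofInjective inc hinc).symm : inc.range →ₐ[A] C).comp
    ((Ψ.comp B.val).codRestrict inc.range hrange)
  refine ⟨g, ?_⟩
  have hg : ∀ b : B, inc (g b) = Ψ b := fun b =>
    congrArg Subtype.val ((AlgEquiv.ofInjective inc hinc).apply_symm_apply _)
  have hgR : ∀ x, g.toLinearMap.lTensor R x = Ψ (e x) := by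
    intro x
    induction x using TensorProduct.induction_on with
    | zero => simp
    | tmul r b =>
      change r ⊗ₜ[A] g b = Ψ (algebraMap R (ι → R) r * (b : ι → R))
      rw [map_mul, show Ψ (algebraMap R (ι → R) r) = r ⊗ₜ (1 : C) from ΨR.commutes r, ← hg]
      simp [inc]
    | add a b ha hb => simp only [map_add, ha, hb]
  constructor
  · intro f hf b hb
    obtain ⟨N, hN⟩ := hΨ.ker f hf (e ((1 : R) ⊗ₜ b)) (by
      rw [AlgHom.toLinearMap_apply, ← hgR, LinearMap.lTensor_tmul, hb, tmul_zero])
    refine ⟨N, Module.FaithfullyFlat.tensorProduct_mk_injective (A := A) (B := R) B ?_⟩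
    rw [TensorProduct.mk_apply, map_zero, TensorProduct.tmul_smul]
    refine e.injective ?_
    rw [← algebraMap_smul R (f ^ N), map_smul, algebraMap_smul, hN, map_zero]
  · intro f hf c
    obtain ⟨N, y, hy⟩ := hΨ.coker f hf (inc c)
    refine ⟨N, ?_⟩
    change f ^ N • c ∈ LinearMap.range g.toLinearMap
    refine (Submodule.Quotient.mk_eq_zero (LinearMap.range g.toLinearMap)).1
      (Module.FaithfullyFlat.tensorProduct_mk_injective (A := A) (B := R) _ ?_)
    obtain ⟨x, rfl⟩ := e.surjective y
    rw [TensorProduct.mk_apply, map_zero]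
    change (LinearMap.range g.toLinearMap).mkQ.lTensor R ((1 : R) ⊗ₜ (f ^ N • c)) = 0
    rw [TensorProduct.tmul_smul, show f ^ N • ((1 : R) ⊗ₜ[A] c) = g.toLinearMap.lTensor R x from
      hy.symm.trans (hgR x).symm, ← LinearMap.comp_apply, ← LinearMap.lTensor_comp,
      LinearMap.range_mkQ_comp, LinearMap.lTensor_zero, LinearMap.zero_apply]

end Groth.Agent.Hens.SplitExtend
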