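import Groth.Agent.Hensel.EtLikeNormal
import Mathlib.RingTheory.Smooth.IntegralClosure
import Mathlib.RingTheory.Etale.Descent
import Mathlib.RingTheory.Etale.Pi
import Mathlib.RingTheory.TotallySplit

/-!
Integral closure of a normal local domain in an algebra split by an ind-étale local extension
-/

set_option autoImplicit false
set_option linter.style.haveILetI false
set_option backward.isDefEq.respectTransparency.types false

universe u

open IsLocalRing TensorProduct Polynomial
open scoped nonZeroDivisors

namespace Groth.Agent.Hens.SplitIntClosure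

open Groth.Agent.Hensel

variable {A R : Type u} [CommRing A] [IsLocalRing A] [CommRing R] [IsLocalRing R] [Algebra A R]

/-- An element of a stage killed in the limit is killed by an element invertible in the limit. -/
theorem exists_mul_eq_zero_tensor (h : IsEtLike A R) {S : Type u} [CommRing S] [Algebra A S]
    [Algebra.Etale A S] (θ : S →ₐ[A] R) (E : Type u) [CommRing E] [Algebra A E] (w : S ⊗[A] E)
    (hw : Algebra.TensorProduct.map θ (AlgHom.id A E) w = 0) :
    ∃ s : S, IsUnit (θ s) ∧ s • w = 0 := by
  haveI := h.flat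
  let q : Ideal S := (maximalIdeal R).comap θ.toRingHom
  letI := θ.toRingHom.toAlgebra
  haveI : IsScalarTower A S R := .of_algebraMap_eq' θ.comp_algebraMap.symm
  haveI : Module.Flat S R := Algebra.FormallyUnramified.flat_of_restrictScalars A S R
  have hu : ∀ y : q.primeCompl, IsUnit (algebraMap S R y) := fun y =>
    not_not.1 fun hne => y.2 hne
  letI : Algebra (Localization.AtPrime q) R :=
    (IsLocalization.lift (S := Localization.AtPrime q) hu).toAlgebra
  haveI : IsScalarTower S (Localization.AtPrime q) R :=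
    .of_algebraMap_eq fun x => (IsLocalization.lift_eq hu x).symm
  haveI : Module.Flat (Localization.AtPrime q) R :=
    (Module.flat_iff_of_isLocalization (Localization.AtPrime q) q.primeCompl _).2 inferInstance
  haveI : IsLocalHom (algebraMap (Localization.AtPrime q) R) := by
    constructor
    intro z hz
    obtain ⟨x, s, rfl⟩ := IsLocalization.exists_mk'_eq q.primeCompl z
    rw [IsLocalization.AtPrime.isUnit_mk'_iff]
    intro hx
    have h1 := hz.mul (hu s)
    rw [IsScalarTower.algebraMap_apply S (Localization.AtPrime q) R, ← map_mul,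
      IsLocalization.mk'_spec, ← IsScalarTower.algebraMap_apply] at h1
    exact (IsLocalRing.mem_maximalIdeal _).1 hx h1
  haveI : Module.FaithfullyFlat (Localization.AtPrime q) R :=
    Module.FaithfullyFlat.of_flat_of_isLocalHom
  let M := S ⊗[A] E
  let Sq := Localization.AtPrime q
  have hS : ∀ y : M, AlgebraTensorModule.cancelBaseChange A S S R E ((1 : R) ⊗ₜ[S] y) =
      Algebra.TensorProduct.map θ (AlgHom.id A E) y := by
    intro y
    induction y using TensorProduct.induction_on with
    | zero => simp only [tmul_zero, map_zero]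
    | tmul a e =>
      rw [AlgebraTensorModule.cancelBaseChange_tmul, Algebra.TensorProduct.map_tmul, AlgHom.id_apply,
        Algebra.smul_def, mul_one]
      rfl
    | add a b ha hb => simp only [tmul_add, map_add, ha, hb]
  have h1 : (1 : R) ⊗ₜ[S] w = 0 :=
    (AlgebraTensorModule.cancelBaseChange A S S R E).injective (by rw [hS, hw, map_zero])
  have h2 : (1 : R) ⊗ₜ[Sq] ((1 : Sq) ⊗ₜ[S] w) = 0 := by
    apply (AlgebraTensorModule.cancelBaseChange S Sq Sq R M).injective
    rw [AlgebraTensorModule.cancelBaseChange_tmul, one_smul, h1, map_zero]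
  have h3 : (1 : Sq) ⊗ₜ[S] w = 0 :=
    Module.FaithfullyFlat.tensorProduct_mk_injective (A := Sq) (B := R) (Sq ⊗[S] M) (by simpa using h2)
  haveI : IsLocalizedModule q.primeCompl (TensorProduct.mk S Sq M 1) :=
    (isLocalizedModule_iff_isBaseChange q.primeCompl Sq _).mpr (TensorProduct.isBaseChange S M Sq)
  obtain ⟨⟨s, hs⟩, hsa⟩ := (IsLocalizedModule.eq_zero_iff q.primeCompl (TensorProduct.mk S Sq M 1)).1 h3
  exact ⟨s, hu ⟨s, hs⟩, hsa⟩

/-- Idempotents after base change come from the integral closure. -/
theorem idempotent_mem_range (h : IsEtLike A R) (E : Type u) [CommRing E] [Algebra A E]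
    (x : R ⊗[A] E) (hx : IsIdempotentElem x) :
    x ∈ (Algebra.TensorProduct.map (AlgHom.id R R) (integralClosure A E).val).range := by
  classical
  obtain ⟨F, rfl⟩ := TensorProduct.exists_finset x
  obtain ⟨S, _, _, hS, θ, hθ⟩ := h.stage (F.image Prod.fst)
  choose! lft hlft using hθ
  let w : S ⊗[A] E := ∑ p ∈ F, lft p.1 ⊗ₜ p.2
  let ρ : S ⊗[A] E →ₐ[A] R ⊗[A] E := Algebra.TensorProduct.map θ (AlgHom.id A E)
  have hwx : ρ w = ∑ p ∈ F, p.1 ⊗ₜ p.2 := by
    simp only [w, ρ, map_sum, Algebra.TensorProduct.map_tmul, AlgHom.id_apply]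
    exact Finset.sum_congr rfl fun p hp =>
      congrArg (· ⊗ₜ[A] p.2) (hlft _ (Finset.mem_image_of_mem _ hp))
  have hw : ρ (w * w - w) = 0 := by rw [map_sub, map_mul, hwx, hx.eq, sub_self]
  obtain ⟨s, hs, hsw⟩ := exists_mul_eq_zero_tensor h θ E (w * w - w) hw
  let S' := Localization.Away s
  haveI : Algebra.Etale S S' := Algebra.Etale.of_isLocalizationAway s
  haveI : Algebra.Etale A S' := Algebra.Etale.comp A S S'
  have hu : ∀ y : Submonoid.powers s, IsUnit (θ (y : S)) := by
    rintro ⟨y, n, rfl⟩
    simpa only [map_pow] using hs.pow n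
  let θ' : S' →ₐ[A] R := IsLocalization.liftAlgHom (f := θ) hu
  let i : S →ₐ[A] S' := IsScalarTower.toAlgHom A S S'
  haveI : Nontrivial S' := θ'.toRingHom.domain_nontrivial
  let w' : S' ⊗[A] E := Algebra.TensorProduct.map i (AlgHom.id A E) w
  have hθi : θ'.comp i = θ := AlgHom.ext fun a => IsLocalization.lift_eq _ a
  have hz : Algebra.TensorProduct.map i (AlgHom.id A E) (w * w - w) = 0 := by
    have h1 := congrArg (Algebra.TensorProduct.map i (AlgHom.id A E)) hsw
    rw [Algebra.smul_def, map_mul, map_zero, Algebra.TensorProduct.algebraMap_apply,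
      Algebra.TensorProduct.map_tmul, map_one] at h1
    exact ((IsLocalization.Away.algebraMap_isUnit s).map
      (Algebra.TensorProduct.includeLeft : S' →ₐ[A] S' ⊗[A] E)).mul_right_eq_zero.1 h1
  rw [map_sub, map_mul] at hz
  have hint : IsIntegral S' w' := by
    refine ⟨X ^ 2 - X, Polynomial.monic_X_pow_sub (Polynomial.degree_X.trans_lt (by norm_num)), ?_⟩
    rw [eval₂_sub, eval₂_X_pow, eval₂_X, pow_two]; exact hz
  obtain ⟨z, hz'⟩ := (TensorProduct.toIntegralClosure_bijective_of_smooth (R := A) (S := S') (B := E)).2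
    ⟨w', hint⟩
  refine ⟨Algebra.TensorProduct.map θ' (AlgHom.id A (integralClosure A E)) z, ?_⟩
  have h4 : ∀ z : S' ⊗[A] integralClosure A E,
      Algebra.TensorProduct.map (AlgHom.id R R) (integralClosure A E).val
        (Algebra.TensorProduct.map θ' (AlgHom.id A (integralClosure A E)) z) =
      Algebra.TensorProduct.map θ' (AlgHom.id A E)
        (TensorProduct.toIntegralClosure A S' E z : integralClosure S' (S' ⊗[A] E)) := by
    intro z
    induction z using TensorProduct.induction_on with
    | zero => simp only [map_zero]; rfl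
    | tmul a e => rfl
    | add a b ha hb => simp only [map_add, Subalgebra.coe_add, ha, hb]
  change Algebra.TensorProduct.map (AlgHom.id R R) (integralClosure A E).val _ = _
  rw [h4, hz', ← hwx]
  change Algebra.TensorProduct.map θ' (AlgHom.id A E) (Algebra.TensorProduct.map i (AlgHom.id A E) w) = ρ w
  rw [← AlgHom.comp_apply, ← Algebra.TensorProduct.map_comp, hθi, AlgHom.id_comp]

/-- If `R ⊗ E` sits as a split algebra over the fraction field, the integral closure is finite étale. -/
theorem finite_etale_integralClosure (h : IsEtLike A R) [IsDomain A] [IsIntegrallyClosed A]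
    (E : Type u) [CommRing E] [Algebra A E] (L : Type u) [Field L] [Algebra R L] [IsFractionRing R L]
    (ι : Type u) [Finite ι] (Φ : R ⊗[A] E →ₐ[R] (ι → L)) (hΦ : Function.Bijective Φ) :
    Module.Finite A (integralClosure A E) ∧ Algebra.Etale A (integralClosure A E) := by
  classical
  haveI := h.flat
  haveI := h.faithfullyFlat
  obtain ⟨_, _⟩ := h.isDomain_and_isIntegrallyClosed
  let B := integralClosure A E
  let m : R ⊗[A] B →ₐ[R] R ⊗[A] E := Algebra.TensorProduct.map (AlgHom.id R R) B.val
  let Ψ : R ⊗[A] B →ₐ[R] (ι → L) := Φ.comp m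
  let j : (ι → R) →ₐ[R] (ι → L) := (Algebra.ofId R L).compLeft ι
  have hm : Function.Injective m :=
    Module.Flat.lTensor_preserves_injective_linearMap (M := R) B.val.toLinearMap Subtype.val_injective
  have hΨ : Function.Injective Ψ := hΦ.1.comp hm
  have hj : Function.Injective j := fun a b hab => funext fun k =>
    IsFractionRing.injective R L (congrFun hab k)
  have hr : Ψ.range = j.range := by
    apply le_antisymm
    · rintro y ⟨z, rfl⟩
      haveI : Algebra.IsIntegral A B := ⟨fun b =>
        (isIntegral_algHom_iff B.val Subtype.val_injective).1 b.2⟩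
      haveI : Algebra.IsIntegral R (R ⊗[A] B) := Algebra.IsIntegral.tensorProduct A R B
      have hc : ∀ k, ∃ r : R, algebraMap R L r = Ψ z k := fun k =>
        IsIntegrallyClosed.algebraMap_eq_of_integral
          ((Algebra.IsIntegral.isIntegral z).map ((Pi.evalAlgHom R (fun _ : ι => L) k).comp Ψ))
      choose r hr using hc
      exact ⟨r, funext hr⟩
    · rintro y ⟨f, rfl⟩
      change j f ∈ Ψ.range
      haveI := Fintype.ofFinite ι
      have hf : f = ∑ k, f k • Pi.single k (1 : R) := pi_eq_sum_univ' f
      rw [hf, map_sum]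
      refine Subalgebra.sum_mem _ fun k _ => ?_
      rw [map_smul]
      refine Subalgebra.smul_mem _ ?_ _
      obtain ⟨x, hx⟩ := hΦ.2 (j (Pi.single k (1 : R)))
      have hid : IsIdempotentElem x := hΦ.1 (by
        rw [map_mul, hx, ← map_mul, ← Pi.single_mul, mul_one])
      obtain ⟨z, hz⟩ := idempotent_mem_range h E x hid
      exact ⟨z, (congrArg Φ hz).trans hx⟩
  let e : R ⊗[A] B ≃ₐ[R] (ι → R) := ((AlgEquiv.ofInjective Ψ hΨ).trans (Subalgebra.equivOfEq _ _ hr)).trans
    (AlgEquiv.ofInjective j hj).symm
  haveI : Module.Finite R (R ⊗[A] B) := Module.Finite.equiv e.symm.toLinearEquiv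
  haveI : Algebra.Etale R (R ⊗[A] B) := Algebra.Etale.of_equiv e.symm
  exact ⟨Module.Finite.of_finite_tensorProduct_of_faithfullyFlat R,
    Algebra.Etale.of_etale_tensorProduct_of_faithfullyFlat R⟩

/-- The fraction field of an ind-étale local extension of a normal local domain is a base change. -/
theorem bijective_lift_fractionRing (h : IsEtLike A R) [IsDomain A] [IsIntegrallyClosed A]
    (K L : Type u) [Field K] [Field L] [Algebra A K] [IsFractionRing A K] [Algebra R L] [IsFractionRing R L]
    [Algebra K L] [Algebra A L] [IsScalarTower A K L] [IsScalarTower A R L]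
    (μ : K ⊗[A] R →ₐ[K] L) (hμ : ∀ r, μ (1 ⊗ₜ r) = algebraMap R L r) : Function.Bijective μ := by
  obtain ⟨_, _⟩ := h.isDomain_and_isIntegrallyClosed
  haveI : IsLocalizedModule A⁰ (TensorProduct.mk A K R 1) :=
    (isLocalizedModule_iff_isBaseChange A⁰ K _).mpr (TensorProduct.isBaseChange A R K)
  have hinj : Function.Injective μ := by
    rw [injective_iff_map_eq_zero]
    intro x hx
    obtain ⟨⟨r, d⟩, hd⟩ := IsLocalizedModule.surj A⁰ (TensorProduct.mk A K R 1) x
    have hr : algebraMap R L r = 0 := by
      rw [← hμ, ← show (d : A) • x = (1 : K) ⊗ₜ r from hd, ← algebraMap_smul K (d : A) x, map_smul, hx,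
        smul_zero]
    have hdx : algebraMap A K d • x = 0 := by
      rw [algebraMap_smul, show (d : A) • x = (1 : K) ⊗ₜ r from hd,
        (map_eq_zero_iff _ (IsFractionRing.injective R L)).1 hr, tmul_zero]
    exact (smul_eq_zero.1 hdx).resolve_left (IsFractionRing.to_map_ne_zero_of_mem_nonZeroDivisors d.2)
  refine ⟨hinj, fun l => ?_⟩
  obtain ⟨r, s, hs, rfl⟩ := IsFractionRing.div_surjective (A := R) l
  obtain ⟨y, hy⟩ := h.exists_mul_mul_eq K ((1 : K) ⊗ₜ[A] s)
  have h1 := congrArg μ hy
  rw [map_mul, map_mul, hμ] at h1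
  refine ⟨(1 ⊗ₜ r) * y, ?_⟩
  rw [map_mul, hμ, eq_div_iff (IsFractionRing.to_map_ne_zero_of_mem_nonZeroDivisors hs), mul_assoc,
    mul_comm (μ y), mul_left_cancel₀ (IsFractionRing.to_map_ne_zero_of_mem_nonZeroDivisors hs)
      (by rw [← mul_assoc, h1, mul_one] : algebraMap R L s * (algebraMap R L s * μ y) = algebraMap R L s * 1),
    mul_one]

/-- The integral closure in a finite algebra over the fraction field is a lattice. -/
theorem bijective_lift_integralClosure [IsDomain A] (K : Type u) [Field K] [Algebra A K] [IsFractionRing A K]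
    (E : Type u) [CommRing E] [Algebra A E] [Algebra K E] [IsScalarTower A K E] [Module.Finite K E]
    (μ : K ⊗[A] integralClosure A E →ₐ[K] E) (hμ : ∀ b : integralClosure A E, μ (1 ⊗ₜ b) = b) :
    Function.Bijective μ := by
  let B := integralClosure A E
  haveI : IsLocalizedModule A⁰ (TensorProduct.mk A K B 1) :=
    (isLocalizedModule_iff_isBaseChange A⁰ K _).mpr (TensorProduct.isBaseChange A B K)
  refine ⟨(injective_iff_map_eq_zero _).2 fun x hx => ?_, fun y => ?_⟩
  · obtain ⟨⟨r, d⟩, hd⟩ := IsLocalizedModule.surj A⁰ (TensorProduct.mk A K B 1) x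
    have hr : r = 0 := Subtype.ext (by
      rw [← hμ, ← show (d : A) • x = (1 : K) ⊗ₜ r from hd, ← algebraMap_smul K (d : A) x, map_smul, hx,
        smul_zero]
      rfl)
    have hdx : algebraMap A K d • x = 0 := by
      rw [algebraMap_smul, show (d : A) • x = (1 : K) ⊗ₜ r from hd, hr, tmul_zero]
    exact (smul_eq_zero.1 hdx).resolve_left (IsFractionRing.to_map_ne_zero_of_mem_nonZeroDivisors d.2)
  · obtain ⟨d, hd⟩ := IsIntegral.exists_multiple_integral_of_isLocalization A⁰ y
      (Algebra.IsIntegral.isIntegral (R := K) y)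
    refine ⟨(algebraMap A K d)⁻¹ • ((1 : K) ⊗ₜ (⟨_, hd⟩ : B)), ?_⟩
    rw [map_smul, hμ]
    change (algebraMap A K d)⁻¹ • ((d : A) • y) = y
    rw [← algebraMap_smul K (d : A) y,
      inv_smul_smul₀ (IsFractionRing.to_map_ne_zero_of_mem_nonZeroDivisors d.2)]

end Groth.Agent.Hens.SplitIntClosure
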