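import Groth.Agent.Hens.StageQuotient
import Mathlib.RingTheory.Invariant.Basic
import Mathlib.FieldTheory.Normal.Basic
import Mathlib.RingTheory.Unramified.Field

/-!
# Subfields and fixed rings in a Galois stage
-/

set_option linter.style.haveILetI false

universe u

open IsLocalRing
open scoped Pointwise

namespace Groth.Agent.Hens

section Fixed

variable {A B : Type u} [CommRing A] [HenselianLocalRing A] [IsNoetherianRing A] [CommRing B]
  [HenselianLocalRing B] [Algebra A B] [IsLocalHom (algebraMap A B)] [Module.Finite A B]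
  [Algebra.Etale A B]

/-- The subalgebra fixed by a group of automorphisms. -/
def fixedBy (H : Subgroup (B ≃ₐ[A] B)) : Subalgebra A B where
  carrier := {y | ∀ h ∈ H, h y = y}
  mul_mem' hx hy h hh := by rw [map_mul, hx h hh, hy h hh]
  add_mem' hx hy h hh := by rw [map_add, hx h hh, hy h hh]
  algebraMap_mem' a h _ := h.commutes a

omit [IsNoetherianRing A] [IsLocalHom (algebraMap A B)] [Module.Finite A B] [Algebra.Etale A B] in
theorem isUnit_fixedBy_iff (H : Subgroup (B ≃ₐ[A] B)) (e : fixedBy H) :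
    IsUnit e ↔ IsUnit (e : B) := by
  refine ⟨fun h => h.map (fixedBy H).val, fun h => ?_⟩
  have hinv : (↑h.unit⁻¹ : B) ∈ fixedBy H := fun g hg => by
    have h1 : g (e : B) * g (↑h.unit⁻¹ : B) = 1 := by rw [← map_mul, h.mul_val_inv, map_one]
    rw [e.2 g hg] at h1
    exact h.mul_left_cancel (h1.trans h.mul_val_inv.symm)
  exact IsUnit.of_mul_eq_one ⟨_, hinv⟩ (Subtype.ext h.mul_val_inv)

/-- The fixed ring of a subgroup in a Galois stage is finite and unramified. -/
theorem finite_formallyUnramified_fixedBy (H : Subgroup (B ≃ₐ[A] B)) :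
    Module.Finite A (fixedBy H) ∧ Algebra.FormallyUnramified A (fixedBy H) := by
  classical
  haveI := finite_aut (A := A) (B := B)
  haveI : Fintype H := Fintype.ofFinite H
  haveI hfin : Module.Finite A (fixedBy H) :=
    Module.Finite.of_fg (IsNoetherian.noetherian (Subalgebra.toSubmodule (fixedBy H)))
  refine ⟨hfin, ?_⟩
  haveI : IsLocalRing (fixedBy H) := by
    haveI : Nontrivial (fixedBy H) := ⟨⟨0, 1, fun h => zero_ne_one (congrArg Subtype.val h)⟩⟩
    refine IsLocalRing.of_nonunits_add fun x y hx hy => ?_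
    rw [mem_nonunits_iff, isUnit_fixedBy_iff] at hx hy ⊢
    exact IsLocalRing.nonunits_add hx hy
  haveI : IsLocalHom (fixedBy H).val.toRingHom :=
    ⟨fun e he => (isUnit_fixedBy_iff H e).2 he⟩
  haveI : IsLocalHom (algebraMap A (fixedBy H)) :=
    ⟨fun a ha => IsLocalHom.map_nonunit (f := algebraMap A B) a (ha.map (fixedBy H).val)⟩
  letI : Algebra (fixedBy H) B := (fixedBy H).val.toRingHom.toAlgebra
  haveI : IsScalarTower A (fixedBy H) B := IsScalarTower.of_algebraMap_eq fun _ => rfl
  haveI : IsLocalHom (algebraMap (fixedBy H) B) := ‹IsLocalHom (fixedBy H).val.toRingHom›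
  haveI : IsScalarTower (ResidueField A) (ResidueField (fixedBy H)) (ResidueField B) :=
    IsScalarTower.of_algebraMap_eq fun x => by
      obtain ⟨a, rfl⟩ := residue_surjective x
      rfl
  haveI : Algebra.IsSeparable (ResidueField A) (ResidueField (fixedBy H)) :=
    Algebra.isSeparable_tower_bot_of_isSeparable _ _ (ResidueField B)
  refine Algebra.FormallyUnramified.of_map_maximalIdeal (le_antisymm ?_ fun e he => ?_)
  · exact IsLocalRing.map_maximalIdeal_le _
  obtain ⟨c, hc⟩ := exists_trace_eq_one (A := A) (B := B) H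
  let tr : B →ₗ[A] fixedBy H :=
    LinearMap.codRestrict (Subalgebra.toSubmodule (fixedBy H))
      (∑ h : H, h.1.toLinearMap.comp (LinearMap.mulLeft A c)) fun y g hg => by
        simp only [LinearMap.coe_sum, Finset.sum_apply, LinearMap.comp_apply]
        exact apply_trace H ⟨g, hg⟩ (c * y)
  have htr : tr (e : B) = e := by
    apply Subtype.ext
    show (∑ h : H, h.1.toLinearMap.comp (LinearMap.mulLeft A c)) (e : B) = (e : B)
    simp only [LinearMap.coe_sum, Finset.sum_apply, LinearMap.comp_apply,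
      AlgEquiv.toLinearMap_apply, LinearMap.mulLeft_apply, map_mul]
    rw [Finset.sum_congr rfl (fun h _ => by rw [e.2 h.1 h.2] :
      ∀ h ∈ (Finset.univ : Finset H), h.1 c * h.1 (e : B) = h.1 c * e), ← Finset.sum_mul, hc, one_mul]
  have heB : (e : B) ∈ maximalIdeal A • (⊤ : Submodule A B) := by
    rw [Ideal.smul_top_eq_map, Submodule.restrictScalars_mem, map_maximalIdeal_eq_of_etale B]
    exact fun hu => he ((isUnit_fixedBy_iff H e).2 hu)
  have h2 := Submodule.mem_map_of_mem (f := tr) heB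
  rw [Submodule.map_smul'', htr] at h2
  have h3 : e ∈ maximalIdeal A • (⊤ : Submodule A (fixedBy H)) := Submodule.smul_mono le_rfl le_top h2
  rwa [Ideal.smul_top_eq_map, Submodule.restrictScalars_mem] at h3

/-- The elements of a domain quotient of a Galois stage that lie in a subfield of the fraction
field are images of the fixed ring of a subgroup. -/
theorem exists_subgroup_of_subfield [IsGalois (ResidueField A) (ResidueField B)] {K : Type u}
    [Field K] (ι : B →+* K) (L : Subfield K) (hA : ∀ a : A, ι (algebraMap A B a) ∈ L) :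
    ∃ H : Subgroup (B ≃ₐ[A] B),
      (∀ y ∈ fixedBy H, ι y ∈ L) ∧ ∀ y, ι y ∈ L → ∃ y' ∈ fixedBy H, ι y' = ι y := by
  classical
  haveI := finite_aut (A := A) (B := B)
  haveI := isInvariant_aut (A := A) (B := B)
  let q := RingHom.ker ι
  haveI : q.IsPrime := RingHom.ker_isPrime ι
  let p := q.under A
  let F₀ := FractionRing (A ⧸ p)
  let F := FractionRing (B ⧸ q)
  letI : Algebra F₀ F := FractionRing.liftAlgebra (A ⧸ p) F
  let j : F →+* K := IsFractionRing.lift (g := RingHom.kerLift ι) (RingHom.kerLift_injective ι)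
  have hj : ∀ b, j (algebraMap (B ⧸ q) F (Ideal.Quotient.mk q b)) = ι b := fun b =>
    IsFractionRing.lift_algebraMap (RingHom.kerLift_injective ι) _
  have hF₀ : ∀ x : F₀, algebraMap F₀ F x ∈ L.comap j := fun x => by
    obtain ⟨a, b, -, rfl⟩ := IsFractionRing.div_surjective (A ⧸ p) x
    obtain ⟨a, rfl⟩ := Ideal.Quotient.mk_surjective a
    obtain ⟨b, rfl⟩ := Ideal.Quotient.mk_surjective b
    have key : ∀ c : A, algebraMap F₀ F (algebraMap (A ⧸ p) F₀ (Ideal.Quotient.mk p c)) ∈ L.comap j := by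
      intro c
      rw [← IsScalarTower.algebraMap_apply, IsScalarTower.algebraMap_apply (A ⧸ p) (B ⧸ q) F]
      show j _ ∈ L
      exact (hj (algebraMap A B c)).symm ▸ hA c
    rw [map_div₀]
    exact Subfield.div_mem _ (key a) (key b)
  let L' : IntermediateField F₀ F := (L.comap j).toIntermediateField hF₀
  -- `F / F₀` is Galois
  haveI : Module.Finite (A ⧸ p) (B ⧸ q) := Module.Finite.of_restrictScalars_finite A _ _
  haveI : Algebra.FormallyUnramified (A ⧸ p) (B ⧸ q) := by
    haveI : Algebra.FormallyUnramified A (B ⧸ q) :=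
      Algebra.FormallyUnramified.of_surjective (Ideal.Quotient.mkₐ A q) Ideal.Quotient.mk_surjective
    exact Algebra.FormallyUnramified.of_restrictScalars A _ _
  haveI : Algebra.FormallyUnramified F₀ F := by
    haveI : Algebra.FormallyUnramified (B ⧸ q) F :=
      Algebra.FormallyUnramified.of_isLocalization (nonZeroDivisors (B ⧸ q))
    haveI : Algebra.FormallyUnramified (A ⧸ p) F :=
      Algebra.FormallyUnramified.comp (A ⧸ p) (B ⧸ q) F
    exact Algebra.FormallyUnramified.of_restrictScalars (A ⧸ p) F₀ F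
  haveI : Algebra.EssFiniteType F₀ F := by
    haveI : Algebra.EssFiniteType (B ⧸ q) F := Algebra.EssFiniteType.of_isLocalization F (nonZeroDivisors (B ⧸ q))
    haveI : Algebra.EssFiniteType (A ⧸ p) F := Algebra.EssFiniteType.comp (A ⧸ p) (B ⧸ q) F
    exact Algebra.EssFiniteType.of_comp (A ⧸ p) F₀ F
  haveI : Algebra.IsSeparable F₀ F := Algebra.FormallyUnramified.isSeparable F₀ F
  haveI : FiniteDimensional F₀ F := Algebra.FormallyUnramified.finite_of_free F₀ F
  haveI : Normal F₀ F := by
    haveI := Fintype.ofFinite (B ≃ₐ[A] B)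
    let S : Set F := Set.range fun b : B => algebraMap (B ⧸ q) F (Ideal.Quotient.mk q b)
    have htop : IntermediateField.adjoin F₀ S = ⊤ := by
      refine eq_top_iff.2 fun x _ => ?_
      obtain ⟨a, b, -, rfl⟩ := IsFractionRing.div_surjective (B ⧸ q) x
      obtain ⟨a, rfl⟩ := Ideal.Quotient.mk_surjective a
      obtain ⟨b, rfl⟩ := Ideal.Quotient.mk_surjective b
      exact div_mem (IntermediateField.subset_adjoin _ _ ⟨a, rfl⟩)
        (IntermediateField.subset_adjoin _ _ ⟨b, rfl⟩)
    refine normal_iff.2 fun x => ⟨Algebra.IsIntegral.isIntegral x,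
      IntermediateField.splits_of_mem_adjoin F₀ F (S := S) ?_ (htop.symm ▸ trivial)⟩
    rintro _ ⟨b, rfl⟩
    refine ⟨Algebra.IsIntegral.isIntegral _, ?_⟩
    obtain ⟨P, hP⟩ := Algebra.IsInvariant.charpoly_mem_lifts A B (B ≃ₐ[A] B) b
    rw [Polynomial.coe_mapRingHom] at hP
    let PF : Polynomial F₀ :=
      P.map ((algebraMap (A ⧸ p) F₀).comp (Ideal.Quotient.mk p))
    have hmap : PF.map (algebraMap F₀ F) = (MulSemiringAction.charpoly (B ≃ₐ[A] B) b).map
        ((algebraMap (B ⧸ q) F).comp (Ideal.Quotient.mk q)) := by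
      rw [← hP, Polynomial.map_map, Polynomial.map_map]
      congr 1
      refine RingHom.ext fun a => ?_
      show algebraMap F₀ F (algebraMap (A ⧸ p) F₀ (Ideal.Quotient.mk p a)) = _
      rw [← IsScalarTower.algebraMap_apply, IsScalarTower.algebraMap_apply (A ⧸ p) (B ⧸ q) F]
      rfl
    have hsplit : (PF.map (algebraMap F₀ F)).Splits := by
      rw [hmap]; exact (MulSemiringAction.splits_charpoly _ b).map _
    refine Polynomial.Splits.of_dvd hsplit ?_ (Polynomial.map_dvd _ (minpoly.dvd F₀ _ ?_))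
    · rw [hmap]
      exact ((MulSemiringAction.monic_charpoly _ b).map _).ne_zero
    · rw [Polynomial.aeval_def, ← Polynomial.eval_map, hmap]
      show ((MulSemiringAction.charpoly (B ≃ₐ[A] B) b).map
        ((algebraMap (B ⧸ q) F).comp (Ideal.Quotient.mk q))).eval
          (((algebraMap (B ⧸ q) F).comp (Ideal.Quotient.mk q)) b) = 0
      rw [Polynomial.eval_map, Polynomial.eval₂_at_apply, MulSemiringAction.eval_charpoly, map_zero]
  haveI : IsGalois F₀ F := ⟨⟩
  let Φ := IsFractionRing.stabilizerHom (B ≃ₐ[A] B) p q F₀ F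
  have hΦ : ∀ (g : MulAction.stabilizer (B ≃ₐ[A] B) q) (b : B),
      Φ g (algebraMap _ F (Ideal.Quotient.mk q b)) =
        algebraMap _ F (Ideal.Quotient.mk q (g.1 b)) := fun g b =>
    IsFractionRing.stabilizerHom_apply_apply_mk (B ≃ₐ[A] B) p q F₀ F g b
  let H : Subgroup (B ≃ₐ[A] B) :=
    (L'.fixingSubgroup.comap Φ).map (MulAction.stabilizer (B ≃ₐ[A] B) q).subtype
  have hmem : ∀ y : B, ι y ∈ L ↔ ∀ σ ∈ L'.fixingSubgroup,
      σ (algebraMap _ F (Ideal.Quotient.mk q y)) = algebraMap _ F (Ideal.Quotient.mk q y) := by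
    intro y
    rw [← IntermediateField.mem_fixedField_iff, IsGalois.fixedField_fixingSubgroup]
    show _ ↔ j _ ∈ L
    rw [hj]
  refine ⟨H, fun y hy => (hmem y).2 fun σ hσ => ?_, fun y hy => ?_⟩
  · obtain ⟨g, rfl⟩ := IsFractionRing.stabilizerHom_surjective (B ≃ₐ[A] B) p q F₀ F σ
    rw [show IsFractionRing.stabilizerHom (B ≃ₐ[A] B) p q F₀ F g = Φ g from rfl, hΦ,
      hy g.1 ⟨g, hσ, rfl⟩]
  haveI : Fintype H := Fintype.ofFinite H
  obtain ⟨c, hc⟩ := exists_trace_eq_one (A := A) (B := B) H
  refine ⟨∑ h : H, h.1 (c * y), fun g hg => apply_trace H ⟨g, hg⟩ _, ?_⟩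
  have hfix : ∀ h : H, ι (h.1 y) = ι y := by
    rintro ⟨h, hh⟩
    obtain ⟨g, hg, rfl⟩ := Subgroup.mem_map.1 hh
    rw [← hj, ← hj]
    refine congrArg j ((hΦ g y).symm.trans ?_)
    exact (hmem y).1 hy _ hg
  simp only [map_sum, map_mul, hfix, ← Finset.sum_mul]
  rw [← map_sum, hc, map_one, one_mul]

end Fixed

end Groth.Agent.Hens
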