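import Groth.Agent.Hens.Local
import Mathlib.RingTheory.Localization.Integral

/-!
# Étale stages over a ring for the étale localisation of one of its localisations

If `A` is a localization of `R`, finitely many elements of `EtLoc A K` come from a single étale
`R`-algebra.
-/

set_option linter.style.haveILetI false

universe u

open Polynomial TensorProduct

namespace Groth.Agent.Hens

/-- `z` comes from an étale `R`-algebra. -/
def FromEtale (R : Type u) [CommRing R] {T : Type u} [CommRing T] [Algebra R T] (z : T) : Prop :=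
  ∃ (E : Type u) (_ : CommRing E) (_ : Algebra R E),
    Algebra.Etale R E ∧ ∃ θ : E →ₐ[R] T, z ∈ θ.range

variable {R : Type u} [CommRing R] {T : Type u} [CommRing T] [Algebra R T]

theorem exists_etale_finset {s : Finset T} (hs : ∀ z ∈ s, FromEtale R z) :
    ∃ (E : Type u) (_ : CommRing E) (_ : Algebra R E),
      Algebra.Etale R E ∧ ∃ θ : E →ₐ[R] T, ∀ z ∈ s, z ∈ θ.range := by
  classical
  induction s using Finset.induction with
  | empty => exact ⟨R, _, _, inferInstance, Algebra.ofId R _, by simp⟩
  | @insert z s hz ih =>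
    obtain ⟨A, _, _, hA, θ, hθ⟩ := ih fun y hy => hs y (Finset.mem_insert_of_mem hy)
    obtain ⟨B, _, _, hB, η, b, hb⟩ := hs z (Finset.mem_insert_self z s)
    refine ⟨A ⊗[R] B, _, _, Algebra.Etale.comp R A _,
      Algebra.TensorProduct.lift θ η (fun _ _ => Commute.all _ _), fun y hy => ?_⟩
    rcases Finset.mem_insert.1 hy with rfl | hy
    · exact ⟨1 ⊗ₜ b, (Algebra.TensorProduct.lift_tmul _ _ _ _ _).trans (by rw [map_one, one_mul]; exact hb)⟩
    · obtain ⟨a, ha⟩ := hθ y hy
      exact ⟨a ⊗ₜ 1, (Algebra.TensorProduct.lift_tmul _ _ _ _ _).trans (by rw [map_one, mul_one]; exact ha)⟩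

theorem fromEtale_algebraMap (r : R) : FromEtale R (algebraMap R T r) :=
  ⟨R, _, _, inferInstance, Algebra.ofId R _, r, rfl⟩

theorem FromEtale.add {x y : T} (hx : FromEtale R x) (hy : FromEtale R y) : FromEtale R (x + y) := by
  classical
  obtain ⟨E, _, _, hE, θ, hθ⟩ := exists_etale_finset (R := R) (s := {x, y}) (by simp [hx, hy])
  exact ⟨E, _, _, hE, θ, add_mem (hθ x (by simp)) (hθ y (by simp))⟩

theorem FromEtale.mul {x y : T} (hx : FromEtale R x) (hy : FromEtale R y) : FromEtale R (x * y) := by
  classical
  obtain ⟨E, _, _, hE, θ, hθ⟩ := exists_etale_finset (R := R) (s := {x, y}) (by simp [hx, hy])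
  exact ⟨E, _, _, hE, θ, mul_mem (hθ x (by simp)) (hθ y (by simp))⟩

theorem FromEtale.of_mul_eq {x z d : T} (hd : FromEtale R d) (hdu : IsUnit d) (hx : FromEtale R x)
    (h : z * d = x) : FromEtale R z := by
  have hinv : FromEtale R (↑hdu.unit⁻¹ : T) := by
    obtain ⟨E, _, _, hE, θ, a, ha⟩ := hd
    change θ a = d at ha
    have hu : IsUnit (θ a) := ha ▸ hdu
    haveI : Algebra.Etale E (Localization.Away a) := Algebra.Etale.of_isLocalizationAway a
    refine ⟨Localization.Away a, _, _, Algebra.Etale.comp R E _, awayExt θ a hu,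
      IsLocalization.Away.invSelf a, ?_⟩
    apply hdu.mul_left_cancel
    rw [hdu.mul_val_inv]
    nth_rewrite 1 [← ha]
    show θ a * awayExt θ a hu (IsLocalization.Away.invSelf a) = 1
    rw [← awayExt_algebraMap θ a hu a, ← map_mul, IsLocalization.Away.mul_invSelf, map_one]
  have : z = x * ↑hdu.unit⁻¹ := by rw [← h, mul_assoc, hdu.mul_val_inv, mul_one]
  exact this ▸ hx.mul hinv

variable {A : Type u} [CommRing A] [Algebra R A] [Algebra A T] [IsScalarTower R A T]
  (M : Submonoid R) [IsLocalization M A]

include M in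
theorem fromEtale_algebraMap_localization (a : A) : FromEtale R (algebraMap A T a) := by
  obtain ⟨⟨r, s⟩, h⟩ := IsLocalization.surj M a
  refine (fromEtale_algebraMap (T := T) (s : R)).of_mul_eq ?_ (fromEtale_algebraMap r) ?_
  · rw [IsScalarTower.algebraMap_apply R A T]
    exact (IsLocalization.map_units A s).map _
  · rw [IsScalarTower.algebraMap_apply R A T, IsScalarTower.algebraMap_apply R A T r, ← map_mul, h]

include M in
/-- Roots of standard étale pairs over the localization come from étale algebras over `R`. -/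
theorem fromEtale_of_hasMap [Nontrivial A] (P : StandardEtalePair A) {a : T} (ha : P.HasMap a) : FromEtale R a := by
  classical
  let s := IsLocalization.commonDenom M P.f.support P.f.coeff
  let c : A := algebraMap R A s
  obtain ⟨F, hF, -, hFm⟩ := Polynomial.lifts_and_degree_eq_and_monic
    (IsLocalization.scaleRoots_commonDenom_mem_lifts M P.f (by rw [P.monic_f.leadingCoeff]; exact one_mem _))
    ((Polynomial.monic_scaleRoots_iff _).2 P.monic_f)
  let Q : StandardEtalePair R := ⟨F, hFm, derivative F, 1, 0, 1, by simp⟩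
  have hc : IsUnit (algebraMap A T c) := (IsLocalization.map_units A s).map _
  have key : (P.f.scaleRoots c).comp (C c * X) = C (c ^ P.f.natDegree) * P.f := by
    have h := scaleRoots_eval₂_mul (p := P.f) (C : A →+* A[X]) X c
    rw [eval₂_C_X, ← map_pow] at h
    exact h
  have hQ : Q.HasMap (algebraMap A T c * a) := by
    refine ⟨?_, ?_⟩
    · rw [← aeval_map_algebraMap A, hF]
      exact scaleRoots_aeval_eq_zero ha.1
    · show IsUnit (aeval (algebraMap A T c * a) (derivative F))
      rw [← aeval_map_algebraMap A, ← derivative_map, hF]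
      refine isUnit_of_mul_isUnit_right (x := algebraMap A T c) ?_
      have hd := congrArg (fun q => aeval a (derivative q)) key
      simp only [derivative_comp, derivative_mul, derivative_C, derivative_X, zero_mul, zero_add,
        mul_one, map_mul, aeval_C, aeval_comp, aeval_X] at hd
      rw [hd, map_pow]
      exact (hc.pow _).mul ha.isUnit_derivative_f
  have hroot : FromEtale R (algebraMap A T c * a) :=
    ⟨Q.Ring, _, _, inferInstance, Q.lift _ hQ, Q.X, StandardEtalePair.lift_X _ _ hQ⟩
  exact (fromEtale_algebraMap_localization M c).of_mul_eq hc hroot (mul_comm _ _)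

variable {K : Type u} [Field K] [Algebra A K]

include M in
/-- Finitely many elements of `EtLoc A K` come from one étale `R`-algebra. -/
theorem exists_stage_of_localization [Algebra R (EtLoc A K)] [IsScalarTower R A (EtLoc A K)]
    (s : Finset (EtLoc A K)) :
    ∃ (E : Type u) (_ : CommRing E) (_ : Algebra R E),
      Algebra.Etale R E ∧ ∃ θ : E →ₐ[R] EtLoc A K, ∀ z ∈ s, z ∈ θ.range := by
  refine exists_etale_finset fun z _ => ?_
  haveI : Nontrivial A := (algebraMap A K).domain_nontrivial
  have hpoly : ∀ q : MvPolynomial (Idx A K) A, FromEtale R (ofPoly A K q) := by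
    intro q
    induction q using MvPolynomial.induction_on with
    | C a =>
      have : ofPoly A K (MvPolynomial.C a) = algebraMap A _ a := (ofPoly A K).commutes a
      exact this ▸ fromEtale_algebraMap_localization M a
    | add p q hp hq => rw [map_add]; exact hp.add hq
    | mul_X p i hp => rw [map_mul]; exact hp.mul (fromEtale_of_hasMap M i.1 (hasMap_gen i))
  obtain ⟨⟨x, y⟩, h⟩ := IsLocalization.surj (RingHom.ker (prePoint A K).toRingHom).primeCompl z
  obtain ⟨x, rfl⟩ := Ideal.Quotient.mk_surjective x
  obtain ⟨y, hy⟩ := y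
  obtain ⟨y, rfl⟩ := Ideal.Quotient.mk_surjective y
  exact (hpoly y).of_mul_eq (IsLocalization.map_units (EtLoc A K) ⟨_, hy⟩) (hpoly x) h

section Surjective

variable {B : Type u} [CommRing B] [Algebra A B]

include M in
/-- Finitely many elements of `EtLoc B K`, `B` a quotient of the localization, come from one étale
`R`-algebra. -/
theorem exists_stage_of_surjective {K : Type u} [Field K] [Algebra B K] [Algebra A (EtLoc B K)]
    [IsScalarTower A B (EtLoc B K)] [Algebra R (EtLoc B K)] [IsScalarTower R A (EtLoc B K)]
    (hsurj : Function.Surjective (algebraMap A B)) (s : Finset (EtLoc B K)) :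
    ∃ (E : Type u) (_ : CommRing E) (_ : Algebra R E),
      Algebra.Etale R E ∧ ∃ θ : E →ₐ[R] EtLoc B K, ∀ z ∈ s, z ∈ θ.range := by
  refine exists_etale_finset fun z _ => ?_
  haveI : Nontrivial B := (algebraMap B K).domain_nontrivial
  haveI : Nontrivial A := (algebraMap A B).domain_nontrivial
  have hgen : ∀ i : Idx B K, FromEtale R (gen i) := fun i => by
    obtain ⟨F, hF, -, hFm⟩ := Polynomial.lifts_and_degree_eq_and_monic
      ((Polynomial.lifts_iff_coeff_lifts _).2 fun n => hsurj (i.1.f.coeff n)) i.1.monic_f
    let Q : StandardEtalePair A := ⟨F, hFm, derivative F, 1, 0, 1, by simp⟩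
    refine fromEtale_of_hasMap M Q ⟨?_, ?_⟩
    · rw [← aeval_map_algebraMap B, hF]
      exact (hasMap_gen i).1
    · show IsUnit (aeval (gen i) (derivative F))
      rw [← aeval_map_algebraMap B, ← derivative_map, hF]
      exact (hasMap_gen i).isUnit_derivative_f
  have hpoly : ∀ q : MvPolynomial (Idx B K) B, FromEtale R (ofPoly B K q) := by
    intro q
    induction q using MvPolynomial.induction_on with
    | C b =>
      obtain ⟨a, rfl⟩ := hsurj b
      have : ofPoly B K (MvPolynomial.C (algebraMap A B a)) = algebraMap A _ a :=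
        ((ofPoly B K).commutes (algebraMap A B a)).trans (IsScalarTower.algebraMap_apply A B _ a).symm
      exact this ▸ fromEtale_algebraMap_localization M a
    | add p q hp hq => rw [map_add]; exact hp.add hq
    | mul_X p i hp => rw [map_mul]; exact hp.mul (hgen i)
  obtain ⟨⟨x, y⟩, h⟩ := IsLocalization.surj (RingHom.ker (prePoint B K).toRingHom).primeCompl z
  obtain ⟨x, rfl⟩ := Ideal.Quotient.mk_surjective x
  obtain ⟨y, hy⟩ := y
  obtain ⟨y, rfl⟩ := Ideal.Quotient.mk_surjective y
  exact (hpoly y).of_mul_eq (IsLocalization.map_units (EtLoc B K) ⟨_, hy⟩) (hpoly x) h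

end Surjective

end Groth.Agent.Hens
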