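import Groth.Agent.Hens.GaloisStage
import Groth.Prelude.Def_EssEt
import Mathlib.Algebra.Field.Subfield.Basic
import Mathlib.RingTheory.LocalRing.Basic
import Mathlib.RingTheory.Ideal.MinimalPrime.Noetherian

/-!
# Minimal primes of a strict henselization and stages
-/

set_option linter.style.haveILetI false

universe u

open IsLocalRing

namespace Groth.Agent.Hens

/-- A finite étale local stage is an essentially étale local algebra. -/
theorem isEssentiallyEtale_of_stage {A : Type u} [CommRing A] [HenselianLocalRing A] (B : Type u)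
    [CommRing B] [IsLocalRing B] [Algebra A B] [IsLocalHom (algebraMap A B)] [Module.Finite A B]
    [Algebra.Etale A B] : EGA4loc.IsEssentiallyEtale A B := by
  refine ⟨B, inferInstance, inferInstance, maximalIdeal B, inferInstance, inferInstance,
    ((local_hom_TFAE (algebraMap A B)).out 0 4 rfl rfl).1 ‹_›, ⟨?_⟩⟩
  exact (IsLocalization.atUnits B (maximalIdeal B).primeCompl
    (S := Localization.AtPrime (maximalIdeal B))
    (fun x hx => IsLocalRing.notMem_maximalIdeal.1 hx)).restrictScalars A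

variable {A : Type u} [CommRing A] [HenselianLocalRing A]

/-- A stage that contains generators of `Q`, of the neighbouring minimal primes and of finitely
many fractions. -/
theorem exists_stage_minimalPrime (S : Type u) [CommRing S] [IsLocalRing S] [Algebra A S]
    [IsLocalHom (algebraMap A S)] [Hensel.IsStrictHenselization A S] [IsNoetherianRing S]
    (Q : Ideal S) [Q.IsPrime] (t : Finset (FractionRing (S ⧸ Q))) :
    ∃ (B : Type u) (_ : CommRing B) (_ : Algebra A B) (_ : IsLocalRing B) (_ : HenselianLocalRing B)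
      (_ : IsLocalHom (algebraMap A B)),
      Module.Finite A B ∧ Algebra.Etale A B ∧ IsGalois (ResidueField A) (ResidueField B) ∧
      ∃ θ : B →ₐ[A] S, IsLocalHom θ.toRingHom ∧ θ.toRingHom.Flat ∧ Function.Injective θ ∧
        (Q ≤ (Q.comap θ.toRingHom).map θ.toRingHom) ∧
        (∀ Q' ∈ ((Q.comap (algebraMap A S)).map (algebraMap A S)).minimalPrimes,
          Q' ≤ (Q'.comap θ.toRingHom).map θ.toRingHom) ∧
        ∀ x ∈ t, x ∈ Subfield.closure (Set.range fun b : B =>
          algebraMap (S ⧸ Q) (FractionRing (S ⧸ Q)) (Ideal.Quotient.mk Q (θ b))) := by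
  classical
  have hfg : ∀ J : Ideal S, ∃ s : Finset S, Ideal.span (s : Set S) = J := fun J =>
    IsNoetherian.noetherian J
  choose gen hgen using hfg
  have hfrac : ∀ x : FractionRing (S ⧸ Q), ∃ a b : S,
      algebraMap _ (FractionRing (S ⧸ Q)) (Ideal.Quotient.mk Q a) /
        algebraMap _ _ (Ideal.Quotient.mk Q b) = x := fun x => by
    obtain ⟨a, b, -, hab⟩ := IsFractionRing.div_surjective (S ⧸ Q) x
    obtain ⟨a, rfl⟩ := Ideal.Quotient.mk_surjective a
    obtain ⟨b, rfl⟩ := Ideal.Quotient.mk_surjective b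
    exact ⟨a, b, hab⟩
  choose num den hnd using hfrac
  let T : Finset (Ideal S) :=
    (Ideal.finite_minimalPrimes_of_isNoetherianRing _
      ((Q.comap (algebraMap A S)).map (algebraMap A S))).toFinset
  obtain ⟨B, _, _, _, _, _, hfin, het, hgal, θ, hloc, hflat, hinj, hmem⟩ :=
    exists_galois_stage A S (gen Q ∪ T.biUnion gen ∪ t.image num ∪ t.image den)
  have key : ∀ J : Ideal S, (∀ z ∈ gen J, z ∈ θ.range) →
      J ≤ (J.comap θ.toRingHom).map θ.toRingHom := by
    intro J hJ
    conv_lhs => rw [← hgen J]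
    rw [Ideal.span_le]
    intro z hz
    obtain ⟨b, hb⟩ := hJ z hz
    have hbJ : b ∈ J.comap θ.toRingHom := by
      show θ b ∈ J
      exact hb ▸ (hgen J).le (Ideal.subset_span hz)
    exact hb ▸ Ideal.mem_map_of_mem _ hbJ
  refine ⟨B, inferInstance, inferInstance, inferInstance, inferInstance, inferInstance, hfin, het,
    hgal, θ, hloc, hflat, hinj, key Q fun z hz => hmem z (by simp [hz]),
    fun Q' hQ' => key Q' fun z hz => hmem z ?_, fun x hx => ?_⟩
  · simp only [Finset.mem_union, Finset.mem_biUnion]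
    exact Or.inl (Or.inl (Or.inr ⟨Q', Set.Finite.mem_toFinset _ |>.2 hQ', hz⟩))
  · rw [← hnd x]
    obtain ⟨a, ha⟩ := hmem (num x) (by simp only [Finset.mem_union, Finset.mem_image]; exact Or.inl (Or.inr ⟨x, hx, rfl⟩))
    obtain ⟨b, hb⟩ := hmem (den x) (by simp only [Finset.mem_union, Finset.mem_image]; exact Or.inr ⟨x, hx, rfl⟩)
    exact Subfield.div_mem _ (Subfield.subset_closure ⟨a, congrArg (fun w => algebraMap (S ⧸ Q) (FractionRing (S ⧸ Q)) (Ideal.Quotient.mk Q w))
      (show θ a = num x from ha)⟩)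
      (Subfield.subset_closure ⟨b, congrArg (fun w => algebraMap (S ⧸ Q) (FractionRing (S ⧸ Q)) (Ideal.Quotient.mk Q w))
      (show θ b = den x from hb)⟩)

omit [HenselianLocalRing A] in
/-- Elements of `S ⧸ Q` that are fractions of elements of a stage come from the stage. -/
theorem exists_mk_eq_of_mem_closure {B S : Type u} [CommRing B] [CommRing S] [Algebra A B]
    [Algebra A S] [IsLocalRing B] [IsLocalRing S] (Q : Ideal S) [Q.IsPrime] (θ : B →ₐ[A] S)
    (hloc : IsLocalHom θ.toRingHom) (hflat : θ.toRingHom.Flat)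
    (hQ : Q ≤ (Q.comap θ.toRingHom).map θ.toRingHom) (x : S)
    (hx : algebraMap (S ⧸ Q) (FractionRing (S ⧸ Q)) (Ideal.Quotient.mk Q x) ∈
      Subfield.closure (Set.range fun b : B =>
        algebraMap (S ⧸ Q) (FractionRing (S ⧸ Q)) (Ideal.Quotient.mk Q (θ b)))) :
    ∃ b : B, Ideal.Quotient.mk Q (θ b) = Ideal.Quotient.mk Q x := by
  let ι : B →+* FractionRing (S ⧸ Q) :=
    ((algebraMap (S ⧸ Q) (FractionRing (S ⧸ Q))).comp (Ideal.Quotient.mk Q)).comp θ.toRingHom
  have hrange : Subring.closure (Set.range ι) = ι.range := by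
    rw [← RingHom.coe_range, Subring.closure_eq]
  obtain ⟨y, hy, z, hz, hyz⟩ := Subfield.mem_closure_iff.1 hx
  obtain ⟨a, rfl⟩ : y ∈ ι.range := hrange ▸ hy
  obtain ⟨b, rfl⟩ : z ∈ ι.range := hrange ▸ hz
  by_cases hb : ι b = 0
  · rw [hb, div_zero] at hyz
    exact ⟨0, by
      rw [map_zero, map_zero]
      exact IsFractionRing.injective (S ⧸ Q) _ ((map_zero _).trans hyz)⟩
  have heq : Ideal.Quotient.mk Q (θ a) = Ideal.Quotient.mk Q (x * θ b) := by
    refine IsFractionRing.injective (S ⧸ Q) (FractionRing (S ⧸ Q)) ?_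
    rw [map_mul, map_mul]
    exact (div_eq_iff hb).1 hyz
  letI : Algebra B S := θ.toRingHom.toAlgebra
  haveI : Module.Flat B S := hflat
  haveI : IsLocalHom (algebraMap B S) := hloc
  haveI : Module.FaithfullyFlat B S := Module.FaithfullyFlat.of_flat_of_isLocalHom
  set q := Q.comap θ.toRingHom
  have ha : θ a ∈ (Ideal.span {b} ⊔ q).map (algebraMap B S) := by
    rw [Ideal.map_sup, Ideal.map_span, Set.image_singleton]
    have h1 : θ a - x * θ b ∈ Q := Ideal.Quotient.eq.1 heq
    have h2 : θ a = x * θ b + (θ a - x * θ b) := by ring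
    rw [h2]
    exact Submodule.add_mem_sup (Ideal.mul_mem_left _ x (Ideal.mem_span_singleton_self _)) (hQ h1)
  have ha' : a ∈ Ideal.span {b} ⊔ q := by
    rw [← Ideal.comap_map_eq_self_of_faithfullyFlat (B := S) (Ideal.span {b} ⊔ q)]
    exact ha
  obtain ⟨_, hu, v, hv, rfl⟩ := Submodule.mem_sup.1 ha'
  obtain ⟨c, rfl⟩ := Ideal.mem_span_singleton'.1 hu
  refine ⟨c, ?_⟩
  have hb' : Ideal.Quotient.mk Q (θ b) ≠ 0 := fun h0 => hb (by
    show algebraMap _ _ (Ideal.Quotient.mk Q (θ b)) = 0
    rw [h0, map_zero])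
  rw [map_add, map_add, map_mul, map_mul, map_mul,
    show Ideal.Quotient.mk Q (θ v) = 0 from Ideal.Quotient.eq_zero_iff_mem.2 hv, add_zero] at heq
  exact mul_right_cancel₀ hb' heq

end Groth.Agent.Hens
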