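import Groth.Agent.Hens.SteinNormal
import Groth.Agent.Hens.SteinConnected
import Groth.Agent.GITLib.RigidGroup
import Groth.Agent.RatMapExt.Valuative
import Mathlib.AlgebraicGeometry.Morphisms.SchemeTheoreticallyDominant

/-!
# Geometric connectedness of fibres of flat proper morphisms by specialisation
-/

set_option autoImplicit false
set_option linter.style.haveILetI false
set_option backward.isDefEq.respectTransparency false

universe u

open CategoryTheory CategoryTheory.Limits AlgebraicGeometry IsLocalRing
open Groth.Agent.FBase.BC

namespace Groth.Agent.Hens.SteinDVR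

/-- A proper smooth geometrically connected scheme over a field has only constant functions. -/
theorem bijective_appTop_of_smooth {K : Type u} [Field K] {X : Scheme.{u}}
    (p : X ⟶ Spec (CommRingCat.of K)) [IsProper p] [Smooth p] [GeometricallyConnected p] :
    Function.Bijective p.appTop := by
  let q := specMap K (AlgebraicClosure K)
  haveI : ConnectedSpace ↥(pullback p q) :=
    pullback_of_geometrically GeometricallyConnected.geometrically_connectedSpace _ _
  haveI : IsReduced (pullback p q) := GITLib.Rigid.isReduced_of_smooth (pullback.snd p q)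
  exact AbVarLib.Rigidity.finrank_of_isPushout (AbVarLib.Rigidity.isPushout_appTop p q)
    AbVarLib.Rigidity.isField_gammaSpec AbVarLib.Rigidity.isField_gammaSpec
    (GITLib.Rigid.bijective_appTop (pullback.snd p q))

/-- `O = q_* O` for flat universally closed schemes over a normal domain with trivial generic `H⁰`. -/
theorem bijective_app {R : Type u} [CommRing R] [IsDomain R] [IsIntegrallyClosed R] {X : Scheme.{u}}
    (q : X ⟶ Spec (CommRingCat.of R)) [Flat q] [UniversallyClosed q] [QuasiSeparated q]
    (h0 : Function.Bijective
      (pullback.snd q (Spec.map (CommRingCat.ofHom (algebraMap R (FractionRing R))))).appTop)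
    (U : (Spec (CommRingCat.of R)).Opens) : Function.Bijective (q.app U) := by
  let j := Spec.map (CommRingCat.ofHom (algebraMap R (FractionRing R)))
  haveI : IsSchemeTheoreticallyDominant j := by
    haveI : IsDominant j :=
      ⟨PrimeSpectrum.denseRange_comap_iff_ker_le_nilRadical _ |>.2 (by
        show RingHom.ker (algebraMap R (FractionRing R)) ≤ _
        rw [(RingHom.injective_iff_ker_eq_bot _).1 (IsFractionRing.injective R (FractionRing R))]
        exact bot_le)⟩
    exact .of_isDominant j
  let ι := Scheme.ΓSpecIso (CommRingCat.of R)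
  let ικ := Scheme.ΓSpecIso (CommRingCat.of (FractionRing R))
  have hψ : Function.Injective (pullback.fst q j).appTop := Scheme.Hom.app_injective _ ⊤
  have hcomm : ι.inv ≫ q.appTop ≫ (pullback.fst q j).appTop =
      CommRingCat.ofHom (algebraMap R (FractionRing R)) ≫ ικ.inv ≫ (pullback.snd q j).appTop := by
    rw [← Scheme.Hom.comp_appTop, pullback.condition, Scheme.Hom.comp_appTop, ← Category.assoc,
      ← Scheme.ΓSpecIso_inv_naturality, Category.assoc]
  have hint : (ι.inv ≫ q.appTop).hom.IsIntegral := by
    rw [CommRingCat.hom_comp]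
    exact RingHom.IsIntegral.trans _ _
      (RingHom.isIntegral_of_surjective _ (ConcreteCategory.bijective_of_isIso ι.inv).2)
      (isIntegral_appTop_of_universallyClosed q)
  have h := SteinNormal.bijective_of_square (ι.inv ≫ q.appTop).hom hint
    (ικ.inv ≫ (pullback.snd q j).appTop).hom
    (by rw [CommRingCat.hom_comp, RingHom.coe_comp]
        exact h0.comp (ConcreteCategory.bijective_of_isIso ικ.inv))
    (pullback.fst q j).appTop.hom hψ (congrArg CommRingCat.Hom.hom hcomm)
  have htop : IsIso q.appTop := by
    haveI := (ConcreteCategory.isIso_iff_bijective (ι.inv ≫ q.appTop)).2 h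
    exact IsIso.of_isIso_comp_left ι.inv q.appTop
  let φ : (Spec (CommRingCat.of R)).sheaf ⟶ (TopCat.Sheaf.pushforward _ q.base).obj X.sheaf := ⟨q.c⟩
  have hφ : IsIso φ := by
    refine TopCat.Sheaf.isIso_iff_isIso_basis
      (B := fun r : Γ(Spec (CommRingCat.of R), ⊤) => (Spec (CommRingCat.of R)).basicOpen r) ?_ ?_
    · exact isBasis_basicOpen _
    · exact fun r => S1340.isIso_app_basicOpen q (isAffineOpen_top _) htop r
  exact (ConcreteCategory.isIso_iff_bijective (q.app U)).1
    ((NatTrans.isIso_iff_isIso_app _).1 ((TopCat.Sheaf.forget _ _).map_isIso φ) (Opposite.op U))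

theorem of_fiber {X S : Scheme.{u}} (f : X ⟶ S) {K : Type u} [Field K]
    (g : Spec (CommRingCat.of K) ⟶ S) {P : MorphismProperty Scheme.{u}} [P.IsStableUnderBaseChange]
    [P.RespectsIso] (η : S) (hη : g (closedPoint K) = η) (h : P (f.fiberToSpecResidueField η)) :
    P (pullback.snd f g) := by
  subst hη
  let v := Spec.map (S.descResidueField (Scheme.stalkClosedPointTo g))
  let i := S.fromSpecResidueField (g (closedPoint K))
  have hg : v ≫ i = g := Scheme.descResidueField_stalkClosedPointTo_fromSpecResidueField K S g
  let e : pullback (pullback.snd f i) v ≅ pullback f g :=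
    pullbackLeftPullbackSndIso f i v ≪≫ pullback.congrHom rfl hg
  have he : e.hom ≫ pullback.snd f g = pullback.snd (pullback.snd f i) v := by simp [e]
  rw [← P.cancel_left_of_respectsIso e.hom, he]
  exact MorphismProperty.pullback_snd _ _ h

theorem geometricallyConnected {X S : Scheme.{u}} (f : X ⟶ S) [IsProper f] [Flat f]
    [IsLocallyNoetherian S]
    (h : ∀ (Z : Set ↑S) (η : ↑S), Z ∈ irreducibleComponents ↑S → IsGenericPoint η Z →
      GeometricallyConnected (f.fiberToSpecResidueField η) ∧ Smooth (f.fiberToSpecResidueField η)) :
    GeometricallyConnected f := by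
  rw [GeometricallyConnected.iff_geometricallyConnected_fiber]
  intro s
  have hgp := (isIrreducible_irreducibleComponent (x := s)).isGenericPoint_genericPoint
    isClosed_irreducibleComponent
  obtain ⟨hc, hs⟩ := h _ _ (irreducibleComponent_mem_irreducibleComponents s) hgp
  generalize hη : (isIrreducible_irreducibleComponent (x := s)).genericPoint = η at hgp hc hs
  have hηs : η ⤳ s := hgp.specializes mem_irreducibleComponent
  rcases eq_or_ne η s with rfl | hne
  · exact hc
  obtain ⟨R, i1, i2, i3, u, hu, hgen⟩ := RatMapExt.exists_dvr_of_specializes hηs hne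
  letI := i1; letI := i2; letI := i3
  let q := pullback.snd f u
  let j := Spec.map (CommRingCat.ofHom (algebraMap R (FractionRing R)))
  let e : pullback q j ≅ pullback f (j ≫ u) := pullbackLeftPullbackSndIso f u j
  have he : e.hom ≫ pullback.snd f (j ≫ u) = pullback.snd q j := by simp [e, q]
  haveI : GeometricallyConnected (pullback.snd f (j ≫ u)) :=
    of_fiber f (j ≫ u) (P := @GeometricallyConnected) η (hgen _) hc
  haveI : Smooth (pullback.snd f (j ≫ u)) := of_fiber f (j ≫ u) (P := @Smooth) η (hgen _) hs
  have h0 : Function.Bijective (pullback.snd q j).appTop := by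
    rw [← he]
    exact (ConcreteCategory.bijective_of_isIso e.hom.appTop).comp
      (bijective_appTop_of_smooth (pullback.snd f (j ≫ u)))
  haveI : GeometricallyConnected q :=
    SteinConnected.geometricallyConnected q (bijective_app q h0)
  -- the closed fibre
  let c := Spec.map (CommRingCat.ofHom (residue R))
  have hcs : (c ≫ u) (closedPoint (ResidueField R)) = s := by
    rw [Scheme.Hom.comp_apply, ← hu]
    congr 1
    exact IsLocalRing.comap_closedPoint (residue R)
  let ψ := S.descResidueField (Scheme.stalkClosedPointTo (c ≫ u))
  have hψ : Spec.map ψ ≫ S.fromSpecResidueField ((c ≫ u) (closedPoint _)) = c ≫ u :=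
    Scheme.descResidueField_stalkClosedPointTo_fromSpecResidueField _ S (c ≫ u)
  rw [← hcs]
  letI := ψ.hom.toAlgebra
  refine (geometricallyConnected_iff (k := S.residueField ((c ≫ u) (closedPoint _)))
    (K := ResidueField R) _).mpr ?_
  let e₂ := pullbackLeftPullbackSndIso f (S.fromSpecResidueField ((c ≫ u) (closedPoint _)))
    (Spec.map ψ) ≪≫ pullback.congrHom rfl hψ ≪≫ (pullbackLeftPullbackSndIso f u c).symm
  have he₂ : e₂.hom ≫ pullback.snd q c = pullback.snd _ (Spec.map ψ) := by simp [e₂, q]
  have hfin : GeometricallyConnected (pullback.snd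
      (pullback.snd f (S.fromSpecResidueField ((c ≫ u) (closedPoint _)))) (Spec.map ψ)) := by
    rw [← he₂, MorphismProperty.cancel_left_of_respectsIso @GeometricallyConnected e₂.hom]
    infer_instance
  exact hfin

end Groth.Agent.Hens.SteinDVR
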