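import Groth.Agent.S1340
import Groth.Agent.S9821
import Mathlib.AlgebraicGeometry.FunctionField
import Mathlib.AlgebraicGeometry.ResidueField
import Mathlib.AlgebraicGeometry.Fiber

/-!
# `O = f_* O` over normal bases from the generic fibre
-/

set_option autoImplicit false
set_option linter.style.haveILetI false
set_option backward.isDefEq.respectTransparency false

universe u

open CategoryTheory CategoryTheory.Limits AlgebraicGeometry TopologicalSpace Opposite

namespace Groth.Agent.Hens.SteinNormal

/-- A ring map into an integral extension, controlled by the fraction field, is bijective. -/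
theorem bijective_of_square {R B K L : Type*} [CommRing R] [IsDomain R] [IsIntegrallyClosed R]
    [CommRing B] [CommRing K] [Algebra R K] [IsFractionRing R K] [CommRing L]
    (a : R →+* B) (ha : a.IsIntegral) (k : K →+* L) (hk : Function.Bijective k) (ψ : B →+* L)
    (hψ : Function.Injective ψ) (hcomm : ψ.comp a = k.comp (algebraMap R K)) :
    Function.Bijective a := by
  refine ⟨fun r r' h => IsFractionRing.injective R K (hk.1 ?_), fun b => ?_⟩
  · rw [← RingHom.comp_apply, ← hcomm, ← RingHom.comp_apply k, ← hcomm, RingHom.comp_apply,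
      RingHom.comp_apply, h]
  · obtain ⟨p, hp, hpb⟩ := ha b
    obtain ⟨c, hc⟩ := hk.2 (ψ b)
    have hci : IsIntegral R c := by
      refine ⟨p, hp, hk.1 ?_⟩
      rw [map_zero, Polynomial.hom_eval₂, hc, ← hcomm, ← Polynomial.hom_eval₂, hpb, map_zero]
    obtain ⟨r, rfl⟩ := IsIntegrallyClosed.isIntegral_iff.1 hci
    exact ⟨r, hψ (by rw [← RingHom.comp_apply, hcomm, RingHom.comp_apply, hc])⟩

/-- Components bijective on affine opens are bijective on all opens. -/
theorem isIso_app_of_affine {X S : Scheme.{u}} (f : X ⟶ S)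
    (h : ∀ V : S.Opens, IsAffineOpen V → Function.Bijective (f.app V)) (U : S.Opens) :
    IsIso (f.app U) := by
  let φ : S.sheaf ⟶ (TopCat.Sheaf.pushforward _ f.base).obj X.sheaf := ⟨f.c⟩
  have hφ : IsIso φ := by
    refine TopCat.Sheaf.isIso_iff_isIso_basis (B := fun V : S.affineOpens => V.1) ?_ ?_
    · rw [Subtype.range_coe]; exact S.isBasis_affineOpens
    · intro V
      exact (ConcreteCategory.isIso_iff_bijective (f.app V.1)).2 (h V.1 V.2)
  exact (NatTrans.isIso_iff_isIso_app _).1 ((TopCat.Sheaf.forget _ _).map_isIso φ) (Opposite.op U)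

theorem isIso_app {X S : Scheme.{u}} (f : X ⟶ S) [UniversallyClosed f] [IsIntegral S]
    (hS : Pi1.IsNormalScheme S) [IsReduced X]
    (hgen : ∀ Z ∈ irreducibleComponents ↑X, ∀ x : X, IsGenericPoint x Z → f x = genericPoint ↑S)
    (h0 : Function.Bijective ((f.fiberToSpecResidueField (genericPoint ↑S)).appTop))
    (U : S.Opens) : IsIso (f.app U) := by
  refine isIso_app_of_affine f (fun V hV => ?_) U
  rcases isEmpty_or_nonempty V with hne | hne
  · haveI : Subsingleton Γ(S, V) := CommRingCat.subsingleton_of_isTerminal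
      (S.sheaf.isTerminalOfEqEmpty (by ext x; exact ⟨fun hx => (hne.false ⟨x, hx⟩).elim, fun h => h.elim⟩))
    haveI : Subsingleton Γ(X, f ⁻¹ᵁ V) := (f.app V).hom.codomain_trivial
    exact ⟨Function.injective_of_subsingleton _, Function.surjective_to_subsingleton _⟩
  let ξ := genericPoint ↑S
  have hξ : ξ ∈ V :=
    ((genericPoint_spec S).mem_open_set_iff V.2).mpr ⟨hne.some.1, trivial, hne.some.2⟩
  haveI : IsDomain Γ(S, V) := IsIntegral.component_integral V
  haveI : IsIntegrallyClosed Γ(S, V) := (S9821.result S).1 hS V hV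
  letI := (S.germToFunctionField V).hom.toAlgebra
  haveI : IsFractionRing Γ(S, V) S.functionField := functionField_isFractionRing_of_isAffineOpen S V hV
  let j := S.fromSpecResidueField ξ
  let π := pullback.snd f j
  have hres : Function.Bijective (S.residue ξ) :=
    ⟨RingHom.injective (R := S.functionField) (S.residue ξ).hom, S.residue_surjective ξ⟩
  have ej : ⊤ ≤ j ⁻¹ᵁ V := fun t _ =>
    Set.mem_preimage.2 ((congrArg (· ∈ V) (Scheme.fromSpecResidueField_apply ξ t)).mpr hξ)
  have hj : j.appLE V ⊤ ej =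
      S.germToFunctionField V ≫ S.residue ξ ≫ (Scheme.ΓSpecIso (S.residueField ξ)).inv := by
    show (Spec.map (S.residue ξ) ≫ S.fromSpecStalk ξ).appLE V ⊤ _ = _
    rw [Scheme.Hom.comp_appLE, Scheme.fromSpecStalk_app hξ, Category.assoc, Category.assoc]
    congr 1
    rw [Scheme.Hom.map_appLE]
    show (Scheme.ΓSpecIso _).inv ≫ (Spec.map (S.residue ξ)).appLE ⊤ ⊤ _ = _
    exact (congrArg (_ ≫ ·) (Scheme.Hom.app_eq_appLE _).symm).trans
      (Scheme.ΓSpecIso_inv_naturality (S.residue ξ)).symm
  have e : ⊤ ≤ pullback.fst f j ⁻¹ᵁ f ⁻¹ᵁ V := fun z _ => by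
    show f (pullback.fst f j z) ∈ V
    rw [← Scheme.Hom.comp_apply, pullback.condition, Scheme.Hom.comp_apply,
      Scheme.fromSpecResidueField_apply]
    exact hξ
  let k : S.functionField ⟶ Γ(pullback f j, ⊤) :=
    S.residue ξ ≫ (Scheme.ΓSpecIso (S.residueField ξ)).inv ≫ π.appTop
  have hk : Function.Bijective k := by
    have h1 : Function.Bijective π.appTop := h0
    simp only [k, CommRingCat.hom_comp, RingHom.coe_comp]
    exact (h1.comp (ConcreteCategory.bijective_of_isIso
      (Scheme.ΓSpecIso (S.residueField ξ)).inv)).comp hres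
  have hcomm : f.app V ≫ (pullback.fst f j).appLE (f ⁻¹ᵁ V) ⊤ e = S.germToFunctionField V ≫ k := by
    show _ = S.germToFunctionField V ≫ S.residue ξ ≫ (Scheme.ΓSpecIso _).inv ≫ π.appTop
    rw [← reassoc_of% hj, Scheme.Hom.app_eq_appLE, Scheme.Hom.appLE_comp_appLE, Scheme.Hom.appTop,
      Scheme.Hom.app_eq_appLE, Scheme.Hom.appLE_comp_appLE]
    congr 1
    exact pullback.condition
  refine bijective_of_square (f.app V).hom (S1340.integralClosure_top f hV) k.hom hk
    ((pullback.fst f j).appLE (f ⁻¹ᵁ V) ⊤ e).hom ?_ (congrArg CommRingCat.Hom.hom hcomm)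
  rw [injective_iff_map_eq_zero]
  intro a ha
  refine (basicOpen_eq_bot_iff a).1 (Opens.ext (Set.eq_empty_of_forall_notMem fun y hy => ?_))
  have hg := (isIrreducible_irreducibleComponent (x := y)).isGenericPoint_genericPoint
    isClosed_irreducibleComponent
  have hxa : (isIrreducible_irreducibleComponent (x := y)).genericPoint ∈ X.basicOpen a :=
    (hg.mem_open_set_iff (X.basicOpen a).2).2 ⟨y, mem_irreducibleComponent, hy⟩
  have hx := hgen _ (irreducibleComponent_mem_irreducibleComponents y) _ hg
  obtain ⟨z, hz, -⟩ := Scheme.Pullback.exists_preimage_pullback (f := f) (g := j) _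
    (IsLocalRing.closedPoint (S.residueField ξ))
    (hx.trans (Scheme.fromSpecResidueField_apply ξ _).symm)
  have h1 : z ∈ (pullback f j).basicOpen ((pullback.fst f j).appLE (f ⁻¹ᵁ V) ⊤ e a) := by
    rw [Scheme.basicOpen_appLE]
    exact ⟨trivial, by show pullback.fst f j z ∈ X.basicOpen a; rw [hz]; exact hxa⟩
  rw [ha, Scheme.basicOpen_zero] at h1
  exact h1.elim

end Groth.Agent.Hens.SteinNormal
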