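import Groth.Agent.Hens.StageGalois

/-!
# Intersections of finitely generated subfields with a branch of a strict henselization
-/

set_option linter.style.haveILetI false

universe u

open IsLocalRing

namespace Groth.Agent.Hens

variable {A : Type u} [CommRing A] [HenselianLocalRing A] [IsNoetherianRing A]

/-- For a minimal (indeed any) prime `Q` of a strict henselization and a subfield `L` of the
fraction field of `S ⧸ Q` finitely generated over `A`, the ring `L ∩ S/Q` is finite, formally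
unramified and has fraction field `L`. -/
theorem exists_inter_subfield (S : Type u) [CommRing S] [IsLocalRing S] [Algebra A S]
    [IsLocalHom (algebraMap A S)] [Hensel.IsStrictHenselization A S] [IsNoetherianRing S]
    (Q : Ideal S) [Q.IsPrime] (t : Finset (FractionRing (S ⧸ Q))) :
    ∃ D' : Subalgebra A (S ⧸ Q),
      (D' : Set (S ⧸ Q)) = (algebraMap (S ⧸ Q) (FractionRing (S ⧸ Q))) ⁻¹'
        (Subfield.closure (Set.range (algebraMap A (FractionRing (S ⧸ Q))) ∪
          (t : Set (FractionRing (S ⧸ Q)))) : Set (FractionRing (S ⧸ Q))) ∧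
      Module.Finite A D' ∧ Algebra.FormallyUnramified A D' ∧
      ∀ l ∈ Subfield.closure (Set.range (algebraMap A (FractionRing (S ⧸ Q))) ∪
          (t : Set (FractionRing (S ⧸ Q)))),
        ∃ a ∈ D', ∃ b ∈ D', algebraMap (S ⧸ Q) (FractionRing (S ⧸ Q)) b ≠ 0 ∧
          l * algebraMap (S ⧸ Q) (FractionRing (S ⧸ Q)) b =
            algebraMap (S ⧸ Q) (FractionRing (S ⧸ Q)) a := by
  classical
  obtain ⟨B, _, _, _, _, _, _, _, hgal, θ, hloc, hflat, hinj, hQle, -, ht⟩ :=
    exists_stage_minimalPrime (A := A) S Q t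
  haveI := hgal
  let ψ : B →ₐ[A] S ⧸ Q := (Ideal.Quotient.mkₐ A Q).comp θ
  let ι : B →+* (FractionRing (S ⧸ Q)) := (algebraMap (S ⧸ Q) (FractionRing (S ⧸ Q))).comp ψ.toRingHom
  have hιA : ∀ a : A, ι (algebraMap A B a) = algebraMap A (FractionRing (S ⧸ Q)) a := fun a => by
    show algebraMap (S ⧸ Q) (FractionRing (S ⧸ Q)) (ψ (algebraMap A B a)) = _
    rw [ψ.commutes, ← IsScalarTower.algebraMap_apply]
  have hle : (Subfield.closure (Set.range (algebraMap A (FractionRing (S ⧸ Q))) ∪ (t : Set (FractionRing (S ⧸ Q))))) ≤ Subfield.closure (Set.range ι) := by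
    rw [Subfield.closure_le]
    rintro y (⟨a, rfl⟩ | hy)
    · exact Subfield.subset_closure ⟨algebraMap A B a, hιA a⟩
    · exact ht y hy
  obtain ⟨H, hH₁, hH₂⟩ := exists_subgroup_of_subfield (A := A) ι (Subfield.closure (Set.range (algebraMap A (FractionRing (S ⧸ Q))) ∪ (t : Set (FractionRing (S ⧸ Q))))) fun a => by
    rw [hιA]; exact Subfield.subset_closure (Or.inl ⟨a, rfl⟩)
  obtain ⟨hfin, hunr⟩ := finite_formallyUnramified_fixedBy (A := A) H
  haveI := hfin
  haveI := hunr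
  let φ : fixedBy H →ₐ[A] S ⧸ Q := ψ.comp (fixedBy H).val
  have hrange : ∀ x, x ∈ φ.range ↔ algebraMap (S ⧸ Q) (FractionRing (S ⧸ Q)) x ∈ (Subfield.closure (Set.range (algebraMap A (FractionRing (S ⧸ Q))) ∪ (t : Set (FractionRing (S ⧸ Q))))) := by
    refine fun x => ⟨?_, fun hx => ?_⟩
    · rintro ⟨⟨y, hy⟩, rfl⟩
      exact hH₁ y hy
    · obtain ⟨x, rfl⟩ := Ideal.Quotient.mk_surjective x
      obtain ⟨b, hb⟩ := exists_mk_eq_of_mem_closure Q θ hloc hflat hQle x (hle hx)
      obtain ⟨b', hb', hbb'⟩ := hH₂ b (by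
        show algebraMap (S ⧸ Q) (FractionRing (S ⧸ Q)) (Ideal.Quotient.mk Q (θ b)) ∈ (Subfield.closure (Set.range (algebraMap A (FractionRing (S ⧸ Q))) ∪ (t : Set (FractionRing (S ⧸ Q)))))
        rw [hb]; exact hx)
      exact ⟨⟨b', hb'⟩, (IsFractionRing.injective (S ⧸ Q) (FractionRing (S ⧸ Q)) hbb').trans hb⟩
  refine ⟨φ.range, Set.ext hrange, Module.Finite.of_surjective φ.rangeRestrict.toLinearMap
    φ.rangeRestrict_surjective, Algebra.FormallyUnramified.of_surjective φ.rangeRestrict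
    φ.rangeRestrict_surjective, fun l hl => ?_⟩
  -- clear denominators in the base
  let q := RingHom.ker ι
  haveI : q.IsPrime := RingHom.ker_isPrime ι
  obtain ⟨y, hy, z, hz, rfl⟩ := Subfield.mem_closure_iff.1 (hle hl)
  have hring : Subring.closure (Set.range ι) = ι.range := by
    rw [← RingHom.coe_range, Subring.closure_eq]
  obtain ⟨a, rfl⟩ : y ∈ ι.range := hring ▸ hy
  obtain ⟨b, rfl⟩ : z ∈ ι.range := hring ▸ hz
  by_cases hb : ι b = 0
  · refine ⟨0, Subalgebra.zero_mem _, 1, Subalgebra.one_mem _, by simp, ?_⟩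
    rw [hb, div_zero, map_zero, zero_mul]
  have hbq : Ideal.Quotient.mk q b ∈ nonZeroDivisors (B ⧸ q) :=
    mem_nonZeroDivisors_of_ne_zero fun h => hb (Ideal.Quotient.eq_zero_iff_mem.1 h)
  obtain ⟨c, a₀, ha₀, hc⟩ := (Algebra.IsAlgebraic.isAlgebraic (R := A ⧸ q.under A)
    (Ideal.Quotient.mk q b)).exists_smul_eq_mul (Ideal.Quotient.mk q a) hbq
  obtain ⟨a₀, rfl⟩ := Ideal.Quotient.mk_surjective a₀
  obtain ⟨c, rfl⟩ := Ideal.Quotient.mk_surjective c
  have ha0' : algebraMap A (FractionRing (S ⧸ Q)) a₀ ≠ 0 := fun h0 => ha₀ (Ideal.Quotient.eq_zero_iff_mem.2 (by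
    show ι (algebraMap A B a₀) = 0
    rw [hιA, h0]))
  have hc' : algebraMap A (FractionRing (S ⧸ Q)) a₀ * ι a = ι c * ι b := by
    have : Ideal.Quotient.mk q (algebraMap A B a₀ * a) = Ideal.Quotient.mk q (b * c) := by
      rw [map_mul, map_mul, ← hc, Algebra.smul_def]
      rfl
    rw [← hιA, ← map_mul, ← map_mul, mul_comm c b]
    exact sub_eq_zero.1 (by rw [← map_sub]; exact (Ideal.Quotient.eq.1 this))
  have hl2 : (ι a / ι b) * algebraMap A (FractionRing (S ⧸ Q)) a₀ = ι c := by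
    rw [div_mul_eq_mul_div, div_eq_iff hb, mul_comm (ι a), hc']
  refine ⟨ψ c, (hrange _).2 ?_, algebraMap A (S ⧸ Q) a₀, φ.range.algebraMap_mem a₀, ?_, ?_⟩
  · show ι c ∈ (Subfield.closure (Set.range (algebraMap A (FractionRing (S ⧸ Q))) ∪ (t : Set (FractionRing (S ⧸ Q)))))
    rw [← hl2]
    exact Subfield.mul_mem _ hl (Subfield.subset_closure (Or.inl ⟨a₀, rfl⟩))
  · rwa [← IsScalarTower.algebraMap_apply]
  · rw [← IsScalarTower.algebraMap_apply]
    exact hl2

end Groth.Agent.Hens
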